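import Mathlib.AlgebraicGeometry.Morphisms.FinitePresentation
import Mathlib.RingTheory.RingHom.FinitePresentation

/-!
# Cancellation for morphisms locally of finite presentation
-/

set_option backward.isDefEq.respectTransparency.types false

universe u

open CategoryTheory AlgebraicGeometry

namespace Groth.Agent.H8Lim

/-- If `f ≫ g` is locally of finite presentation and `g` is locally of finite type then `f` is
locally of finite presentation (EGA IV 1.4.3 (v)). -/
theorem lfp_cancel_right {X Y Z : Scheme.{u}} (f : X ⟶ Y) (g : Y ⟶ Z)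
    [LocallyOfFinitePresentation (f ≫ g)] [LocallyOfFiniteType g] :
    LocallyOfFinitePresentation f := by
  refine (HasRingHomProperty.iff_exists_appLE (P := @LocallyOfFinitePresentation)
    (RingHom.finitePresentation_stableUnderComposition.stableUnderCompositionWithLocalizationAway
      RingHom.finitePresentation_holdsForLocalizationAway).left).mpr fun x ↦ ?_
  obtain ⟨_, ⟨W, hW, rfl⟩, hxW, -⟩ := Z.isBasis_affineOpens.exists_subset_of_mem_open
    (Set.mem_univ (g (f x))) isOpen_univ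
  obtain ⟨_, ⟨U, hU, rfl⟩, hxU, hUW⟩ := Y.isBasis_affineOpens.exists_subset_of_mem_open
    (show f x ∈ g ⁻¹ᵁ W from hxW) (g ⁻¹ᵁ W).2
  obtain ⟨_, ⟨V, hV, rfl⟩, hxV, hVU⟩ := X.isBasis_affineOpens.exists_subset_of_mem_open
    (show x ∈ f ⁻¹ᵁ U from hxU) (f ⁻¹ᵁ U).2
  refine ⟨⟨U, hU⟩, ⟨V, hV⟩, hxV, hVU, ?_⟩
  have h₁ : (g.appLE W U hUW).hom.FiniteType :=
    HasRingHomProperty.appLE @LocallyOfFiniteType g ‹_› ⟨W, hW⟩ ⟨U, hU⟩ hUW
  have h₂ : ((f ≫ g).appLE W V (hVU.trans (f.preimage_mono hUW))).hom.FinitePresentation :=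
    HasRingHomProperty.appLE @LocallyOfFinitePresentation (f ≫ g) ‹_› ⟨W, hW⟩ ⟨V, hV⟩ _
  rw [← Scheme.Hom.appLE_comp_appLE f g W U V hUW hVU, CommRingCat.hom_comp] at h₂
  exact RingHom.FinitePresentation.of_comp_finiteType _ h₂ h₁

end Groth.Agent.H8Lim
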