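import Mathlib.AlgebraicGeometry.AffineTransitionLimit
import Mathlib.AlgebraicGeometry.Morphisms.Separated

/-!
# Base change of a limit of schemes along a morphism to a stage

If `X₀ → D i₀` is a morphism, the schemes `X₀ ×_{D i₀} D j`, `j → i₀`, form a diagram with affine
transition maps, whose limit is the base change of `X₀` to the limit.
-/

universe u

open CategoryTheory Limits AlgebraicGeometry

namespace Groth.Agent.H8Lim

variable {I : Type u} [SmallCategory I] (D : I ⥤ Scheme.{u}) {i₀ : I}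
  {X₀ : Scheme.{u}} (f₀ : X₀ ⟶ D.obj i₀)

/-- Transition maps of `stage`. -/
noncomputable def stageTrans {j k : Over i₀} (g : j ⟶ k) :
    pullback f₀ (D.map j.hom) ⟶ pullback f₀ (D.map k.hom) :=
  pullback.lift (pullback.fst _ _) (pullback.snd _ _ ≫ D.map g.left) (by
    rw [Category.assoc, ← D.map_comp, Over.w g, pullback.condition])

@[reassoc (attr := simp)]
lemma stageTrans_fst {j k : Over i₀} (g : j ⟶ k) :
    stageTrans D f₀ g ≫ pullback.fst _ _ = pullback.fst _ _ :=
  pullback.lift_fst _ _ _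

@[reassoc (attr := simp)]
lemma stageTrans_snd {j k : Over i₀} (g : j ⟶ k) :
    stageTrans D f₀ g ≫ pullback.snd _ _ = pullback.snd _ _ ≫ D.map g.left :=
  pullback.lift_snd _ _ _

/-- The diagram `j ↦ X₀ ×_{D i₀} D j` on `Over i₀`. -/
noncomputable def stage : Over i₀ ⥤ Scheme.{u} where
  obj j := pullback f₀ (D.map j.hom)
  map g := stageTrans D f₀ g
  map_id j := by apply pullback.hom_ext <;> simp
  map_comp g h := by apply pullback.hom_ext <;> simp

/-- First projection of a stage. -/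
noncomputable def stageFst (j : Over i₀) : (stage D f₀).obj j ⟶ X₀ := pullback.fst _ _

/-- Second projection of a stage. -/
noncomputable def stageSnd (j : Over i₀) : (stage D f₀).obj j ⟶ D.obj j.left := pullback.snd _ _

lemma isPullback_stage (j : Over i₀) :
    IsPullback (stageFst D f₀ j) (stageSnd D f₀ j) f₀ (D.map j.hom) :=
  IsPullback.of_hasPullback _ _

@[reassoc (attr := simp)]
lemma stageMap_fst {j k : Over i₀} (g : j ⟶ k) :
    (stage D f₀).map g ≫ stageFst D f₀ k = stageFst D f₀ j :=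
  pullback.lift_fst _ _ _

@[reassoc (attr := simp)]
lemma stageMap_snd {j k : Over i₀} (g : j ⟶ k) :
    (stage D f₀).map g ≫ stageSnd D f₀ k = stageSnd D f₀ j ≫ D.map g.left :=
  pullback.lift_snd _ _ _

lemma isPullback_stageMap {j k : Over i₀} (g : j ⟶ k) :
    IsPullback ((stage D f₀).map g) (stageSnd D f₀ j) (stageSnd D f₀ k) (D.map g.left) := by
  refine IsPullback.of_right ?_ (stageMap_snd D f₀ g) (isPullback_stage D f₀ k)
  rw [stageMap_fst, ← D.map_comp, Over.w g]
  exact isPullback_stage D f₀ j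

/-- The stage over `i₀` itself is `X₀`. -/
lemma isIso_stageFst_id : IsIso (stageFst D f₀ (Over.mk (𝟙 i₀))) := by
  have : IsIso (D.map (Over.mk (𝟙 i₀)).hom) :=
    (Functor.mapIso D (Iso.refl i₀)).isIso_hom
  exact (isPullback_stage D f₀ _).isIso_fst_of_isIso

section Affine

variable [∀ {i j} (f : i ⟶ j), IsAffineHom (D.map f)]

instance {j k : Over i₀} (g : j ⟶ k) : IsAffineHom ((stage D f₀).map g) :=
  MorphismProperty.of_isPullback (isPullback_stageMap D f₀ g).flip inferInstance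

instance (j : Over i₀) : IsAffineHom (stageFst D f₀ j) :=
  MorphismProperty.of_isPullback (isPullback_stage D f₀ j).flip inferInstance

instance compactSpace_stage [CompactSpace X₀] (j : Over i₀) :
    CompactSpace ((stage D f₀).obj j) :=
  QuasiCompact.compactSpace_of_compactSpace (stageFst D f₀ j)

instance quasiSeparatedSpace_stage [QuasiSeparatedSpace X₀] (j : Over i₀) :
    QuasiSeparatedSpace ((stage D f₀).obj j) :=
  quasiSeparatedSpace_of_quasiSeparated (stageFst D f₀ j)

end Affine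

section Cone

variable {D} (c : Cone D) {X : Scheme.{u}} (q : X ⟶ X₀) (f : X ⟶ c.pt)
  (sq : IsPullback q f f₀ (c.π.app i₀))

/-- The projection from the base change to a stage. -/
noncomputable def stageProj (j : Over i₀) : X ⟶ (stage D f₀).obj j :=
  (isPullback_stage D f₀ j).lift q (f ≫ c.π.app j.left) (by
    rw [Category.assoc, c.w]; exact sq.w)

@[reassoc (attr := simp)]
lemma stageProj_fst (j : Over i₀) : stageProj f₀ c q f sq j ≫ stageFst D f₀ j = q :=
  (isPullback_stage D f₀ j).lift_fst _ _ _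

@[reassoc (attr := simp)]
lemma stageProj_snd (j : Over i₀) :
    stageProj f₀ c q f sq j ≫ stageSnd D f₀ j = f ≫ c.π.app j.left :=
  (isPullback_stage D f₀ j).lift_snd _ _ _

/-- The cone exhibiting the base change as a limit of the stages. -/
noncomputable def stageCone : Cone (stage D f₀) where
  pt := X
  π :=
    { app := stageProj f₀ c q f sq
      naturality := fun j k g ↦ by
        dsimp
        rw [Category.id_comp]
        apply (isPullback_stage D f₀ k).hom_ext <;> simp }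

variable {c} (hc : IsLimit c) [IsCofiltered I]

include hc in
lemma exists_lift_stageCone (s : Cone (stage D f₀)) :
    ∃ l : s.pt ⟶ X, (∀ j, l ≫ stageProj f₀ c q f sq j = s.π.app j) ∧
      ∀ m : s.pt ⟶ X, (∀ j, m ≫ stageProj f₀ c q f sq j = s.π.app j) → m = l := by
  let hc' := (Functor.Initial.isLimitWhiskerEquiv (Over.forget i₀) c).symm hc
  let sD : Cone (Over.forget i₀ ⋙ D) :=
    { pt := s.pt
      π :=
        { app := fun j ↦ s.π.app j ≫ stageSnd D f₀ j
          naturality := fun j k g ↦ by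
            dsimp
            rw [Category.id_comp, Category.assoc, ← stageMap_snd D f₀ g, s.w_assoc g] } }
  have hb : ∀ j : Over i₀, hc'.lift sD ≫ c.π.app j.left = s.π.app j ≫ stageSnd D f₀ j :=
    fun j ↦ hc'.fac sD j
  have ha : ∀ j : Over i₀,
      s.π.app j ≫ stageFst D f₀ j = s.π.app (Over.mk (𝟙 i₀)) ≫ stageFst D f₀ (Over.mk (𝟙 i₀)) :=
    fun j ↦ by
      rw [← s.w (Over.homMk j.hom : j ⟶ Over.mk (𝟙 i₀)), Category.assoc, stageMap_fst]
  have hw : (s.π.app (Over.mk (𝟙 i₀)) ≫ stageFst D f₀ (Over.mk (𝟙 i₀))) ≫ f₀ =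
      hc'.lift sD ≫ c.π.app i₀ := by
    have := hb (Over.mk (𝟙 i₀))
    dsimp at this
    rw [this, Category.assoc, (isPullback_stage D f₀ _).w]
    simp
  refine ⟨sq.lift _ _ hw, fun j ↦ ?_, fun m hm ↦ ?_⟩
  · apply (isPullback_stage D f₀ j).hom_ext
    · rw [Category.assoc, stageProj_fst, sq.lift_fst, ha j]
    · rw [Category.assoc, stageProj_snd, sq.lift_snd_assoc, hb j]
  · apply sq.hom_ext
    · rw [sq.lift_fst, ← hm (Over.mk (𝟙 i₀)), Category.assoc, stageProj_fst]
    · rw [sq.lift_snd]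
      refine hc'.hom_ext fun j ↦ ?_
      change (m ≫ f) ≫ c.π.app j.left = hc'.lift sD ≫ c.π.app j.left
      rw [hb j, ← hm j, Category.assoc, Category.assoc, stageProj_snd]

/-- The base change is the limit of the stages. -/
noncomputable def isLimitStageCone : IsLimit (stageCone f₀ c q f sq) where
  lift s := (exists_lift_stageCone f₀ q f sq hc s).choose
  fac s := (exists_lift_stageCone f₀ q f sq hc s).choose_spec.1
  uniq s m hm := (exists_lift_stageCone f₀ q f sq hc s).choose_spec.2 m hm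

end Cone

section Transport

variable {Y₀ : Scheme.{u}} (g₀ : Y₀ ⟶ D.obj i₀) (h₀ : X₀ ⟶ Y₀)

/-- `h₀ : X₀ → Y₀` as a morphism to the stage over `i₀` of `Y₀`. -/
noncomputable def toStage : X₀ ⟶ (stage D g₀).obj (Over.mk (𝟙 i₀)) :=
  (isPullback_stage D g₀ (Over.mk (𝟙 i₀))).lift h₀ (h₀ ≫ g₀) (by simp)

@[reassoc (attr := simp)]
lemma toStage_fst : toStage D g₀ h₀ ≫ stageFst D g₀ (Over.mk (𝟙 i₀)) = h₀ :=
  (isPullback_stage D g₀ _).lift_fst _ _ _

lemma isPullback_toStage :
    IsPullback (𝟙 X₀) (toStage D g₀ h₀) h₀ (stageFst D g₀ (Over.mk (𝟙 i₀))) :=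
  have := isIso_stageFst_id D g₀
  IsPullback.of_horiz_isIso ⟨by simp⟩

/-- Packaging a stage of `toStage` as a base change of `h₀` over a stage of `D`. -/
lemma isPullback_of_toStage {j : Over i₀} (ψ : j ⟶ Over.mk (𝟙 i₀)) :
    IsPullback (pullback.fst (toStage D g₀ h₀) ((stage D g₀).map ψ))
      (pullback.snd (toStage D g₀ h₀) ((stage D g₀).map ψ)) h₀ (stageFst D g₀ j) := by
  have := (IsPullback.of_hasPullback (toStage D g₀ h₀) ((stage D g₀).map ψ)).paste_horiz
    (isPullback_toStage D g₀ h₀)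
  simpa using this

lemma isPullback_stageProj_toStage {c : Cone D} {X Y : Scheme.{u}} {f : X ⟶ Y} {g : Y ⟶ c.pt}
    {qY : Y ⟶ Y₀} {qX : X ⟶ X₀} (hY : IsPullback qY g g₀ (c.π.app i₀))
    (hX : IsPullback qX f h₀ qY) :
    IsPullback qX f (toStage D g₀ h₀) (stageProj g₀ c qY g hY (Over.mk (𝟙 i₀))) := by
  refine IsPullback.of_right ?_ ?_ (isPullback_toStage D g₀ h₀)
  · simpa using hX
  · have := isIso_stageFst_id D g₀
    rw [← cancel_mono (stageFst D g₀ (Over.mk (𝟙 i₀)))]
    simpa using hX.w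

/-- Reduce descent of a property of a base-changed morphism `X → Y` to descent along a limit
`Y = lim Y_j` with qcqs stages and affine transition maps, for a morphism to a stage. -/
theorem exists_stage_of_descends [IsCofiltered I] [∀ {i j} (f : i ⟶ j), IsAffineHom (D.map f)]
    {c : Cone D} (hc : IsLimit c) [CompactSpace Y₀] [QuasiSeparatedSpace Y₀]
    {X Y : Scheme.{u}} {f : X ⟶ Y} {g : Y ⟶ c.pt} {qY : Y ⟶ Y₀} {qX : X ⟶ X₀}
    (hY : IsPullback qY g g₀ (c.π.app i₀)) (hX : IsPullback qX f h₀ qY)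
    (Q R P : MorphismProperty Scheme.{u}) [Q.IsStableUnderBaseChange] (hQ : Q h₀) (hR : R f)
    (H : ∀ {J : Type u} [SmallCategory J] [IsCofiltered J] (E : J ⥤ Scheme.{u}) (cE : Cone E),
      IsLimit cE → (∀ {i j : J} (φ : i ⟶ j), IsAffineHom (E.map φ)) →
      (∀ i, CompactSpace (E.obj i)) → (∀ i, QuasiSeparatedSpace (E.obj i)) →
      ∀ (i : J) (a : X₀ ⟶ E.obj i), Q a →
        ∀ {A : Scheme.{u}} (b : A ⟶ cE.pt) (p : A ⟶ X₀), IsPullback p b a (cE.π.app i) → R b →
          ∃ (j : J) (φ : j ⟶ i), P (pullback.snd a (E.map φ))) :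
    ∃ (i : I) (φ : i ⟶ i₀) (Xi Yi : Scheme.{u}) (fi : Xi ⟶ Yi) (gi : Yi ⟶ D.obj i) (pY : Yi ⟶ Y₀)
      (pX : Xi ⟶ X₀), IsPullback pY gi g₀ (D.map φ) ∧ IsPullback pX fi h₀ pY ∧ P fi := by
  have hQ' : Q (toStage D g₀ h₀) :=
    MorphismProperty.of_isPullback (isPullback_toStage D g₀ h₀) hQ
  obtain ⟨j, ψ, hψ⟩ := H (stage D g₀) (stageCone g₀ c qY g hY) (isLimitStageCone g₀ qY g hY hc)
    (fun φ ↦ inferInstance) (fun j ↦ inferInstance) (fun j ↦ inferInstance) (Over.mk (𝟙 i₀))
    (toStage D g₀ h₀) hQ' f qX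
    (isPullback_stageProj_toStage D g₀ h₀ hY hX) hR
  exact ⟨j.left, j.hom, _, _, _, _, _, _, isPullback_stage D g₀ j,
    isPullback_of_toStage D g₀ h₀ ψ, hψ⟩

end Transport

end Groth.Agent.H8Lim
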