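import Mathlib.AlgebraicGeometry.Morphisms.FinitePresentation
import Mathlib.AlgebraicGeometry.IdealSheaf.Subscheme
import Mathlib.AlgebraicGeometry.PullbackCarrier
import Mathlib.AlgebraicGeometry.AffineTransitionLimit
import Groth.Agent.H8Lim.BaseChange

/-!
# Constructible sets in a limit of schemes with affine transition maps

EGA IV 8.3.
-/

universe u

open CategoryTheory Limits AlgebraicGeometry Topology TopologicalSpace

namespace Groth.Agent.H8Lim

section General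

variable {X Y : Scheme.{u}}

lemma exists_range_eq_of_isAffineOpen {U : X.Opens} (hU : IsAffineOpen U) {Z : Set X}
    (hZ : IsLocallyConstructible Z) :
    ∃ (T : Scheme.{u}) (_ : CompactSpace T) (a : T ⟶ X), Set.range a = (U : Set X) ∩ Z := by
  have h := (hZ.preimage_of_isOpenEmbedding hU.fromSpec.isOpenEmbedding).isConstructible
  obtain ⟨S, _, φ, hφ⟩ := PrimeSpectrum.exists_range_eq_of_isConstructible h
  refine ⟨Spec (.of S), inferInstance, Spec.map (CommRingCat.ofHom φ) ≫ hU.fromSpec, ?_⟩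
  rw [← hU.range_fromSpec, Set.inter_comm, ← Set.image_preimage_eq_inter_range, ← hφ]
  exact (Set.range_comp hU.fromSpec (PrimeSpectrum.comap φ):)

lemma isCompact_inter_of_isLocallyConstructible {K : X.Opens} (hK : IsCompact (K : Set X))
    {Z : Set X} (hZ : IsLocallyConstructible Z) : IsCompact ((K : Set X) ∩ Z) := by
  obtain ⟨s, hs, hsf, rfl⟩ := (X.isBasis_affineOpens).exists_finite_of_isCompact hK
  have : ((sSup s : X.Opens) : Set X) ∩ Z = ⋃ U ∈ s, (U : Set X) ∩ Z := by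
    ext x; simp; tauto
  rw [this]
  refine hsf.isCompact_biUnion fun U hU ↦ ?_
  obtain ⟨T, hT, a, ha⟩ := exists_range_eq_of_isAffineOpen (hs hU) hZ
  exact ha ▸ isCompact_range a.continuous

lemma isLocallyConstructible_compl {Z : Set X} (hZ : IsLocallyConstructible Z) :
    IsLocallyConstructible Zᶜ := fun x ↦ by
  obtain ⟨U, hxU, hU, hUZ⟩ := hZ x
  exact ⟨U, hxU, hU, hUZ.compl⟩

lemma isCompact_of_isLocallyConstructible [CompactSpace X] {Z : Set X}
    (hZ : IsLocallyConstructible Z) : IsCompact Z := by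
  simpa using isCompact_inter_of_isLocallyConstructible (K := ⊤) isCompact_univ hZ

lemma isLocallyConstructible_preimage (f : X ⟶ Y) {Z : Set Y} (hZ : IsLocallyConstructible Z) :
    IsLocallyConstructible (f ⁻¹' Z) := by
  refine .of_isOpenCover (ι := { W : X.Opens // ∃ V : Y.Opens, IsAffineOpen V ∧ W ≤ f ⁻¹ᵁ V })
    (U := Subtype.val) ?_ fun ⟨W, V, hV, hWV⟩ ↦ ?_
  · refine top_le_iff.mp fun x _ ↦ ?_
    obtain ⟨_, ⟨V, hV, rfl⟩, hxV, -⟩ := Y.isBasis_affineOpens.exists_subset_of_mem_open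
      (Set.mem_univ (f x)) isOpen_univ
    exact TopologicalSpace.Opens.mem_iSup.mpr ⟨⟨f ⁻¹ᵁ V, V, hV, le_rfl⟩, hxV⟩
  · have : IsAffine V := hV
    have := ((hZ.preimage_of_isOpenEmbedding V.ι.isOpenEmbedding).isConstructible)
    have h := ((f.resLE V W hWV).isConstructible_preimage this).isLocallyConstructible
    have hx : f.resLE V W hWV ≫ V.ι = W.ι ≫ f := Scheme.Hom.resLE_comp_ι _ _
    have e : W.ι ⁻¹' (f ⁻¹' Z) = f.resLE V W hWV ⁻¹' (V.ι ⁻¹' Z) := by
      rw [← Set.preimage_comp, ← Set.preimage_comp, ← TopCat.coe_comp, ← TopCat.coe_comp,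
        ← Scheme.Hom.comp_base, ← Scheme.Hom.comp_base, hx]
    rw [← e] at h
    exact h

end General

variable {I : Type u} [SmallCategory I] [IsCofiltered I] {D : I ⥤ Scheme.{u}} {c : Cone D}
  (hc : IsLimit c) [∀ {i j} (f : i ⟶ j), IsAffineHom (D.map f)]

include hc in
/-- If `T → D i` with `T` quasi-compact misses the image of the limit, it misses a stage. -/
theorem exists_isEmpty_pullback {i : I} {T : Scheme.{u}} (a : T ⟶ D.obj i) [CompactSpace T]
    (h : IsEmpty ↥(pullback a (c.π.app i))) :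
    ∃ (j : I) (φ : j ⟶ i), IsEmpty ↥(pullback a (D.map φ)) := by
  by_contra! H
  have : ∀ j, Nonempty ((stage D a).obj j) := fun j ↦ H j.left j.hom
  obtain ⟨p⟩ := Scheme.nonempty_of_isLimit (stage D a) _
    (isLimitStageCone a _ _ (IsPullback.of_hasPullback a (c.π.app i)) hc)
  exact h.false p

include hc in
/-- If a compact scheme over `D i` has image disjoint from the image of the limit, its image is
disjoint from that of a stage. -/
theorem exists_forall_map_notMem_range {i : I} {T : Scheme.{u}} (a : T ⟶ D.obj i)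
    [CompactSpace T] (h : ∀ p, c.π.app i p ∉ Set.range a) :
    ∃ (j : I) (φ : j ⟶ i), ∀ x, D.map φ x ∉ Set.range a := by
  have : IsEmpty ↥(pullback a (c.π.app i)) := ⟨fun q ↦ h (pullback.snd a (c.π.app i) q)
    ⟨pullback.fst a (c.π.app i) q, by
      rw [← Scheme.Hom.comp_apply, pullback.condition, Scheme.Hom.comp_apply]⟩⟩
  obtain ⟨j, φ, hj⟩ := exists_isEmpty_pullback hc a this
  refine ⟨j, φ, fun x ⟨y, hy⟩ ↦ ?_⟩
  obtain ⟨z, -⟩ := Scheme.Pullback.exists_preimage_pullback (f := a) (g := D.map φ) y x hy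
  exact hj.false z

include hc in
/-- EGA IV 8.3.1: the range of a projection is the intersection of the ranges of the transition
maps. -/
theorem range_π_eq (i : I) :
    Set.range (c.π.app i) = ⋂ (j : I) (φ : j ⟶ i), Set.range (D.map φ) := by
  refine subset_antisymm ?_ fun x hx ↦ ?_
  · rintro _ ⟨p, rfl⟩
    simp only [Set.mem_iInter]
    exact fun j φ ↦ ⟨c.π.app j p, by rw [← Scheme.Hom.comp_apply, c.w φ]⟩
  · by_contra hx'
    obtain ⟨j, φ, hj⟩ := exists_forall_map_notMem_range hc ((D.obj i).fromSpecResidueField x)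
      (by simpa [Scheme.range_fromSpecResidueField] using fun p hp ↦ hx' ⟨p, hp⟩)
    simp only [Set.mem_iInter] at hx
    obtain ⟨y, hy⟩ := hx j φ
    exact hj y (by simp [Scheme.range_fromSpecResidueField, hy])

include hc in
/-- The common technical lemma of EGA IV 8.3.2-8.3.4. -/
theorem exists_forall_map_notMem {i : I} {K : (D.obj i).Opens}
    (hK : IsCompact (K : Set (D.obj i))) {Z F : Set (D.obj i)} (hZ : IsLocallyConstructible Z)
    (hF : IsClosed F) (h : ∀ p, c.π.app i p ∈ K → c.π.app i p ∈ Z → c.π.app i p ∉ F) :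
    ∃ (j : I) (φ : j ⟶ i), ∀ x, D.map φ x ∈ K → D.map φ x ∈ Z → D.map φ x ∉ F := by
  obtain ⟨s, hs, hsf, rfl⟩ := ((D.obj i).isBasis_affineOpens).exists_finite_of_isCompact hK
  have : Finite s := hsf
  have key : ∀ U : s, ∃ (j : I) (φ : j ⟶ i),
      ∀ x, D.map φ x ∈ U.1 → D.map φ x ∈ Z → D.map φ x ∉ F := by
    intro U
    obtain ⟨T, hT, a, ha⟩ := exists_range_eq_of_isAffineOpen (hs U.2) hZ
    let F' : Closeds T := ⟨a ⁻¹' F, hF.preimage a.continuous⟩
    let b := (Scheme.IdealSheafData.vanishingIdeal F').subschemeι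
    have hb : Set.range b = a ⁻¹' F := by
      simp only [b, Scheme.IdealSheafData.range_subschemeι,
        Scheme.IdealSheafData.coe_support_vanishingIdeal, F']
      rfl
    have : CompactSpace (Scheme.IdealSheafData.vanishingIdeal F').subscheme :=
      QuasiCompact.compactSpace_of_compactSpace b
    have hr : Set.range (b ≫ a) = ((U.1 : Set (D.obj i)) ∩ Z) ∩ F := by
      rw [← ha, Scheme.Hom.comp_base, TopCat.coe_comp, Set.range_comp]
      rw [hb, Set.image_preimage_eq_inter_range, Set.inter_comm]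
    obtain ⟨j, φ, hj⟩ := exists_forall_map_notMem_range hc (b ≫ a) (fun p hp ↦ by
      rw [hr] at hp
      exact h p (TopologicalSpace.Opens.mem_sSup.mpr ⟨U.1, U.2, hp.1.1⟩) hp.1.2 hp.2)
    refine ⟨j, φ, fun x hU hZ' hF' ↦ hj x ?_⟩
    rw [hr]; exact ⟨⟨hU, hZ'⟩, hF'⟩
  choose j φ hj using key
  obtain ⟨k, g, gj, hg⟩ := IsCofiltered.wideCospan φ
  refine ⟨k, g, fun x hK' ↦ ?_⟩
  obtain ⟨U, hU, hxU⟩ := TopologicalSpace.Opens.mem_sSup.mp hK'
  rw [← hg ⟨U, hU⟩, Functor.map_comp, Scheme.Hom.comp_apply] at hxU ⊢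
  exact hj ⟨U, hU⟩ _ hxU

omit [IsCofiltered I] in
/-- Stages over a quasi-compact stage are quasi-compact. -/
lemma compactSpace_obj_of_hom {i j : I} (φ : j ⟶ i) [CompactSpace (D.obj i)] :
    CompactSpace (D.obj j) :=
  QuasiCompact.compactSpace_of_compactSpace (D.map φ)

include hc in
lemma compactSpace_pt {i : I} [CompactSpace (D.obj i)] : CompactSpace c.pt :=
  have := isAffineHom_π_app D c hc i
  QuasiCompact.compactSpace_of_compactSpace (c.π.app i)

include hc in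
lemma quasiSeparatedSpace_pt {i : I} [QuasiSeparatedSpace (D.obj i)] :
    QuasiSeparatedSpace c.pt :=
  have := isAffineHom_π_app D c hc i
  quasiSeparatedSpace_of_quasiSeparated (c.π.app i)

include hc in
/-- A locally constructible set of a compact stage whose preimage is empty is eventually empty. -/
theorem exists_preimage_eq_empty {i : I} [CompactSpace (D.obj i)] {Z : Set (D.obj i)}
    (hZ : IsLocallyConstructible Z) (h : c.π.app i ⁻¹' Z = ∅) :
    ∃ (j : I) (φ : j ⟶ i), D.map φ ⁻¹' Z = ∅ := by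
  obtain ⟨j, φ, hj⟩ := exists_forall_map_notMem hc (K := ⊤) isCompact_univ hZ isClosed_univ
    (fun p _ hp ↦ absurd hp (Set.eq_empty_iff_forall_notMem.mp h p))
  exact ⟨j, φ, Set.eq_empty_iff_forall_notMem.mpr fun x hx ↦ hj x trivial hx trivial⟩

include hc in
/-- EGA IV 8.3.4 for inclusions. -/
theorem exists_preimage_subset {i : I} [CompactSpace (D.obj i)] {Z Z' : Set (D.obj i)}
    (hZ : IsConstructible Z) (hZ' : IsConstructible Z')
    (h : c.π.app i ⁻¹' Z ⊆ c.π.app i ⁻¹' Z') :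
    ∃ (j : I) (φ : j ⟶ i), D.map φ ⁻¹' Z ⊆ D.map φ ⁻¹' Z' := by
  obtain ⟨j, φ, hj⟩ := exists_preimage_eq_empty hc (hZ.sdiff hZ').isLocallyConstructible
    (by rw [Set.preimage_sdiff, Set.sdiff_eq_empty]; exact h)
  exact ⟨j, φ, by rwa [Set.preimage_sdiff, Set.sdiff_eq_empty] at hj⟩

include hc in
/-- EGA IV 8.3.4 for equalities. -/
theorem exists_preimage_eq {i : I} [CompactSpace (D.obj i)] {Z Z' : Set (D.obj i)}
    (hZ : IsConstructible Z) (hZ' : IsConstructible Z')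
    (h : c.π.app i ⁻¹' Z = c.π.app i ⁻¹' Z') :
    ∃ (j : I) (φ : j ⟶ i), D.map φ ⁻¹' Z = D.map φ ⁻¹' Z' := by
  obtain ⟨j, φ, hj⟩ := exists_preimage_eq_empty hc
    ((hZ.sdiff hZ').union (hZ'.sdiff hZ)).isLocallyConstructible
    (by simp [Set.preimage_union, Set.preimage_sdiff, h])
  refine ⟨j, φ, ?_⟩
  simp only [Set.preimage_union, Set.preimage_sdiff, Set.union_empty_iff, Set.sdiff_eq_empty] at hj
  exact subset_antisymm hj.1 hj.2

include hc in
/-- Compact opens of the limit come from compact opens of stages over a given index. -/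
theorem exists_opens_eq_over (i : I) (U : c.pt.Opens) (hU : IsCompact (U : Set c.pt)) :
    ∃ (j : I) (_ : j ⟶ i) (V : (D.obj j).Opens),
      IsCompact (V : Set (D.obj j)) ∧ c.π.app j ⁻¹ᵁ V = U := by
  obtain ⟨k, V, hV, rfl⟩ := AlgebraicGeometry.exists_preimage_eq D c hc U hU
  refine ⟨IsCofiltered.min i k, IsCofiltered.minToLeft i k, D.map (IsCofiltered.minToRight i k) ⁻¹ᵁ V,
    QuasiCompact.isCompact_preimage _ V.2 hV, ?_⟩
  rw [← Scheme.Hom.comp_preimage, c.w]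

omit [IsCofiltered I] [∀ {i j} (f : i ⟶ j), IsAffineHom (D.map f)] in
lemma preimage_π {i j : I} (φ : j ⟶ i) (Z : Set (D.obj i)) :
    c.π.app j ⁻¹' (D.map φ ⁻¹' Z) = c.π.app i ⁻¹' Z := by
  rw [← Set.preimage_comp, ← TopCat.coe_comp, ← Scheme.Hom.comp_base, c.w φ]

omit [IsCofiltered I] [∀ {i j} (f : i ⟶ j), IsAffineHom (D.map f)] in
lemma preimage_map_comp {i j k : I} (φ : j ⟶ i) (ψ : k ⟶ j) (Z : Set (D.obj i)) :
    D.map ψ ⁻¹' (D.map φ ⁻¹' Z) = D.map (ψ ≫ φ) ⁻¹' Z := by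
  rw [← Set.preimage_comp, ← TopCat.coe_comp, ← Scheme.Hom.comp_base, D.map_comp]

include hc in
/-- EGA IV 8.3.5: openness descends. -/
theorem exists_isOpen_preimage {i : I} [CompactSpace (D.obj i)] {Z : Set (D.obj i)}
    (hZ : IsLocallyConstructible Z) (h : IsOpen (c.π.app i ⁻¹' Z)) :
    ∃ (j : I) (φ : j ⟶ i), IsOpen (D.map φ ⁻¹' Z) := by
  have := compactSpace_pt hc (i := i)
  obtain ⟨k, φ, V, hVc, hV⟩ := exists_opens_eq_over hc i ⟨_, h⟩
    (isCompact_of_isLocallyConstructible (isLocallyConstructible_preimage _ hZ))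
  replace hV : c.π.app k ⁻¹' (V : Set (D.obj k)) = c.π.app i ⁻¹' Z := congr($(hV).1)
  have := compactSpace_obj_of_hom (D := D) φ
  have hZ' := isLocallyConstructible_preimage (D.map φ) hZ
  have mem : ∀ p, c.π.app k p ∈ V ↔ c.π.app k p ∈ D.map φ ⁻¹' Z := fun p ↦ by
    have := congr(p ∈ $hV)
    rw [← preimage_π φ Z] at this
    exact this.to_iff
  obtain ⟨l, ψ, hl⟩ := exists_forall_map_notMem hc (K := ⊤) isCompact_univ hZ' V.2.isClosed_compl
    (fun p _ hp ↦ not_not.mpr ((mem p).mpr hp))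
  obtain ⟨m, χ, hm⟩ := exists_forall_map_notMem hc (i := l) (K := D.map ψ ⁻¹ᵁ V)
    (QuasiCompact.isCompact_preimage _ V.2 hVc)
    (Z := (D.map (ψ ≫ φ) ⁻¹' Z)ᶜ) (F := Set.univ)
    (isLocallyConstructible_preimage (D.map (ψ ≫ φ))
      (isLocallyConstructible_compl hZ)) isClosed_univ (fun p hpV hpZ ↦ by
      refine absurd ?_ hpZ
      rw [← preimage_map_comp φ ψ Z]
      have := (mem p).mp (by simpa [← Scheme.Hom.comp_apply] using hpV)
      simpa [← Scheme.Hom.comp_apply] using this)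
  refine ⟨m, χ ≫ ψ ≫ φ, ?_⟩
  convert (D.map χ ⁻¹ᵁ D.map ψ ⁻¹ᵁ V).2 using 1
  ext x
  rw [← preimage_map_comp (ψ ≫ φ) χ, ← preimage_map_comp φ ψ]
  constructor
  · intro hx
    simpa using hl (D.map χ x) trivial hx
  · intro hx
    have := hm x hx
    simp only [Set.mem_compl_iff, Set.mem_univ, not_true_eq_false, imp_false, not_not] at this
    simpa [← preimage_map_comp φ ψ] using this

include hc in
/-- EGA IV 8.3.5: local closedness descends. -/
theorem exists_isLocallyClosed_preimage {i : I} [CompactSpace (D.obj i)] {Z : Set (D.obj i)}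
    (hZ : IsLocallyConstructible Z) (h : IsLocallyClosed (c.π.app i ⁻¹' Z)) :
    ∃ (j : I) (φ : j ⟶ i), IsLocallyClosed (D.map φ ⁻¹' Z) := by
  have := compactSpace_pt hc (i := i)
  let W : Set c.pt := c.π.app i ⁻¹' Z
  have hW : IsLocallyConstructible W := isLocallyConstructible_preimage _ hZ
  have hWl : IsLocallyClosed W := h
  obtain ⟨O, C, hO, hC, hOC⟩ := hWl
  obtain ⟨O', hO'c, hO'o, hWO', hO'O⟩ := PrespectralSpace.exists_isCompact_and_isOpen_between
    (isCompact_of_isLocallyConstructible hW) hO (hOC.trans_subset Set.inter_subset_left)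
  have hd : O' \ W = O' ∩ Cᶜ := by
    ext x
    simp only [Set.mem_sdiff, hOC, Set.mem_inter_iff, Set.mem_compl_iff]
    exact ⟨fun ⟨h₁, h₂⟩ ↦ ⟨h₁, fun h₃ ↦ h₂ ⟨hO'O h₁, h₃⟩⟩, fun ⟨h₁, h₂⟩ ↦ ⟨h₁, fun h₃ ↦ h₂ h₃.2⟩⟩
  have hdc : IsCompact (O' \ W) := isCompact_inter_of_isLocallyConstructible
    (K := ⟨O', hO'o⟩) hO'c (isLocallyConstructible_compl hW)
  obtain ⟨k₁, φ₁, V₁, hV₁c, hV₁⟩ := exists_opens_eq_over hc i ⟨O', hO'o⟩ hO'c
  obtain ⟨k, ψ, V₂, hV₂c, hV₂⟩ := exists_opens_eq_over hc k₁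
    ⟨O' \ W, hd ▸ hO'o.inter hC.isOpen_compl⟩ hdc
  replace hV₁ : ∀ p, c.π.app k₁ p ∈ V₁ ↔ p ∈ O' := fun p ↦ Iff.of_eq congr(p ∈ ($(hV₁).1 : Set _))
  replace hV₂ : ∀ p, c.π.app k p ∈ V₂ ↔ p ∈ O' ∧ p ∉ W :=
    fun p ↦ Iff.of_eq congr(p ∈ ($(hV₂).1 : Set _))
  have := compactSpace_obj_of_hom (D := D) φ₁
  have := compactSpace_obj_of_hom (D := D) ψ
  let V₁' := D.map ψ ⁻¹ᵁ V₁
  have hV₁' : ∀ p, c.π.app k p ∈ V₁' ↔ p ∈ O' := fun p ↦ by
    rw [← hV₁, Scheme.Hom.mem_preimage, ← Scheme.Hom.comp_apply, c.w]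
  let Z' := D.map (ψ ≫ φ₁) ⁻¹' Z
  have hZ' : ∀ p, c.π.app k p ∈ Z' ↔ p ∈ W := fun p ↦
    Iff.of_eq congr(p ∈ $(preimage_π (c := c) (ψ ≫ φ₁) Z))
  have hZ'c : IsLocallyConstructible Z' := isLocallyConstructible_preimage _ hZ
  obtain ⟨a, α, ha⟩ := exists_forall_map_notMem hc (K := ⊤) isCompact_univ hZ'c
    V₁'.2.isClosed_compl (fun p _ hp ↦ not_not.mpr ((hV₁' p).mpr (hWO' ((hZ' p).mp hp))))
  obtain ⟨b, β, hb⟩ := exists_forall_map_notMem hc (K := V₁')
    (QuasiCompact.isCompact_preimage _ V₁.2 hV₁c) (isLocallyConstructible_compl hZ'c)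
    V₂.2.isClosed_compl (fun p hp hp' ↦
      not_not.mpr ((hV₂ p).mpr ⟨(hV₁' p).mp hp, fun hw ↦ hp' ((hZ' p).mpr hw)⟩))
  obtain ⟨d, δ, hd'⟩ := exists_forall_map_notMem hc (K := V₂) hV₂c hZ'c isClosed_univ
    (fun p hp hp' ↦ absurd ((hZ' p).mp hp') ((hV₂ p).mp hp).2)
  obtain ⟨e, εa, εb, he⟩ := IsCofiltered.cospan α β
  obtain ⟨l, lε, lδ, hl⟩ := IsCofiltered.cospan (εa ≫ α) δ
  refine ⟨l, (lε ≫ εa ≫ α) ≫ ψ ≫ φ₁, (D.map (lε ≫ εa ≫ α) ⁻¹ᵁ V₁' : (D.obj l).Opens),
    (D.map (lε ≫ εa ≫ α) ⁻¹' (V₂ : Set (D.obj k)))ᶜ, TopologicalSpace.Opens.isOpen _,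
    (V₂.2.preimage (D.map _).continuous).isClosed_compl, ?_⟩
  rw [← preimage_map_comp (ψ ≫ φ₁)]
  ext x
  have e₂ : lε ≫ εa ≫ α = (lε ≫ εb) ≫ β := by rw [Category.assoc, ← he]
  set y := D.map (lε ≫ εa ≫ α) x with hy
  have hya : y = D.map α (D.map (lε ≫ εa) x) := by
    rw [hy, ← Category.assoc, Functor.map_comp, Scheme.Hom.comp_apply]
  have hyb : y = D.map β (D.map (lε ≫ εb) x) := by
    rw [hy, e₂, Functor.map_comp, Scheme.Hom.comp_apply]
  have hyd : y = D.map δ (D.map lδ x) := by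
    rw [hy, hl, Functor.map_comp, Scheme.Hom.comp_apply]
  change y ∈ Z' ↔ y ∈ V₁' ∧ y ∉ V₂
  constructor
  · intro hz
    exact ⟨not_not.mp (by rw [hya] at hz ⊢; exact ha _ trivial hz), fun h2 ↦ by
      rw [hyd] at hz h2; exact hd' _ h2 hz trivial⟩
  · rintro ⟨h1, h2⟩
    by_contra hz
    rw [hyb] at h1 h2 hz
    exact hb _ h1 hz h2

include hc in
/-- EGA IV 8.3.11: constructible sets descend. -/
theorem exists_isConstructible_eq (i₀ : I) [CompactSpace (D.obj i₀)]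
    [QuasiSeparatedSpace (D.obj i₀)] {Z : Set c.pt} (hZ : IsConstructible Z) :
    ∃ (i : I) (_ : i ⟶ i₀) (Zi : Set (D.obj i)),
      IsConstructible Zi ∧ c.π.app i ⁻¹' Zi = Z := by
  have := compactSpace_pt hc (i := i₀)
  induction hZ using BooleanSubalgebra.closure_bot_sup_induction with
  | mem U hU =>
    obtain ⟨i, φ, V, hV, hVU⟩ := exists_opens_eq_over hc i₀ ⟨U, hU.1⟩ (hU.2.isCompact)
    have := quasiSeparatedSpace_of_quasiSeparated (D.map φ)
    exact ⟨i, φ, V, hV.isConstructible V.2, congr($(hVU).1)⟩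
  | bot => exact ⟨i₀, 𝟙 _, ∅, .empty, rfl⟩
  | sup x _ y _ hx hy =>
    obtain ⟨i, φ, A, hA, rfl⟩ := hx
    obtain ⟨j, ψ, B, hB, rfl⟩ := hy
    obtain ⟨k, a, b, h⟩ := IsCofiltered.cospan φ ψ
    refine ⟨k, a ≫ φ, D.map a ⁻¹' A ∪ D.map b ⁻¹' B,
      ((D.map a).isConstructible_preimage hA).union ((D.map b).isConstructible_preimage hB), ?_⟩
    rw [Set.preimage_union, preimage_π, preimage_π]
    rfl
  | compl x _ hx =>
    obtain ⟨i, φ, A, hA, rfl⟩ := hx
    exact ⟨i, φ, Aᶜ, hA.compl, rfl⟩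

end Groth.Agent.H8Lim
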