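import Groth.Agent.H8Lim.Absolute

/-!
# A finite type closed subscheme of a limit is a closed subscheme of a stage

Stacks 0A0Q / EGA IV 8.8: if `Y → lim X_i` is a closed immersion and `Y` is locally of finite type
over the base, then `Y → X_i` is a closed immersion for some `i`.
-/

set_option backward.isDefEq.respectTransparency.types false

universe u

open CategoryTheory Limits AlgebraicGeometry Topology

namespace Groth.Agent.H8Lim

variable {I : Type u} [SmallCategory I] [IsCofiltered I] {D : I ⥤ Scheme.{u}} {c : Cone D}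
  (hc : IsLimit c) [∀ {i j} (f : i ⟶ j), IsAffineHom (D.map f)]

omit [IsCofiltered I] [∀ {i j} (f : i ⟶ j), IsAffineHom (D.map f)] in
lemma le_preimage_π {i j : I} (φ : j ⟶ i) (U : (D.obj i).Opens) :
    c.π.app i ⁻¹ᵁ U ≤ c.π.app j ⁻¹ᵁ D.map φ ⁻¹ᵁ U := by
  rw [← Scheme.Hom.comp_preimage, c.w]

include hc in
/-- A function on the limit of an affine open comes from a stage. -/
lemma exists_appLE_π_eq {i : I} {U : (D.obj i).Opens} (hU : IsAffineOpen U)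
    (z : Γ(c.pt, c.π.app i ⁻¹ᵁ U)) :
    ∃ (j : I) (φ : j ⟶ i) (x : Γ(D.obj j, D.map φ ⁻¹ᵁ U)),
      (c.π.app j).appLE _ _ (le_preimage_π φ U) x = z := by
  have (j : Over i) : IsAffine ((opensDiagram D i U).obj j) := hU.preimage (D.map _)
  obtain ⟨j, x, hx⟩ := exists_appTop_π_eq_of_isAffine_of_isLimit _ _
    (isLimitOpensCone D c hc i U) ((c.π.app i ⁻¹ᵁ U).topIso.inv z)
  refine ⟨j.left, j.hom, (D.map j.hom ⁻¹ᵁ U).topIso.hom x, ?_⟩
  have hx' : ((c.π.app j.left).resLE (D.map j.hom ⁻¹ᵁ U) _ (le_preimage_π j.hom U)).app ⊤ x =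
      (c.π.app i ⁻¹ᵁ U).topIso.inv z := hx
  rw [Scheme.Hom.resLE_app_top] at hx'
  exact (ConcreteCategory.bijective_of_isIso (c.π.app i ⁻¹ᵁ U).topIso.inv).1 hx'

include hc in
lemma exists_forall_isClosedImmersion_restrict_of_surjective {Y : Scheme.{u}} (h : Y ⟶ c.pt)
    (i : I) [LocallyOfFiniteType (h ≫ c.π.app i)] {U : (D.obj i).Opens}
    (hU : IsAffineOpen U) (hV : IsAffineOpen ((h ≫ c.π.app i) ⁻¹ᵁ U))
    (hh : Function.Surjective (h.app (c.π.app i ⁻¹ᵁ U))) : ∃ (l : I) (g : l ⟶ i), ∀ (m : I)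
      (f : m ⟶ l), IsClosedImmersion ((h ≫ c.π.app m) ∣_ (D.map (f ≫ g) ⁻¹ᵁ U)) := by
  obtain ⟨σ, hσ⟩ := exists_finset_forall_mem ((h ≫ c.π.app i).app U) (by
    rw [Scheme.Hom.app_eq_appLE]
    exact HasRingHomProperty.appLE @LocallyOfFiniteType _ ‹_› ⟨U, hU⟩ ⟨_, hV⟩ le_rfl)
  have hle : ∀ {m : I} (q : m ⟶ i),
      (h ≫ c.π.app i) ⁻¹ᵁ U ≤ (h ≫ c.π.app m) ⁻¹ᵁ D.map q ⁻¹ᵁ U := fun q ↦ by
    rw [← Scheme.Hom.comp_preimage, Category.assoc, c.w]
  have key : ∀ x ∈ σ, ∃ (j : I) (φ : j ⟶ i) (a : Γ(D.obj j, D.map φ ⁻¹ᵁ U)),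
      (h ≫ c.π.app j).appLE _ _ (hle φ) a = x := by
    intro x _
    obtain ⟨w, hw⟩ := hh x
    obtain ⟨j, φ, a, ha⟩ := exists_appLE_π_eq hc hU w
    refine ⟨j, φ, a, ?_⟩
    rw [← hw, ← ha, Scheme.Hom.app_eq_appLE, ← CommRingCat.comp_apply,
      Scheme.Hom.appLE_comp_appLE]
    rfl
  choose j φ a hj using key
  obtain ⟨l, g, gk, hg⟩ := IsCofiltered.wideCospan (fun x : σ ↦ φ x.1 x.2)
  refine ⟨l, g, fun m f ↦ ?_⟩
  let q := f ≫ g
  have hUm : IsAffineOpen (D.map q ⁻¹ᵁ U) := hU.preimage _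
  have : IsAffine (D.map q ⁻¹ᵁ U) := hUm
  have heq : (h ≫ c.π.app i) ⁻¹ᵁ U = (h ≫ c.π.app m) ⁻¹ᵁ D.map q ⁻¹ᵁ U := by
    rw [← Scheme.Hom.comp_preimage, Category.assoc, c.w]
  have hsurj : Function.Surjective ((h ≫ c.π.app m).appLE _ _ (hle q)) := fun z ↦ by
    refine hσ (𝟙 _) ((h ≫ c.π.app m).appLE _ _ (hle q)).hom.range (fun r ↦ ?_) (fun x hx ↦ ?_) z
    · refine ⟨(D.map q).app U r, ?_⟩
      change ((D.map q).app U ≫ (h ≫ c.π.app m).appLE _ _ (hle q)) r = (h ≫ c.π.app i).app U r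
      rw [Scheme.Hom.app_eq_appLE, Scheme.Hom.appLE_comp_appLE, Scheme.Hom.app_eq_appLE]
      simp only [Category.assoc, c.w]
    · have hq : D.map q ⁻¹ᵁ U ≤ D.map (f ≫ gk ⟨x, hx⟩) ⁻¹ᵁ D.map (φ x hx) ⁻¹ᵁ U := by
        rw [← Scheme.Hom.comp_preimage, ← D.map_comp, Category.assoc, hg]
      refine ⟨(D.map (f ≫ gk ⟨x, hx⟩)).appLE _ _ hq (a x hx), ?_⟩
      change ((D.map (f ≫ gk ⟨x, hx⟩)).appLE _ _ hq ≫ (h ≫ c.π.app m).appLE _ _ (hle q))
        (a x hx) = x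
      refine Eq.trans ?_ (hj x hx)
      rw [Scheme.Hom.appLE_comp_appLE]
      simp only [Category.assoc, c.w]
  rw [HasAffineProperty.iff_of_isAffine (P := @IsClosedImmersion)]
  refine (affineAnd_morphismRestrict RingHom.surjective_respectsIso _ _).mpr ⟨heq ▸ hV, ?_⟩
  rw [Scheme.Hom.app_eq_appLE]
  exact ((h ≫ c.π.app m).appLE_congr (hle q) rfl heq (fun g ↦ Function.Surjective g)).mp hsurj

include hc in
lemma exists_forall_isClosedImmersion_restrict_of_isAffineOpen {Y : Scheme.{u}} (h : Y ⟶ c.pt)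
    [IsClosedImmersion h] (i : I) [LocallyOfFiniteType (h ≫ c.π.app i)] {U : (D.obj i).Opens}
    (hU : IsAffineOpen U) : ∃ (l : I) (g : l ⟶ i), ∀ (m : I) (f : m ⟶ l),
      IsClosedImmersion ((h ≫ c.π.app m) ∣_ (D.map (f ≫ g) ⁻¹ᵁ U)) :=
  have := isAffineHom_π_app D c hc
  have hW : IsAffineOpen (c.π.app i ⁻¹ᵁ U) := hU.preimage _
  exists_forall_isClosedImmersion_restrict_of_surjective hc h i hU (hW.preimage h) (h.app_surjective _ hW)

include hc in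
/-- Stacks 0A0Q. -/
theorem exists_isClosedImmersion_comp_π [∀ i, CompactSpace (D.obj i)] {S Y : Scheme.{u}}
    (t : D ⟶ (Functor.const I).obj S) (h : Y ⟶ c.pt) [IsClosedImmersion h] (i : I)
    [LocallyOfFiniteType ((h ≫ c.π.app i) ≫ t.app i)] :
    ∃ i, IsClosedImmersion (h ≫ c.π.app i) := by
  have : LocallyOfFiniteType (h ≫ c.π.app i) := locallyOfFiniteType_of_comp _ (t.app i)
  let 𝒰 := (D.obj i).affineCover.finiteSubcover
  have hU : ∀ k, IsAffineOpen (𝒰.f k).opensRange := fun k ↦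
    have : IsAffine (𝒰.X k) := inferInstanceAs (IsAffine (Spec _))
    isAffineOpen_opensRange _
  choose l g hl using fun k ↦
    exists_forall_isClosedImmersion_restrict_of_isAffineOpen hc h i (hU k)
  obtain ⟨m, q, gk, hgk⟩ := IsCofiltered.wideCospan g
  refine ⟨m, IsZariskiLocalAtTarget.of_iSup_eq_top (P := @IsClosedImmersion)
    (fun k ↦ D.map q ⁻¹ᵁ (𝒰.f k).opensRange) ?_ fun k ↦ hgk k ▸ hl k m (gk k)⟩
  rw [← Scheme.Hom.preimage_iSup, 𝒰.isOpenCover_opensRange.iSup_eq_top, Scheme.Hom.preimage_top]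

end Groth.Agent.H8Lim
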