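import Mathlib.AlgebraicGeometry.AffineTransitionLimit
import Mathlib.AlgebraicGeometry.RelativeGluing

/-!
# Existence of cofiltered limits of schemes with affine transition maps

EGA IV 8.2.3 / Stacks 01YX.
-/

universe u

open CategoryTheory Limits AlgebraicGeometry

namespace Groth.Agent.H8Lim

variable {J : Type u} [SmallCategory J] {S : Scheme.{u}}
  (E : J ⥤ Scheme.{u}) (t : E ⟶ (Functor.const J).obj S)

/-- The structure map of a stage, typed over `S`. -/
abbrev str (j : J) : E.obj j ⟶ S := t.app j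

@[reassoc]
lemma map_comp_str {i j : J} (f : i ⟶ j) : E.map f ≫ str E t j = str E t i := by
  simp [str, t.naturality f]

/-- The diagram `j ↦ (E j → S)⁻¹ U`. -/
noncomputable def restrictDiagram (U : S.Opens) : J ⥤ Scheme.{u} where
  obj j := (str E t j ⁻¹ᵁ U : (E.obj j).Opens)
  map {i j} f := (E.map f).resLE _ _
    (le_of_eq (by rw [← Scheme.Hom.comp_preimage, map_comp_str]))
  map_id j := by simp [← cancel_mono (Scheme.Opens.ι _)]
  map_comp f g := by simp [Scheme.Hom.resLE_comp_resLE]

/-- The inclusion of the restricted diagram. -/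
noncomputable def restrictDiagramι (U : S.Opens) : restrictDiagram E t U ⟶ E where
  app j := Scheme.Opens.ι _
  naturality i j f := by simp [restrictDiagram]

instance (U : S.Opens) (j : J) : IsOpenImmersion ((restrictDiagramι E t U).app j) :=
  inferInstanceAs (IsOpenImmersion (Scheme.Opens.ι _))

lemma range_restrictDiagramι (U : S.Opens) (j : J) :
    Set.range ((restrictDiagramι E t U).app j) = (str E t j) ⁻¹' (U : Set S) :=
  Scheme.Opens.range_ι _

lemma hasLimit_of_forall_isAffine {K : Type u} [SmallCategory K] (F : K ⥤ Scheme.{u})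
    [∀ k, IsAffine (F.obj k)] : HasLimit F := by
  let e : F ⟶ (F ⋙ Scheme.Γ.rightOp) ⋙ Scheme.Spec := Functor.whiskerLeft F ΓSpec.adjunction.unit
  have (k : K) : IsIso (e.app k) := IsAffine.affine
  have : IsIso e := NatIso.isIso_of_isIso_app e
  exact HasLimit.mk ⟨_, (IsLimit.postcomposeInvEquiv (asIso e) _).symm
    (isLimitOfPreserves Scheme.Spec (limit.isLimit (F ⋙ Scheme.Γ.rightOp)))⟩

/-- The composite to the base does not depend on the index. -/
lemma comp_str_eq [IsCofilteredOrEmpty J] {T : Scheme.{u}} (a : ∀ j, T ⟶ E.obj j)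
    (ha : ∀ {i j} (g : i ⟶ j), a i ≫ E.map g = a j) (i j : J) :
    a i ≫ str E t i = a j ≫ str E t j := by
  have hk : ∀ {k l : J} (f : k ⟶ l), a l ≫ str E t l = a k ≫ str E t k := fun {k l} f ↦ by
    rw [← ha f, Category.assoc, map_comp_str]
  rw [hk (IsCofiltered.minToLeft i j), hk (IsCofiltered.minToRight i j)]

variable [∀ j, IsAffineHom (t.app j)]

lemma isAffine_restrictDiagram (U : S.Opens) (hU : IsAffineOpen U) (j : J) :
    IsAffine ((restrictDiagram E t U).obj j) :=
  hU.preimage (t.app j)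

lemma hasLimit_restrictDiagram (U : S.affineOpens) : HasLimit (restrictDiagram E t U.1) := by
  have := isAffine_restrictDiagram E t U.1 U.2
  exact hasLimit_of_forall_isAffine _

/-- The local limit. -/
noncomputable def localPt (U : S.affineOpens) : Scheme.{u} :=
  haveI := hasLimit_restrictDiagram E t U
  limit (restrictDiagram E t U.1)

/-- The projections of the local limit, into `E`. -/
noncomputable def localπ (U : S.affineOpens) (j : J) : localPt E t U ⟶ E.obj j :=
  haveI := hasLimit_restrictDiagram E t U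
  limit.π (restrictDiagram E t U.1) j ≫ (restrictDiagramι E t U.1).app j

@[reassoc (attr := simp)]
lemma localπ_map (U : S.affineOpens) {i j : J} (g : i ⟶ j) :
    localπ E t U i ≫ E.map g = localπ E t U j := by
  have := hasLimit_restrictDiagram E t U
  refine (Category.assoc _ _ _).trans ((congrArg _ ((restrictDiagramι E t U.1).naturality g).symm).trans ?_)
  exact limit.w_assoc (restrictDiagram E t U.1) g _

lemma local_hom_ext (U : S.affineOpens) {T : Scheme.{u}} {a b : T ⟶ localPt E t U}
    (h : ∀ j, a ≫ localπ E t U j = b ≫ localπ E t U j) : a = b := by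
  have := hasLimit_restrictDiagram E t U
  refine limit.hom_ext fun j ↦ (cancel_mono ((restrictDiagramι E t U.1).app j)).mp ?_
  exact (Category.assoc _ _ _).trans ((h j).trans (Category.assoc _ _ _).symm)

lemma str_localπ_mem (U : S.affineOpens) (j : J) (x : localPt E t U) :
    str E t j (localπ E t U j x) ∈ U.1 := by
  have h : localπ E t U j x ∈ Set.range ((restrictDiagramι E t U.1).app j) := by
    have := hasLimit_restrictDiagram E t U
    exact ⟨limit.π (restrictDiagram E t U.1) j x, rfl⟩
  rwa [range_restrictDiagramι] at h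

/-- The universal property of the local limit. -/
lemma exists_localLift (U : S.affineOpens) {T : Scheme.{u}} (a : ∀ j, T ⟶ E.obj j)
    (ha : ∀ {i j} (g : i ⟶ j), a i ≫ E.map g = a j)
    (h : ∀ j x, str E t j (a j x) ∈ U.1) :
    ∃ l : T ⟶ localPt E t U, ∀ j, l ≫ localπ E t U j = a j := by
  have := hasLimit_restrictDiagram E t U
  have hr : ∀ j, Set.range (a j) ⊆ Set.range ((restrictDiagramι E t U.1).app j) := fun j ↦ by
    rw [range_restrictDiagramι]
    rintro _ ⟨x, rfl⟩
    exact h j x
  let s' : Cone (restrictDiagram E t U.1) :=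
    { pt := T
      π := { app := fun j ↦ IsOpenImmersion.lift ((restrictDiagramι E t U.1).app j) _ (hr j)
             naturality := fun i j g ↦ by
               refine (cancel_mono ((restrictDiagramι E t U.1).app j)).mp ?_
               dsimp
               rw [Category.id_comp, Category.assoc, (restrictDiagramι E t U.1).naturality g,
                 IsOpenImmersion.lift_fac, IsOpenImmersion.lift_fac_assoc, ha g] } }
  refine ⟨limit.lift _ s', fun j ↦ ?_⟩
  exact (limit.lift_π_assoc s' j _).trans (IsOpenImmersion.lift_fac _ _ _)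

/-- The lift to the local limit. -/
noncomputable def localLift (U : S.affineOpens) {T : Scheme.{u}} (a : ∀ j, T ⟶ E.obj j)
    (ha : ∀ {i j} (g : i ⟶ j), a i ≫ E.map g = a j)
    (h : ∀ j x, str E t j (a j x) ∈ U.1) : T ⟶ localPt E t U :=
  (exists_localLift E t U a ha h).choose

@[reassoc (attr := simp)]
lemma localLift_π (U : S.affineOpens) {T : Scheme.{u}} (a : ∀ j, T ⟶ E.obj j)
    (ha : ∀ {i j} (g : i ⟶ j), a i ≫ E.map g = a j)
    (h : ∀ j x, str E t j (a j x) ∈ U.1) (j : J) :
    localLift E t U a ha h ≫ localπ E t U j = a j :=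
  (exists_localLift E t U a ha h).choose_spec j

/-- Functoriality of the local limits. -/
noncomputable def localMap {U V : S.affineOpens} (h : U.1 ≤ V.1) :
    localPt E t U ⟶ localPt E t V :=
  localLift E t V (localπ E t U) (fun g ↦ localπ_map E t U g)
    fun j x ↦ h (str_localπ_mem E t U j x)

@[reassoc (attr := simp)]
lemma localMap_π {U V : S.affineOpens} (h : U.1 ≤ V.1) (j : J) :
    localMap E t h ≫ localπ E t V j = localπ E t U j :=
  localLift_π E t V _ _ _ j

variable [IsCofiltered J] (j₀ : J)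

/-- The map to the affine open. -/
noncomputable def localToBase (U : S.affineOpens) : localPt E t U ⟶ U.1 :=
  IsOpenImmersion.lift U.1.ι (localπ E t U j₀ ≫ str E t j₀) (by
    rw [Scheme.Opens.range_ι]
    rintro _ ⟨x, rfl⟩
    exact str_localπ_mem E t U j₀ x)

omit [IsCofiltered J] in
@[reassoc]
lemma localToBase_ι (U : S.affineOpens) :
    localToBase E t j₀ U ≫ U.1.ι = localπ E t U j₀ ≫ str E t j₀ :=
  IsOpenImmersion.lift_fac _ _ _

omit [IsCofiltered J] in
@[reassoc (attr := simp)]
lemma localMap_toBase {U V : S.affineOpens} (h : U.1 ≤ V.1) :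
    localMap E t h ≫ localToBase E t j₀ V = localToBase E t j₀ U ≫ S.homOfLE h := by
  rw [← cancel_mono (Scheme.Opens.ι V.1), Category.assoc, localToBase_ι, localMap_π_assoc,
    Category.assoc, S.homOfLE_ι h, localToBase_ι]

/-- The local limits, as a functor on affine opens of `S`. -/
noncomputable def glueFunctor : S.affineOpens ⥤ Scheme.{u} where
  obj U := localPt E t U
  map {U V} f := localMap E t (U := U) (V := V) (leOfHom f)
  map_id U := local_hom_ext E t U fun j ↦ by simp
  map_comp {U V W} f g := local_hom_ext E t W fun j ↦ by simp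

lemma isPullback_localMap {U V : S.affineOpens} (h : U.1 ≤ V.1) :
    IsPullback (localMap E t h) (localToBase E t j₀ U) (localToBase E t j₀ V) (S.homOfLE h) := by
  have hs : ∀ (s : PullbackCone (localToBase E t j₀ V) (S.homOfLE h)) (j : J) (x : s.pt),
      str E t j ((s.fst ≫ localπ E t V j) x) ∈ U.1 := fun s j x ↦ by
    rw [← Scheme.Hom.comp_apply, Category.assoc,
      comp_str_eq E t _ (fun g ↦ localπ_map E t V g) j j₀, ← localToBase_ι,
      reassoc_of% s.condition, S.homOfLE_ι h, Scheme.Hom.comp_apply]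
    exact (s.snd x).2
  refine ⟨⟨localMap_toBase E t j₀ h⟩, ⟨PullbackCone.IsLimit.mk _
    (fun s ↦ localLift E t U (fun j ↦ s.fst ≫ localπ E t V j)
      (fun g ↦ by rw [Category.assoc, localπ_map]) (hs s)) ?_ ?_ ?_⟩⟩
  · intro s
    refine local_hom_ext E t V fun j ↦ ?_
    rw [Category.assoc, localMap_π, localLift_π]
  · intro s
    refine (cancel_mono (Scheme.Opens.ι U.1)).mp ?_
    rw [Category.assoc, localToBase_ι, localLift_π_assoc, Category.assoc, ← localToBase_ι,
      reassoc_of% s.condition, S.homOfLE_ι h]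
  · intro s m h₁ h₂
    refine local_hom_ext E t U fun j ↦ ?_
    rw [localLift_π, ← h₁, Category.assoc, localMap_π]

/-- The gluing datum. -/
noncomputable def gluingData : Scheme.Cover.RelativeGluingData S.directedAffineCover where
  functor := glueFunctor E t
  natTrans :=
    { app := fun U ↦ localToBase E t j₀ U
      naturality := fun _ _ f ↦ localMap_toBase E t j₀ (leOfHom f) }
  equifibered := fun _ _ f ↦ isPullback_localMap E t j₀ (leOfHom f)

instance : Quiver.IsThin S.directedAffineCover.I₀ :=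
  inferInstanceAs <| Quiver.IsThin S.affineOpens

instance : ((gluingData E t j₀).functor ⋙ Scheme.forget).IsLocallyDirected :=
  Scheme.Cover.RelativeGluingData.instIsLocallyDirectedI₀CompFunctorForgetOfIsThin ..

/-- The glued scheme. -/
noncomputable def gluedPt : Scheme.{u} := (gluingData E t j₀).glued

/-- The chart maps. -/
noncomputable def chart (U : S.affineOpens) : localPt E t U ⟶ gluedPt E t j₀ :=
  colimit.ι (gluingData E t j₀).functor U

/-- The structure map. -/
noncomputable def gluedToBase : gluedPt E t j₀ ⟶ S := (gluingData E t j₀).toBase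

lemma isPullback_chart (U : S.affineOpens) :
    IsPullback (localToBase E t j₀ U) (chart E t j₀ U) U.1.ι (gluedToBase E t j₀) :=
  (gluingData E t j₀).isPullback_natTrans_ι_toBase U

lemma chart_hom_ext {T : Scheme.{u}} {a b : gluedPt E t j₀ ⟶ T}
    (h : ∀ U : S.affineOpens, chart E t j₀ U ≫ a = chart E t j₀ U ≫ b) : a = b :=
  colimit.hom_ext h

/-- The projections from the glued scheme. -/
noncomputable def gluedπ (j : J) : gluedPt E t j₀ ⟶ E.obj j :=
  colimit.desc (gluingData E t j₀).functor
    { pt := E.obj j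
      ι := { app := fun U ↦ localπ E t U j
             naturality := fun _ _ f ↦
               (localMap_π E t (leOfHom f) j).trans (Category.comp_id _).symm } }

@[reassoc (attr := simp)]
lemma chart_gluedπ (U : S.affineOpens) (j : J) :
    chart E t j₀ U ≫ gluedπ E t j₀ j = localπ E t U j :=
  colimit.ι_desc _ _

lemma gluedπ_map {i j : J} (g : i ⟶ j) : gluedπ E t j₀ i ≫ E.map g = gluedπ E t j₀ j :=
  chart_hom_ext E t j₀ fun U ↦ by rw [chart_gluedπ, chart_gluedπ_assoc, localπ_map]

/-- The limit cone. -/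
noncomputable def gluedCone : Cone E where
  pt := gluedPt E t j₀
  π :=
    { app := gluedπ E t j₀
      naturality := fun _ _ g ↦ (Category.id_comp _).trans (gluedπ_map E t j₀ g).symm }

lemma gluedπ_comp (j : J) : gluedπ E t j₀ j ≫ str E t j = gluedToBase E t j₀ :=
  chart_hom_ext E t j₀ fun U ↦ by
    rw [chart_gluedπ_assoc, comp_str_eq E t _ (fun g ↦ localπ_map E t U g) j j₀, ← localToBase_ι,
      (isPullback_chart E t j₀ U).w]

lemma glued_hom_ext {T : Scheme.{u}} {a b : T ⟶ gluedPt E t j₀}
    (h : ∀ j, a ≫ gluedπ E t j₀ j = b ≫ gluedπ E t j₀ j) : a = b := by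
  have hb : a ≫ gluedToBase E t j₀ = b ≫ gluedToBase E t j₀ := by
    rw [← gluedπ_comp E t j₀ j₀, reassoc_of% h j₀]
  let 𝒲 := Scheme.openCoverOfIsOpenCover T
    (fun U : S.affineOpens ↦ (a ≫ gluedToBase E t j₀) ⁻¹ᵁ U.1)
    (.comap (iSup_affineOpens_eq_top S) (a ≫ gluedToBase E t j₀).base.hom)
  refine Scheme.Cover.hom_ext 𝒲 a b fun (U : S.affineOpens) ↦ ?_
  let W := (a ≫ gluedToBase E t j₀) ⁻¹ᵁ U.1
  change W.ι ≫ a = W.ι ≫ b
  have sq := isPullback_chart E t j₀ U
  let q : (W : Scheme) ⟶ U.1 := (a ≫ gluedToBase E t j₀) ∣_ U.1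
  have ha' : q ≫ U.1.ι = (W.ι ≫ a) ≫ gluedToBase E t j₀ := by
    rw [Category.assoc]; exact morphismRestrict_ι _ _
  have hb' : q ≫ U.1.ι = (W.ι ≫ b) ≫ gluedToBase E t j₀ :=
    ha'.trans ((Category.assoc _ _ _).trans
      ((congrArg (W.ι ≫ ·) hb).trans (Category.assoc _ _ _).symm))
  rw [← sq.lift_snd q (W.ι ≫ a) ha', ← sq.lift_snd q (W.ι ≫ b) hb']
  congr 1
  refine local_hom_ext E t U fun j ↦ ?_
  rw [← chart_gluedπ E t j₀ U j, sq.lift_snd_assoc, sq.lift_snd_assoc, Category.assoc,
    Category.assoc, h j]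

lemma exists_lift_glued {T : Scheme.{u}} (a : ∀ j, T ⟶ E.obj j)
    (ha : ∀ {i j} (g : i ⟶ j), a i ≫ E.map g = a j) :
    ∃ l : T ⟶ gluedPt E t j₀, ∀ j, l ≫ gluedπ E t j₀ j = a j := by
  let b : T ⟶ S := a j₀ ≫ str E t j₀
  let 𝒱 : T.OpenCover := Scheme.openCoverOfIsOpenCover T
    (fun U : S.affineOpens ↦ b ⁻¹ᵁ U.1) (.comap (iSup_affineOpens_eq_top S) b.base.hom)
  have hr : ∀ (U : S.affineOpens) (j : J) (x : ((b ⁻¹ᵁ U.1 : T.Opens) : Scheme)),
      str E t j (((b ⁻¹ᵁ U.1).ι ≫ a j) x) ∈ U.1 := fun U j x ↦ by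
    rw [← Scheme.Hom.comp_apply, Category.assoc, comp_str_eq E t a ha j j₀, Scheme.Hom.comp_apply]
    exact x.2
  let loc (U : S.affineOpens) : ((b ⁻¹ᵁ U.1 : T.Opens) : Scheme) ⟶ gluedPt E t j₀ :=
    localLift E t U (fun j ↦ (b ⁻¹ᵁ U.1).ι ≫ a j)
      (fun g ↦ by rw [Category.assoc, ha g]) (hr U) ≫ chart E t j₀ U
  have hloc : ∀ (U : S.affineOpens) (j : J),
      loc U ≫ gluedπ E t j₀ j = (b ⁻¹ᵁ U.1).ι ≫ a j := fun U j ↦ by
    simp only [loc, Category.assoc, chart_gluedπ, localLift_π]
  have hcompat : ∀ U V : S.affineOpens,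
      pullback.fst (b ⁻¹ᵁ U.1).ι (b ⁻¹ᵁ V.1).ι ≫ loc U =
        pullback.snd (b ⁻¹ᵁ U.1).ι (b ⁻¹ᵁ V.1).ι ≫ loc V :=
    fun U V ↦ glued_hom_ext E t j₀ fun j ↦
      (Category.assoc _ _ _).trans <| (congrArg _ (hloc U j)).trans <|
        (pullback.condition_assoc _).trans <| (congrArg _ (hloc V j).symm).trans
          (Category.assoc _ _ _).symm
  refine ⟨𝒱.glueMorphisms loc hcompat, fun j ↦ 𝒱.hom_ext _ _ fun U ↦ ?_⟩
  exact (Scheme.Cover.ι_glueMorphisms_assoc _ _ _ _ _).trans (hloc U j)

/-- The glued cone is a limit. -/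
noncomputable def isLimitGluedCone : IsLimit (gluedCone E t j₀) where
  lift s := (exists_lift_glued E t j₀ (fun j ↦ s.π.app j) (fun g ↦ s.w g)).choose
  fac s := (exists_lift_glued E t j₀ (fun j ↦ s.π.app j) (fun g ↦ s.w g)).choose_spec
  uniq s _ hm := glued_hom_ext E t j₀ fun j ↦ (hm j).trans
    ((exists_lift_glued E t j₀ (fun j ↦ s.π.app j) (fun g ↦ s.w g)).choose_spec j).symm

omit j₀

include t in
/-- A cofiltered diagram of schemes affine over a fixed scheme has a limit. -/
lemma hasLimit_of_isAffineHom : HasLimit E := by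
  obtain ⟨j₀⟩ := IsCofiltered.nonempty (C := J)
  exact HasLimit.mk ⟨_, isLimitGluedCone E t j₀⟩

variable {I : Type u} [SmallCategory I] [IsCofiltered I] (D : I ⥤ Scheme.{u})
  [∀ {i j} (f : i ⟶ j), IsAffineHom (D.map f)]

/-- EGA IV 8.2.3: limits of cofiltered diagrams with affine transition maps exist. -/
theorem hasLimit_of_affine_transition : HasLimit D := by
  obtain ⟨i₀⟩ := IsCofiltered.nonempty (C := I)
  let t : Over.forget i₀ ⋙ D ⟶ (Functor.const (Over i₀)).obj (D.obj i₀) :=
    { app := fun j ↦ D.map j.hom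
      naturality := fun j k f ↦ by
        dsimp
        rw [← D.map_comp, Over.w f, Category.comp_id] }
  have (j : Over i₀) : IsAffineHom (t.app j) := inferInstanceAs (IsAffineHom (D.map j.hom))
  have := hasLimit_of_isAffineHom (Over.forget i₀ ⋙ D) t
  exact Functor.Initial.hasLimit_of_comp (Over.forget i₀)

theorem exists_limit_cone :
    ∃ (c : Cone D) (_ : IsLimit c), ∀ i, IsAffineHom (c.π.app i) :=
  haveI := hasLimit_of_affine_transition D
  ⟨limit.cone D, limit.isLimit D, isAffineHom_π_app D _ (limit.isLimit D)⟩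

end Groth.Agent.H8Lim
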