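import Mathlib.AlgebraicGeometry.AffineTransitionLimit
import Mathlib.AlgebraicGeometry.ResidueField
import Groth.Agent.H8Lim.Limit

/-!
# Underlying space of a limit of schemes with affine transition maps

EGA IV 8.2.9, 8.2.10 and 8.3.1 (range of the projections).
-/

universe u

open CategoryTheory Limits AlgebraicGeometry

namespace Groth.Agent.H8Lim

variable {I : Type u} [SmallCategory I] [IsCofiltered I] {D : I ⥤ Scheme.{u}} {c : Cone D}
  (hc : IsLimit c) [∀ {i j} (f : i ⟶ j), IsAffineHom (D.map f)]

lemma exists_residueField_hom {X Y : Scheme.{u}} (f : X ⟶ Y) {x : X} {y : Y} (h : f x = y) :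
    ∃ u : Spec (X.residueField x) ⟶ Spec (Y.residueField y),
      u ≫ Y.fromSpecResidueField y = X.fromSpecResidueField x ≫ f := by
  subst h
  exact ⟨_, f.SpecMap_residueFieldMap_fromSpecResidueField x⟩

omit [IsCofiltered I] [∀ {i j} (f : i ⟶ j), IsAffineHom (D.map f)] in
lemma π_app_apply {i j : I} (g : i ⟶ j) (x : c.pt) :
    D.map g (c.π.app i x) = c.π.app j x := by
  rw [← Scheme.Hom.comp_apply, c.w g]

omit [∀ {i j} (f : i ⟶ j), IsAffineHom (D.map f)] in
include hc in
/-- A compatible family of points comes from a point of the limit. -/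
theorem exists_of_compatible (x : ∀ i, D.obj i) (hx : ∀ {i j} (g : i ⟶ j), D.map g (x i) = x j) :
    ∃ p : c.pt, ∀ i, c.π.app i p = x i := by
  choose v hv using fun (i j : I) (g : i ⟶ j) ↦ exists_residueField_hom (D.map g) (hx g)
  let K : I ⥤ Scheme.{u} :=
    { obj := fun i ↦ Spec ((D.obj i).residueField (x i))
      map := fun {i j} g ↦ v i j g
      map_id := fun i ↦ by
        rw [← cancel_mono ((D.obj i).fromSpecResidueField (x i)), hv]
        simp
      map_comp := fun {i j k} f g ↦ by
        rw [← cancel_mono ((D.obj k).fromSpecResidueField (x k)), hv, Category.assoc, hv,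
          reassoc_of% hv i j f, D.map_comp] }
  have : ∀ {i j} (g : i ⟶ j), IsAffineHom (K.map g) := fun g ↦
    inferInstanceAs (IsAffineHom (v _ _ g))
  have : ∀ i, Nonempty (K.obj i) := fun i ↦
    inferInstanceAs (Nonempty (Spec ((D.obj i).residueField (x i))))
  have : ∀ i, CompactSpace (K.obj i) := fun i ↦
    inferInstanceAs (CompactSpace (Spec ((D.obj i).residueField (x i))))
  obtain ⟨cK, hcK, -⟩ := exists_limit_cone K
  obtain ⟨p⟩ := Scheme.nonempty_of_isLimit K cK hcK
  let s : Cone D :=
    { pt := cK.pt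
      π :=
        { app := fun i ↦ cK.π.app i ≫ (D.obj i).fromSpecResidueField (x i)
          naturality := fun i j g ↦ by
            dsimp
            rw [Category.id_comp, Category.assoc, ← hv i j g, ← Category.assoc]
            exact congrArg (· ≫ _) (cK.w g).symm } }
  refine ⟨hc.lift s p, fun i ↦ ?_⟩
  rw [← Scheme.Hom.comp_apply, hc.fac]
  exact (Scheme.Hom.comp_apply _ _ _).trans ((D.obj i).fromSpecResidueField_apply (x i) _)

include hc in
/-- The topology on the limit is induced by the projections. -/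
theorem exists_mem_preimage_subset {U : Set c.pt} (hU : IsOpen U) {p : c.pt} (hp : p ∈ U) :
    ∃ (i : I) (V : (D.obj i).Opens), IsAffineOpen V ∧ c.π.app i p ∈ V ∧
      (c.π.app i) ⁻¹' V ⊆ U := by
  obtain ⟨_, ⟨i, V, hV, rfl⟩, hpV, hVU⟩ := TopologicalSpace.Opens.isBasis_iff_nbhd.mp
    (isBasis_preimage_isAffineOpen D c hc) (U := ⟨U, hU⟩) hp
  exact ⟨i, V, hV, hpV, hVU⟩

include hc in
/-- Points of the limit are determined by their projections. -/
theorem ext_of_forall_π {p q : c.pt} (h : ∀ i, c.π.app i p = c.π.app i q) : p = q := by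
  refine ((inseparable_iff_forall_isOpen).mpr fun U hU ↦ ?_).eq
  constructor <;> intro hp
  · obtain ⟨i, V, -, hpV, hVU⟩ := exists_mem_preimage_subset hc hU hp
    exact hVU (show c.π.app i q ∈ V by rwa [← h])
  · obtain ⟨i, V, -, hpV, hVU⟩ := exists_mem_preimage_subset hc hU hp
    exact hVU (show c.π.app i p ∈ V by rwa [h])

include hc in
/-- EGA IV 8.2.9: the underlying space of the limit is the limit of the underlying spaces. -/
theorem isLimit_forgetToTop : Nonempty (IsLimit (Scheme.forgetToTop.mapCone c)) := by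
  have h : Nonempty (IsLimit ((forget TopCat).mapCone (Scheme.forgetToTop.mapCone c))) := by
    rw [Types.isLimit_iff]
    intro s hs
    obtain ⟨p, hp⟩ := exists_of_compatible hc s fun g ↦ hs g
    exact ⟨p, hp, fun q hq ↦ ext_of_forall_π hc fun i ↦ (hq i).trans (hp i).symm⟩
  rw [TopCat.nonempty_isLimit_iff_eq_induced _ h.some]
  refine le_antisymm (le_iInf fun j ↦ ?_) fun U hU ↦ ?_
  · exact continuous_iff_le_induced.mp (c.π.app j).continuous
  · refine (@isOpen_iff_forall_mem_open _ (_) _).mpr fun p hp ↦ ?_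
    obtain ⟨i, V, -, hpV, hVU⟩ := exists_mem_preimage_subset hc hU hp
    refine ⟨_, hVU, ?_, hpV⟩
    exact (isOpen_induced (f := c.π.app i) V.2).mono (iInf_le _ i)

end Groth.Agent.H8Lim
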