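import Mathlib.AlgebraicGeometry.Morphisms.Flat
import Mathlib.RingTheory.Flat.EquationalCriterion
import Groth.Agent.H8Lim.ClosedIntoStage
import Groth.Agent.H8Lim.Topology

/-!
# Stalks of a limit of schemes with affine transition maps

EGA IV 8.2.13: the stalk of the limit is the colimit of the stalks of the stages.
-/

set_option backward.isDefEq.respectTransparency.types false

universe u

open CategoryTheory Limits AlgebraicGeometry Topology

namespace Groth.Agent.H8Lim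

variable {I : Type u} [SmallCategory I] [IsCofiltered I] {D : I ⥤ Scheme.{u}} {c : Cone D}
  (hc : IsLimit c) [∀ {i j} (f : i ⟶ j), IsAffineHom (D.map f)] (s : c.pt)

omit [IsCofiltered I] [∀ {i j} (f : i ⟶ j), IsAffineHom (D.map f)] in
lemma germ_app_app {X Y Z : Scheme.{u}} (f : X ⟶ Y) (g : Y ⟶ Z) (h : X ⟶ Z) (e : f ≫ g = h)
    (V : Z.Opens) (x : X) (hx₁ : x ∈ f ⁻¹ᵁ g ⁻¹ᵁ V) (hx₂ : x ∈ h ⁻¹ᵁ V) (t : Γ(Z, V)) :
    X.presheaf.germ _ x hx₁ (f.app _ (g.app V t)) = X.presheaf.germ _ x hx₂ (h.app V t) := by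
  subst e
  rfl

/-- The map between the stalks of the stages at the images of `s`. -/
noncomputable def stalkTrans {i j : I} (φ : j ⟶ i) :
    (D.obj i).presheaf.stalk (c.π.app i s) ⟶ (D.obj j).presheaf.stalk (c.π.app j s) :=
  (D.obj i).presheaf.stalkSpecializes
    (specializes_of_eq (π_app_apply (D := D) φ s)) ≫ (D.map φ).stalkMap (c.π.app j s)

omit [IsCofiltered I] [∀ {i j} (f : i ⟶ j), IsAffineHom (D.map f)] in
lemma stalkTrans_germ {i j : I} (φ : j ⟶ i) (V : (D.obj i).Opens) (h : c.π.app i s ∈ V)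
    (t : Γ(D.obj i, V)) :
    stalkTrans s φ ((D.obj i).presheaf.germ V _ h t) =
      (D.obj j).presheaf.germ (D.map φ ⁻¹ᵁ V) (c.π.app j s)
        (show D.map φ (c.π.app j s) ∈ V by rwa [π_app_apply (D := D) φ s])
        ((D.map φ).app V t) := by
  rw [stalkTrans, CommRingCat.comp_apply, TopCat.Presheaf.germ_stalkSpecializes_apply,
    Scheme.Hom.germ_stalkMap_apply]

omit [IsCofiltered I] [∀ {i j} (f : i ⟶ j), IsAffineHom (D.map f)] in
@[reassoc (attr := simp)]
lemma stalkTrans_stalkMap {i j : I} (φ : j ⟶ i) :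
    stalkTrans s φ ≫ (c.π.app j).stalkMap s = (c.π.app i).stalkMap s := by
  refine TopCat.Presheaf.stalk_hom_ext _ fun V hV ↦ ?_
  ext t
  simp only [CommRingCat.comp_apply]
  rw [stalkTrans_germ s φ V hV, Scheme.Hom.germ_stalkMap_apply, Scheme.Hom.germ_stalkMap_apply]
  exact germ_app_app _ _ _ (c.w φ) V s _ _ t

omit [IsCofiltered I] [∀ {i j} (f : i ⟶ j), IsAffineHom (D.map f)] in
lemma stalkTrans_comp {i j k : I} (φ : j ⟶ i) (ψ : k ⟶ j) :
    stalkTrans s φ ≫ stalkTrans s ψ = stalkTrans (c := c) s (ψ ≫ φ) := by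
  refine TopCat.Presheaf.stalk_hom_ext _ fun V hV ↦ ?_
  ext t
  simp only [CommRingCat.comp_apply]
  rw [stalkTrans_germ s φ V hV, stalkTrans_germ s ψ, stalkTrans_germ s (ψ ≫ φ) V hV]
  exact germ_app_app _ _ _ (D.map_comp ψ φ).symm V _ _ _ t

include hc in
/-- Every germ on the limit comes from a stage. -/
theorem exists_stalkMap_π_eq (i₀ : I) (y : c.pt.presheaf.stalk s) :
    ∃ (j : I) (_ : j ⟶ i₀) (x : (D.obj j).presheaf.stalk (c.π.app j s)),
      (c.π.app j).stalkMap s x = y := by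
  obtain ⟨U, hU, t, rfl⟩ := c.pt.presheaf.exists_germ_eq y
  obtain ⟨i, V, hV, hsV, hVU⟩ := exists_mem_preimage_subset hc U.2 hU
  let k := IsCofiltered.min i i₀
  let α : k ⟶ i := IsCofiltered.minToLeft i i₀
  have hle : c.π.app k ⁻¹ᵁ (D.map α ⁻¹ᵁ V) ≤ U := fun x hx ↦ hVU (by
    change c.π.app i x ∈ V
    rwa [← π_app_apply (D := D) α x])
  obtain ⟨l, ψ, a, ha⟩ := exists_appLE_π_eq hc (hV.preimage (D.map α))
    (c.pt.presheaf.map (homOfLE hle).op t)
  have hs' : c.π.app l s ∈ D.map ψ ⁻¹ᵁ D.map α ⁻¹ᵁ V := by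
    change D.map α (D.map ψ (c.π.app l s)) ∈ V
    rwa [π_app_apply (D := D) ψ s, π_app_apply (D := D) α s]
  refine ⟨l, ψ ≫ IsCofiltered.minToRight i i₀, (D.obj l).presheaf.germ _ _ hs' a, ?_⟩
  rw [Scheme.Hom.germ_stalkMap_apply]
  have hsk : s ∈ c.π.app k ⁻¹ᵁ (D.map α ⁻¹ᵁ V) := by
    change D.map α (c.π.app k s) ∈ V
    rwa [π_app_apply (D := D) α s]
  calc _ = c.pt.presheaf.germ _ s hsk
        ((c.π.app l).appLE _ _ (le_preimage_π ψ (D.map α ⁻¹ᵁ V)) a) := by
          rw [Scheme.Hom.appLE, CommRingCat.comp_apply]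
          exact (TopCat.Presheaf.germ_res_apply' ..).symm
    _ = _ := by
          rw [ha]
          exact TopCat.Presheaf.germ_res_apply' ..

include hc in
/-- A germ killed on the limit is killed at a stage. -/
theorem exists_stalkTrans_eq_zero {i : I} (x : (D.obj i).presheaf.stalk (c.π.app i s))
    (hx : (c.π.app i).stalkMap s x = 0) :
    ∃ (j : I) (φ : j ⟶ i), stalkTrans s φ x = 0 := by
  obtain ⟨V, hV, t, rfl⟩ := (D.obj i).presheaf.exists_germ_eq x
  rw [Scheme.Hom.germ_stalkMap_apply,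
    ← map_zero (c.pt.presheaf.germ (c.π.app i ⁻¹ᵁ V) s hV).hom] at hx
  obtain ⟨U, hsU, iU, iU', hU⟩ := c.pt.presheaf.germ_eq s _ _ _ _ hx
  rw [map_zero] at hU
  obtain ⟨i', W, -, hsW, hWU⟩ := exists_mem_preimage_subset hc U.2 hsU
  let k := IsCofiltered.min i i'
  let α : k ⟶ i := IsCofiltered.minToLeft i i'
  let β : k ⟶ i' := IsCofiltered.minToRight i i'
  have hk : c.π.app k s ∈ D.map α ⁻¹ᵁ V ⊓ D.map β ⁻¹ᵁ W := by
    refine ⟨?_, ?_⟩
    · change D.map α (c.π.app k s) ∈ V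
      rwa [π_app_apply (D := D) α s]
    · change D.map β (c.π.app k s) ∈ W
      rwa [π_app_apply (D := D) β s]
  obtain ⟨_, ⟨W', hW', rfl⟩, hsW', hW'le⟩ := (D.obj k).isBasis_affineOpens.exists_subset_of_mem_open
    (hk : c.π.app k s ∈ ((D.map α ⁻¹ᵁ V ⊓ D.map β ⁻¹ᵁ W : (D.obj k).Opens) : Set _))
    (D.map α ⁻¹ᵁ V ⊓ D.map β ⁻¹ᵁ W).2
  have hle : W' ≤ D.map α ⁻¹ᵁ V := fun x hx ↦ (hW'le hx).1
  have hsub : c.π.app k ⁻¹ᵁ W' ≤ U := fun x hx ↦ hWU (by
    have := (hW'le hx).2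
    change D.map β (c.π.app k x) ∈ W at this
    change c.π.app i' x ∈ W
    rwa [π_app_apply (D := D) β x] at this)
  have h0 : (c.π.app k).app W' ((D.map α).appLE V W' hle t) = 0 := by
    rw [Scheme.Hom.app_eq_appLE, ← CommRingCat.comp_apply, Scheme.Hom.appLE_comp_appLE]
    simp only [c.w α]
    have := congrArg (c.pt.presheaf.map (homOfLE hsub).op) hU
    rw [map_zero, ← CommRingCat.comp_apply, ← Functor.map_comp] at this
    rw [Scheme.Hom.appLE, CommRingCat.comp_apply]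
    exact this
  obtain ⟨l, ψ, hl⟩ := exists_app_map_eq_zero_of_isLimit D c hc hW'.isCompact _ h0
  refine ⟨l, ψ ≫ α, ?_⟩
  rw [← stalkTrans_comp, CommRingCat.comp_apply, stalkTrans_germ s α V hV]
  have : (D.obj k).presheaf.germ (D.map α ⁻¹ᵁ V) (c.π.app k s) hk.1 ((D.map α).app V t) =
      (D.obj k).presheaf.germ W' _ hsW' ((D.map α).appLE V W' hle t) := by
    rw [Scheme.Hom.appLE, CommRingCat.comp_apply]
    exact (TopCat.Presheaf.germ_res_apply' ..).symm
  rw [this, stalkTrans_germ s ψ W' hsW', hl, map_zero]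

include hc in
theorem exists_stalkTrans_eq {i : I} (x y : (D.obj i).presheaf.stalk (c.π.app i s))
    (h : (c.π.app i).stalkMap s x = (c.π.app i).stalkMap s y) :
    ∃ (j : I) (φ : j ⟶ i), stalkTrans s φ x = stalkTrans s φ y := by
  obtain ⟨j, φ, hj⟩ := exists_stalkTrans_eq_zero hc s (x - y) (by rw [map_sub, h, sub_self])
  exact ⟨j, φ, sub_eq_zero.mp (by rwa [map_sub] at hj)⟩

omit [IsCofiltered I] [∀ {i j} (f : i ⟶ j), IsAffineHom (D.map f)] in
lemma stalkMap_stalkTrans_apply {i j : I} (φ : j ⟶ i) (x) :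
    (c.π.app j).stalkMap s (stalkTrans s φ x) = (c.π.app i).stalkMap s x := by
  rw [← CommRingCat.comp_apply, stalkTrans_stalkMap]

include hc in
/-- The limit is reduced if a cofinal family of stages is. -/
theorem isReduced_pt_of_forall (i₀ : I) (h : ∀ j, (j ⟶ i₀) → IsReduced (D.obj j)) :
    IsReduced c.pt := by
  have : ∀ s : c.pt, _root_.IsReduced (c.pt.presheaf.stalk s) := fun s ↦ ⟨fun y ⟨n, hn⟩ ↦ by
    obtain ⟨j, φ, x, rfl⟩ := exists_stalkMap_π_eq hc s i₀ y
    rw [← map_pow] at hn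
    obtain ⟨k, ψ, hk⟩ := exists_stalkTrans_eq_zero hc s _ hn
    have := h k (ψ ≫ φ)
    rw [map_pow] at hk
    rw [← stalkMap_stalkTrans_apply s ψ, IsNilpotent.eq_zero ⟨n, hk⟩, map_zero]⟩
  exact isReduced_of_isReduced_stalk _

include hc in
/-- If all transition maps to `i` are flat then so is the projection. -/
theorem flat_π (i : I) (hf : ∀ j (φ : j ⟶ i), Flat (D.map φ)) : Flat (c.π.app i) := by
  rw [Flat.iff_flat_stalkMap]
  intro s
  algebraize [((c.π.app i).stalkMap s).hom]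
  change Module.Flat _ _
  rw [Module.Flat.iff_forall_isTrivialRelation]
  intro l f x hfx
  choose j φ a ha using fun m ↦ exists_stalkMap_π_eq hc s i (x m)
  obtain ⟨k, g, gk, hg⟩ := IsCofiltered.wideCospan φ
  let b : Fin l → (D.obj k).presheaf.stalk (c.π.app k s) := fun m ↦ stalkTrans s (gk m) (a m)
  have hb : ∀ m, (c.π.app k).stalkMap s (b m) = x m := fun m ↦ by
    rw [stalkMap_stalkTrans_apply, ha]
  have h0 : (c.π.app k).stalkMap s (∑ m, stalkTrans s g (f m) * b m) = 0 := by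
    rw [map_sum, ← hfx]
    refine Finset.sum_congr rfl fun m _ ↦ ?_
    rw [map_mul, stalkMap_stalkTrans_apply, hb]
    rfl
  obtain ⟨n, ψ, hn⟩ := exists_stalkTrans_eq_zero hc s _ h0
  have := hf n (ψ ≫ g)
  have hflat : (stalkTrans (c := c) s (ψ ≫ g)).hom.Flat := by
    rw [stalkTrans, CommRingCat.hom_comp]
    refine RingHom.Flat.comp ?_ (Flat.stalkMap (D.map (ψ ≫ g)) _)
    have : IsIso ((D.obj i).presheaf.stalkSpecializes
        (specializes_of_eq (π_app_apply (D := D) (ψ ≫ g) s))) :=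
      inferInstanceAs (IsIso ((D.obj i).presheaf.stalkCongr
        (.of_eq (π_app_apply (D := D) (ψ ≫ g) s).symm)).hom)
    exact RingHom.Flat.of_bijective (ConcreteCategory.bijective_of_isIso _)
  let : Algebra ((D.obj i).presheaf.stalk (c.π.app i s))
      ((D.obj n).presheaf.stalk (c.π.app n s)) := (stalkTrans (c := c) s (ψ ≫ g)).hom.toAlgebra
  have : Module.Flat ((D.obj i).presheaf.stalk (c.π.app i s))
      ((D.obj n).presheaf.stalk (c.π.app n s)) := hflat
  let z : Fin l → (D.obj n).presheaf.stalk (c.π.app n s) := fun m ↦ stalkTrans s ψ (b m)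
  have hz : ∑ m, f m • z m = 0 := by
    rw [← hn, map_sum]
    refine Finset.sum_congr rfl fun m _ ↦ ?_
    rw [map_mul, ← CommRingCat.comp_apply (stalkTrans s g) (stalkTrans s ψ), stalkTrans_comp]
    rfl
  obtain ⟨κ, A, y, hxy, hA⟩ := Module.Flat.isTrivialRelation_of_sum_smul_eq_zero hz
  refine ⟨κ, A, fun q ↦ (c.π.app n).stalkMap s (y q), fun m ↦ ?_, hA⟩
  have := congrArg ((c.π.app n).stalkMap s) (hxy m)
  rw [map_sum] at this
  rw [← hb m, ← stalkMap_stalkTrans_apply s ψ (b m)]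
  refine this.trans (Finset.sum_congr rfl fun q _ ↦ ?_)
  change (c.π.app n).stalkMap s (stalkTrans s (ψ ≫ g) (A m q) * y q) = _
  rw [map_mul, stalkMap_stalkTrans_apply]
  rfl

include hc in
/-- Along open immersions, the stalk maps of the projections are isomorphisms. -/
theorem isIso_stalkMap_π (i : I) (hoi : ∀ j (φ : j ⟶ i), IsOpenImmersion (D.map φ)) :
    IsIso ((c.π.app i).stalkMap s) := by
  have hiso : ∀ j (φ : j ⟶ i), Function.Bijective (stalkTrans (c := c) s φ) := fun j φ ↦ by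
    have := hoi j φ
    have : IsIso ((D.obj i).presheaf.stalkSpecializes
        (specializes_of_eq (π_app_apply (D := D) φ s))) :=
      inferInstanceAs (IsIso ((D.obj i).presheaf.stalkCongr
        (.of_eq (π_app_apply (D := D) φ s).symm)).hom)
    have : IsIso (stalkTrans (c := c) s φ) := by unfold stalkTrans; infer_instance
    exact ConcreteCategory.bijective_of_isIso _
  rw [ConcreteCategory.isIso_iff_bijective]
  refine ⟨fun x y hxy ↦ ?_, fun y ↦ ?_⟩
  · obtain ⟨j, φ, hj⟩ := exists_stalkTrans_eq hc s x y hxy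
    exact (hiso j φ).1 hj
  · obtain ⟨j, φ, x, rfl⟩ := exists_stalkMap_π_eq hc s i y
    obtain ⟨z, rfl⟩ := (hiso j φ).2 x
    exact ⟨z, (stalkMap_stalkTrans_apply s φ z).symm⟩

end Groth.Agent.H8Lim
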