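import Mathlib
import Groth.Agent.H8Lim.Constructible
import Groth.Agent.H8Lim.Stalk
import Groth.Agent.H8ProCons.Global
import Groth.Agent.H8ProCons.Image

/-!
# Pro-constructible sets, closures and flat limits (EGA IV 8.3)
-/

set_option backward.isDefEq.respectTransparency.types false

universe u

open CategoryTheory Limits AlgebraicGeometry Topology TopologicalSpace Set

namespace Groth.Agent.H8Lim

theorem mem_closure_iff_exists_specializes {X : Scheme.{u}} {E : Set X}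
    (hE : ProCons.IsProConstructible E) {x : X} : x ∈ closure E ↔ ∃ y ∈ E, y ⤳ x := by
  refine ⟨fun hx ↦ ?_, fun ⟨y, hy, h⟩ ↦
    h.mem_closed isClosed_closure (subset_closure hy)⟩
  obtain ⟨_, ⟨W, hW, rfl⟩, hxW, -⟩ :=
    X.isBasis_affineOpens.exists_subset_of_mem_open (mem_univ x) isOpen_univ
  have := H8ProCons.quasiSeparatedSpace_of_isAffineOpen hW
  have := H8ProCons.compactSpace_opens hW.isCompact
  have : QuasiSober (W : Set X) := W.2.isOpenEmbedding_subtypeVal.quasiSober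
  have hx' : (⟨x, hxW⟩ : (W : Set X)) ∈ closure (Subtype.val ⁻¹' E) := by
    have := W.2.isOpenMap_subtype_val.preimage_closure_eq_closure_preimage continuous_subtype_val E
    exact (Set.ext_iff.mp this ⟨x, hxW⟩).mp hx
  obtain ⟨y, hy, hyx⟩ := H8ProCons.exists_specializes_of_mem_closure
    (H8ProCons.isClosed_cons_of_isProConstructible hE hW) hx'
  exact ⟨y.1, hy, hyx.map continuous_subtype_val⟩

theorem preimage_closure_of_flat {X Y : Scheme.{u}} (f : X ⟶ Y) [Flat f] {E : Set Y}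
    (hE : ProCons.IsProConstructible E) : f ⁻¹' closure E = closure (f ⁻¹' E) := by
  refine subset_antisymm (fun x hx ↦ ?_) (f.continuous.closure_preimage_subset E)
  obtain ⟨y, hy, hyx⟩ := (mem_closure_iff_exists_specializes hE).mp hx
  obtain ⟨x', hx', rfl⟩ := Flat.generalizingMap f hyx
  exact (mem_closure_iff_exists_specializes (H8ProCons.isProConstructible_preimage f hE)).mpr
    ⟨x', hy, hx'⟩

variable {I : Type u} [SmallCategory I] [IsCofiltered I] {D : I ⥤ Scheme.{u}} {c : Cone D}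
  (hc : IsLimit c) [∀ {i j} (f : i ⟶ j), IsAffineHom (D.map f)]

include hc in
theorem exists_preimage_subset_of_isProConstructible {i : I} [CompactSpace (D.obj i)]
    {P C : Set (D.obj i)} (hP : ProCons.IsProConstructible P) (hC : IsConstructible C)
    (h : c.π.app i ⁻¹' P ⊆ c.π.app i ⁻¹' C) :
    ∃ (j : I) (φ : j ⟶ i), D.map φ ⁻¹' P ⊆ D.map φ ⁻¹' C := by
  let 𝒰 := (D.obj i).affineCover.finiteSubcover
  have hloc : ∀ k, ∃ (j : I) (φ : j ⟶ i),
      ∀ x, D.map φ x ∈ Set.range (𝒰.f k) → D.map φ x ∈ P → D.map φ x ∈ C := by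
    intro k
    have : IsAffine (𝒰.X k) := inferInstanceAs (IsAffine (Spec _))
    obtain ⟨S, hS, hSeq⟩ :=
      H8ProCons.exists_eq_sInter_of_isProConstructible (H8ProCons.isProConstructible_preimage (𝒰.f k) hP)
    have hC' : IsConstructible ((𝒰.f k) ⁻¹' C) :=
      hC.preimage_of_isOpenEmbedding (𝒰.f k).isOpenEmbedding
    obtain ⟨T, a, hT, -, ha⟩ := H8ProCons.exists_isAffine_range_eq (X := 𝒰.X k)
      (S := insert ((𝒰.f k) ⁻¹' C)ᶜ S) (by rintro s (rfl | hs); exacts [hC'.compl, hS s hs])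
    rw [sInter_insert, ← hSeq] at ha
    obtain ⟨j, φ, hj⟩ := exists_forall_map_notMem_range hc (a ≫ 𝒰.f k) (fun p ↦ by
      rintro ⟨t, ht⟩
      have ht' : a t ∈ ((𝒰.f k) ⁻¹' C)ᶜ ∩ (𝒰.f k) ⁻¹' P := ha ▸ ⟨t, rfl⟩
      rw [Scheme.Hom.comp_apply] at ht
      refine ht'.1 ?_
      change 𝒰.f k (a t) ∈ C
      rw [ht]
      refine h ?_
      change c.π.app i p ∈ P
      rw [← ht]
      exact ht'.2)
    refine ⟨j, φ, fun x ⟨y, hy⟩ hxP ↦ ?_⟩
    by_contra hxC
    obtain ⟨t, ht⟩ : y ∈ Set.range a := by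
      rw [show Set.range a = _ from ha]
      exact ⟨fun hyC ↦ hxC (by rw [← hy]; exact hyC), show 𝒰.f k y ∈ P by rw [hy]; exact hxP⟩
    exact hj x ⟨t, by rw [Scheme.Hom.comp_apply, ht, hy]⟩
  choose j φ hj using hloc
  cases nonempty_fintype 𝒰.I₀
  obtain ⟨m, g, gm, hg⟩ := IsCofiltered.wideCospan φ
  refine ⟨m, g, fun x hx ↦ ?_⟩
  obtain ⟨k, y, hy⟩ := 𝒰.exists_eq (D.map g x)
  have e : D.map g x = D.map (φ k) (D.map (gm k) x) := by
    rw [← Scheme.Hom.comp_apply, ← D.map_comp, hg k]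
  change D.map g x ∈ C
  rw [e]
  exact hj k _ (e ▸ ⟨y, hy⟩) (e ▸ hx)

end Groth.Agent.H8Lim
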