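import Mathlib

set_option backward.isDefEq.respectTransparency.types false

universe u

open CategoryTheory Limits AlgebraicGeometry TensorProduct

namespace Groth.Agent.H8Lim

theorem exists_sum_mul_of_isPushout {R A B C : CommRingCat.{u}} {f : R ⟶ A} {g : R ⟶ B}
    {inl : A ⟶ C} {inr : B ⟶ C} (h : IsPushout f g inl inr) (s : C) :
    ∃ (n : ℕ) (_ : 0 < n) (a : Fin n → A) (b : Fin n → B), s = ∑ i, inl.hom (a i) * inr.hom (b i) := by
  let := f.hom.toAlgebra
  let := g.hom.toAlgebra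
  have h' : IsPushout f g
      (CommRingCat.ofHom (S := A ⊗[R] B) Algebra.TensorProduct.includeLeftRingHom)
      (CommRingCat.ofHom (S := A ⊗[R] B) Algebra.TensorProduct.includeRight.toRingHom) :=
    CommRingCat.isPushout_tensorProduct R A B
  let e := h'.isoIsPushout _ _ h
  have el : ∀ a : A, e.hom.hom (a ⊗ₜ[R] (1 : B)) = inl.hom a := fun a ↦
    congr($(h'.inl_isoIsPushout_hom _ _ h).hom a)
  have er : ∀ b : B, e.hom.hom ((1 : A) ⊗ₜ[R] b) = inr.hom b := fun b ↦
    congr($(h'.inr_isoIsPushout_hom _ _ h).hom b)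
  obtain ⟨x, rfl⟩ : ∃ x, e.hom.hom x = s := ⟨e.inv.hom s, congr($(e.inv_hom_id).hom s)⟩
  induction x using TensorProduct.induction_on with
  | zero => exact ⟨1, one_pos, 0, 0, by simp⟩
  | tmul a b =>
    refine ⟨1, one_pos, fun _ ↦ a, fun _ ↦ b, ?_⟩
    have hab : a ⊗ₜ[R] b = (a ⊗ₜ[R] (1 : B)) * ((1 : A) ⊗ₜ[R] b) := by simp
    simp only [Fin.sum_univ_one]
    erw [← el, ← er, ← map_mul, ← hab]
  | add x y hx hy =>
    obtain ⟨n, hn, a, b, hab⟩ := hx
    obtain ⟨m, hm, a', b', hab'⟩ := hy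
    refine ⟨n + m, by omega, Fin.append a a', Fin.append b b', ?_⟩
    erw [map_add, hab, hab', Fin.sum_univ_add]
    simp

theorem isPullback_of_comp_mono {P X Y Z W : Scheme.{u}} {fst : P ⟶ X} {snd : P ⟶ Y}
    (f : X ⟶ Z) (g : Y ⟶ Z) (i : Z ⟶ W) [Mono i] (h : IsPullback fst snd (f ≫ i) (g ≫ i)) :
    IsPullback fst snd f g := by
  have w : fst ≫ f = snd ≫ g := by
    rw [← cancel_mono i, Category.assoc, Category.assoc, h.w]
  refine ⟨⟨w⟩, ⟨PullbackCone.IsLimit.mk _
    (fun c ↦ h.lift c.fst c.snd (by rw [reassoc_of% c.condition]))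
    (fun c ↦ h.lift_fst _ _ _) (fun c ↦ h.lift_snd _ _ _)
    (fun c m h₁ h₂ ↦ h.hom_ext ?_ ?_)⟩⟩
  · rw [h.lift_fst, h₁]
  · rw [h.lift_snd, h₂]

/-- Openness of all base changes to affine spaces gives universal openness. -/
theorem universallyOpen_of_isOpenMap_affineSpace {X Y : Scheme.{u}} (f : X ⟶ Y)
    (h : ∀ n : ℕ, 0 < n →
      IsOpenMap ⇑(pullback.snd f (AffineSpace (ULift.{u} (Fin n)) Y ↘ Y))) :
    UniversallyOpen f := by
  rw [UniversallyOpen.eq]
  intro X' Y' i₁ i₂ f' hpb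
  suffices IsOpenMap ⇑(pullback.snd f i₂) by
    have e : f' = hpb.flip.isoPullback.hom ≫ pullback.snd f i₂ := by simp
    change IsOpenMap f'
    rw [e, Scheme.Hom.comp_base]
    exact this.comp hpb.flip.isoPullback.hom.homeomorph.isOpenMap
  intro W hW
  rw [isOpen_iff_forall_mem_open]
  rintro _ ⟨p, hpW, rfl⟩
  have hco : f (pullback.fst f i₂ p) = i₂ (pullback.snd f i₂ p) := by
    rw [← Scheme.Hom.comp_apply, pullback.condition, Scheme.Hom.comp_apply]
  obtain ⟨_, ⟨U, hU, rfl⟩, hpU, -⟩ :=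
    Y.isBasis_affineOpens.exists_subset_of_mem_open (Set.mem_univ (f (pullback.fst f i₂ p)))
      isOpen_univ
  obtain ⟨_, ⟨T, hT, rfl⟩, hpT, hTU⟩ :=
    X.isBasis_affineOpens.exists_subset_of_mem_open (show pullback.fst f i₂ p ∈ f ⁻¹ᵁ U from hpU)
      (f ⁻¹ᵁ U).isOpen
  obtain ⟨_, ⟨V, hV, rfl⟩, hpV, hVU⟩ :=
    Y'.isBasis_affineOpens.exists_subset_of_mem_open
      (show pullback.snd f i₂ p ∈ i₂ ⁻¹ᵁ U by change i₂ _ ∈ U; rw [← hco]; exact hpU)
      (i₂ ⁻¹ᵁ U).isOpen
  have : IsAffine (Scheme.Opens.toScheme U) := hU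
  have : IsAffine (Scheme.Opens.toScheme T) := hT
  have : IsAffine (Scheme.Opens.toScheme V) := hV
  let fU : (Scheme.Opens.toScheme T) ⟶ (Scheme.Opens.toScheme U) := f.resLE U T hTU
  let gU : (Scheme.Opens.toScheme V) ⟶ (Scheme.Opens.toScheme U) := i₂.resLE U V hVU
  let fT : (Scheme.Opens.toScheme T) ⟶ Y := (Scheme.Opens.ι T) ≫ f
  let gV : (Scheme.Opens.toScheme V) ⟶ Y := (Scheme.Opens.ι V) ≫ i₂
  let P := pullback fT gV
  have hP : IsPullback (pullback.fst fT gV) (pullback.snd fT gV) fU gU := by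
    refine isPullback_of_comp_mono fU gU (Scheme.Opens.ι U) ?_
    simpa [fU, gU, fT, gV] using IsPullback.of_hasPullback fT gV
  have : IsAffine P := IsAffine.of_isPullback hP
  let m : P ⟶ pullback f i₂ :=
    pullback.map fT gV f i₂ (Scheme.Opens.ι T) (Scheme.Opens.ι V) (𝟙 Y) (Category.comp_id _) (Category.comp_id _)
  obtain ⟨q, hq⟩ : p ∈ Set.range m := by
    rw [Scheme.Pullback.range_map, Scheme.Opens.range_ι, Scheme.Opens.range_ι]
    exact ⟨hpT, hpV⟩
  obtain ⟨_, ⟨_, ⟨s, rfl⟩, rfl⟩, hqs, hsW⟩ := (isBasis_basicOpen P).exists_subset_of_mem_open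
    (show q ∈ m ⁻¹' W from (hq.symm ▸ hpW : m q ∈ W)) (hW.preimage m.continuous)
  obtain ⟨n, hn, b, c, hs⟩ := exists_sum_mul_of_isPushout (isPushout_appTop_of_isPullback hP) s
  -- the morphism to affine space given by the coefficients
  let h' : (Scheme.Opens.toScheme V) ⟶ AffineSpace (ULift.{u} (Fin n)) Y :=
    AffineSpace.homOfVector gV fun i ↦ c i.down
  let t := AffineSpace (ULift.{u} (Fin n)) Y ↘ Y
  let κ : P ⟶ pullback fT t := pullback.map fT gV fT t (𝟙 _) h' (𝟙 Y) (by simp)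
    (by simp [h', t])
  have hκ : IsPullback κ (pullback.snd fT gV) (pullback.snd fT t) h' := by
    have key : IsPullback (κ ≫ pullback.fst fT t) (pullback.snd fT gV) fT (h' ≫ t) := by
      have e₁ : κ ≫ pullback.fst fT t = pullback.fst fT gV :=
        (pullback.lift_fst _ _ _).trans (Category.comp_id _)
      have e₂ : h' ≫ t = gV := AffineSpace.homOfVector_over _ _
      rw [e₁, e₂]
      exact IsPullback.of_hasPullback fT gV
    exact IsPullback.of_right key (pullback.lift_snd _ _ _)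
      (IsPullback.of_hasPullback fT t)
  -- the open subset at the finite level
  let s₀ : Γ(pullback fT t, ⊤) := ∑ i, (pullback.fst fT t).appTop.hom (b i) *
    (pullback.snd fT t).appTop.hom (AffineSpace.coord Y ⟨i⟩)
  have hκs : κ.appTop.hom s₀ = s := by
    rw [hs, map_sum]
    refine Finset.sum_congr rfl fun i _ ↦ ?_
    rw [map_mul, ← CommRingCat.comp_apply, ← CommRingCat.comp_apply,
      ← Scheme.Hom.comp_appTop, ← Scheme.Hom.comp_appTop, pullback.lift_fst, pullback.lift_snd,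
      Category.comp_id, Scheme.Hom.comp_appTop, CommRingCat.comp_apply]
    congr 2
    exact AffineSpace.homOfVector_appTop_coord _ _ _
  have hopen : IsOpenMap ⇑(pullback.snd fT t) := by
    let m₀ : pullback fT t ⟶ pullback f t :=
      pullback.map fT t f t (Scheme.Opens.ι T) (𝟙 _) (𝟙 Y) (Category.comp_id _) (by simp)
    have e : pullback.snd fT t = m₀ ≫ pullback.snd f t :=
      ((pullback.lift_snd _ _ _).trans (Category.comp_id _)).symm
    rw [e, Scheme.Hom.comp_base]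
    exact (h n hn).comp m₀.isOpenEmbedding.isOpenMap
  refine ⟨(Scheme.Opens.ι V) '' (h' ⁻¹' (pullback.snd fT t '' ((pullback fT t).basicOpen s₀))), ?_,
    (Scheme.Opens.ι V).isOpenEmbedding.isOpenMap _ ((hopen _ (((pullback fT t).basicOpen s₀).isOpen)).preimage h'.continuous), ?_⟩
  all_goals
    have e1 : pullback.snd fT gV '' (κ ⁻¹' ((pullback fT t).basicOpen s₀ : Set ↥(pullback fT t))) =
        h' ⁻¹' (pullback.snd fT t '' ((pullback fT t).basicOpen s₀)) :=
      Scheme.image_preimage_eq_of_isPullback hκ _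
    have e2 : (κ ⁻¹' ((pullback fT t).basicOpen s₀ : Set ↥(pullback fT t))) = (P.basicOpen s : Set P) := by
      rw [← hκs]
      exact congr(($(Scheme.preimage_basicOpen_top κ s₀) : Set P))
    have e3 : ∀ z, (Scheme.Opens.ι V) (pullback.snd fT gV z) = pullback.snd f i₂ (m z) := fun z ↦ by
      rw [← Scheme.Hom.comp_apply, ← Scheme.Hom.comp_apply, pullback.lift_snd]
    rw [← e1, e2]
  · rintro _ ⟨_, ⟨z, hz, rfl⟩, rfl⟩
    exact ⟨m z, hsW hz, (e3 z).symm⟩
  · exact ⟨_, ⟨q, hqs, rfl⟩, by rw [e3, hq]⟩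

end Groth.Agent.H8Lim
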