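import Mathlib
import Groth.Agent.H8Lim.UniversallyOpen
import Groth.Agent.H8Lim.ProConsLimit

/-!
# Geometric connectedness is tested on finite separable extensions (EGA IV 4.5)
-/

set_option backward.isDefEq.respectTransparency.types false

universe u

open CategoryTheory Limits AlgebraicGeometry TopologicalSpace Topology TensorProduct

namespace Groth.Agent.H8Lim

variable {k : Type u} [Field k] {X : Scheme.{u}} (f : X ⟶ Spec (CommRingCat.of k))

/-- The structure map of an algebra. -/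
noncomputable abbrev algSpec (k : Type u) [CommRing k] (A : Type u) [CommRing A] [Algebra k A] :
    Spec (CommRingCat.of A) ⟶ Spec (CommRingCat.of k) :=
  Spec.map (CommRingCat.ofHom (algebraMap k A))

lemma universallyInjective_algSpec (L M : Type u) [Field L] [Field M] [Algebra L M]
    [IsPurelyInseparable L M] : UniversallyInjective (algSpec L M) := by
  rw [UniversallyInjective.iff_diagonal]
  have h1 : Subsingleton (PrimeSpectrum (M ⊗[L] M)) :=
    (PrimeSpectrum.isHomeomorph_comap_of_isPurelyInseparable L M M).injective.subsingleton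
  have h1' : Subsingleton ↥(Spec (CommRingCat.of (M ⊗[L] M))) := h1
  have h2 : Subsingleton ↥(pullback (algSpec L M) (algSpec L M)) :=
    (pullbackSpecIso L M M).hom.homeomorph.injective.subsingleton
  exact ⟨fun z ↦ ⟨Classical.arbitrary _, Subsingleton.elim _ _⟩⟩

/-- Connectedness passes along a purely inseparable finite extension. -/
lemma preconnectedSpace_of_isPurelyInseparable (L M : Type u) [Field L] [Field M] [Algebra k L]
    [Algebra k M] [Algebra L M] [IsScalarTower k L M] [IsPurelyInseparable L M] [Module.Finite L M]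
    (h : ConnectedSpace ↥(pullback f (algSpec k L))) :
    PreconnectedSpace ↥(pullback f (algSpec k M)) := by
  have hu := universallyInjective_algSpec L M
  have : IsFinite (algSpec L M) := (IsFinite.SpecMap_iff _).mpr (by
    simpa [RingHom.finite_algebraMap] using ‹Module.Finite L M›)
  have : Surjective (algSpec L M) := ⟨fun z ↦ ⟨Classical.arbitrary _, Subsingleton.elim _ _⟩⟩
  have e : algSpec L M ≫ algSpec k L = algSpec k M := by
    rw [← Spec.map_comp, ← CommRingCat.ofHom_comp, ← IsScalarTower.algebraMap_eq]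
  let P := pullback (pullback.snd f (algSpec k L)) (algSpec L M)
  let p : P ⟶ pullback f (algSpec k L) := pullback.fst _ _
  have : UniversallyInjective p :=
    MorphismProperty.pullback_fst (P := @UniversallyInjective) _ _ hu
  have : Surjective p := MorphismProperty.pullback_fst (P := @Surjective) _ _ inferInstance
  have : IsFinite p := MorphismProperty.pullback_fst (P := @IsFinite) _ _ inferInstance
  have hp : IsHomeomorph p := isHomeomorph_iff_continuous_isClosedMap_bijective.mpr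
    ⟨p.continuous, p.isClosedMap, p.injective, p.surjective⟩
  let φ : P ≅ pullback f (algSpec k M) :=
    pullbackLeftPullbackSndIso f (algSpec k L) (algSpec L M) ≪≫ pullback.congrHom rfl e
  have : ConnectedSpace ↥P := hp.homeomorph.symm.surjective.connectedSpace hp.homeomorph.symm.continuous
  exact (φ.hom.homeomorph.surjective.connectedSpace φ.hom.continuous).toPreconnectedSpace

lemma preconnectedSpace_of_finite
    (h : ∀ (K : Type u) [Field K] [Algebra k K] [Module.Finite k K] [Algebra.IsSeparable k K],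
      ConnectedSpace ↥(pullback f (algSpec k K)))
    (M : Type u) [Field M] [Algebra k M] [Module.Finite k M] :
    PreconnectedSpace ↥(pullback f (algSpec k M)) := by
  have : Module.Finite (separableClosure k M) M := Module.Finite.of_restrictScalars_finite k _ _
  exact preconnectedSpace_of_isPurelyInseparable f (separableClosure k M) M
    (h (separableClosure k M))

/-- An open set of a field base change is locally defined over finitely generated subalgebras. -/
lemma exists_finset_nhd (K : Type u) [Field K] [Algebra k K]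
    {O : Set ↥(pullback f (algSpec k K))} (hO : IsOpen O) {p : ↥(pullback f (algSpec k K))}
    (hp : p ∈ O) : ∃ σ : Finset K, ∀ A : Subalgebra k K, (↑σ : Set K) ⊆ A →
      ∃ O' : (pullback f (algSpec k A)).Opens, ∀ κ : pullback f (algSpec k K) ⟶ pullback f (algSpec k A),
        κ ≫ pullback.fst _ _ = pullback.fst _ _ →
        κ ≫ pullback.snd _ _ = pullback.snd _ _ ≫ Spec.map (CommRingCat.ofHom A.val.toRingHom) →
        p ∈ κ ⁻¹' O' ∧ κ ⁻¹' O' ⊆ O := by
  classical
  obtain ⟨_, ⟨T, hT, rfl⟩, hpT, -⟩ := X.isBasis_affineOpens.exists_subset_of_mem_open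
    (Set.mem_univ (pullback.fst f (algSpec k K) p)) isOpen_univ
  have : IsAffine (T : Scheme.{u}) := hT
  let fT : (T : Scheme.{u}) ⟶ Spec (CommRingCat.of k) := Scheme.Opens.ι T ≫ f
  let m : pullback fT (algSpec k K) ⟶ pullback f (algSpec k K) :=
    pullback.map _ _ _ _ (Scheme.Opens.ι T) (𝟙 _) (𝟙 _) (Category.comp_id _) (by simp)
  have hrange : Set.range m = pullback.fst f (algSpec k K) ⁻¹' T := by
    rw [Scheme.Pullback.range_map, Scheme.Opens.range_ι]
    simp
  obtain ⟨q, hq⟩ : p ∈ Set.range m := hrange ▸ hpT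
  obtain ⟨_, ⟨_, ⟨s, rfl⟩, rfl⟩, hqs, hsO⟩ :=
    (isBasis_basicOpen (pullback fT (algSpec k K))).exists_subset_of_mem_open
      (show q ∈ m ⁻¹' O from (hq.symm ▸ hp : m q ∈ O)) (hO.preimage m.continuous)
  obtain ⟨n, -, b, c, hs⟩ := exists_sum_mul_of_isPushout
    (isPushout_appTop_of_isPullback (IsPullback.of_hasPullback fT (algSpec k K))) s
  let c' : Fin n → K := fun i ↦ (Scheme.ΓSpecIso (CommRingCat.of K)).hom (c i)
  refine ⟨Finset.univ.image c', fun A hA ↦ ?_⟩
  have hcA : ∀ i, c' i ∈ A := fun i ↦ hA (Finset.mem_coe.mpr (Finset.mem_image.mpr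
    ⟨i, Finset.mem_univ _, rfl⟩))
  let gA : Spec (CommRingCat.of K) ⟶ Spec (CommRingCat.of A) :=
    Spec.map (CommRingCat.ofHom A.val.toRingHom)
  let d : Fin n → Γ(Spec (CommRingCat.of A), ⊤) := fun i ↦
    (Scheme.ΓSpecIso (CommRingCat.of A)).inv ⟨c' i, hcA i⟩
  have hd : ∀ i, gA.appTop (d i) = c i := fun i ↦ by
    rw [← CommRingCat.comp_apply, ← Scheme.ΓSpecIso_inv_naturality, CommRingCat.comp_apply]
    change (Scheme.ΓSpecIso (CommRingCat.of K)).inv
      ((Scheme.ΓSpecIso (CommRingCat.of K)).hom (c i)) = c i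
    exact congr($((Scheme.ΓSpecIso (CommRingCat.of K)).hom_inv_id).hom (c i))
  have hgA : gA ≫ algSpec k A = algSpec k K := by
    rw [← Spec.map_comp, ← CommRingCat.ofHom_comp]
    rfl
  let mA : pullback fT (algSpec k A) ⟶ pullback f (algSpec k A) :=
    pullback.map _ _ _ _ (Scheme.Opens.ι T) (𝟙 _) (𝟙 _) (Category.comp_id _) (by simp)
  let s' : Γ(pullback fT (algSpec k A), ⊤) := ∑ i, (pullback.fst fT (algSpec k A)).appTop.hom (b i) *
    (pullback.snd fT (algSpec k A)).appTop.hom (d i)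
  refine ⟨mA ''ᵁ (pullback fT (algSpec k A)).basicOpen s', fun κ hκ₁ hκ₂ ↦ ?_⟩
  let κT : pullback fT (algSpec k K) ⟶ pullback fT (algSpec k A) :=
    pullback.map _ _ _ _ (𝟙 _) gA (𝟙 _) (by simp) (by simp [hgA])
  have hsq : m ≫ κ = κT ≫ mA := by
    apply pullback.hom_ext
    · simp only [Category.assoc, hκ₁, m, mA, κT, pullback.lift_fst, pullback.lift_fst_assoc,
        Category.id_comp, Category.comp_id]
    · simp only [Category.assoc, hκ₂, m, mA, κT, pullback.lift_snd, pullback.lift_snd_assoc,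
        Category.id_comp, Category.comp_id, gA]
  have hs' : κT.appTop.hom s' = s := by
    rw [hs, map_sum]
    refine Finset.sum_congr rfl fun i _ ↦ ?_
    rw [map_mul, ← CommRingCat.comp_apply, ← CommRingCat.comp_apply,
      ← Scheme.Hom.comp_appTop, ← Scheme.Hom.comp_appTop, pullback.lift_fst, pullback.lift_snd,
      Category.comp_id, Scheme.Hom.comp_appTop, CommRingCat.comp_apply, hd]
  have hpre : κT ⁻¹ᵁ (pullback fT (algSpec k A)).basicOpen s' = (pullback fT (algSpec k K)).basicOpen s := by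
    rw [← hs']; exact Scheme.preimage_basicOpen_top κT s'
  refine ⟨⟨κT q, (show q ∈ κT ⁻¹ᵁ (pullback fT (algSpec k A)).basicOpen s' by
    rw [hpre]; exact hqs), ?_⟩, ?_⟩
  · show mA (κT q) = κ p
    rw [← hq, ← Scheme.Hom.comp_apply, ← Scheme.Hom.comp_apply, hsq]
  · rintro z ⟨w, hw, hwz⟩
    replace hwz : mA w = κ z := hwz
    have hzT : z ∈ Set.range m := by
      rw [hrange, Set.mem_preimage, ← hκ₁, Scheme.Hom.comp_apply, ← hwz]
      have : mA w ∈ Set.range mA := ⟨w, rfl⟩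
      rw [Scheme.Pullback.range_map, Scheme.Opens.range_ι] at this
      exact this.1
    obtain ⟨z', rfl⟩ := hzT
    refine hsO ?_
    have : κT z' = w := mA.isOpenEmbedding.injective (by
      rw [hwz, ← Scheme.Hom.comp_apply, ← Scheme.Hom.comp_apply, hsq])
    show z' ∈ (pullback fT (algSpec k K)).basicOpen s
    rw [← hpre]
    show κT z' ∈ (pullback fT (algSpec k A)).basicOpen s'
    rw [this]
    exact hw

set_option maxHeartbeats 400000 in
theorem connectedSpace_pullback_of_finite [CompactSpace X] [Nonempty X]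
    (h : ∀ (M : Type u) [Field M] [Algebra k M] [Module.Finite k M],
      PreconnectedSpace ↥(pullback f (algSpec k M)))
    (K : Type u) [Field K] [Algebra k K] : ConnectedSpace ↥(pullback f (algSpec k K)) := by
  classical
  let P := pullback f (algSpec k K)
  have : CompactSpace ↥P := QuasiCompact.compactSpace_of_compactSpace (pullback.fst f (algSpec k K))
  have : Nonempty ↥P := inferInstance
  refine @ConnectedSpace.mk _ _ ⟨fun U V hU hV hcov hUne hVne ↦ ?_⟩ this
  by_contra hUV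
  have hUV' : U ∩ V = ∅ := by simpa using Set.not_nonempty_iff_eq_empty.mp hUV
  -- neighbourhoods defined over finitely generated subalgebras
  have hchoose : ∀ p : ↥P, ∃ σ : Finset K, ∀ A : Subalgebra k K, (↑σ : Set K) ⊆ A →
      ∃ O' : (pullback f (algSpec k A)).Opens, ∀ κ : P ⟶ pullback f (algSpec k A),
        κ ≫ pullback.fst _ _ = pullback.fst _ _ →
        κ ≫ pullback.snd _ _ = pullback.snd _ _ ≫ Spec.map (CommRingCat.ofHom A.val.toRingHom) →
        p ∈ κ ⁻¹' O' ∧ (κ ⁻¹' O' ⊆ U ∨ κ ⁻¹' O' ⊆ V) := by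
    intro p
    rcases hcov (Set.mem_univ p) with hp | hp
    · obtain ⟨σ, hσ⟩ := exists_finset_nhd f K hU hp
      exact ⟨σ, fun A hA ↦ let ⟨O', hO'⟩ := hσ A hA
        ⟨O', fun κ h₁ h₂ ↦ ⟨(hO' κ h₁ h₂).1, .inl (hO' κ h₁ h₂).2⟩⟩⟩
    · obtain ⟨σ, hσ⟩ := exists_finset_nhd f K hV hp
      exact ⟨σ, fun A hA ↦ let ⟨O', hO'⟩ := hσ A hA
        ⟨O', fun κ h₁ h₂ ↦ ⟨(hO' κ h₁ h₂).1, .inr (hO' κ h₁ h₂).2⟩⟩⟩
  choose σ hσ using hchoose
  have hnhd : ∀ p : ↥P, ∃ W : Set ↥P, IsOpen W ∧ p ∈ W ∧ ∀ A : Subalgebra k K, (↑(σ p) : Set K) ⊆ A →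
      ∃ O' : (pullback f (algSpec k A)).Opens, ∀ κ : P ⟶ pullback f (algSpec k A),
        κ ≫ pullback.fst _ _ = pullback.fst _ _ →
        κ ≫ pullback.snd _ _ = pullback.snd _ _ ≫ Spec.map (CommRingCat.ofHom A.val.toRingHom) →
        W ⊆ κ ⁻¹' O' ∧ (κ ⁻¹' O' ⊆ U ∨ κ ⁻¹' O' ⊆ V) := by
    intro p
    -- the neighbourhood over the smallest subalgebra
    let A₀ := Algebra.adjoin k (↑(σ p) : Set K)
    obtain ⟨O₀, hO₀⟩ := hσ p A₀ Algebra.subset_adjoin
    let g₀ : Spec (CommRingCat.of K) ⟶ Spec (CommRingCat.of A₀) :=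
      Spec.map (CommRingCat.ofHom A₀.val.toRingHom)
    have hg₀ : g₀ ≫ algSpec k A₀ = algSpec k K := by
      rw [← Spec.map_comp, ← CommRingCat.ofHom_comp]; rfl
    let κ₀ : P ⟶ pullback f (algSpec k A₀) :=
      pullback.map _ _ _ _ (𝟙 _) g₀ (𝟙 _) (by simp) (by simp [hg₀])
    have hκ₀ := hO₀ κ₀ ((pullback.lift_fst _ _ _).trans (Category.comp_id _))
      (pullback.lift_snd _ _ _)
    refine ⟨κ₀ ⁻¹' O₀, O₀.2.preimage κ₀.continuous, hκ₀.1, fun A hA ↦ ?_⟩
    have hA₀ : A₀ ≤ A := Algebra.adjoin_le hA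
    let gA : Spec (CommRingCat.of A) ⟶ Spec (CommRingCat.of A₀) :=
      Spec.map (CommRingCat.ofHom (Subalgebra.inclusion hA₀).toRingHom)
    have hgA : gA ≫ algSpec k A₀ = algSpec k A := by
      rw [← Spec.map_comp, ← CommRingCat.ofHom_comp]; rfl
    let t : pullback f (algSpec k A) ⟶ pullback f (algSpec k A₀) :=
      pullback.map _ _ _ _ (𝟙 _) gA (𝟙 _) (by simp) (by simp [hgA])
    refine ⟨t ⁻¹ᵁ O₀, fun κ h₁ h₂ ↦ ?_⟩
    have : κ ≫ t = κ₀ := by
      apply pullback.hom_ext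
      · simp only [Category.assoc, t, κ₀, pullback.lift_fst, Category.comp_id, h₁]
      · simp only [Category.assoc, t, κ₀, pullback.lift_snd, reassoc_of% h₂]
        rw [← Spec.map_comp]
        rfl
    have e : (κ ⁻¹' (t ⁻¹ᵁ O₀ : Set _)) = κ₀ ⁻¹' O₀ := by
      rw [← this]; rfl
    exact ⟨e.ge, e ▸ hκ₀.2⟩
  choose W hWo hpW hW using hnhd
  obtain ⟨F, hF⟩ := isCompact_univ.elim_finite_subcover W hWo
    (fun p _ ↦ Set.mem_iUnion.mpr ⟨p, hpW p⟩)
  let τ : Finset K := F.biUnion σ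
  let A := Algebra.adjoin k (↑τ : Set K)
  have hτA : ∀ p ∈ F, (↑(σ p) : Set K) ⊆ A := fun p hp x hx ↦
    Algebra.subset_adjoin (Finset.mem_biUnion.mpr ⟨p, hp, hx⟩)
  let gK : Spec (CommRingCat.of K) ⟶ Spec (CommRingCat.of A) :=
    Spec.map (CommRingCat.ofHom A.val.toRingHom)
  have hgK : gK ≫ algSpec k A = algSpec k K := by
    rw [← Spec.map_comp, ← CommRingCat.ofHom_comp]; rfl
  let PA := pullback f (algSpec k A)
  let pr : PA ⟶ Spec (CommRingCat.of A) := pullback.snd _ _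
  let κ : P ⟶ PA := pullback.map _ _ _ _ (𝟙 _) gK (𝟙 _) (by simp) (by simp [hgK])
  have hκ₁ : κ ≫ pullback.fst _ _ = pullback.fst _ _ :=
    (pullback.lift_fst _ _ _).trans (Category.comp_id _)
  have hκ₂ : κ ≫ pullback.snd _ _ = pullback.snd _ _ ≫ gK := pullback.lift_snd _ _ _
  choose O hO using fun p : F ↦ hW p.1 A (hτA p.1 p.2)
  let UA : PA.Opens := ⨆ p : {p : F // κ ⁻¹' (O p : Set PA) ⊆ U}, O p.1
  let VA : PA.Opens := ⨆ p : {p : F // κ ⁻¹' (O p : Set PA) ⊆ V}, O p.1
  have hUA : κ ⁻¹' (UA : Set PA) ⊆ U := fun z hz ↦ by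
    obtain ⟨p, hp⟩ := Opens.mem_iSup.mp (hz : κ z ∈ UA)
    exact p.2 hp
  have hVA : κ ⁻¹' (VA : Set PA) ⊆ V := fun z hz ↦ by
    obtain ⟨p, hp⟩ := Opens.mem_iSup.mp (hz : κ z ∈ VA)
    exact p.2 hp
  have hall : ∀ z : ↥P, κ z ∈ UA ∨ κ z ∈ VA := fun z ↦ by
    obtain ⟨p, hpF, hzp⟩ := Set.mem_iUnion₂.mp (hF (Set.mem_univ z))
    obtain ⟨h1, h2⟩ := hO ⟨p, hpF⟩ κ hκ₁ hκ₂
    rcases h2 with h2 | h2
    · exact .inl (Opens.mem_iSup.mpr ⟨⟨⟨p, hpF⟩, h2⟩, h1 hzp⟩)
    · exact .inr (Opens.mem_iSup.mpr ⟨⟨⟨p, hpF⟩, h2⟩, h1 hzp⟩)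
  -- the generic point
  let η : Spec (CommRingCat.of A) := (⊥ : PrimeSpectrum A)
  have hκr : Set.range κ = pr ⁻¹' {η} := by
    rw [Scheme.Pullback.range_map]
    have : Set.range gK = {η} := by
      refine Set.eq_singleton_iff_nonempty_unique_mem.mpr ⟨Set.range_nonempty _, ?_⟩
      rintro _ ⟨z, rfl⟩
      refine PrimeSpectrum.ext ?_
      change Ideal.comap A.val.toRingHom (show PrimeSpectrum K from z).asIdeal = ⊥
      have hz : (show PrimeSpectrum K from z) = ⊥ := Subsingleton.elim _ _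
      rw [hz]
      exact Ideal.comap_bot_of_injective A.val.toRingHom Subtype.val_injective
    rw [this]
    simp [pr]
  have hgen : ∀ z : PrimeSpectrum A, η ⤳ z := fun z ↦
    (PrimeSpectrum.le_iff_specializes _ _).mp bot_le
  -- the closed bad set misses the generic fibre
  let Z : Set PA := ((UA : Set PA) ∪ (VA : Set PA))ᶜ
  have hZ : IsClosed Z := (UA.2.union VA.2).isClosed_compl
  have : CompactSpace ↥PA := QuasiCompact.compactSpace_of_compactSpace (pullback.fst f (algSpec k A))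
  have hprqc : QuasiCompact pr := by
    have : QuasiCompact (pr ≫ algSpec k A) := by
      have : QuasiCompact f := inferInstance
      exact MorphismProperty.comp_mem _ _ _ (MorphismProperty.pullback_snd _ _ this) inferInstance
    exact QuasiCompact.of_comp pr (algSpec k A)
  have hZp : ProCons.IsProConstructible Z :=
    H8ProCons.isProConstructible_iff_compl.mpr
      (H8ProCons.isIndConstructible_of_isOpen hZ.isOpen_compl)
  have hη : η ∉ closure (pr '' Z) := fun hη ↦ by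
    obtain ⟨y, ⟨z, hz, rfl⟩, hy⟩ :=
      (mem_closure_iff_exists_specializes (H8ProCons.isProConstructible_image pr hZp)).mp hη
    have : pr z = η := (hy.antisymm (hgen _)).eq
    obtain ⟨z', hz'⟩ : z ∈ Set.range κ := hκr ▸ this
    exact hz (hz' ▸ hall z')
  -- the images of the two parts
  have hpro : IsOpenMap pr := pr.isOpenMap
  obtain ⟨a₀, ha₀⟩ := hUne
  obtain ⟨b₀, hb₀⟩ := hVne
  have hU' : η ∈ pr '' UA := by
    refine ⟨κ a₀, (hall a₀).resolve_right fun h' ↦ ?_, hκr.le ⟨a₀, rfl⟩⟩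
    exact (Set.eq_empty_iff_forall_notMem.mp hUV' a₀) ⟨ha₀.2, hVA h'⟩
  have hV' : η ∈ pr '' VA := by
    refine ⟨κ b₀, (hall b₀).resolve_left fun h' ↦ ?_, hκr.le ⟨b₀, rfl⟩⟩
    exact (Set.eq_empty_iff_forall_notMem.mp hUV' b₀) ⟨hUA h', hb₀.2⟩
  have hdisj : ∀ z, z ∈ UA → z ∈ VA → False := fun z hzU hzV ↦ by
    obtain ⟨w, hw, hwη⟩ := (hgen (pr z)).mem_open (hpro _ (UA.2.inter VA.2)) ⟨z, ⟨hzU, hzV⟩, rfl⟩
    obtain ⟨w', rfl⟩ : w ∈ Set.range κ := hκr ▸ hwη
    exact (Set.eq_empty_iff_forall_notMem.mp hUV' w') ⟨hUA hw.1, hVA hw.2⟩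
  -- a closed point of the base
  have : Algebra.FiniteType k A := A.fg_iff_finiteType.mp (Subalgebra.fg_adjoin_finset τ)
  have : IsJacobsonRing A := isJacobsonRing_of_finiteType (A := k)
  let W₀ : Set (PrimeSpectrum A) :=
    pr '' (UA : Set PA) ∩ pr '' (VA : Set PA) ∩ (closure (pr '' Z))ᶜ
  obtain ⟨a, haW, hac⟩ : (W₀ ∩ closedPoints (PrimeSpectrum A)).Nonempty :=
    nonempty_inter_closedPoints ⟨η, ⟨hU', hV'⟩, hη⟩
      (((hpro _ UA.2).inter (hpro _ VA.2)).inter isClosed_closure.isOpen_compl).isLocallyClosed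
  obtain ⟨⟨haU, haV⟩, haZ⟩ := haW
  have hmax : a.asIdeal.IsMaximal := (PrimeSpectrum.isClosed_singleton_iff_isMaximal a).mp hac
  let : Field (A ⧸ a.asIdeal) := Ideal.Quotient.field a.asIdeal
  have : Module.Finite k (A ⧸ a.asIdeal) := finite_of_finite_type_of_isJacobsonRing k _
  have hL := h (A ⧸ a.asIdeal)
  let gL : Spec (CommRingCat.of (A ⧸ a.asIdeal)) ⟶ Spec (CommRingCat.of A) :=
    Spec.map (CommRingCat.ofHom (Ideal.Quotient.mk a.asIdeal))
  have hgL : gL ≫ algSpec k A = algSpec k (A ⧸ a.asIdeal) := by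
    rw [← Spec.map_comp, ← CommRingCat.ofHom_comp, Ideal.Quotient.mk_comp_algebraMap]
  let κL : pullback f (algSpec k (A ⧸ a.asIdeal)) ⟶ PA :=
    pullback.map _ _ _ _ (𝟙 _) gL (𝟙 _) (by simp) (by simp [hgL])
  have hκLr : Set.range κL = pr ⁻¹' {a} := by
    rw [Scheme.Pullback.range_map]
    have : Set.range gL = {a} := by
      refine Set.eq_singleton_iff_nonempty_unique_mem.mpr ⟨Set.range_nonempty _, ?_⟩
      rintro _ ⟨z, rfl⟩
      refine PrimeSpectrum.ext (hmax.eq_of_le ?_ ?_).symm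
      · exact ((inferInstance : z.asIdeal.IsPrime).comap _).ne_top
      · intro x hx
        show Ideal.Quotient.mk a.asIdeal x ∈ z.asIdeal
        rw [Ideal.Quotient.eq_zero_iff_mem.mpr hx]
        exact zero_mem _
    rw [this]
    simp [pr]
  obtain ⟨u₀, hu₀, hu₀a⟩ := haU
  obtain ⟨v₀, hv₀, hv₀a⟩ := haV
  obtain ⟨u, rfl⟩ : u₀ ∈ Set.range κL := hκLr ▸ hu₀a
  obtain ⟨v, rfl⟩ : v₀ ∈ Set.range κL := hκLr ▸ hv₀a
  obtain ⟨z, -, hzU, hzV⟩ := hL.isPreconnected_univ (κL ⁻¹' UA) (κL ⁻¹' VA)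
    (UA.2.preimage κL.continuous) (VA.2.preimage κL.continuous)
    (fun z _ ↦ by
      by_contra hz
      exact haZ (subset_closure ⟨κL z, hz, hκLr.le ⟨z, rfl⟩⟩))
    ⟨u, trivial, hu₀⟩ ⟨v, trivial, hv₀⟩
  exact hdisj (κL z) hzU hzV

end Groth.Agent.H8Lim
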