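import Groth.Agent.H8Lim.ApproxSystem

/-!
# Approximation by schemes of finite presentation

EGA IV 8.9 / Stacks 09MV: over a quasi-compact quasi-separated base, quasi-compact quasi-separated
schemes are limits of schemes of finite presentation.
-/

set_option autoImplicit false
set_option backward.isDefEq.respectTransparency.types false

universe u

open CategoryTheory Limits AlgebraicGeometry TopologicalSpace Opposite

namespace Groth.Agent.H8Lim

lemma isLocallyNoetherian_specULiftZ :
    IsLocallyNoetherian (Spec (CommRingCat.of (ULift.{u} ℤ))) := by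
  have : IsNoetherianRing (ULift.{u} ℤ) := isNoetherianRing_of_ringEquiv ℤ ULift.ringEquiv.symm
  infer_instance

/-- A finite type model over the integers. -/
theorem exists_int_model (S : Scheme.{u}) [CompactSpace S] [QuasiSeparatedSpace S] :
    ∃ (S₁ : Scheme.{u}) (a : S ⟶ S₁), IsAffineHom a ∧ CompactSpace S₁ ∧ QuasiSeparatedSpace S₁ ∧
      IsLocallyNoetherian S₁ ∧ LocallyOfFiniteType (specULiftZIsTerminal.from S₁) := by
  have := isLocallyNoetherian_specULiftZ.{u}
  obtain ⟨S₁, a, f₁, ha, hc, hqs, hlft, -⟩ :=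
    exists_isAffineHom_locallyOfFiniteType (specULiftZIsTerminal.from S)
  have : IsLocallyNoetherian S₁ := LocallyOfFiniteType.isLocallyNoetherian f₁
  exact ⟨S₁, a, ha, hc, hqs, this, (specULiftZIsTerminal.hom_ext f₁ (specULiftZIsTerminal.from S₁)) ▸ hlft⟩

/-- A morphism of qcqs schemes sits over a morphism of finite type models over the integers. -/
theorem exists_int_model_hom {Y X : Scheme.{u}} (f : Y ⟶ X) [CompactSpace X] [QuasiSeparatedSpace X]
    [CompactSpace Y] [QuasiSeparatedSpace Y] :
    ∃ (X₁ Y₁ : Scheme.{u}) (a : X ⟶ X₁) (b : Y ⟶ Y₁) (f₁ : Y₁ ⟶ X₁) (_ : b ≫ f₁ = f ≫ a),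
      IsAffineHom a ∧ IsAffineHom b ∧ CompactSpace X₁ ∧ CompactSpace Y₁ ∧ QuasiSeparatedSpace Y₁ ∧
      IsLocallyNoetherian X₁ ∧ LocallyOfFiniteType f₁ ∧
      LocallyOfFiniteType (specULiftZIsTerminal.from X₁) := by
  obtain ⟨X₁, a, ha, hc, hqs, hN, hX⟩ := exists_int_model X
  obtain ⟨Y₁, b, f₁, hb, hc', hqs', hlft, w⟩ := exists_isAffineHom_locallyOfFiniteType (f ≫ a)
  exact ⟨X₁, Y₁, a, b, f₁, w, ha, hb, hc, hc', hqs', hN, hlft, hX⟩

/-- Stacks 09MV / EGA IV 8.9.1: every morphism of qcqs schemes is affine followed by finitely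
presented. -/
theorem exists_isAffineHom_comp_finitePresentation {Y X : Scheme.{u}} (f : Y ⟶ X) [CompactSpace X]
    [QuasiSeparatedSpace X] [CompactSpace Y] [QuasiSeparatedSpace Y] :
    ∃ (Z : Scheme.{u}) (g : Y ⟶ Z) (h : Z ⟶ X), IsAffineHom g ∧ LocallyOfFinitePresentation h ∧
      QuasiCompact h ∧ QuasiSeparated h ∧ (IsSeparated f → IsSeparated h) ∧ g ≫ h = f := by
  obtain ⟨X₁, Y₁, a, b, f₁, w, ha, hb, hc, hc', hqs, hN, hlft, -⟩ := exists_int_model_hom f
  by_cases hf : IsSeparated f
  · obtain ⟨p, hp⟩ := PairModel.exists_isSeparated_overHom a b f f₁ w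
    obtain ⟨h1, h2, h3⟩ := PairModel.overHom_props a b f f₁ w p
    exact ⟨_, _, _, inferInstanceAs (IsAffineHom (PairModel.overLift a b f f₁ w p)), h1, h2, h3,
      fun _ ↦ hp, PairModel.overLift_hom a b f f₁ w p⟩
  · obtain ⟨p⟩ := (inferInstance : Nonempty (PairModel a b f f₁ w))
    obtain ⟨h1, h2, h3⟩ := PairModel.overHom_props a b f f₁ w p
    exact ⟨_, _, _, inferInstanceAs (IsAffineHom (PairModel.overLift a b f f₁ w p)), h1, h2, h3,
      fun h ↦ absurd h hf, PairModel.overLift_hom a b f f₁ w p⟩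

/-- An affine morphism to a qcqs scheme is a limit of affine finitely presented ones. -/
theorem exists_limit_affine_finitePresentation {Y X : Scheme.{u}} (f : Y ⟶ X) [IsAffineHom f]
    [CompactSpace X] [QuasiSeparatedSpace X] :
    ∃ (I : Type u) (_ : Preorder I) (_ : IsDirected I (fun a b => a ≤ b)) (_ : Nonempty I)
      (D : Iᵒᵖ ⥤ Over X) (c : Cone D) (_ : IsLimit c),
      (∀ i, IsAffineHom (D.obj i).hom ∧ LocallyOfFinitePresentation (D.obj i).hom) ∧
      Nonempty (c.pt ≅ Over.mk f) := by
  obtain ⟨X₁, a, ha, hc, hqs, hN, -⟩ := exists_int_model X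
  have w : (f ≫ a) ≫ 𝟙 X₁ = f ≫ a := Category.comp_id _
  refine ⟨PairModel a (f ≫ a) f (𝟙 X₁) w, inferInstance, inferInstance, inferInstance,
    PairModel.overDiagram a (f ≫ a) f (𝟙 X₁) w, PairModel.overCone a (f ≫ a) f (𝟙 X₁) w,
    (PairModel.isLimit_overCone a (f ≫ a) f (𝟙 X₁) w).some, fun i ↦ ⟨?_,
      (PairModel.overHom_props a (f ≫ a) f (𝟙 X₁) w i.unop).1⟩, ⟨Iso.refl _⟩⟩
  refine MorphismProperty.pullback_snd (P := @IsAffineHom) _ _ ?_
  have : IsAffineHom i.unop.G.alg.π := i.unop.G.alg.isAffineHom_π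
  have : IsAffineHom i.unop.F.alg.π := i.unop.F.alg.isAffineHom_π
  have : IsAffineHom (i.unop.compat.hom ≫ i.unop.G.alg.π) := by
    rw [Compat.hom_π]
    infer_instance
  exact MorphismProperty.of_postcomp (W := @IsAffineHom) (W' := @IsSeparated) _ i.unop.G.alg.π
    inferInstance this

/-- EGA IV 8.9 / Stacks 09MV: a qcqs scheme over a quasi-separated base is a limit with affine
transition maps of schemes of finite presentation. -/
theorem exists_limit_finitePresentation {X S : Scheme.{u}} (f : X ⟶ S)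
    [CompactSpace X] [QuasiSeparatedSpace X] [QuasiSeparatedSpace S] :
    ∃ (I : Type u) (_ : Preorder I) (_ : IsDirected I (fun a b => a ≤ b)) (_ : Nonempty I)
      (D : Iᵒᵖ ⥤ Over S) (c : Cone D) (_ : IsLimit c),
      (∀ i, LocallyOfFinitePresentation (D.obj i).hom ∧ QuasiCompact (D.obj i).hom ∧
        QuasiSeparated (D.obj i).hom) ∧
      (∀ (i j : Iᵒᵖ) (a : i ⟶ j), IsAffineHom (D.map a).left) ∧
      (∀ i, CompactSpace (D.obj i).left ∧ QuasiSeparatedSpace (D.obj i).left) ∧
      Nonempty (c.pt ≅ Over.mk f) := by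
  classical
  obtain ⟨t, ht⟩ := (isCompact_range f.continuous).elim_finite_subcover
    (fun V : S.affineOpens ↦ (V.1 : Set S)) (fun V ↦ V.1.2) fun s _ ↦ by
      obtain ⟨V, hV, hs, -⟩ := exists_isAffineOpen_mem_and_subset (X := S) (x := s) (U := ⊤) trivial
      exact Set.mem_iUnion.mpr ⟨⟨V, hV⟩, hs⟩
  let U : S.Opens := t.sup (fun V ↦ V.1)
  have hfU : Set.range f ⊆ U := fun x hx ↦ by
    obtain ⟨V, hV, hxV⟩ := Set.mem_iUnion₂.mp (ht hx)
    exact Finset.le_sup (f := fun V : S.affineOpens ↦ V.1) hV hxV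
  have hUc : IsCompact (U : Set S) := by
    have : ∀ s : Finset S.affineOpens, IsCompact ((s.sup (fun V ↦ V.1) : S.Opens) : Set S) := by
      intro s
      induction s using Finset.induction_on with
      | empty => simp
      | insert x s _ ih =>
        rw [Finset.sup_insert, Opens.coe_sup]
        exact x.2.isCompact.union ih
    exact this t
  have : CompactSpace U.toScheme := isCompact_iff_compactSpace.mp hUc
  have : QuasiSeparatedSpace U.toScheme :=
    QuasiSeparatedSpace.of_isOpenEmbedding U.ι.isOpenEmbedding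
  have : QuasiCompact U.ι := quasiCompact_of_compactSpace _
  let f' : X ⟶ U.toScheme := IsOpenImmersion.lift U.ι f (by rwa [Scheme.Opens.range_ι])
  have hf' : f' ≫ U.ι = f := IsOpenImmersion.lift_fac _ _ _
  obtain ⟨X₁, Y₁, a, b, f₁, w, ha, hb, hc, hc', hqs, hN, hlft, -⟩ := exists_int_model_hom f'
  let D := PairModel.overDiagram a b f' f₁ w
  let c := PairModel.overCone a b f' f₁ w
  obtain ⟨hlim⟩ := PairModel.isLimit_overCone a b f' f₁ w
  let D' := D ⋙ Over.map U.ι
  let c' := (Over.map U.ι).mapCone c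
  have hw : ∀ (s : Cone D') (p q : (PairModel a b f' f₁ w)ᵒᵖ),
      (s.π.app p).left ≫ (D.obj p).hom = (s.π.app q).left ≫ (D.obj q).hom := fun s p q ↦ by
    rw [← cancel_mono U.ι, Category.assoc, Category.assoc]
    exact (Over.w (s.π.app p)).trans (Over.w (s.π.app q)).symm
  obtain ⟨p₀⟩ : Nonempty (PairModel a b f' f₁ w)ᵒᵖ := inferInstance
  let res : Cone D' → Cone D := fun s ↦
    { pt := Over.mk ((s.π.app p₀).left ≫ (D.obj p₀).hom)
      π := { app := fun p ↦ Over.homMk (s.π.app p).left (hw s p p₀)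
             naturality := fun p q g ↦ by
               ext
               change 𝟙 _ ≫ (s.π.app q).left = (s.π.app p).left ≫ (D.map g).left
               rw [Category.id_comp]
               exact congr(($(s.w g)).left).symm } }
  have hc'' : IsLimit c' :=
    { lift := fun s ↦ Over.homMk (hlim.lift (res s)).left (by
        change (hlim.lift (res s)).left ≫ f' ≫ U.ι = _
        rw [← Category.assoc, show (hlim.lift (res s)).left ≫ f' = _ from Over.w (hlim.lift (res s))]
        change ((s.π.app p₀).left ≫ (D.obj p₀).hom) ≫ U.ι = s.pt.hom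
        rw [Category.assoc]
        exact Over.w (s.π.app p₀))
      fac := fun s p ↦ by
        ext
        exact congr(($(hlim.fac (res s) p)).left)
      uniq := fun s k h ↦ by
        ext
        have hk : k.left ≫ f' = (s.π.app p₀).left ≫ (D.obj p₀).hom := by
          rw [← cancel_mono U.ι, Category.assoc, Category.assoc]
          exact (Over.w k).trans (Over.w (s.π.app p₀)).symm
        have e := hlim.uniq (res s) (Over.homMk k.left hk) fun p ↦ by
          ext
          exact congr(($(h p)).left)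
        exact congr(($e).left) }
  refine ⟨_, inferInstance, inferInstance, inferInstance, D', c', hc'', fun p ↦ ?_, ?_,
    fun p ↦ ?_, ⟨Over.isoMk (Iso.refl _) (by
      change 𝟙 _ ≫ f = f' ≫ U.ι
      rw [hf', Category.id_comp])⟩⟩
  · obtain ⟨h1, h2, h3⟩ := PairModel.overHom_props a b f' f₁ w p.unop
    refine ⟨?_, ?_, ?_⟩
    · change LocallyOfFinitePresentation (PairModel.overHom a b f' f₁ w p.unop ≫ U.ι)
      infer_instance
    · change QuasiCompact (PairModel.overHom a b f' f₁ w p.unop ≫ U.ι)
      infer_instance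
    · change QuasiSeparated (PairModel.overHom a b f' f₁ w p.unop ≫ U.ι)
      infer_instance
  · intro p q g
    change IsAffineHom (PairModel.overMap a b f' f₁ w g)
    have h1 : IsAffineHom (PairModel.srcMap a b f' f₁ w g) :=
      inferInstanceAs (IsAffineHom ((PairModel.srcDiagram a b f' f₁ w).map g))
    have : IsAffineHom q.unop.G.toModel := inferInstance
    have : IsAffineHom p.unop.G.toModel := inferInstance
    have h2 : IsAffineHom (pullback.fst p.unop.compat.hom p.unop.G.toModel) :=
      MorphismProperty.pullback_fst (P := @IsAffineHom) _ _ inferInstance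
    have h3 : IsAffineHom (pullback.fst q.unop.compat.hom q.unop.G.toModel) :=
      MorphismProperty.pullback_fst (P := @IsAffineHom) _ _ inferInstance
    refine MorphismProperty.of_postcomp (W := @IsAffineHom) (W' := @IsSeparated) _
      (pullback.fst q.unop.compat.hom q.unop.G.toModel) inferInstance ?_
    rw [PairModel.overMap_fst]
    infer_instance
  · obtain ⟨-, h2, h3⟩ := PairModel.overHom_props a b f' f₁ w p.unop
    let q : pullback p.unop.compat.hom p.unop.G.toModel ⟶ U.toScheme :=
      PairModel.overHom a b f' f₁ w p.unop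
    have : QuasiCompact q := h2
    have : QuasiSeparated q := h3
    exact ⟨@QuasiCompact.compactSpace_of_compactSpace _ U.toScheme q h2 _,
      @quasiSeparatedSpace_of_quasiSeparated _ U.toScheme q _ h3⟩

end Groth.Agent.H8Lim
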