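import Groth.Agent.H8Lim.DescentMore
import Groth.Agent.Et18.ProperClopen.Compactify
import Mathlib.AlgebraicGeometry.ZariskisMainTheorem

/-!
# Descent of properness along limits

EGA IV 8.10.5 (xii) / Stacks 081F, via the topological Chow lemma: a separated scheme of finite
type is covered by quasi-finite pieces over `M ×_ℤ S`, `M` proper, and finiteness descends.
-/

set_option backward.isDefEq.respectTransparency.types false
set_option maxHeartbeats 1000000
set_option synthInstance.maxHeartbeats 100000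
set_option linter.unusedVariables false

universe u

open CategoryTheory Limits AlgebraicGeometry TopologicalSpace

namespace Groth.Agent.H8Lim

open Groth.Agent.Et18.ProperClopen

/-- A morphism jointly dominated by finitely many universally closed morphisms is universally
closed. -/
lemma universallyClosed_of_finite_cover {X Y : Scheme.{u}} (f : X ⟶ Y) {κ : Type*} [Finite κ]
    (T : κ → Scheme.{u}) (t : ∀ s, T s ⟶ X) [∀ s, UniversallyClosed (t s ≫ f)]
    (h : ∀ x : X, ∃ s, x ∈ Set.range (t s)) : UniversallyClosed f := by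
  refine ⟨fun {X' Y'} i₁ i₂ f' sq C hC ↦ ?_⟩
  have key : f' '' C = ⋃ s, (pullback.snd (t s) i₁ ≫ f') '' (pullback.snd (t s) i₁ ⁻¹' C) := by
    ext y
    simp only [Set.mem_iUnion, Set.mem_image, Set.mem_preimage, Scheme.Hom.comp_apply]
    constructor
    · rintro ⟨x, hx, rfl⟩
      obtain ⟨s, z, hz⟩ := h (i₁ x)
      obtain ⟨w, -, hw⟩ := Scheme.Pullback.exists_preimage_pullback (f := t s) (g := i₁) z x hz
      exact ⟨s, w, hw.symm ▸ hx, by rw [hw]⟩
    · rintro ⟨s, w, hw, rfl⟩
      exact ⟨_, hw, rfl⟩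
  rw [key]
  refine isClosed_iUnion_of_finite fun s ↦ ?_
  have : UniversallyClosed (pullback.snd (t s) i₁ ≫ f') :=
    MorphismProperty.of_isPullback (P := @UniversallyClosed)
      ((IsPullback.of_hasPullback (t s) i₁).paste_vert sq.flip) inferInstance
  exact (pullback.snd (t s) i₁ ≫ f').isClosedMap _ (hC.preimage (Scheme.Hom.continuous _))

/-- A property of the base change of a composite at a stage `j` passes to later stages. -/
lemma descendsAffine_isProper : DescendsAffine.{u} @LocallyOfFiniteType @IsProper @IsProper := by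
  intro J _ _ E cE hc haff haffine i A₀ a _ _ hlft A b p sq hb
  have : IsProper b := hb
  have : LocallyOfFiniteType a := hlft
  -- separatedness at a stage
  obtain ⟨j₀, φ₀, hsep⟩ := descends_isSeparated E cE hc haff i a trivial b p sq inferInstance
  let a₁ := pullback.snd a (E.map φ₀)
  have hw : p ≫ a = (b ≫ cE.π.app j₀) ≫ E.map φ₀ := by rw [Category.assoc, cE.w, sq.w]
  let p₁ : A ⟶ pullback a (E.map φ₀) := pullback.lift p (b ≫ cE.π.app j₀) hw
  have sq₁ : IsPullback p₁ b a₁ (cE.π.app j₀) :=
    IsPullback.of_right (by rw [pullback.lift_fst, cE.w]; exact sq) (pullback.lift_snd _ _ _)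
      (IsPullback.of_hasPullback a (E.map φ₀))
  let f := a₁ ≫ (E.obj j₀).isoSpec.hom
  have : IsSeparated a₁ := hsep
  have : LocallyOfFiniteType a₁ :=
    MorphismProperty.pullback_snd (P := @LocallyOfFiniteType) _ _ hlft
  obtain ⟨κ, _, M, hM, Es, hcl, hinj, hcov⟩ := exists_chow_cover f
  let g : ∀ s, MA Γ(E.obj j₀, ⊤) (M s) ⟶ Spec (CommRingCat.of Γ(E.obj j₀, ⊤)) :=
    fun s ↦ gA Γ(E.obj j₀, ⊤) (M s)
  let g' : ∀ s, MA Γ(E.obj j₀, ⊤) (M s) ⟶ E.obj j₀ := fun s ↦ g s ≫ (E.obj j₀).isoSpec.inv
  let Z : κ → Scheme.{u} := fun s ↦ (Scheme.IdealSheafData.vanishingIdeal ⟨Es s, hcl s⟩).subscheme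
  let ι : ∀ s, Z s ⟶ pullback f (g s) := fun s ↦
    (Scheme.IdealSheafData.vanishingIdeal ⟨Es s, hcl s⟩).subschemeι
  have hι : ∀ s, Set.range (ι s) = Es s := fun s ↦ by
    rw [Scheme.IdealSheafData.range_subschemeι, Scheme.IdealSheafData.coe_support_vanishingIdeal]
    rfl
  let h : ∀ s, Z s ⟶ MA Γ(E.obj j₀, ⊤) (M s) := fun s ↦ ι s ≫ pullback.snd f (g s)
  have hh : ∀ s, h s ≫ g' s = (ι s ≫ pullback.fst f (g s)) ≫ a₁ := fun s ↦ by
    simp only [h, g', Category.assoc]
    rw [← pullback.condition_assoc]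
    simp [f]
  have hg' : ∀ s, IsProper (g' s) := fun s ↦ by
    have : IsProper (g s) := MorphismProperty.pullback_snd (P := @IsProper) _ _ (hM s)
    infer_instance
  -- finiteness at the limit, hence at a stage
  have key : ∀ s, ∃ (j : J) (φ : j ⟶ j₀), IsProper (pullback.snd (h s ≫ g' s) (E.map φ)) := by
    intro s
    have := hg' s
    have : CompactSpace (MA Γ(E.obj j₀, ⊤) (M s)) :=
      QuasiCompact.compactSpace_of_compactSpace (g' s)
    let qY := pullback.fst (g' s) (cE.π.app j₀)
    have hY : IsPullback qY (pullback.snd _ _) (g' s) (cE.π.app j₀) := IsPullback.of_hasPullback _ _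
    have hP : IsPullback (pullback.fst f (g s)) (pullback.snd f (g s)) a₁ (g' s) :=
      (IsPullback.of_hasPullback f (g s)).of_iso (Iso.refl _) (Iso.refl _) (Iso.refl _)
        (E.obj j₀).isoSpec.symm (by simp) (by simp) (by simp [f]) (by simp [g'])
    have hW := (IsPullback.of_hasPullback (pullback.snd f (g s)) qY).paste_horiz hP
    rw [hY.w] at hW
    have e : (pullback.fst (pullback.snd f (g s)) qY ≫ pullback.fst f (g s)) ≫ a₁ =
        (pullback.snd (pullback.snd f (g s)) qY ≫ pullback.snd (g' s) (cE.π.app j₀)) ≫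
          cE.π.app j₀ := by
      rw [hW.w, Category.assoc]
    have hW' : IsPullback (sq₁.lift _ _ e) (pullback.snd (pullback.snd f (g s)) qY) b
        (pullback.snd (g' s) (cE.π.app j₀)) :=
      IsPullback.of_right (by rw [sq₁.lift_fst]; exact hW) (sq₁.lift_snd _ _ e) sq₁
    have : IsProper (pullback.snd (pullback.snd f (g s)) qY) :=
      MorphismProperty.of_isPullback (P := @IsProper) hW' hb
    let W := pullback.snd (pullback.snd f (g s)) qY
    have hX := (IsPullback.of_hasPullback (ι s) (pullback.fst (pullback.snd f (g s)) qY)).paste_vert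
      (IsPullback.of_hasPullback (pullback.snd f (g s)) qY)
    have : IsProper (pullback.snd (ι s) (pullback.fst (pullback.snd f (g s)) qY) ≫ W) :=
      inferInstance
    have : LocallyOfFiniteType (h s) := inferInstance
    have : LocallyQuasiFinite (h s) := by
      refine LocallyQuasiFinite.of_injective fun x y hxy ↦ ?_
      have hx : ι s x ∈ Es s := hι s ▸ Set.mem_range_self x
      have hy : ι s y ∈ Es s := hι s ▸ Set.mem_range_self y
      exact (ι s).isEmbedding.injective (hinj s hx hy hxy)
    have : LocallyQuasiFinite (pullback.snd (ι s) (pullback.fst (pullback.snd f (g s)) qY) ≫ W) :=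
      MorphismProperty.of_isPullback hX ‹LocallyQuasiFinite (h s)›
    obtain ⟨j, φ, Xi, Yi, fi, gi, pY, pX, hYi, hXi, hfi⟩ :=
      descends_isFinite.exists_stage hc hY hX ‹LocallyOfFiniteType (h s)›
        (IsFinite.of_isProper_of_locallyQuasiFinite _)
    have : IsProper gi := MorphismProperty.of_isPullback hYi (hg' s)
    have : IsFinite fi := hfi
    exact ⟨j, φ, prop_snd_of_isPullback (hXi.paste_vert hYi) (inferInstanceAs (IsProper (fi ≫ gi)))⟩
  choose j φ hj using key
  obtain ⟨l, ψ, gk, hgk⟩ := IsCofiltered.wideCospan φ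
  refine ⟨l, ψ ≫ φ₀, ?_⟩
  have hs : ∀ s, IsProper (pullback.snd (h s ≫ g' s) (E.map ψ)) := fun s ↦
    hgk s ▸ prop_snd_map_comp (hj s) (gk s)
  -- the pieces cover the stage
  let a₂ := pullback.snd a₁ (E.map ψ)
  let t : ∀ s, pullback (ι s ≫ pullback.fst f (g s)) (pullback.fst a₁ (E.map ψ)) ⟶
    pullback a₁ (E.map ψ) := fun s ↦ pullback.snd _ _
  have ht : ∀ s, UniversallyClosed (t s ≫ a₂) := fun s ↦ by
    have := (IsPullback.of_hasPullback (ι s ≫ pullback.fst f (g s))
      (pullback.fst a₁ (E.map ψ))).paste_vert (IsPullback.of_hasPullback a₁ (E.map ψ))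
    rw [← hh s] at this
    have : IsProper (t s ≫ a₂) := prop_of_snd_of_isPullback this (hs s)
    infer_instance
  have : UniversallyClosed a₂ := by
    refine universallyClosed_of_finite_cover a₂ _ t fun x ↦ ?_
    obtain ⟨s, y, hy, hyx⟩ := hcov (pullback.fst a₁ (E.map ψ) x)
    obtain ⟨z, rfl⟩ := hι s ▸ hy
    obtain ⟨w, -, hw⟩ := Scheme.Pullback.exists_preimage_pullback
      (f := ι s ≫ pullback.fst f (g s)) (g := pullback.fst a₁ (E.map ψ)) z x
      (by simpa using hyx)
    exact ⟨s, w, hw⟩
  have hp : IsProper a₂ := {}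
  refine prop_snd_congr (E.map_comp ψ φ₀).symm ?_
  exact prop_snd_of_isPullback
    ((IsPullback.of_hasPullback a₁ (E.map ψ)).paste_horiz (IsPullback.of_hasPullback a (E.map φ₀))) hp

/-- EGA IV 8.10.5 (xii): properness descends to a stage of a limit. -/
theorem descends_isProper : Descends.{u} @LocallyOfFiniteType @IsProper @IsProper :=
  .of_affine descendsAffine_isProper

end Groth.Agent.H8Lim
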