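import Mathlib
import Groth.Agent.H8Lim.Topology

/-!
# Maximal points of a limit (EGA IV 8.4)
-/

set_option backward.isDefEq.respectTransparency.types false

universe u

open CategoryTheory Limits AlgebraicGeometry TopologicalSpace

namespace Groth.Agent.H8Lim

/-- A point without a proper generization. -/
def IsMaxPt {X : Type*} [TopologicalSpace X] (s : X) : Prop := ∀ z : X, z ⤳ s → z = s

theorem exists_isMaxPt_specializes {X : Scheme.{u}} (x : X) : ∃ η : X, IsMaxPt η ∧ η ⤳ x := by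
  obtain ⟨Z, hZ, hxZ⟩ : ∃ Z ∈ irreducibleComponents X, x ∈ Z :=
    ⟨_, irreducibleComponent_mem_irreducibleComponents x, mem_irreducibleComponent⟩
  have hZc : IsClosed Z := isClosed_of_mem_irreducibleComponents Z hZ
  obtain ⟨η, hη⟩ := QuasiSober.sober hZ.1 hZc
  refine ⟨η, fun z hz ↦ ?_, specializes_iff_mem_closure.mpr (hη.def.symm ▸ hxZ)⟩
  have h1 : Z ⊆ closure {z} := by rw [← hη.def]; exact specializes_iff_closure_subset.mp hz
  have h2 : closure {z} ⊆ Z := hZ.2 isIrreducible_singleton.closure h1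
  exact (hz.antisymm (specializes_iff_closure_subset.mpr (h2.trans hη.def.ge))).eq

theorem mem_of_dense_of_isMaxPt {X : Scheme.{u}} (hfin : {s : X | IsMaxPt s}.Finite) {V : Set X}
    (hV : IsOpen V) (hd : Dense V) {η : X} (hη : IsMaxPt η) : η ∈ V := by
  let T : Set X := ⋃ η' ∈ {s : X | IsMaxPt s} \ {η}, closure {η'}
  have hT : IsClosed T := hfin.sdiff.isClosed_biUnion fun _ _ ↦ isClosed_closure
  have hηT : η ∈ Tᶜ := by
    simp only [T, Set.mem_compl_iff, Set.mem_iUnion, not_exists]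
    rintro η' ⟨_, hne⟩ h
    exact hne (Set.mem_singleton_iff.mpr (hη η' (specializes_iff_mem_closure.mpr h)))
  obtain ⟨y, hyT, hyV⟩ := hd.inter_open_nonempty _ hT.isOpen_compl ⟨η, hηT⟩
  obtain ⟨η', hη', hy⟩ := exists_isMaxPt_specializes y
  have hη'T : η' ∈ Tᶜ := hy.mem_open hT.isOpen_compl hyT
  have : η' = η := by
    by_contra hne
    refine hη'T ?_
    simp only [T, Set.mem_iUnion]
    exact ⟨η', ⟨hη', hne⟩, subset_closure rfl⟩
  exact this ▸ hy.mem_open hV hyV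

theorem dense_of_forall_isMaxPt_mem {X : Scheme.{u}} {V : Set X}
    (h : ∀ η : X, IsMaxPt η → η ∈ V) : Dense V := by
  rw [dense_iff_inter_open]
  rintro U hU ⟨x, hx⟩
  obtain ⟨η, hη, hηx⟩ := exists_isMaxPt_specializes x
  exact ⟨η, hηx.mem_open hU hx, h η hη⟩

variable {I : Type u} [SmallCategory I] [IsCofiltered I] {D : I ⥤ Scheme.{u}} {c : Cone D}
  (hc : IsLimit c) [∀ {i j} (f : i ⟶ j), IsAffineHom (D.map f)]

include hc in
theorem specializes_of_forall_π {p q : c.pt} (h : ∀ i, c.π.app i p ⤳ c.π.app i q) : p ⤳ q := by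
  rw [specializes_iff_forall_open]
  intro U hU hq
  obtain ⟨i, V, -, hqV, hVU⟩ := exists_mem_preimage_subset hc hU hq
  exact hVU ((h i).mem_open V.2 hqV)

include hc in
/-- A system of nonempty finite sets of points has a point of the limit. -/
theorem exists_π_mem_of_finite (M : ∀ i, Set (D.obj i)) (hfin : ∀ i, (M i).Finite)
    (hne : ∀ i, (M i).Nonempty) (hmap : ∀ {i j} (g : i ⟶ j), ∀ x ∈ M i, D.map g x ∈ M j) :
    ∃ p : c.pt, ∀ i, c.π.app i p ∈ M i := by
  let F : I ⥤ Type u :=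
    { obj := fun i ↦ M i
      map := fun {i j} g ↦ TypeCat.ofHom fun x ↦ ⟨D.map g x.1, hmap g _ x.2⟩
      map_id := fun i ↦ by ext x; simp
      map_comp := fun g g' ↦ by ext x; simp }
  have : ∀ i, Finite (F.obj i) := fun i ↦ (hfin i).to_subtype
  have : ∀ i, Nonempty (F.obj i) := fun i ↦ (hne i).to_subtype
  obtain ⟨s, hs⟩ := nonempty_sections_of_finite_cofiltered_system F
  obtain ⟨p, hp⟩ := exists_of_compatible hc (fun i ↦ (s i).1)
    (fun g ↦ congr(Subtype.val $(hs g)))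
  exact ⟨p, fun i ↦ by rw [hp i]; exact (s i).2⟩

include hc in
theorem isMaxPt_iff_forall_π (hfin : ∀ i, {s : D.obj i | IsMaxPt s}.Finite)
    (hsys : ∀ {i j} (g : i ⟶ j) (s : D.obj i), IsMaxPt s → IsMaxPt (D.map g s)) (s : c.pt) :
    IsMaxPt s ↔ ∀ i, IsMaxPt (c.π.app i s) := by
  refine ⟨fun h i ↦ ?_, fun h z hz ↦ ext_of_forall_π hc fun i ↦ h i _ (hz.map (c.π.app i).continuous)⟩
  obtain ⟨p, hp⟩ := exists_π_mem_of_finite hc
    (fun i ↦ {η | IsMaxPt η ∧ η ⤳ c.π.app i s}) (fun i ↦ (hfin i).subset fun _ hx ↦ hx.1)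
    (fun i ↦ exists_isMaxPt_specializes _) (fun {i j} g x hx ↦ ⟨hsys g x hx.1, by
      rw [← π_app_apply (D := D) g s]; exact hx.2.map (D.map g).continuous⟩)
  have hps : p = s := h p (specializes_of_forall_π hc fun i ↦ (hp i).2)
  exact hps ▸ (hp i).1

include hc in
theorem dense_preimage_of_dense (hfin : ∀ i, {s : D.obj i | IsMaxPt s}.Finite)
    (hsys : ∀ {i j} (g : i ⟶ j) (s : D.obj i), IsMaxPt s → IsMaxPt (D.map g s)) {i₀ : I}
    {V : Set (D.obj i₀)} (hV : IsOpen V) (hd : Dense V) :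
    (∀ (i : I) (g : i ⟶ i₀), Dense (D.map g ⁻¹' V)) ∧ Dense (c.π.app i₀ ⁻¹' V) :=
  ⟨fun i g ↦ dense_of_forall_isMaxPt_mem fun η hη ↦
    mem_of_dense_of_isMaxPt (hfin i₀) hV hd (hsys g η hη),
  dense_of_forall_isMaxPt_mem fun η hη ↦ mem_of_dense_of_isMaxPt (hfin i₀) hV hd
    ((isMaxPt_iff_forall_π hc hfin hsys η).mp hη i₀)⟩

include hc in
theorem exists_dense_preimage (hfin : ∀ i, {s : D.obj i | IsMaxPt s}.Finite)
    (hsys : ∀ {i j} (g : i ⟶ j) (s : D.obj i), IsMaxPt s → IsMaxPt (D.map g s)) {i₀ : I}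
    {V : Set (D.obj i₀)} (hV : IsOpen V) (hd : Dense (c.π.app i₀ ⁻¹' V))
    (hfinS : {s : c.pt | IsMaxPt s}.Finite) :
    ∃ (i : I) (g : i ⟶ i₀), Dense (D.map g ⁻¹' V) := by
  by_contra! H
  have : ∀ {a b : Over i₀} (g : a ⟶ b), IsAffineHom ((Over.forget i₀ ⋙ D).map g) :=
    fun g ↦ inferInstanceAs (IsAffineHom (D.map g.left))
  let hc' := (Functor.Initial.isLimitWhiskerEquiv (Over.forget i₀) c).symm hc
  obtain ⟨p, hp⟩ := exists_π_mem_of_finite (D := Over.forget i₀ ⋙ D) hc'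
    (fun j ↦ {η : D.obj j.left | IsMaxPt η ∧ D.map j.hom η ∉ V})
    (fun j ↦ (hfin j.left).subset fun _ hx ↦ hx.1)
    (fun j ↦ by
      by_contra hne
      exact H j.left j.hom (dense_of_forall_isMaxPt_mem fun η hη ↦
        by_contra fun hηV ↦ hne ⟨η, hη, hηV⟩))
    (fun {j k} g x hx ↦ ⟨hsys g.left x hx.1, by
      change D.map k.hom (D.map g.left x) ∉ V
      rw [← Scheme.Hom.comp_apply, ← D.map_comp, Over.w g]
      exact hx.2⟩)
  have hmax : IsMaxPt p := (isMaxPt_iff_forall_π hc hfin hsys p).mpr fun i ↦ by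
    let k := IsCofiltered.min i i₀
    have := (hp (Over.mk (IsCofiltered.minToRight i i₀))).1
    have h2 := hsys (IsCofiltered.minToLeft i i₀) _ this
    change IsMaxPt (D.map (IsCofiltered.minToLeft i i₀) (c.π.app (IsCofiltered.min i i₀) p)) at h2
    rwa [π_app_apply (D := D) (IsCofiltered.minToLeft i i₀) p] at h2
  have h0 := (hp (Over.mk (𝟙 i₀))).2
  change D.map (𝟙 i₀) (c.π.app i₀ p) ∉ V at h0
  rw [π_app_apply (D := D) (𝟙 i₀) p] at h0
  exact h0 (mem_of_dense_of_isMaxPt hfinS (hV.preimage (c.π.app i₀).continuous) hd hmax)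

end Groth.Agent.H8Lim
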