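import Groth.Agent.H8Lim.ChowPnCore
import Groth.Agent.RelVALib.ChowOpen
import Groth.Agent.MorProj.VeryAmple
import Groth.Agent.PnEmb.SegreOver
import Groth.Agent.ProjLib.ProjSpace
import Groth.Agent.RelVALib.PnImm
import Groth.Agent.RelVALib.CoprodImm
import Groth.Prelude.Def_P1

/-!
# Chow's lemma over a quasi-compact quasi-separated base, with immersions into projective spaces
-/

set_option autoImplicit false
set_option backward.isDefEq.respectTransparency.types false
set_option maxHeartbeats 1000000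

universe u

open CategoryTheory CategoryTheory.Limits AlgebraicGeometry TopologicalSpace
open CohB1 (ProjSpaceOver)

namespace Groth.Agent.H8Lim.ChowPn

variable {S : Scheme.{u}}

theorem exists_affine_immersion_pn {V : Scheme.{u}} [IsAffine V] (v : V ⟶ S) [LocallyOfFiniteType v] :
    ∃ (n : ℕ) (i : V ⟶ ProjSpaceOver n S), IsImmersion i ∧ i ≫ ProjSpaceOver.toBase n S = v := by
  obtain ⟨n₀, h⟩ := MorProj.eventually_isRelVeryAmplePn_pow v
    (AmpleLib.isAmple_structureModule_iff.2 (inferInstance : V.IsQuasiAffine))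
  obtain ⟨n, i, hi, hv, -⟩ := h n₀ le_rfl
  exact ⟨n, i, hi, hv⟩

/-- Products of H-projective schemes are H-projective. -/
theorem isHProjective_prod {A B : Scheme.{u}} {a : A ⟶ S} {b : B ⟶ S} (ha : RelProj.IsHProjective a)
    (hb : RelProj.IsHProjective b) : RelProj.IsHProjective (pullback.fst a b ≫ a) := by
  obtain ⟨n, i, hi, hia⟩ := ha
  obtain ⟨m, j, hj, hjb⟩ := hb
  obtain ⟨r, Φ, hΦ, -, hΦ2, -⟩ := PnEmb.exists_segre_over S n m
  obtain ⟨e, he⟩ := PnEmb.exists_pullback_prod_iso (CohB1.ProjSpace.toSpec n (ULift.{u} ℤ))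
    (CohB1.ProjSpace.toSpec m (ULift.{u} ℤ)) (specULiftZIsTerminal.from S)
  let κ : pullback a b ⟶ pullback (ProjSpaceOver.toBase n S) (ProjSpaceOver.toBase m S) :=
    pullback.map a b _ _ i j (𝟙 S) (by rw [hia, Category.comp_id]) (by rw [hjb, Category.comp_id])
  have hκ : IsClosedImmersion κ :=
    MorphismProperty.pullback_map (P := @IsClosedImmersion) hi hj hia.symm hjb.symm
  let τ : pullback (ProjSpaceOver.toBase n S) (ProjSpaceOver.toBase m S) ⟶ ProjSpaceOver (n * m + n + m) S :=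
    e.hom ≫ Φ
  have hτ : IsClosedImmersion τ := inferInstanceAs (IsClosedImmersion (e.hom ≫ Φ))
  have hτ2 : τ ≫ ProjSpaceOver.toBase (n * m + n + m) S = pullback.fst _ _ ≫ ProjSpaceOver.toBase n S := by
    show (e.hom ≫ Φ) ≫ pullback.snd _ _ = _
    rw [Category.assoc, hΦ2]
    exact he
  refine ⟨n * m + n + m, κ ≫ τ, inferInstance, ?_⟩
  rw [Category.assoc, hτ2, ← Category.assoc]
  show (pullback.map a b _ _ i j (𝟙 S) _ _ ≫ _) ≫ _ = _
  rw [pullback.lift_fst, Category.assoc, hia]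

theorem isHProjective_id : RelProj.IsHProjective (𝟙 S) := by
  have : IsIso (CohB1.ProjSpace.toSpec 0 (ULift.{u} ℤ)) := ProjLib.isIso_toSpec_zero _
  have : IsIso (ProjSpaceOver.toBase 0 S) := inferInstanceAs (IsIso (pullback.snd _ _))
  exact ⟨0, inv (ProjSpaceOver.toBase 0 S), inferInstance, IsIso.inv_hom_id _⟩

theorem isHProjective_toBase (n : ℕ) : RelProj.IsHProjective (ProjSpaceOver.toBase n S) :=
  ⟨n, 𝟙 _, inferInstance, Category.id_comp _⟩

theorem isProper_of_isHProjective {Q : Scheme.{u}} {s : Q ⟶ S} (hs : RelProj.IsHProjective s) : IsProper s := by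
  obtain ⟨n, i, hi, his⟩ := hs
  have := RelVALib.isProper_toBase n S
  rw [← his]
  infer_instance

/-- Finite products of projective spaces. -/
theorem exists_hproj_prod {U : Scheme.{u}} (u₀ : U ⟶ S) : ∀ (k : ℕ) (N : Fin k → ℕ)
    (j : ∀ i, U ⟶ ProjSpaceOver (N i) S) (_ : ∀ i, j i ≫ ProjSpaceOver.toBase (N i) S = u₀),
    ∃ (Q : Scheme.{u}) (s : Q ⟶ S) (l : U ⟶ Q) (q : ∀ i, Q ⟶ ProjSpaceOver (N i) S),
      RelProj.IsHProjective s ∧ l ≫ s = u₀ ∧
        ∀ i, l ≫ q i = j i ∧ q i ≫ ProjSpaceOver.toBase (N i) S = s := by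
  intro k
  induction k with
  | zero => exact fun N j _ => ⟨S, 𝟙 S, u₀, fun i => i.elim0, isHProjective_id, Category.comp_id _, fun i => i.elim0⟩
  | succ k ih =>
    intro N j hj
    obtain ⟨Q, s, l, q, hs, hl, hq⟩ := ih (fun i => N i.castSucc) (fun i => j i.castSucc) (fun i => hj _)
    let t := ProjSpaceOver.toBase (N (Fin.last k)) S
    refine ⟨pullback s t, pullback.fst s t ≫ s, pullback.lift l (j (Fin.last k)) (hl.trans (hj _).symm),
      Fin.lastCases (pullback.snd s t) (fun i => pullback.fst s t ≫ q i),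
      isHProjective_prod hs (isHProjective_toBase _), by rw [pullback.lift_fst_assoc, hl], fun i => ?_⟩
    induction i using Fin.lastCases with
    | last =>
      simp only [Fin.lastCases_last]
      exact ⟨pullback.lift_snd _ _ _, pullback.condition.symm⟩
    | cast i =>
      simp only [Fin.lastCases_castSucc]
      exact ⟨by rw [pullback.lift_fst_assoc, (hq i).1], by rw [Category.assoc, (hq i).2]⟩

/-- The distinguished open `T_j ≠ 0` of the projective line over `S`. -/
noncomputable abbrev D (S : Scheme.{u}) (j : Fin (1 + 1)) : (ProjSpaceOver 1 S).Opens :=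
  pullback.fst (CohB1.ProjSpace.toSpec 1 (ULift.{u} ℤ)) (specULiftZIsTerminal.from S) ⁻¹ᵁ
    Proj.basicOpen P1.grading (P1.T j)

theorem point_mem_iff (i j : Fin (1 + 1)) (x : Spec (CommRingCat.of P1.R0.{u})) :
    P1.point.{u} i x ∈ Proj.basicOpen P1.grading (P1.T j) ↔ i = j := by
  show (Proj.awayι P1.grading (P1.T i) (P1.X_mem i) one_pos)
    (Spec.map (CommRingCat.ofHom (P1.evalAway i)) x) ∈ _ ↔ _
  constructor
  · intro h
    by_contra hne
    change Spec.map (CommRingCat.ofHom (P1.evalAway i)) x ∈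
      Proj.awayι P1.grading (P1.T i) (P1.X_mem i) one_pos ⁻¹ᵁ Proj.basicOpen P1.grading (P1.T j) at h
    rw [Proj.awayι_preimage_basicOpen (𝒜 := P1.grading) (P1.X_mem i) one_pos (P1.X_mem j) one_pos] at h
    refine h (?_ : P1.evalAway i _ ∈ x.asIdeal)
    convert zero_mem x.asIdeal
    simp only [P1.evalAway, RingHom.comp_apply, HomogeneousLocalization.algebraMap_apply,
      HomogeneousLocalization.Away.isLocalizationElem, HomogeneousLocalization.Away.val_mk]
    rw [Localization.mk_eq_mk', IsLocalization.Away.lift, IsLocalization.lift_mk'_spec]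
    simp [Pi.single_apply, Ne.symm hne]
  · rintro rfl
    rw [← Proj.opensRange_awayι P1.grading (P1.T i) (P1.X_mem i) one_pos]
    exact ⟨_, rfl⟩

theorem sect_mem_iff (i j : Fin (1 + 1)) (s : S) : P1.sect S i s ∈ D S j ↔ i = j := by
  show (pullback.fst (CohB1.ProjSpace.toSpec 1 (ULift.{u} ℤ)) (specULiftZIsTerminal.from S) :
    ProjSpaceOver 1 S ⟶ _) (P1.sect S i s) ∈ Proj.basicOpen P1.grading (P1.T j) ↔ _
  have e : P1.sect S i ≫ pullback.fst _ _ = specULiftZIsTerminal.from S ≫ P1.point i := pullback.lift_fst _ _ _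
  have e' := congrArg (fun m => m s) e
  exact (Iff.of_eq (congrArg (fun z => z ∈ Proj.basicOpen P1.grading (P1.T j)) e')).trans
    (point_mem_iff i j (specULiftZIsTerminal.from S s))

theorem exists_section (n : ℕ) (S : Scheme.{u}) :
    ∃ c : S ⟶ ProjSpaceOver n S, c ≫ ProjSpaceOver.toBase n S = 𝟙 S := by
  obtain ⟨c, hc⟩ := ProjLib.exists_section_toSpec n (ULift.{u} ℤ)
  exact ⟨pullback.lift (specULiftZIsTerminal.from S ≫ c) (𝟙 S) (specULiftZIsTerminal.hom_ext _ _),
    pullback.lift_snd _ _ _⟩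

theorem isImmersion_coprod_desc {A B Z : Scheme.{u}} (a : A ⟶ Z) (b : B ⟶ Z) [IsImmersion a] [IsImmersion b]
    (DA DB : Z.Opens) (hA : ∀ x, a x ∈ DA ∧ a x ∉ DB) (hB : ∀ y, b y ∈ DB ∧ b y ∉ DA) :
    IsImmersion (coprod.desc a b) := by
  let O : Z.Opens := (a.coborderRange ⊓ DA) ⊔ (b.coborderRange ⊓ DB)
  have ha : Set.range a ⊆ Set.range O.ι := by
    rw [Scheme.Opens.range_ι]
    rintro _ ⟨x, rfl⟩
    exact Or.inl ⟨subset_coborder ⟨x, rfl⟩, (hA x).1⟩
  have hb : Set.range b ⊆ Set.range O.ι := by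
    rw [Scheme.Opens.range_ι]
    rintro _ ⟨y, rfl⟩
    exact Or.inr ⟨subset_coborder ⟨y, rfl⟩, (hB y).1⟩
  let a₁ := IsOpenImmersion.lift O.ι a ha
  let b₁ := IsOpenImmersion.lift O.ι b hb
  have ha₁ : a₁ ≫ O.ι = a := IsOpenImmersion.lift_fac _ _ _
  have hb₁ : b₁ ≫ O.ι = b := IsOpenImmersion.lift_fac _ _ _
  have key : ∀ {C : Scheme.{u}} (c : C ⟶ Z) (c₁ : C ⟶ (O : Scheme.{u})) (_ : c₁ ≫ O.ι = c) [IsImmersion c],
      (∀ z ∈ O, z ∈ closure (Set.range c) → z ∈ c.coborderRange) → IsClosedImmersion c₁ := by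
    intro C c c₁ hc _ hz
    have : IsImmersion (c₁ ≫ O.ι) := by rw [hc]; infer_instance
    have : IsImmersion c₁ := IsImmersion.of_comp c₁ O.ι
    refine IsClosedImmersion.of_isPreimmersion c₁ ?_
    have : Set.range c₁ = O.ι ⁻¹' closure (Set.range c) := by
      refine Set.Subset.antisymm ?_ fun z hzc => ?_
      · rintro _ ⟨x, rfl⟩
        refine subset_closure ⟨x, ?_⟩
        rw [← Scheme.Hom.comp_apply, hc]
      · obtain ⟨x, hx⟩ : O.ι z ∈ Set.range c := by
          rw [← closure_inter_coborder (s := Set.range c)]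
          exact ⟨hzc, hz _ z.2 hzc⟩
        refine ⟨x, O.ι.isOpenEmbedding.injective ?_⟩
        rw [← Scheme.Hom.comp_apply, hc, hx]
    rw [this]
    exact isClosed_closure.preimage O.ι.continuous
  have h1 : IsClosedImmersion a₁ := key a a₁ ha₁ fun z hz hzc => by
    rcases hz with h | h
    · exact h.1
    · obtain ⟨-, h1, x, rfl⟩ := mem_closure_iff.1 hzc _ DB.isOpen h.2
      exact ((hA x).2 h1).elim
  have h2 : IsClosedImmersion b₁ := key b b₁ hb₁ fun z hz hzc => by
    rcases hz with h | h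
    · obtain ⟨-, h1, x, rfl⟩ := mem_closure_iff.1 hzc _ DA.isOpen h.2
      exact ((hB x).2 h1).elim
    · exact h.1
  have h3 : IsClosedImmersion (coprod.desc a₁ b₁) := by
    refine RelVALib.isClosedImmersion_coprod_desc a₁ b₁ (Set.disjoint_left.2 ?_)
    rintro _ ⟨x, rfl⟩ ⟨y, hy⟩
    have := congrArg O.ι hy
    rw [← Scheme.Hom.comp_apply, ← Scheme.Hom.comp_apply, ha₁, hb₁] at this
    exact (hB y).2 (this ▸ (hA x).1)
  have : coprod.desc a b = coprod.desc a₁ b₁ ≫ O.ι := by
    apply coprod.hom_ext <;> simp [ha₁, hb₁]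
  rw [this]
  infer_instance

theorem isCompact_inf {X : Scheme.{u}} [CompactSpace X] [QuasiSeparatedSpace X] {ι : Type*} (V : ι → X.Opens)
    (hV : ∀ i, IsAffineOpen (V i)) (t : Finset ι) : IsCompact ((t.inf V : X.Opens) : Set X) := by
  classical
  induction t using Finset.induction with
  | empty => simpa using isCompact_univ
  | insert a t ha ih =>
    rw [Finset.inf_insert, Opens.coe_inf]
    exact QuasiSeparatedSpace.inter_isCompact _ _ (V a).isOpen (hV a).isCompact (t.inf V).isOpen ih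

variable {X : Scheme.{u}} (f : X ⟶ S)

/-- The union of two modifications. -/
theorem exists_union [IsSeparated f] {A B : Scheme.{u}} (πA : A ⟶ X) (πB : B ⟶ X) [IsProper πA] [IsProper πB] {n m : ℕ}
    (iA : A ⟶ ProjSpaceOver n S) (iB : B ⟶ ProjSpaceOver m S) [IsImmersion iA] [IsImmersion iB]
    (hA : iA ≫ ProjSpaceOver.toBase n S = πA ≫ f) (hB : iB ≫ ProjSpaceOver.toBase m S = πB ≫ f) :
    ∃ (N : ℕ) (X' : Scheme.{u}) (π : X' ⟶ X) (j : X' ⟶ ProjSpaceOver N S),
      IsImmersion j ∧ j ≫ ProjSpaceOver.toBase N S = π ≫ f ∧ IsProper π ∧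
        Set.range πA ∪ Set.range πB ⊆ Set.range π := by
  obtain ⟨cn, hcn⟩ := exists_section n S
  obtain ⟨cm, hcm⟩ := exists_section m S
  let tn := ProjSpaceOver.toBase n S
  let tm := ProjSpaceOver.toBase m S
  let t1 := ProjSpaceOver.toBase 1 S
  let sQ : pullback tn tm ⟶ S := pullback.fst tn tm ≫ tn
  let s3 : pullback sQ t1 ⟶ S := pullback.fst sQ t1 ≫ sQ
  have hs3 : RelProj.IsHProjective s3 :=
    isHProjective_prod (isHProjective_prod (isHProjective_toBase n) (isHProjective_toBase m)) (isHProjective_toBase 1)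
  have := isProper_of_isHProjective hs3
  have hsect : ∀ i, P1.sect S i ≫ t1 = 𝟙 S := fun i => pullback.lift_snd _ _ _
  let α : A ⟶ pullback sQ t1 := pullback.lift (pullback.lift iA ((πA ≫ f) ≫ cm) (by simp [tn, tm, hA, hcm]))
    ((πA ≫ f) ≫ P1.sect S 0) (by
      show _ ≫ pullback.fst tn tm ≫ tn = _ ≫ t1
      rw [pullback.lift_fst_assoc, Category.assoc (πA ≫ f), hsect, Category.comp_id]
      exact hA)
  let β : B ⟶ pullback sQ t1 := pullback.lift (pullback.lift ((πB ≫ f) ≫ cn) iB (by simp [tn, tm, hB, hcn]))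
    ((πB ≫ f) ≫ P1.sect S 1) (by
      show _ ≫ pullback.fst tn tm ≫ tn = _ ≫ t1
      rw [pullback.lift_fst_assoc, Category.assoc (πB ≫ f), Category.assoc (πB ≫ f), hsect]
      exact congrArg ((πB ≫ f) ≫ ·) hcn)
  have hα3 : α ≫ s3 = πA ≫ f := by
    show α ≫ pullback.fst sQ t1 ≫ pullback.fst tn tm ≫ tn = _
    rw [pullback.lift_fst_assoc, pullback.lift_fst_assoc]
    exact hA
  have hβ3 : β ≫ s3 = πB ≫ f := by
    show β ≫ pullback.fst sQ t1 ≫ pullback.fst tn tm ≫ tn = _
    rw [pullback.lift_fst_assoc, pullback.lift_fst_assoc, Category.assoc (πB ≫ f)]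
    exact (congrArg ((πB ≫ f) ≫ ·) hcn).trans (Category.comp_id _)
  have hα : IsImmersion α := by
    have : IsImmersion (α ≫ pullback.fst sQ t1 ≫ pullback.fst tn tm) := by
      simp only [α, pullback.lift_fst_assoc, pullback.lift_fst]; infer_instance
    exact IsImmersion.of_comp α (pullback.fst sQ t1 ≫ pullback.fst tn tm)
  have hβ : IsImmersion β := by
    have : IsImmersion (β ≫ pullback.fst sQ t1 ≫ pullback.snd tn tm) := by
      simp only [β, pullback.lift_fst_assoc, pullback.lift_snd]; infer_instance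
    exact IsImmersion.of_comp β (pullback.fst sQ t1 ≫ pullback.snd tn tm)
  let D' : Fin (1 + 1) → (pullback sQ t1).Opens := fun j => pullback.snd sQ t1 ⁻¹ᵁ D S j
  have hαD : ∀ x, α x ∈ D' 0 ∧ α x ∉ D' 1 := fun x => by
    have e : pullback.snd sQ t1 (α x) = P1.sect S 0 (f (πA x)) := by
      rw [← Scheme.Hom.comp_apply, pullback.lift_snd]; rfl
    refine ⟨?_, fun h => absurd ((sect_mem_iff 0 1 (f (πA x))).1 ?_) (by decide)⟩
    · show pullback.snd sQ t1 (α x) ∈ D S 0
      rw [e]; exact (sect_mem_iff 0 0 _).2 rfl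
    · have h' : pullback.snd sQ t1 (α x) ∈ D S 1 := h
      rwa [e] at h'
  have hβD : ∀ x, β x ∈ D' 1 ∧ β x ∉ D' 0 := fun x => by
    have e : pullback.snd sQ t1 (β x) = P1.sect S 1 (f (πB x)) := by
      rw [← Scheme.Hom.comp_apply, pullback.lift_snd]; rfl
    refine ⟨?_, fun h => absurd ((sect_mem_iff 1 0 (f (πB x))).1 ?_) (by decide)⟩
    · show pullback.snd sQ t1 (β x) ∈ D S 1
      rw [e]; exact (sect_mem_iff 1 1 _).2 rfl
    · have h' : pullback.snd sQ t1 (β x) ∈ D S 0 := h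
      rwa [e] at h'
  have hj : IsImmersion (coprod.desc α β) := isImmersion_coprod_desc α β (D' 0) (D' 1) hαD hβD
  let GA : A ⟶ pullback f s3 := pullback.lift πA α hα3.symm
  let GB : B ⟶ pullback f s3 := pullback.lift πB β hβ3.symm
  have hG : ∀ {C : Scheme.{u}} (πC : C ⟶ X) [IsProper πC] (γ : C ⟶ pullback sQ t1) [IsImmersion γ]
      (h : πC ≫ f = γ ≫ s3), IsClosedImmersion (pullback.lift πC γ h) := by
    intro C πC _ γ _ h
    have : IsImmersion (pullback.lift πC γ h ≫ pullback.snd f s3) := by rw [pullback.lift_snd]; infer_instance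
    have : IsImmersion (pullback.lift πC γ h) := IsImmersion.of_comp _ (pullback.snd f s3)
    have : IsProper (pullback.lift πC γ h ≫ pullback.fst f s3) := by rw [pullback.lift_fst]; infer_instance
    have : IsProper (pullback.lift πC γ h) := IsProper.of_comp _ (pullback.fst f s3)
    exact IsClosedImmersion.of_isPreimmersion _ (pullback.lift πC γ h).isClosedMap.isClosed_range
  have := hG πA α hα3.symm
  have := hG πB β hβ3.symm
  have hGc : IsClosedImmersion (coprod.desc GA GB) := by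
    refine RelVALib.isClosedImmersion_coprod_desc GA GB (Set.disjoint_left.2 ?_)
    rintro _ ⟨x, rfl⟩ ⟨y, hy⟩
    have := congrArg (pullback.snd f s3) hy
    simp only [GA, GB, ← Scheme.Hom.comp_apply, pullback.lift_snd] at this
    exact (hαD x).2 (this ▸ (hβD y).1)
  have hπ : coprod.desc πA πB = coprod.desc GA GB ≫ pullback.fst f s3 := by
    apply coprod.hom_ext
    · rw [coprod.inl_desc, coprod.inl_desc_assoc]; exact (pullback.lift_fst _ _ _).symm
    · rw [coprod.inr_desc, coprod.inr_desc_assoc]; exact (pullback.lift_fst _ _ _).symm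
  obtain ⟨N, ι, hι, hιs⟩ := hs3
  refine ⟨N, A ⨿ B, coprod.desc πA πB, coprod.desc α β ≫ ι, inferInstance, ?_, ?_, ?_⟩
  · rw [Category.assoc, hιs]
    apply coprod.hom_ext <;> simp [hα3, hβ3]
  · rw [hπ]; infer_instance
  · rintro _ (⟨x, rfl⟩ | ⟨x, rfl⟩)
    · exact ⟨(coprod.inl : A ⟶ A ⨿ B) x, by rw [← Scheme.Hom.comp_apply, coprod.inl_desc]⟩
    · exact ⟨(coprod.inr : B ⟶ A ⨿ B) x, by rw [← Scheme.Hom.comp_apply, coprod.inr_desc]⟩

/-- Chow's construction for a finite affine cover and an open inside every member, over a qcqs base. -/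
theorem exists_chow_pn [CompactSpace S] [QuasiSeparatedSpace S] [IsSeparated f] [LocallyOfFiniteType f]
    [QuasiCompact f] {k : ℕ} (V : Fin k → X.Opens) (hV : ∀ i, IsAffineOpen (V i))
    (hcov : ∀ x : X, ∃ i, x ∈ V i) (U : X.Opens) (hUc : IsCompact (U : Set X)) (hUV : ∀ i, U ≤ V i) :
    ∃ (n : ℕ) (X' : Scheme.{u}) (π : X' ⟶ X) (j : X' ⟶ ProjSpaceOver n S),
      IsImmersion j ∧ j ≫ ProjSpaceOver.toBase n S = π ≫ f ∧ IsProper π ∧ IsIso (π ∣_ U) ∧
        Dense ((π ⁻¹ᵁ U : X'.Opens) : Set X') ∧ (U : Set X) ⊆ Set.range π := by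
  have hemb : ∀ i, ∃ (n : ℕ) (j : (V i : Scheme.{u}) ⟶ ProjSpaceOver n S),
      IsImmersion j ∧ j ≫ ProjSpaceOver.toBase n S = (V i).ι ≫ f := fun i => by
    have : IsAffine (V i : Scheme.{u}) := hV i
    exact exists_affine_immersion_pn ((V i).ι ≫ f)
  choose N j hj hjp using hemb
  obtain ⟨Q, s, l, q, hs, hl, hq⟩ := exists_hproj_prod (U.ι ≫ f) k N (fun i => X.homOfLE (hUV i) ≫ j i)
    fun i => by simp only [Category.assoc, hjp, Scheme.homOfLE_ι_assoc]
  have hsp := isProper_of_isHProjective hs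
  obtain ⟨X', π, ρ, hπ, hρ, hρs, hiso, hd, hr⟩ := exists_chow_into f V hcov U hUc hUV
    (fun i => ProjSpaceOver.toBase (N i) S) (fun i => (RelVALib.isProper_toBase (N i) S).toIsSeparated) j hj hjp
    s hsp l hl q hq
  obtain ⟨n, ι, hι, hιs⟩ := hs
  exact ⟨n, X', π, ρ ≫ ι, inferInstance, by rw [Category.assoc, hιs, hρs], hπ, hiso, hd, hr⟩

/-- Chow's lemma with a dense open. -/
theorem exists_chow_pn_dense [CompactSpace S] [QuasiSeparatedSpace S] [IsSeparated f] [LocallyOfFiniteType f]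
    [QuasiCompact f] (hirr : (irreducibleComponents (X : Type u)).Finite) :
    ∃ (n : ℕ) (X' : Scheme.{u}) (π : X' ⟶ X) (j : X' ⟶ ProjSpaceOver n S),
      IsImmersion j ∧ j ≫ ProjSpaceOver.toBase n S = π ≫ f ∧ IsProper π ∧ Surjective π ∧
        ∃ U : X.Opens, Dense (U : Set X) ∧ IsIso (π ∣_ U) := by
  have : CompactSpace X := QuasiCompact.compactSpace_of_compactSpace f
  obtain ⟨k, V, U, hV, hcov, hUc, hUV, hUd⟩ := RelVALib.exists_cover_dense_open hirr
  obtain ⟨n, X', π, j, hj, hjs, hπ, hiso, -, hr⟩ := exists_chow_pn f V hV hcov U hUc hUV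
  refine ⟨n, X', π, j, hj, hjs, hπ, ⟨?_⟩, U, hUd, hiso⟩
  rw [← Set.range_eq_univ, ← π.isClosedMap.isClosed_range.closure_eq, ← Set.univ_subset_iff, ← hUd.closure_eq]
  exact closure_mono hr

/-- Chow's lemma without dense open. -/
theorem exists_chow_pn_surjective [CompactSpace S] [QuasiSeparatedSpace S] [IsSeparated f] [LocallyOfFiniteType f]
    [QuasiCompact f] :
    ∃ (n : ℕ) (X' : Scheme.{u}) (π : X' ⟶ X) (j : X' ⟶ ProjSpaceOver n S),
      IsImmersion j ∧ j ≫ ProjSpaceOver.toBase n S = π ≫ f ∧ IsProper π ∧ Surjective π := by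
  classical
  have : CompactSpace X := QuasiCompact.compactSpace_of_compactSpace f
  have : QuasiSeparatedSpace X := quasiSeparatedSpace_of_quasiSeparated f
  obtain ⟨k, V, hV, hcov⟩ := RelVALib.exists_fin_affine_cover (X := X)
  let E : Finset (Fin k) → Set X := fun s => {x | ∀ i, x ∈ V i ↔ i ∈ s}
  have hpiece : ∀ s, ∃ (n : ℕ) (X' : Scheme.{u}) (π : X' ⟶ X) (j : X' ⟶ ProjSpaceOver n S),
      IsImmersion j ∧ j ≫ ProjSpaceOver.toBase n S = π ≫ f ∧ IsProper π ∧ E s ⊆ Set.range π := by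
    intro s
    let I := Scheme.IdealSheafData.vanishingIdeal (X := X) ⟨closure (E s), isClosed_closure⟩
    let ι : I.subscheme ⟶ X := I.subschemeι
    have hrange : Set.range ι = closure (E s) := by
      rw [Scheme.IdealSheafData.range_subschemeι]
      simp [I]
    have hout : ∀ z : I.subscheme, ∀ i, i ∉ s → ι z ∉ V i := fun z i hi hz => by
      obtain ⟨w, hw, hwE⟩ := mem_closure_iff.1 (hrange.subset ⟨z, rfl⟩) _ (V i).isOpen hz
      exact hi ((hwE i).1 hw)
    let W : Fin s.card → I.subscheme.Opens := fun l => ι ⁻¹ᵁ V (s.equivFin.symm l).1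
    let U : I.subscheme.Opens := Finset.univ.inf W
    have hUeq : (U : Set I.subscheme) = ι ⁻¹' E s := by
      ext z
      simp only [U, Opens.coe_finset_inf, Finset.inf_set_eq_iInter, Set.mem_iInter, Finset.mem_univ, true_implies,
        Set.mem_preimage]
      refine ⟨fun h i => ⟨fun hi => ?_, fun hi => ?_⟩, fun h l => (h _).2 (s.equivFin.symm l).2⟩
      · by_contra h'
        exact hout z i h' hi
      · simpa [W] using h (s.equivFin ⟨i, hi⟩)
    have hUc : IsCompact (U : Set I.subscheme) := by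
      have h0 : IsCompact ((s.inf V : X.Opens) : Set X) := isCompact_inf V hV s
      have h1 : (U : Set I.subscheme) = ι ⁻¹' ((s.inf V : X.Opens) : Set X) := by
        ext z
        simp only [U, Opens.coe_finset_inf, Finset.inf_set_eq_iInter, Set.mem_iInter, Finset.mem_univ, true_implies,
          Set.mem_preimage]
        exact ⟨fun h i hi => by simpa [W] using h (s.equivFin ⟨i, hi⟩), fun h l => h _ (s.equivFin.symm l).2⟩
      rw [h1]
      exact QuasiCompact.isCompact_preimage (f := ι) _ (s.inf V).isOpen h0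
    have hcov' : ∀ z : I.subscheme, ∃ l, z ∈ W l := fun z => by
      obtain ⟨i, hi⟩ := hcov (ι z)
      have his : i ∈ s := by by_contra h; exact hout z i h hi
      exact ⟨s.equivFin ⟨i, his⟩, by simpa [W] using hi⟩
    obtain ⟨n, X', π, j, hj, hjs, hπ, -, -, hr⟩ := exists_chow_pn (ι ≫ f) W
      (fun l => (hV _).preimage ι) hcov' U hUc fun l => Finset.inf_le (Finset.mem_univ l)
    refine ⟨n, X', π ≫ ι, j, hj, by rw [hjs, Category.assoc], inferInstance, fun x hx => ?_⟩
    obtain ⟨z, rfl⟩ := hrange.ge (subset_closure hx)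
    obtain ⟨y, hy⟩ := hr (hUeq.ge hx : z ∈ (U : Set I.subscheme))
    exact ⟨y, by rw [Scheme.Hom.comp_apply, hy]⟩
  have hall : ∀ T : Finset (Finset (Fin k)), ∃ (n : ℕ) (X' : Scheme.{u}) (π : X' ⟶ X) (j : X' ⟶ ProjSpaceOver n S),
      IsImmersion j ∧ j ≫ ProjSpaceOver.toBase n S = π ≫ f ∧ IsProper π ∧ ∀ s ∈ T, E s ⊆ Set.range π := by
    intro T
    induction T using Finset.induction with
    | empty =>
      exact ⟨0, ∅, Scheme.emptyTo X, Scheme.emptyTo _, inferInstance, Scheme.empty_ext _ _, inferInstance,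
        by simp⟩
    | insert s T hs ih =>
      obtain ⟨n, A, πA, iA, hiA, hA, hπA, hTA⟩ := ih
      obtain ⟨m, B, πB, iB, hiB, hB, hπB, hsB⟩ := hpiece s
      obtain ⟨N, X', π, j, hj, hjs, hπ, hsub⟩ := exists_union f πA πB iA iB hA hB
      refine ⟨N, X', π, j, hj, hjs, hπ, fun t ht => ?_⟩
      rcases Finset.mem_insert.1 ht with rfl | ht
      · exact hsB.trans (Set.subset_union_right.trans hsub)
      · exact (hTA t ht).trans (Set.subset_union_left.trans hsub)
  obtain ⟨n, X', π, j, hj, hjs, hπ, hall⟩ := hall Finset.univ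
  refine ⟨n, X', π, j, hj, hjs, hπ, ⟨fun x => ?_⟩⟩
  exact hall (Finset.univ.filter fun i => x ∈ V i) (Finset.mem_univ _) (fun i => by simp)

end Groth.Agent.H8Lim.ChowPn
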