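import Mathlib.AlgebraicGeometry.Morphisms.Finite
import Mathlib.AlgebraicGeometry.Morphisms.ClosedImmersion
import Mathlib.Algebra.Polynomial.Lifts
import Groth.Agent.H8Lim.Constructible

/-!
# Descent of properties of morphisms to a stage of a limit

EGA IV 8.10.5. The predicate `Descends Q R P` says: if `a : A₀ → D i` has property `Q` and its base
change to `lim D` has property `R`, then some stage `A₀ ×_{D i} D j → D j` has property `P`.
-/

set_option backward.isDefEq.respectTransparency.types false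

universe u

open CategoryTheory Limits AlgebraicGeometry

namespace Groth.Agent.H8Lim

/-- Descent of properties along limits with quasi-compact base stage. -/
def Descends (Q R P : MorphismProperty Scheme.{u}) : Prop :=
  ∀ ⦃J : Type u⦄ [SmallCategory J] [IsCofiltered J] (E : J ⥤ Scheme.{u}) (cE : Cone E)
    (_ : IsLimit cE) (_ : ∀ {i j : J} (φ : i ⟶ j), IsAffineHom (E.map φ))
    (i : J) [CompactSpace (E.obj i)] ⦃A₀ : Scheme.{u}⦄ (a : A₀ ⟶ E.obj i)
    [QuasiCompact a] [QuasiSeparated a], Q a →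
    ∀ ⦃A : Scheme.{u}⦄ (b : A ⟶ cE.pt) (p : A ⟶ A₀), IsPullback p b a (cE.π.app i) → R b →
      ∃ (j : J) (φ : j ⟶ i), P (pullback.snd a (E.map φ))

/-- Descent of properties along limits of affine schemes. -/
def DescendsAffine (Q R P : MorphismProperty Scheme.{u}) : Prop :=
  ∀ ⦃J : Type u⦄ [SmallCategory J] [IsCofiltered J] (E : J ⥤ Scheme.{u}) (cE : Cone E)
    (_ : IsLimit cE) (_ : ∀ {i j : J} (φ : i ⟶ j), IsAffineHom (E.map φ))
    (_ : ∀ j, IsAffine (E.obj j))
    (i : J) ⦃A₀ : Scheme.{u}⦄ (a : A₀ ⟶ E.obj i)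
    [QuasiCompact a] [QuasiSeparated a], Q a →
    ∀ ⦃A : Scheme.{u}⦄ (b : A ⟶ cE.pt) (p : A ⟶ A₀), IsPullback p b a (cE.π.app i) → R b →
      ∃ (j : J) (φ : j ⟶ i), P (pullback.snd a (E.map φ))

section PullbackProp

variable {P : MorphismProperty Scheme.{u}} [P.IsStableUnderBaseChange] {A₀ B T T' W : Scheme.{u}}
  {a : A₀ ⟶ B}

lemma prop_snd_of_isPullback {g : T ⟶ B} {x : W ⟶ A₀} {y : W ⟶ T} (h : IsPullback x y a g)
    (hy : P y) : P (pullback.snd a g) := by
  have hr := MorphismProperty.IsStableUnderBaseChange.respectsIso (P := P)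
  rw [← h.isoPullback_inv_snd]
  exact MorphismProperty.RespectsIso.precomp P _ _ hy

lemma prop_of_snd_of_isPullback {g : T ⟶ B} {x : W ⟶ A₀} {y : W ⟶ T} (h : IsPullback x y a g)
    (hy : P (pullback.snd a g)) : P y :=
  have := MorphismProperty.IsStableUnderBaseChange.respectsIso (P := P)
  h.isoPullback_hom_snd ▸ MorphismProperty.RespectsIso.precomp P _ _ hy

omit [P.IsStableUnderBaseChange] in
lemma prop_snd_congr {g g' : T ⟶ B} (e : g = g') (h : P (pullback.snd a g)) :
    P (pullback.snd a g') := by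
  subst e; exact h

lemma prop_snd_comp {g : T ⟶ B} (hg : P (pullback.snd a g)) (h : T' ⟶ T) :
    P (pullback.snd a (h ≫ g)) := by
  have hr := MorphismProperty.IsStableUnderBaseChange.respectsIso (P := P)
  rw [← pullbackLeftPullbackSndIso_inv_snd_snd]
  exact MorphismProperty.RespectsIso.precomp P _ _ (MorphismProperty.pullback_snd _ h hg)

lemma prop_snd_snd {g : T ⟶ B} {h : T' ⟶ T} (hg : P (pullback.snd a (h ≫ g))) :
    P (pullback.snd (pullback.snd a g) h) := by
  have hr := MorphismProperty.IsStableUnderBaseChange.respectsIso (P := P)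
  rw [← pullbackLeftPullbackSndIso_hom_snd]
  exact MorphismProperty.RespectsIso.precomp P _ _ hg

lemma prop_snd_map_comp {J : Type u} [SmallCategory J] {E : J ⥤ Scheme.{u}} {i j k : J}
    {a : A₀ ⟶ E.obj i} {φ : j ⟶ i} (hφ : P (pullback.snd a (E.map φ))) (ψ : k ⟶ j) :
    P (pullback.snd a (E.map (ψ ≫ φ))) := by
  rw [E.map_comp]
  exact prop_snd_comp hφ _

end PullbackProp

/-- Descent of a property local on the target reduces to the case of affine stages. -/
theorem Descends.of_affine {Q R P : MorphismProperty Scheme.{u}} [Q.IsStableUnderBaseChange]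
    [R.IsStableUnderBaseChange] [P.IsStableUnderBaseChange] [IsZariskiLocalAtTarget P]
    (H : DescendsAffine Q R P) : Descends Q R P := by
  intro J _ _ E cE hc haff i _ A₀ a _ _ hQ A b p sq hR
  let 𝒰 := (E.obj i).affineCover.finiteSubcover
  have hU : ∀ k, IsAffineOpen (𝒰.f k).opensRange := fun k ↦
    have : IsAffine (𝒰.X k) := inferInstanceAs (IsAffine (Spec _))
    isAffineOpen_opensRange _
  have key : ∀ k, ∃ (j : J) (φ : j ⟶ i),
      P (pullback.snd a ((E.map φ ⁻¹ᵁ (𝒰.f k).opensRange).ι ≫ E.map φ)) := by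
    intro k
    let U : (E.obj i).Opens := (𝒰.f k).opensRange
    let E' := opensDiagram E i U
    let W : cE.pt.Opens := cE.π.app i ⁻¹ᵁ U
    let U' : (E.obj i).Opens := E.map (Over.mk (𝟙 i)).hom ⁻¹ᵁ U
    let π' : (W : Scheme) ⟶ U' := (opensCone E cE i U).π.app (Over.mk (𝟙 i))
    have hπ' : π' ≫ U'.ι = W.ι ≫ cE.π.app i := Scheme.Hom.resLE_comp_ι _ _
    have hr := (isPullback_morphismRestrict a U').flip
    have hb := ((isPullback_morphismRestrict b W).flip).paste_horiz sq
    have hw : ((b ⁻¹ᵁ W).ι ≫ p) ≫ a = ((b ∣_ W) ≫ π') ≫ U'.ι := by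
      rw [Category.assoc, sq.w, Category.assoc, hπ', morphismRestrict_ι_assoc]
    have hsq : IsPullback (hr.lift _ _ hw) (b ∣_ W) (a ∣_ U') π' :=
      IsPullback.of_right (by rw [hr.lift_fst, hπ']; exact hb) (hr.lift_snd _ _ hw) hr
    have : QuasiCompact (a ∣_ U') := MorphismProperty.of_isPullback hr ‹QuasiCompact a›
    have : QuasiSeparated (a ∣_ U') := MorphismProperty.of_isPullback hr ‹QuasiSeparated a›
    obtain ⟨j, ψ, hψ⟩ := @H _ _ _ E' (opensCone E cE i U) (isLimitOpensCone E cE hc i U)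
      (fun f ↦ inferInstance) (fun j ↦ (hU k).preimage (E.map j.hom)) (Over.mk (𝟙 i)) _
      (a ∣_ U') (by assumption) (by assumption) (MorphismProperty.of_isPullback hr hQ) _
      (b ∣_ W) _ hsq
      (MorphismProperty.of_isPullback (isPullback_morphismRestrict b W).flip hR)
    refine ⟨j.left, j.hom, ?_⟩
    have hj := (IsPullback.of_hasPullback (a ∣_ U') (E'.map ψ)).paste_horiz hr
    have hψl : ψ.left = j.hom := by simpa using Over.w ψ
    have he : E'.map ψ ≫ U'.ι = (E.map j.hom ⁻¹ᵁ U).ι ≫ E.map ψ.left :=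
      Scheme.Hom.resLE_comp_ι _ _
    rw [hψl] at he
    exact prop_snd_of_isPullback (he ▸ hj) hψ
  choose j φ hj using key
  obtain ⟨l, g, gk, hg⟩ := IsCofiltered.wideCospan φ
  refine ⟨l, g, IsZariskiLocalAtTarget.of_iSup_eq_top (fun k ↦ E.map g ⁻¹ᵁ (𝒰.f k).opensRange)
    ?_ fun k ↦ ?_⟩
  · exact (𝒰.isOpenCover_opensRange.comap (E.map g).base.hom)
  · have hle : E.map g ⁻¹ᵁ (𝒰.f k).opensRange ≤
        E.map (gk k) ⁻¹ᵁ E.map (φ k) ⁻¹ᵁ (𝒰.f k).opensRange := by
      rw [← Scheme.Hom.comp_preimage, ← E.map_comp, hg k]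
    have h := prop_snd_comp (hj k) ((E.map (gk k)).resLE _ _ hle)
    rw [Scheme.Hom.resLE_comp_ι_assoc, ← E.map_comp, hg k] at h
    exact prop_of_snd_of_isPullback (isPullback_morphismRestrict _ _).flip (prop_snd_snd h)

section Affine

variable {J : Type u} [SmallCategory J] [IsCofiltered J] {E : J ⥤ Scheme.{u}}
  [∀ {i j : J} (φ : i ⟶ j), IsAffineHom (E.map φ)]

/-- Affineness descends over affine stages. -/
lemma descendsAffine_isAffineHom : DescendsAffine ⊤ @IsAffineHom @IsAffineHom := by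
  intro J _ _ E cE hc haff haffine i A₀ a _ _ _ A b p sq (hb : IsAffineHom b)
  have : CompactSpace A₀ := QuasiCompact.compactSpace_of_compactSpace a
  have : QuasiSeparatedSpace A₀ := quasiSeparatedSpace_of_quasiSeparated a
  have : IsAffine cE.pt := Scheme.isAffine_of_isLimit _ hc
  have hA : IsAffine A := isAffine_of_isAffineHom b
  have : IsAffine (stageCone a cE p b sq).pt := hA
  obtain ⟨j, hj⟩ := Scheme.exists_isAffine_of_isLimit _ _ (isLimitStageCone a p b sq hc)
  have : IsAffine (pullback a (E.map j.hom)) := hj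
  exact ⟨j.left, j.hom, isAffineHom_of_isAffine _⟩

section Rings

variable [∀ j, IsAffine (E.obj j)] {cE : Cone E} (hc : IsLimit cE) {i : J} {A₀ : Scheme.{u}}
  {a : A₀ ⟶ E.obj i} [IsAffine A₀] {A : Scheme.{u}} {b : A ⟶ cE.pt} {p : A ⟶ A₀}
  (sq : IsPullback p b a (cE.π.app i))

omit [∀ {i j : J} (φ : i ⟶ j), IsAffineHom (E.map φ)] in
include hc in
lemma exists_finite_lift {s : Set Γ(cE.pt, ⊤)} (hs : s.Finite) :
    ∃ (j : J) (_ : j ⟶ i), s ⊆ Set.range (cE.π.app j).appTop := by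
  induction s, hs using Set.Finite.induction_on with
  | empty => exact ⟨i, 𝟙 i, Set.empty_subset _⟩
  | @insert y s _ _ ih =>
    obtain ⟨j, φ, hj⟩ := ih
    obtain ⟨k, t, ht⟩ := exists_appTop_π_eq_of_isAffine_of_isLimit E cE hc y
    refine ⟨IsCofiltered.min j k, IsCofiltered.minToLeft j k ≫ φ, Set.insert_subset ?_ ?_⟩
    · refine ⟨(E.map (IsCofiltered.minToRight j k)).appTop t, ?_⟩
      rw [← CommRingCat.comp_apply, ← Scheme.Hom.comp_appTop, cE.w, ht]
    · rintro x hx
      obtain ⟨z, rfl⟩ := hj hx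
      exact ⟨(E.map (IsCofiltered.minToLeft j k)).appTop z, by
        rw [← CommRingCat.comp_apply, ← Scheme.Hom.comp_appTop, cE.w]⟩

omit [∀ j, IsAffine (E.obj j)] in
include hc sq in
/-- Equalities of functions on the limit hold at a stage. -/
lemma exists_eq_of_eq (j : Over i) (s₁ s₂ : Γ((stage E a).obj j, ⊤))
    (h : (stageProj a cE p b sq j).appTop s₁ = (stageProj a cE p b sq j).appTop s₂) :
    ∃ (k : Over i) (ψ : k ⟶ j), ((stage E a).map ψ).appTop s₁ = ((stage E a).map ψ).appTop s₂ :=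
  exists_app_map_eq_map_of_isLimit (stage E a) (stageCone a cE p b sq)
    (isLimitStageCone a p b sq hc) (U := ⊤) isCompact_univ s₁ s₂ h

omit [IsCofiltered J] [∀ {i j : J} (φ : i ⟶ j), IsAffineHom (E.map φ)] in
/-- A subring of functions on a stage containing those of the base and the images of generators
of `A₀` is everything. -/
lemma forall_of_generators {j : Over i}
    (T : Subring Γ((stage E a).obj j, ⊤)) (hsnd : ∀ y, (stageSnd E a j).appTop y ∈ T)
    (σ : Finset Γ(A₀, ⊤)) (hσ : letI := a.appTop.hom.toAlgebra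
      Algebra.adjoin Γ(E.obj i, ⊤) (σ : Set Γ(A₀, ⊤)) = ⊤)
    (h : ∀ x ∈ σ, (stageFst E a j).appTop x ∈ T) :
    T = ⊤ := by
  let := a.appTop.hom.toAlgebra
  let S : Subalgebra Γ(E.obj i, ⊤) Γ(A₀, ⊤) :=
    { (T.comap (stageFst E a j).appTop.hom).toSubsemiring with
      algebraMap_mem' := fun r ↦ by
        change (stageFst E a j).appTop (a.appTop r) ∈ T
        rw [← CommRingCat.comp_apply, ← Scheme.Hom.comp_appTop, (isPullback_stage E a j).w,
          Scheme.Hom.comp_appTop, CommRingCat.comp_apply]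
        exact hsnd _ }
  have hS : S = ⊤ := top_le_iff.mp (hσ ▸ Algebra.adjoin_le fun x hx ↦ h x hx)
  refine top_le_iff.mp ((CommRingCat.closure_range_union_range_eq_top_of_isPushout
    (isPushout_appTop_of_isPullback (isPullback_stage E a j))).symm.trans_le ?_)
  refine Subring.closure_le.mpr (Set.union_subset ?_ ?_)
  · rintro _ ⟨x, rfl⟩
    exact (hS.ge trivial : x ∈ S)
  · rintro _ ⟨y, rfl⟩
    exact hsnd y

include hc sq in
lemma exists_stage_fst_mem_range (x : Γ(A₀, ⊤)) (hb : p.appTop x ∈ Set.range b.appTop) :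
    ∃ j : Over i, ∀ (k : Over i) (_ : k ⟶ j),
      (stageFst E a k).appTop x ∈ (stageSnd E a k).appTop.hom.range := by
  obtain ⟨y, hy⟩ := hb
  obtain ⟨m, φ, hm⟩ := exists_finite_lift hc (Set.finite_singleton y)
  obtain ⟨t, rfl⟩ := hm rfl
  obtain ⟨j, ψ, hj⟩ := exists_eq_of_eq hc sq (Over.mk φ) ((stageFst E a (Over.mk φ)).appTop x)
    ((stageSnd E a (Over.mk φ)).appTop t) (by
      rw [← CommRingCat.comp_apply, ← Scheme.Hom.comp_appTop, ← CommRingCat.comp_apply,
        ← Scheme.Hom.comp_appTop, stageProj_fst, stageProj_snd, Scheme.Hom.comp_appTop,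
        CommRingCat.comp_apply]
      exact hy.symm)
  refine ⟨j, fun k χ ↦ ⟨(E.map (χ ≫ ψ).left).appTop t, ?_⟩⟩
  have := congr(((stage E a).map χ).appTop $hj)
  simp only [← CommRingCat.comp_apply, ← Scheme.Hom.comp_appTop,
    stageMap_fst, stageMap_snd, stageMap_snd_assoc, Over.comp_left, Functor.map_comp] at this ⊢
  exact this.symm

include hc sq in
lemma exists_stage_isIntegralElem (x : Γ(A₀, ⊤))
    (hb : b.appTop.hom.IsIntegralElem (p.appTop x)) :
    ∃ j : Over i, ∀ (k : Over i) (_ : k ⟶ j),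
      (stageSnd E a k).appTop.hom.IsIntegralElem ((stageFst E a k).appTop x) := by
  obtain ⟨q, hq, hqx⟩ := hb
  obtain ⟨m, φ, hm⟩ := exists_finite_lift hc (q.finite_range_coeff (R := _))
  obtain ⟨r, hr, -, hrm⟩ := Polynomial.lifts_and_natDegree_eq_and_monic
    (f := (cE.π.app m).appTop.hom) ((Polynomial.lifts_iff_coeff_lifts q).mpr fun n ↦ hm ⟨n, rfl⟩) hq
  let M : Over i := Over.mk φ
  obtain ⟨j, ψ, hj⟩ := exists_eq_of_eq hc sq M
    (r.eval₂ (stageSnd E a M).appTop.hom ((stageFst E a M).appTop x)) 0 (by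
      rw [map_zero]
      refine (Polynomial.hom_eval₂ r (stageSnd E a M).appTop.hom
        (stageProj a cE p b sq M).appTop.hom _).trans ?_
      have h1 : (stageProj a cE p b sq M).appTop.hom.comp (stageSnd E a M).appTop.hom =
          b.appTop.hom.comp (cE.π.app m).appTop.hom := by
        rw [← CommRingCat.hom_comp, ← Scheme.Hom.comp_appTop, stageProj_snd,
          Scheme.Hom.comp_appTop]
        rfl
      have h2 : (stageProj a cE p b sq M).appTop.hom ((stageFst E a M).appTop x) = p.appTop x := by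
        rw [← CommRingCat.comp_apply, ← Scheme.Hom.comp_appTop, stageProj_fst]
      rw [h1, h2, ← Polynomial.eval₂_map, hr]
      exact hqx)
  refine ⟨j, fun k χ ↦ ⟨r.map (E.map (χ ≫ ψ).left).appTop.hom, hrm.map _, ?_⟩⟩
  have h1 : (stageSnd E a k).appTop.hom.comp (E.map (χ ≫ ψ).left).appTop.hom =
      ((stage E a).map (χ ≫ ψ)).appTop.hom.comp (stageSnd E a M).appTop.hom := by
    simp only [← CommRingCat.hom_comp, ← Scheme.Hom.comp_appTop, stageMap_snd]
  have h2 : (stageFst E a k).appTop x =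
      ((stage E a).map (χ ≫ ψ)).appTop.hom ((stageFst E a M).appTop x) := by
    rw [← CommRingCat.comp_apply, ← Scheme.Hom.comp_appTop, stageMap_fst]
  rw [Polynomial.eval₂_map, h1, h2, ← Polynomial.hom_eval₂, (stage E a).map_comp,
    Scheme.Hom.comp_appTop, CommRingCat.hom_comp, RingHom.comp_apply, hj, map_zero, map_zero]

omit [∀ {i j : J} (φ : i ⟶ j), IsAffineHom (E.map φ)] [IsCofiltered J] in
lemma exists_generators [hft : LocallyOfFiniteType a] :
    letI := a.appTop.hom.toAlgebra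
    ∃ σ : Finset Γ(A₀, ⊤), Algebra.adjoin Γ(E.obj i, ⊤) (σ : Set Γ(A₀, ⊤)) = ⊤ :=
  letI := a.appTop.hom.toAlgebra
  ((HasRingHomProperty.appTop (P := @LocallyOfFiniteType) a hft :
    a.appTop.hom.FiniteType) : Algebra.FiniteType _ _).out

omit [∀ j, IsAffine (E.obj j)] [∀ {i j : J} (φ : i ⟶ j), IsAffineHom (E.map φ)] in
lemma exists_over_forall {ι : Type*} (σ : Finset ι) (P : ι → Over i → Prop)
    (h : ∀ x ∈ σ, ∃ j : Over i, ∀ k, (k ⟶ j) → P x k) :
    ∃ k : Over i, ∀ x ∈ σ, P x k := by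
  classical
  choose j hj using fun x : σ ↦ h x.1 x.2
  obtain ⟨k, hk⟩ := IsCofiltered.inf_objs_exists (Finset.univ.image j)
  exact ⟨k, fun x hx ↦ hj ⟨x, hx⟩ k (hk (Finset.mem_image_of_mem j (Finset.mem_univ _))).some⟩

include hc sq in
lemma exists_isClosedImmersion_of_isAffine [LocallyOfFiniteType a] [IsClosedImmersion b] :
    ∃ j : Over i, IsClosedImmersion (stageSnd E a j) := by
  have : IsAffine cE.pt := Scheme.isAffine_of_isLimit _ hc
  obtain ⟨σ, hσ⟩ := exists_generators (a := a)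
  have hsurj : Function.Surjective b.appTop :=
    ((HasAffineProperty.iff_of_isAffine (P := @IsClosedImmersion)).mp ‹_›).2
  obtain ⟨k, hk⟩ := exists_over_forall σ _
    fun x _ ↦ exists_stage_fst_mem_range hc sq x (hsurj (p.appTop x))
  have : IsAffine ((stage E a).obj k) := isAffine_of_isAffineHom (stageFst E a k)
  refine ⟨k, IsClosedImmersion.of_surjective_of_isAffine _ fun z ↦ ?_⟩
  exact (forall_of_generators (stageSnd E a k).appTop.hom.range (fun y ↦ ⟨y, rfl⟩) σ hσ hk).ge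
    (show z ∈ ⊤ from trivial)

include hc sq in
lemma exists_isFinite_of_isAffine [LocallyOfFiniteType a] [IsFinite b] :
    ∃ j : Over i, IsFinite (stageSnd E a j) := by
  have : IsAffine cE.pt := Scheme.isAffine_of_isLimit _ hc
  obtain ⟨σ, hσ⟩ := exists_generators (a := a)
  have hint : b.appTop.hom.IsIntegral :=
    ((HasAffineProperty.iff_of_isAffine (P := @IsFinite)).mp ‹_›).2.to_isIntegral
  obtain ⟨k, hk⟩ := exists_over_forall σ _
    fun x _ ↦ exists_stage_isIntegralElem hc sq x (hint (p.appTop x))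
  have : IsAffine ((stage E a).obj k) := isAffine_of_isAffineHom (stageFst E a k)
  refine ⟨k, (IsFinite.iff_isIntegralHom_and_locallyOfFiniteType _).mpr ⟨?_,
    MorphismProperty.of_isPullback (isPullback_stage E a k) ‹_›⟩⟩
  rw [HasAffineProperty.iff_of_isAffine (P := @IsIntegralHom)]
  refine ⟨inferInstance, ?_⟩
  let := (stageSnd E a k).appTop.hom.toAlgebra
  let T : Subring Γ((stage E a).obj k, ⊤) :=
    (integralClosure Γ(E.obj k.left, ⊤) Γ((stage E a).obj k, ⊤)).toSubring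
  have hT := forall_of_generators T
    (fun y ↦ (stageSnd E a k).appTop.hom.isIntegralElem_map) σ hσ hk
  exact fun z ↦ (hT.ge (show z ∈ ⊤ from trivial) : z ∈ T)

end Rings

end Affine

/-- EGA IV 8.10.5 (viii). -/
theorem descends_isAffineHom : Descends ⊤ @IsAffineHom @IsAffineHom :=
  .of_affine descendsAffine_isAffineHom

/-- Reduce to affine source. -/
lemma descendsAffine_of_isAffine {R P : MorphismProperty Scheme.{u}} {Q : MorphismProperty Scheme.{u}}
    [Q.IsStableUnderBaseChange] [P.IsStableUnderBaseChange] [R.IsStableUnderBaseChange]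
    (hR : R ≤ @IsAffineHom)
    (H : ∀ {J : Type u} [SmallCategory J] [IsCofiltered J] {E : J ⥤ Scheme.{u}}
      [∀ {i j : J} (φ : i ⟶ j), IsAffineHom (E.map φ)] [∀ j, IsAffine (E.obj j)]
      {cE : Cone E} (_ : IsLimit cE) {i : J} {A₀ : Scheme.{u}} {a : A₀ ⟶ E.obj i} [IsAffine A₀]
      {A : Scheme.{u}} {b : A ⟶ cE.pt} {p : A ⟶ A₀} (_ : IsPullback p b a (cE.π.app i)),
      Q a → R b → ∃ j : Over i, P (stageSnd E a j)) :
    DescendsAffine Q R P := by
  intro J _ _ E cE hc haff haffine i A₀ a _ _ hQ A b p sq hb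
  obtain ⟨j, φ, hj⟩ := descendsAffine_isAffineHom E cE hc haff haffine i a trivial b p sq (hR _ hb)
  have : IsAffine (pullback a (E.map φ)) := isAffine_of_isAffineHom (pullback.snd a (E.map φ))
  have sq' := IsPullback.of_hasPullback a (E.map φ)
  have hw : p ≫ a = (b ≫ cE.π.app j) ≫ E.map φ := by rw [Category.assoc, cE.w]; exact sq.w
  have hsq : IsPullback (sq'.lift p (b ≫ cE.π.app j) hw) b (pullback.snd a (E.map φ))
      (cE.π.app j) :=
    IsPullback.of_right (by rw [sq'.lift_fst, cE.w]; exact sq) (sq'.lift_snd _ _ hw) sq'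
  obtain ⟨k, hk⟩ := H hc hsq (MorphismProperty.of_isPullback sq' hQ) hb
  exact ⟨k.left, k.hom ≫ φ, prop_snd_of_isPullback
    (E.map_comp k.hom φ ▸ (isPullback_stage E _ k).paste_horiz sq') hk⟩

/-- EGA IV 8.10.5 (iv). -/
theorem descends_isClosedImmersion :
    Descends @LocallyOfFiniteType @IsClosedImmersion @IsClosedImmersion :=
  .of_affine <| descendsAffine_of_isAffine (fun _ _ _ (_ : IsClosedImmersion _) ↦ inferInstance)
    (by
      intro J _ _ E _ _ cE hc i A₀ a _ A b p sq (_ : LocallyOfFiniteType _)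
        (_ : IsClosedImmersion _)
      exact exists_isClosedImmersion_of_isAffine hc sq)

/-- EGA IV 8.10.5 (x). -/
theorem descends_isFinite : Descends @LocallyOfFiniteType @IsFinite @IsFinite :=
  .of_affine <| descendsAffine_of_isAffine (fun _ _ _ (_ : IsFinite _) ↦ inferInstance)
    (by
      intro J _ _ E _ _ cE hc i A₀ a _ A b p sq (_ : LocallyOfFiniteType _) (_ : IsFinite _)
      exact exists_isFinite_of_isAffine hc sq)

/-- The descent statement for a base change diagram `X → Y` over `lim D`. -/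
theorem Descends.exists_stage {Q R P : MorphismProperty Scheme.{u}} [Q.IsStableUnderBaseChange]
    (H : Descends Q R P) {I : Type u} [SmallCategory I] [IsCofiltered I] {D : I ⥤ Scheme.{u}}
    [∀ {i j : I} (f : i ⟶ j), IsAffineHom (D.map f)] {c : Cone D} (hc : IsLimit c) {i₀ : I}
    {X₀ Y₀ : Scheme.{u}} {f₀ : X₀ ⟶ Y₀} {g₀ : Y₀ ⟶ D.obj i₀} [CompactSpace Y₀]
    [QuasiCompact f₀] [QuasiSeparated f₀]
    {X Y : Scheme.{u}} {f : X ⟶ Y} {g : Y ⟶ c.pt} {qY : Y ⟶ Y₀} {qX : X ⟶ X₀}
    (hY : IsPullback qY g g₀ (c.π.app i₀)) (hX : IsPullback qX f f₀ qY) (hQ : Q f₀) (hR : R f) :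
    ∃ (i : I) (φ : i ⟶ i₀) (Xi Yi : Scheme.{u}) (fi : Xi ⟶ Yi) (gi : Yi ⟶ D.obj i) (pY : Yi ⟶ Y₀)
      (pX : Xi ⟶ X₀), IsPullback pY gi g₀ (D.map φ) ∧ IsPullback pX fi f₀ pY ∧ P fi := by
  have : QuasiCompact (toStage D g₀ f₀) :=
    MorphismProperty.of_isPullback (isPullback_toStage D g₀ f₀) ‹QuasiCompact f₀›
  have : QuasiSeparated (toStage D g₀ f₀) :=
    MorphismProperty.of_isPullback (isPullback_toStage D g₀ f₀) ‹QuasiSeparated f₀›
  obtain ⟨j, ψ, hψ⟩ := H (stage D g₀) (stageCone g₀ c qY g hY) (isLimitStageCone g₀ qY g hY hc)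
    (fun φ ↦ inferInstance) (Over.mk (𝟙 i₀)) (toStage D g₀ f₀)
    (MorphismProperty.of_isPullback (isPullback_toStage D g₀ f₀) hQ) f qX
    (isPullback_stageProj_toStage D g₀ f₀ hY hX) hR
  exact ⟨j.left, j.hom, _, _, _, _, _, _, isPullback_stage D g₀ j,
    isPullback_of_toStage D g₀ f₀ ψ, hψ⟩

/-- A property stable under base change passes from a stage to the limit. -/
theorem prop_of_stage {P : MorphismProperty Scheme.{u}} [P.IsStableUnderBaseChange] {I : Type u}
    [SmallCategory I] {D : I ⥤ Scheme.{u}} {c : Cone D} {i₀ j : I} {φ : j ⟶ i₀}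
    {X₀ Y₀ X Y Xj Yj : Scheme.{u}} {f₀ : X₀ ⟶ Y₀} {g₀ : Y₀ ⟶ D.obj i₀} {f : X ⟶ Y} {g : Y ⟶ c.pt}
    {qY : Y ⟶ Y₀} {qX : X ⟶ X₀} {fj : Xj ⟶ Yj} {gj : Yj ⟶ D.obj j} {pY : Yj ⟶ Y₀}
    {pX : Xj ⟶ X₀} (hY : IsPullback qY g g₀ (c.π.app i₀)) (hX : IsPullback qX f f₀ qY)
    (hYj : IsPullback pY gj g₀ (D.map φ)) (hXj : IsPullback pX fj f₀ pY) (h : P fj) : P f := by
  have hw : qY ≫ g₀ = (g ≫ c.π.app j) ≫ D.map φ := by rw [Category.assoc, c.w]; exact hY.w
  have hw' : qX ≫ f₀ = (f ≫ hYj.lift qY _ hw) ≫ pY := by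
    rw [Category.assoc, hYj.lift_fst]; exact hX.w
  exact MorphismProperty.of_isPullback
    (IsPullback.of_right (by rw [hXj.lift_fst, hYj.lift_fst]; exact hX) (hXj.lift_snd _ _ hw') hXj) h

end Groth.Agent.H8Lim
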