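import Mathlib.AlgebraicGeometry.Morphisms.Immersion
import Mathlib.AlgebraicGeometry.Morphisms.IsIso
import Mathlib.AlgebraicGeometry.Morphisms.FinitePresentation
import Groth.Agent.H8Lim.Descent

/-!
# Descent of (open) immersions, isomorphisms and separatedness to a stage of a limit

EGA IV 8.10.5.
-/

set_option backward.isDefEq.respectTransparency.types false

universe u

open CategoryTheory Limits AlgebraicGeometry

namespace Groth.Agent.H8Lim

section Squares

variable {A₀ B T A : Scheme.{u}} {a : A₀ ⟶ B} {g : T ⟶ B} {x : A ⟶ A₀} {s : A ⟶ T}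
  (h : IsPullback x s a g)

/-- The map `A ×_T A → A₀ ×_B A₀`. -/
noncomputable def squareMap : pullback s s ⟶ pullback a a :=
  pullback.lift (pullback.fst s s ≫ x) (pullback.snd s s ≫ x) (by
    rw [Category.assoc, Category.assoc, h.w, pullback.condition_assoc])

@[reassoc (attr := simp)]
lemma squareMap_fst : squareMap h ≫ pullback.fst a a = pullback.fst s s ≫ x :=
  pullback.lift_fst _ _ _

@[reassoc (attr := simp)]
lemma squareMap_snd : squareMap h ≫ pullback.snd a a = pullback.snd s s ≫ x :=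
  pullback.lift_snd _ _ _

lemma isPullback_squareMap :
    IsPullback (squareMap h) (pullback.fst s s ≫ s) (pullback.fst a a ≫ a) g := by
  have hw : squareMap h ≫ pullback.fst a a ≫ a = (pullback.fst s s ≫ s) ≫ g := by
    simp [h.w]
  refine ⟨⟨hw⟩, ⟨PullbackCone.IsLimit.mk _ (fun t ↦ pullback.lift
    (h.lift (t.fst ≫ pullback.fst a a) t.snd (by simpa using t.condition))
    (h.lift (t.fst ≫ pullback.snd a a) t.snd
      (by simpa [← pullback.condition] using t.condition)) (by simp)) ?_ ?_ ?_⟩⟩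
  · intro t
    apply pullback.hom_ext
    · simp only [Category.assoc, squareMap_fst, pullback.lift_fst_assoc, IsPullback.lift_fst]
    · simp only [Category.assoc, squareMap_snd, pullback.lift_snd_assoc, IsPullback.lift_fst]
  · intro t
    simp only [pullback.lift_fst_assoc, IsPullback.lift_snd]
  · intro t m h₁ h₂
    have h₃ : m ≫ pullback.snd s s ≫ s = t.snd := by rw [← pullback.condition]; exact h₂
    apply pullback.hom_ext <;> apply h.hom_ext <;>
      simp only [pullback.lift_fst, pullback.lift_snd, IsPullback.lift_fst, IsPullback.lift_snd,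
        Category.assoc]
    · rw [← h₁, Category.assoc, squareMap_fst]
    · exact h₂
    · rw [← h₁, Category.assoc, squareMap_snd]
    · exact h₃

lemma isPullback_diagonal :
    IsPullback x (pullback.diagonal s) (pullback.diagonal a) (squareMap h) := by
  have hw : x ≫ pullback.diagonal a = pullback.diagonal s ≫ squareMap h := by
    apply pullback.hom_ext <;> simp
  refine ⟨⟨hw⟩, ⟨PullbackCone.IsLimit.mk _ (fun t ↦ t.snd ≫ pullback.fst s s) ?_ ?_ ?_⟩⟩
  · intro t
    have := congr($(t.condition) ≫ pullback.fst a a)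
    simp only [Category.assoc, squareMap_fst, pullback.diagonal_fst, Category.comp_id] at this
    simp [this]
  · intro t
    have h₁ := congr($(t.condition) ≫ pullback.fst a a)
    have h₂ := congr($(t.condition) ≫ pullback.snd a a)
    simp only [Category.assoc, squareMap_fst, squareMap_snd, pullback.diagonal_fst,
      pullback.diagonal_snd, Category.comp_id] at h₁ h₂
    apply pullback.hom_ext
    · simp
    · apply h.hom_ext
      · simp [← h₁, h₂]
      · simp [pullback.condition]
  · intro t m h₁ h₂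
    simp [← h₂]

end Squares

section Opens

lemma prop_of_forall_mem {P : MorphismProperty Scheme.{u}} [P.IsStableUnderComposition]
    {X Y : Scheme.{u}} (f : X ⟶ Y) (V : Y.Opens) (hV : ∀ x, f x ∈ V) (hVι : P V.ι)
    (hiso : ∀ {X' X'' : Scheme.{u}} (e : X' ⟶ X'') [IsIso e], P e) (hf : P (f ∣_ V)) : P f := by
  have htop : f ⁻¹ᵁ V = ⊤ := top_le_iff.mp fun x _ ↦ hV x
  have : IsIso (f ⁻¹ᵁ V).ι := by rw [htop]; exact (Scheme.topIso X).isIso_hom
  have e : f = inv (f ⁻¹ᵁ V).ι ≫ (f ∣_ V) ≫ V.ι := by simp [morphismRestrict_ι]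
  rw [e]
  exact P.comp_mem _ _ (hiso _) (P.comp_mem _ _ hf hVι)

variable {J : Type u} [SmallCategory J] [IsCofiltered J] {E : J ⥤ Scheme.{u}} {cE : Cone E}
  (hc : IsLimit cE) [∀ {i j : J} (φ : i ⟶ j), IsAffineHom (E.map φ)] {i : J}
  [CompactSpace (E.obj i)] {A₀ : Scheme.{u}} (a : A₀ ⟶ E.obj i) [QuasiCompact a]
  [QuasiSeparated a] {A : Scheme.{u}} {b : A ⟶ cE.pt} {p : A ⟶ A₀}
  (sq : IsPullback p b a (cE.π.app i))

omit [QuasiSeparated a] in
include hc sq in
/-- If the base change maps into an open of a stage, so does some stage. -/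
lemma exists_stage_mem_of_forall_mem (j : Over i) (V : (E.obj j.left).Opens)
    (hV : ∀ x, cE.π.app j.left (b x) ∈ V) :
    ∃ (k : Over i) (ψ : k ⟶ j), ∀ x, E.map ψ.left (stageSnd E a k x) ∈ V := by
  have : CompactSpace A₀ := QuasiCompact.compactSpace_of_compactSpace a
  obtain ⟨k, ψ, hk⟩ := exists_map_eq_top (stage E a) (stageCone a cE p b sq)
    (isLimitStageCone a p b sq hc) (stageSnd E a j ⁻¹ᵁ V) (by
      refine top_le_iff.mp fun x _ ↦ ?_
      change stageSnd E a j (stageProj a cE p b sq j x) ∈ V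
      rw [← Scheme.Hom.comp_apply, stageProj_snd, Scheme.Hom.comp_apply]
      exact hV x)
  refine ⟨k, ψ, fun x ↦ ?_⟩
  have hx : (stage E a).map ψ x ∈ stageSnd E a j ⁻¹ᵁ V := hk.ge (show x ∈ ⊤ from trivial)
  rw [Scheme.Hom.mem_preimage, ← Scheme.Hom.comp_apply, stageMap_snd, Scheme.Hom.comp_apply] at hx
  exact hx

variable {Q R P : MorphismProperty Scheme.{u}} [Q.IsStableUnderBaseChange]
  [P.IsStableUnderBaseChange]

omit [CompactSpace (E.obj i)] in
include hc sq in
/-- Apply descent over a compact open of a stage. -/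
lemma Descends.exists_restrict (H : Descends Q R P) (hQ : Q a) (j : Over i)
    (V : (E.obj j.left).Opens) (hV : IsCompact (V : Set (E.obj j.left)))
    (hR : R (b ∣_ (cE.π.app j.left ⁻¹ᵁ V))) :
    ∃ (k : Over i) (ψ : k ⟶ j), P (pullback.snd a ((E.map ψ.left ⁻¹ᵁ V).ι ≫ E.map k.hom)) := by
  let E' := opensDiagram E j.left V
  let W : cE.pt.Opens := cE.π.app j.left ⁻¹ᵁ V
  let U' : (E.obj j.left).Opens := E.map (Over.mk (𝟙 j.left)).hom ⁻¹ᵁ V
  let π' : (W : Scheme) ⟶ U' := (opensCone E cE j.left V).π.app (Over.mk (𝟙 j.left))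
  have hπ' : π' ≫ U'.ι = W.ι ≫ cE.π.app j.left := Scheme.Hom.resLE_comp_ι _ _
  let a' : pullback a (U'.ι ≫ E.map j.hom) ⟶ U' := pullback.snd a (U'.ι ≫ E.map j.hom)
  have hr := IsPullback.of_hasPullback a (U'.ι ≫ E.map j.hom)
  have hb := ((isPullback_morphismRestrict b W).flip).paste_horiz sq
  have hw : ((b ⁻¹ᵁ W).ι ≫ p) ≫ a = ((b ∣_ W) ≫ π') ≫ U'.ι ≫ E.map j.hom := by
    rw [Category.assoc, sq.w, Category.assoc, reassoc_of% hπ', cE.w, morphismRestrict_ι_assoc]
  have hsq : IsPullback (hr.lift _ _ hw) (b ∣_ W) a' π' :=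
    IsPullback.of_right (by rw [hr.lift_fst, reassoc_of% hπ', cE.w]; exact hb)
      (hr.lift_snd _ _ hw) hr
  have : CompactSpace (E'.obj (Over.mk (𝟙 j.left))) :=
    isCompact_iff_compactSpace.mp (QuasiCompact.isCompact_preimage _ V.2 hV)
  obtain ⟨k, χ, hχ⟩ := @H _ _ _ E' (opensCone E cE j.left V) (isLimitOpensCone E cE hc j.left V)
    (fun f ↦ inferInstance) (Over.mk (𝟙 j.left)) this _ a'
    (MorphismProperty.pullback_snd _ _ ‹QuasiCompact a›)
    (MorphismProperty.pullback_snd _ _ ‹QuasiSeparated a›)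
    (MorphismProperty.pullback_snd _ _ hQ) _ (b ∣_ W) _ hsq hR
  refine ⟨Over.mk (k.hom ≫ j.hom), Over.homMk k.hom, ?_⟩
  have hj := (IsPullback.of_hasPullback a' (E'.map χ)).paste_horiz hr
  have hχl : χ.left = k.hom := by simpa using Over.w χ
  have he : E'.map χ ≫ U'.ι = (E.map k.hom ⁻¹ᵁ V).ι ≫ E.map χ.left :=
    Scheme.Hom.resLE_comp_ι _ _
  rw [hχl] at he
  have he' : E'.map χ ≫ U'.ι ≫ E.map j.hom =
      (E.map k.hom ⁻¹ᵁ V).ι ≫ E.map (k.hom ≫ j.hom) := by
    rw [reassoc_of% he, E.map_comp]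
    exact Category.assoc _ _ _
  exact prop_snd_of_isPullback (he' ▸ hj) hχ

include hc sq in
/-- If the base change lands in a compact open `V` of a stage and descent applies over `V`, then a
stage is a composite with an open immersion. -/
lemma Descends.exists_of_forall_mem (H : Descends Q R P) (hQ : Q a) (j : Over i)
    (V : (E.obj j.left).Opens) (hV : IsCompact (V : Set (E.obj j.left)))
    (hbV : ∀ x, cE.π.app j.left (b x) ∈ V) (hR : R (b ∣_ (cE.π.app j.left ⁻¹ᵁ V)))
    {P' : MorphismProperty Scheme.{u}} [P'.IsStableUnderComposition] (hP : P ≤ P')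
    (hι : ∀ {X Y : Scheme.{u}} (f : X ⟶ Y) [IsOpenImmersion f], P' f) :
    ∃ (k : J) (φ : k ⟶ i), P' (pullback.snd a (E.map φ)) := by
  obtain ⟨k₁, ψ₁, hk₁⟩ := exists_stage_mem_of_forall_mem hc a sq j V hbV
  obtain ⟨k₂, ψ₂, hk₂⟩ := H.exists_restrict hc a sq hQ j V hV hR
  obtain ⟨l, g₁, g₂, hg⟩ := IsCofiltered.cospan ψ₁ ψ₂
  refine ⟨l.left, l.hom, prop_of_forall_mem _ (E.map (g₁ ≫ ψ₁).left ⁻¹ᵁ V) (fun x ↦ ?_) (hι _)
    (fun e _ ↦ hι e) (hP _ ?_)⟩
  · rw [Scheme.Hom.mem_preimage, Over.comp_left, E.map_comp, Scheme.Hom.comp_apply]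
    have := hk₁ ((stage E a).map g₁ x)
    rw [← Scheme.Hom.comp_apply _ (stageSnd E a k₁), stageMap_snd, Scheme.Hom.comp_apply] at this
    exact this
  · have hle : E.map (g₁ ≫ ψ₁).left ⁻¹ᵁ V ≤ E.map g₂.left ⁻¹ᵁ E.map ψ₂.left ⁻¹ᵁ V := by
      rw [← Scheme.Hom.comp_preimage, ← E.map_comp, ← Over.comp_left, hg]
    have h := prop_snd_comp hk₂ ((E.map g₂.left).resLE _ _ hle)
    rw [Scheme.Hom.resLE_comp_ι_assoc, ← E.map_comp, Over.w g₂] at h
    exact prop_of_snd_of_isPullback (isPullback_morphismRestrict _ _).flip (prop_snd_snd h)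

end Opens

instance : IsZariskiLocalAtTarget (MorphismProperty.isomorphisms Scheme.{u}) := by
  rw [isomorphisms_eq_isOpenImmersion_inf_surjective]
  infer_instance

/-- Isomorphisms descend over affine stages. -/
lemma descendsAffine_isIso : DescendsAffine @LocallyOfFinitePresentation
    (MorphismProperty.isomorphisms Scheme.{u}) (MorphismProperty.isomorphisms Scheme.{u}) := by
  intro J _ _ E cE hc haff haffine i A₀ a _ _ (hQ : LocallyOfFinitePresentation a) A b p sq
    (hb : IsIso b)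
  have : CompactSpace A₀ := QuasiCompact.compactSpace_of_compactSpace a
  let t : Over.forget i ⋙ E ⟶ (Functor.const (Over i)).obj (E.obj i) :=
    { app := fun j ↦ E.map j.hom
      naturality := fun j k f ↦ by
        dsimp
        rw [← E.map_comp, Over.w f, Category.comp_id] }
  have : ∀ {j l : Over i} (f : j ⟶ l), IsAffineHom ((Over.forget i ⋙ E).map f) :=
    fun f ↦ haff f.left
  have : ∀ j : Over i, CompactSpace ((Over.forget i ⋙ E).obj j) :=
    fun j ↦ inferInstanceAs (CompactSpace (E.obj j.left))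
  have : ∀ j : Over i, QuasiSeparatedSpace ((Over.forget i ⋙ E).obj j) :=
    fun j ↦ inferInstanceAs (QuasiSeparatedSpace (E.obj j.left))
  obtain ⟨k, g, hg₁, hg₂⟩ : ∃ (k : Over i) (g : E.obj k.left ⟶ A₀),
      cE.π.app k.left ≫ g = inv b ≫ p ∧ g ≫ a = E.map k.hom :=
    Scheme.exists_π_app_comp_eq_of_locallyOfFinitePresentation
    (Over.forget i ⋙ E) t a _ ((Functor.Initial.isLimitWhiskerEquiv (Over.forget i) cE).symm hc)
    (inv b ≫ p) (by
      ext j
      change cE.π.app j.left ≫ E.map j.hom = (inv b ≫ p) ≫ a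
      rw [cE.w, Category.assoc, sq.w, IsIso.inv_hom_id_assoc])
  let s : stage E a ⟶ (Functor.const (Over i)).obj (E.obj i) :=
    { app := fun j ↦ stageFst E a j ≫ a
      naturality := fun j l f ↦ by simp }
  obtain ⟨l, ψ, hl⟩ := Scheme.exists_hom_comp_eq_comp_of_locallyOfFiniteType (stage E a) s a
    (stageCone a cE p b sq) (isLimitStageCone a p b sq hc) (i := k) (stageFst E a k)
    (stageSnd E a k ≫ g) rfl
    (by change stageFst E a k ≫ a = _
        rw [Category.assoc, hg₂]; exact (isPullback_stage E a k).w)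
    (by change stageProj a cE p b sq k ≫ _ = stageProj a cE p b sq k ≫ _
        rw [stageProj_fst, stageProj_snd_assoc, hg₁, IsIso.hom_inv_id_assoc])
  rw [stageMap_fst, stageMap_snd_assoc] at hl
  have hgl : (E.map ψ.left ≫ g) ≫ a = 𝟙 _ ≫ E.map l.hom := by
    rw [Category.assoc, hg₂, ← E.map_comp, Over.w ψ, Category.id_comp]
  refine ⟨l.left, l.hom, ?_⟩
  change IsIso (stageSnd E a l)
  refine ⟨⟨(isPullback_stage E a l).lift _ _ hgl, ?_, ?_⟩⟩
  · apply (isPullback_stage E a l).hom_ext
    · rw [Category.assoc, IsPullback.lift_fst]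
      exact hl.symm.trans (Category.id_comp _).symm
    · rw [Category.assoc, IsPullback.lift_snd]
      exact (Category.comp_id _).trans (Category.id_comp _).symm
  · exact (isPullback_stage E a l).lift_snd _ _ hgl

/-- EGA IV 8.10.5 (i). -/
theorem descends_isIso : Descends @LocallyOfFinitePresentation
    (MorphismProperty.isomorphisms Scheme.{u}) (MorphismProperty.isomorphisms Scheme.{u}) :=
  .of_affine descendsAffine_isIso

/-- EGA IV 8.10.5 (ii). -/
theorem descends_isOpenImmersion :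
    Descends @LocallyOfFinitePresentation @IsOpenImmersion @IsOpenImmersion := by
  intro J _ _ E cE hc haff i _ A₀ a _ _ hQ A b p sq (hb : IsOpenImmersion b)
  have : QuasiCompact b := MorphismProperty.of_isPullback sq ‹QuasiCompact a›
  have := compactSpace_pt hc (i := i)
  have : CompactSpace A := QuasiCompact.compactSpace_of_compactSpace b
  obtain ⟨j, φ, V, hVc, hV⟩ := exists_opens_eq_over hc i b.opensRange
    (isCompact_range b.continuous)
  refine descends_isIso.exists_of_forall_mem hc a sq hQ (Over.mk φ) V hVc (fun x ↦ ?_) ?_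
    (fun _ _ f (_ : IsIso f) ↦ inferInstance) (fun f _ ↦ ‹_›)
  · have : b x ∈ cE.π.app j ⁻¹ᵁ V := hV.ge ⟨x, rfl⟩
    exact this
  · change IsIso (b ∣_ (cE.π.app j ⁻¹ᵁ V))
    have : Surjective (b ∣_ (cE.π.app j ⁻¹ᵁ V)) := ⟨fun ⟨y, hy⟩ ↦ by
      obtain ⟨x, rfl⟩ := hV.le hy
      exact ⟨⟨x, hy⟩, Subtype.ext (by simp)⟩⟩
    exact (isIso_iff_isOpenImmersion_and_surjective _).mpr ⟨inferInstance, this⟩

/-- EGA IV 8.10.5 (iii). -/
theorem descends_isImmersion :
    Descends @LocallyOfFiniteType @IsImmersion @IsImmersion := by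
  intro J _ _ E cE hc haff i _ A₀ a _ _ hQ A b p sq (hb : IsImmersion b)
  have : QuasiCompact b := MorphismProperty.of_isPullback sq ‹QuasiCompact a›
  have := compactSpace_pt hc (i := i)
  have : CompactSpace A := QuasiCompact.compactSpace_of_compactSpace b
  obtain ⟨W, hWc, hWo, hbW, hWC⟩ := PrespectralSpace.exists_isCompact_and_isOpen_between
    (isCompact_range b.continuous) b.coborderRange.2 subset_coborder
  obtain ⟨j, φ, V, hVc, hV⟩ := exists_opens_eq_over hc i ⟨W, hWo⟩ hWc
  refine descends_isClosedImmersion.exists_of_forall_mem hc a sq hQ (Over.mk φ) V hVc (fun x ↦ ?_)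
    ?_ (fun _ _ f (_ : IsClosedImmersion f) ↦ inferInstance) (fun f _ ↦ inferInstance)
  · have : b x ∈ cE.π.app j ⁻¹ᵁ V := hV.ge (hbW ⟨x, rfl⟩)
    exact this
  · change IsClosedImmersion (b ∣_ (cE.π.app j ⁻¹ᵁ V))
    refine .of_isPreimmersion _ ?_
    have : Set.range (b ∣_ (cE.π.app j ⁻¹ᵁ V)) = Subtype.val ⁻¹' closure (Set.range b) := by
      ext ⟨y, hy⟩
      constructor
      · rintro ⟨x, hx⟩
        exact subset_closure ⟨x.1, by simpa using congr($(hx).1)⟩
      · intro hy'
        have hy'' : y ∈ coborder (Set.range b) ∩ closure (Set.range b) :=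
          ⟨hWC (hV.le hy), hy'⟩
        rw [coborder_inter_closure] at hy''
        obtain ⟨x, rfl⟩ := hy''
        exact ⟨⟨x, hy⟩, Subtype.ext (by simp)⟩
    rw [this]
    exact isClosed_closure.preimage continuous_subtype_val

/-- EGA IV 8.10.5 (v). -/
theorem descends_isSeparated : Descends ⊤ @IsSeparated @IsSeparated := by
  intro J _ _ E cE hc haff i _ A₀ a _ _ _ A b p sq (hb : IsSeparated b)
  have : CompactSpace A₀ := QuasiCompact.compactSpace_of_compactSpace a
  have : CompactSpace ↥(pullback a a) := inferInstance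
  obtain ⟨j, φ, Xj, Yj, fj, gj, pY, pX, hY, hX, hfj⟩ :=
    descends_isClosedImmersion.exists_stage hc (f₀ := pullback.diagonal a)
      (g₀ := pullback.fst a a ≫ a) (isPullback_squareMap sq) (isPullback_diagonal sq)
      (inferInstance : LocallyOfFiniteType (pullback.diagonal a)) hb.isClosedImmersion_diagonal
  refine ⟨j, φ, ⟨?_⟩⟩
  have sq' := IsPullback.of_hasPullback a (E.map φ)
  have h₁ := isPullback_squareMap sq'
  let M := hY.lift (squareMap sq') _ h₁.w
  have hw : pullback.fst a (E.map φ) ≫ pullback.diagonal a =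
      (pullback.diagonal (pullback.snd a (E.map φ)) ≫ M) ≫ pY := by
    rw [Category.assoc, hY.lift_fst, (isPullback_diagonal sq').w]
  have h₂ : IsPullback (hX.lift _ _ hw) (pullback.diagonal (pullback.snd a (E.map φ))) fj M :=
    IsPullback.of_right (by rw [hX.lift_fst, hY.lift_fst]; exact isPullback_diagonal sq')
      (hX.lift_snd _ _ hw) hX
  exact MorphismProperty.of_isPullback h₂ hfj

end Groth.Agent.H8Lim
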