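import Mathlib.AlgebraicGeometry.Morphisms.FormallyUnramified
import Groth.Agent.H8Lim.DescentMore

/-!
# The diagonal of a morphism locally of finite type; descent of unramifiedness
-/

set_option backward.isDefEq.respectTransparency.types false

universe u

open CategoryTheory Limits AlgebraicGeometry TensorProduct

namespace Groth.Agent.H8Lim

/-- EGA IV 1.4.3.1: the diagonal of a morphism locally of finite type is locally of finite presentation. -/
theorem locallyOfFinitePresentation_diagonal {Y Z : Scheme.{u}} (g : Y ⟶ Z)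
    [LocallyOfFiniteType g] : LocallyOfFinitePresentation (pullback.diagonal g) := by
  have : MorphismProperty.RespectsRight @LocallyOfFinitePresentation @IsOpenImmersion :=
    ⟨fun i (hi : IsOpenImmersion i) f hf ↦ MorphismProperty.comp_mem _ _ _ hf inferInstance⟩
  wlog hX : (∃ S, Y = Spec S) ∧ ∃ R, Z = Spec R generalizing Y Z
  · let 𝒰Y := Z.affineCover
    let 𝒰X (j : (Z.affineCover.pullback₁ g).I₀) :
        ((Z.affineCover.pullback₁ g).X j).OpenCover := Scheme.affineCover _
    apply IsZariskiLocalAtTarget.of_range_subset_iSup _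
      (Scheme.Pullback.range_diagonal_subset_diagonalCoverDiagonalRange g 𝒰Y 𝒰X)
    intro ⟨i, j⟩
    rw [MorphismProperty.arrow_mk_iso_iff (P := @LocallyOfFinitePresentation)
      (Scheme.Pullback.diagonalRestrictIsoDiagonal g 𝒰Y 𝒰X i j)]
    have hfin : LocallyOfFiniteType ((𝒰X i).f j ≫ pullback.snd g (𝒰Y.f i)) :=
      MorphismProperty.comp_mem _ _ _ inferInstance (MorphismProperty.pullback_snd _ _ inferInstance)
    exact this _ ⟨⟨_, rfl⟩, ⟨_, rfl⟩⟩
  obtain ⟨⟨S, rfl⟩, R, rfl⟩ := hX
  obtain ⟨g, rfl⟩ := Spec.map_surjective g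
  have hg : LocallyOfFiniteType (Spec.map g) := inferInstance
  rw [HasRingHomProperty.Spec_iff (P := @LocallyOfFiniteType)] at hg
  algebraize [g.hom]
  rw [show g = CommRingCat.ofHom (algebraMap R S) from rfl, diagonal_SpecMap R S,
    MorphismProperty.cancel_right_of_respectsIso (P := @LocallyOfFinitePresentation),
    HasRingHomProperty.Spec_iff (P := @LocallyOfFinitePresentation)]
  exact RingHom.FinitePresentation.of_surjective _
    (fun x ↦ ⟨x ⊗ₜ 1, by simp⟩) (KaehlerDifferential.ideal_fg R S)

/-- EGA IV 17.7.8 for unramified morphisms. -/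
theorem descends_formallyUnramified :
    Descends @LocallyOfFiniteType @FormallyUnramified @FormallyUnramified := by
  intro J _ _ E cE hc haff i _ A₀ a _ _ (hQ : LocallyOfFiniteType a) A b p sq (hb : FormallyUnramified b)
  have : CompactSpace A₀ := QuasiCompact.compactSpace_of_compactSpace a
  have : CompactSpace ↥(pullback a a) := inferInstance
  have : LocallyOfFiniteType b := MorphismProperty.of_isPullback sq ‹LocallyOfFiniteType a›
  obtain ⟨j, φ, Xj, Yj, fj, gj, pY, pX, hY, hX, hfj⟩ :=
    descends_isOpenImmersion.exists_stage hc (f₀ := pullback.diagonal a)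
      (g₀ := pullback.fst a a ≫ a) (isPullback_squareMap sq) (isPullback_diagonal sq)
      (locallyOfFinitePresentation_diagonal a) (inferInstanceAs (IsOpenImmersion (pullback.diagonal b)))
  refine ⟨j, φ, ?_⟩
  have sq' := IsPullback.of_hasPullback a (E.map φ)
  have h₁ := isPullback_squareMap sq'
  let M := hY.lift (squareMap sq') _ h₁.w
  have hw : pullback.fst a (E.map φ) ≫ pullback.diagonal a =
      (pullback.diagonal (pullback.snd a (E.map φ)) ≫ M) ≫ pY := by
    rw [Category.assoc, hY.lift_fst, (isPullback_diagonal sq').w]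
  have h₂ : IsPullback (hX.lift _ _ hw) (pullback.diagonal (pullback.snd a (E.map φ))) fj M :=
    IsPullback.of_right (by rw [hX.lift_fst, hY.lift_fst]; exact isPullback_diagonal sq')
      (hX.lift_snd _ _ hw) hX
  have : IsOpenImmersion (pullback.diagonal (pullback.snd a (E.map φ))) :=
    MorphismProperty.of_isPullback h₂ hfj
  infer_instance

end Groth.Agent.H8Lim
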