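import Groth.Agent.H8Lim.BaseChange
import Mathlib.AlgebraicGeometry.AffineTransitionLimit

/-!
# Morphisms between base changes descend to a stage (EGA IV 8.8.2 (i))
-/

set_option autoImplicit false
set_option backward.isDefEq.respectTransparency.types false

universe u

open CategoryTheory Limits AlgebraicGeometry

namespace Groth.Agent.H8Lim

variable {I : Type u} [SmallCategory I] [IsCofiltered I] {D : I ⥤ Scheme.{u}} {c : Cone D}
  [∀ {i j : I} (f : i ⟶ j), IsAffineHom (D.map f)] (hc : IsLimit c) {i : I}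
  {Xi Yi X : Scheme.{u}} {xi : Xi ⟶ D.obj i} {yi : Yi ⟶ D.obj i} {qX : X ⟶ Xi} {pX : X ⟶ c.pt}
  (hX : IsPullback qX pX xi (c.π.app i))

/-- The structure maps of the stages to the base stage. -/
noncomputable def stageOver (xi : Xi ⟶ D.obj i) :
    stage D xi ⟶ (Functor.const (Over i)).obj (D.obj i) where
  app j := stageFst D xi j ≫ xi
  naturality j k g := by
    simp only [Functor.const_obj_map, Functor.const_obj_obj, Category.comp_id, ← Category.assoc,
      stageMap_fst]

include hc hX in
/-- Two morphisms agreeing on the limit agree at a stage. -/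
theorem exists_stage_eq [CompactSpace Xi] [QuasiSeparatedSpace Xi] [LocallyOfFiniteType yi]
    (a b : Xi ⟶ Yi) (ha : a ≫ yi = xi) (hb : b ≫ yi = xi) (h : qX ≫ a = qX ≫ b) :
    ∃ (j : I) (φ : j ⟶ i), pullback.fst xi (D.map φ) ≫ a = pullback.fst xi (D.map φ) ≫ b := by
  obtain ⟨k, hk, e⟩ := Scheme.exists_hom_comp_eq_comp_of_locallyOfFiniteType (stage D xi)
    (stageOver xi) yi (stageCone xi c qX pX hX) (isLimitStageCone xi qX pX hX hc)
    (i := Over.mk (𝟙 i)) (stageFst D xi _ ≫ a) (stageFst D xi _ ≫ b)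
    (by simp [stageOver, ha]) (by simp [stageOver, hb])
    (by
      change stageProj xi c qX pX hX _ ≫ _ = stageProj xi c qX pX hX _ ≫ _
      rw [← Category.assoc, ← Category.assoc, stageProj_fst, h])
  refine ⟨k.left, k.hom, ?_⟩
  simp only [← Category.assoc, stageMap_fst] at e
  exact e

include hc hX in
/-- A morphism from the limit to a finitely presented target comes from a stage. -/
theorem exists_stage_hom [CompactSpace Xi] [QuasiSeparatedSpace Xi]
    [LocallyOfFinitePresentation yi] (a : X ⟶ Yi) (ha : a ≫ yi = qX ≫ xi) :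
    ∃ (j : I) (φ : j ⟶ i) (g : pullback xi (D.map φ) ⟶ Yi) (s : X ⟶ pullback xi (D.map φ)),
      g ≫ yi = pullback.fst xi (D.map φ) ≫ xi ∧ s ≫ pullback.fst xi (D.map φ) = qX ∧
      s ≫ pullback.snd xi (D.map φ) = pX ≫ c.π.app j ∧ s ≫ g = a := by
  obtain ⟨k, g, hg, hgy⟩ := Scheme.exists_π_app_comp_eq_of_locallyOfFinitePresentation (stage D xi)
    (stageOver xi) yi (stageCone xi c qX pX hX) (isLimitStageCone xi qX pX hX hc) a (by
      ext j
      change stageProj xi c qX pX hX j ≫ stageFst D xi j ≫ xi = a ≫ yi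
      rw [← Category.assoc, stageProj_fst, ha])
  exact ⟨k.left, k.hom, g, stageProj xi c qX pX hX k, hgy, stageProj_fst _ _ _ _ _ k,
    stageProj_snd _ _ _ _ _ k, hg⟩

end Groth.Agent.H8Lim
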