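import Mathlib.AlgebraicGeometry.Morphisms.Flat
import Groth.Agent.LimSmooth.Scheme
import Groth.Agent.EGA43.FlatDescent.Main
import Groth.Agent.EGA43.FlatDescent.Model

/-!
# Descent of flatness to a stage of a limit

EGA IV 11.2.6.
-/

set_option autoImplicit false
set_option backward.isDefEq.respectTransparency.types false
set_option backward.isDefEq.respectTransparency false

universe u v

open CategoryTheory Limits AlgebraicGeometry TensorProduct

namespace Groth.Agent.H8Lim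

section Algebra

variable {R : Type u} [CommRing R] {ι : Type v} {G : ι → Type u} [∀ i, CommRing (G i)]
  [∀ i, Algebra R (G i)] {A : Type u} [CommRing A] [Algebra R A] {g : ∀ i, G i →ₐ[R] A}

/-- A finitely presented algebra over a subring mapping to the colimit maps to some stage. -/
theorem exists_algHom_stage (hs : CAlgH.ColimSys g) {R₀ : Type u} [CommRing R₀] [Algebra R₀ R]
    [∀ i, Algebra R₀ (G i)] [∀ i, IsScalarTower R₀ R (G i)] [Algebra R₀ A] [IsScalarTower R₀ R A]
    (B : Type u) [CommRing B] [Algebra R₀ B] [Algebra.FinitePresentation R₀ B] (φ : B →ₐ[R₀] A) :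
    ∃ j, Nonempty (B →ₐ[R₀] G j) := by
  obtain ⟨n, π, hπ, s, hker⟩ := ‹Algebra.FinitePresentation R₀ B›.out
  obtain ⟨i, x, hx⟩ := hs.lift_finite fun k : Fin n ↦ φ (π (MvPolynomial.X k))
  let ev : MvPolynomial (Fin n) R₀ →ₐ[R₀] G i := MvPolynomial.aeval x
  have hev : ∀ f, g i (ev f) = φ (π f) := fun f ↦ by
    have : ((g i).restrictScalars R₀).comp ev = φ.comp π :=
      MvPolynomial.algHom_ext fun k ↦ by simp [ev, hx]
    exact AlgHom.congr_fun this f
  obtain ⟨j, h, hh⟩ := hs.kill_finite (fun f : s ↦ ev f.1) fun f ↦ by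
    have : (f : MvPolynomial (Fin n) R₀) ∈ RingHom.ker π.toRingHom := hker ▸ Ideal.subset_span f.2
    rw [hev, show π (f : MvPolynomial (Fin n) R₀) = 0 from this, map_zero]
  refine ⟨j, ⟨AlgHom.liftOfSurjective π hπ ((h.1.restrictScalars R₀).comp ev) ?_⟩⟩
  rw [← hker, Ideal.span_le]
  exact fun f hf ↦ hh ⟨f, hf⟩

/-- EGA IV 11.2.6, ring form. -/
theorem exists_flat_stage (hs : CAlgH.ColimSys g) {B₀ : Type u} [CommRing B₀] [Algebra R B₀]
    [Algebra.FinitePresentation R B₀] [Module.Flat A (A ⊗[R] B₀)] :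
    ∃ j, Module.Flat (G j) (G j ⊗[R] B₀) := by
  obtain ⟨R₀, _, P₀, M', _, _, _, _, _, _, _, _, ψ, e, -, -⟩ :=
    Groth.Agent.EGA43.FlatDescent.exists_model_of_finitePresentation (A := R) (S := B₀) (N := B₀)
  let E : A ⊗[R₀] M' ≃ₗ[A] A ⊗[R] B₀ :=
    (AlgebraTensorModule.cancelBaseChange R₀ R A A M').symm ≪≫ₗ
      AlgebraTensorModule.congr (LinearEquiv.refl A A) e
  have : Module.Flat A (A ⊗[R₀] M') := Module.Flat.of_linearEquiv E
  obtain ⟨B, hB, hBflat⟩ :=
    Groth.Agent.EGA43.FlatDescent.exists_stage_flat (R := R₀) P₀ (M := M') (A := A)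
  have : Algebra.FiniteType R₀ B := B.fg_iff_finiteType.1 hB
  have : Algebra.FinitePresentation R₀ B := Algebra.FinitePresentation.of_finiteType.1 inferInstance
  obtain ⟨j, ⟨φ⟩⟩ := exists_algHom_stage hs (R₀ := R₀) B B.val
  refine ⟨j, ?_⟩
  let _ : Algebra B (G j) := φ.toRingHom.toAlgebra
  have : IsScalarTower R₀ B (G j) := .of_algebraMap_eq fun r ↦ (φ.commutes r).symm
  have : Module.Flat (G j) (G j ⊗[R₀] M') := Module.Flat.of_linearEquiv
    (AlgebraTensorModule.cancelBaseChange R₀ B (G j) (G j) M').symm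
  exact Module.Flat.of_linearEquiv ((AlgebraTensorModule.cancelBaseChange R₀ R (G j) (G j) M').symm ≪≫ₗ
    AlgebraTensorModule.congr (LinearEquiv.refl (G j) (G j)) e).symm

end Algebra

theorem affineSpreads_flat : LimSmooth.AffineSpreads.{u} @Flat := by
  intro J _ _ E cE hc haff i A₀ a hA₀ ha A b p sq hb
  have := haff
  let := a.appTop.hom.toAlgebra
  let : ∀ j : Over i, Algebra Γ(E.obj i, ⊤) Γ(E.obj j.left, ⊤) :=
    fun j ↦ (E.map j.hom).appTop.hom.toAlgebra
  let : Algebra Γ(E.obj i, ⊤) Γ(cE.pt, ⊤) := (cE.π.app i).appTop.hom.toAlgebra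
  have : IsAffine cE.pt := Scheme.isAffine_of_isLimit cE hc
  have : Algebra.FinitePresentation Γ(E.obj i, ⊤) Γ(A₀, ⊤) :=
    (HasRingHomProperty.iff_of_isAffine (P := @LocallyOfFinitePresentation)).mp ha
  have h1 := RingHom.flat_algebraMap_iff.mp ((LimSmooth.prop_snd_iff (P := @Flat) sq).mp hb)
  obtain ⟨j, hj⟩ := exists_flat_stage (LimSmooth.colimSys_appTop hc i) (B₀ := Γ(A₀, ⊤))
  exact ⟨j.left, j.hom, (LimSmooth.prop_snd_iff (P := @Flat)
    (IsPullback.of_hasPullback a (E.map j.hom))).mpr (RingHom.flat_algebraMap_iff.mpr hj)⟩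

end Groth.Agent.H8Lim
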