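import Groth.Agent.H8Lim.SchemeDescent
import Groth.Agent.H8Lim.DescentProper
import Groth.Agent.H8Lim.FlatDescent
import Mathlib.RingTheory.Noetherian.Basic

/-!
# Noetherian models of finitely presented morphisms over an affine base

EGA IV 8.9.1, 8.10.5, 11.2.6 for schemes: an affine scheme is the limit of the spectra of the
finitely generated `ℤ`-subalgebras of its ring, and finitely presented (proper, flat) schemes over
it come from one of them.
-/

set_option autoImplicit false
set_option backward.isDefEq.respectTransparency.types false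

universe u

open CategoryTheory Limits AlgebraicGeometry Opposite

namespace Groth.Agent.H8Lim

variable (R : Type u) [CommRing R]

/-- The finitely generated `ℤ`-subalgebras, indexed by their finite sets of generators. -/
noncomputable def fgSub (s : Finset R) : Subalgebra ℤ R := Algebra.adjoin ℤ (s : Set R)

/-- The diagram of finitely generated subrings. -/
noncomputable def fgRingDiagram : Finset R ⥤ CommRingCat.{u} where
  obj s := CommRingCat.of (fgSub R s)
  map {s t} h := CommRingCat.ofHom (Subalgebra.inclusion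
    (Algebra.adjoin_mono (R := ℤ) (Finset.coe_subset.mpr (leOfHom h)))).toRingHom
  map_id _ := by ext x; rfl
  map_comp _ _ := by ext x; rfl

/-- The cocone with point `R`. -/
noncomputable def fgRingCocone : Cocone (fgRingDiagram R) where
  pt := CommRingCat.of R
  ι := { app := fun s ↦ CommRingCat.ofHom (fgSub R s).val.toRingHom
         naturality := fun _ _ _ ↦ by ext x; rfl }

/-- `R` is the colimit of its finitely generated subrings. -/
noncomputable def isColimitFgRingCocone : IsColimit (fgRingCocone R) := by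
  classical
  have : ReflectsColimit (fgRingDiagram R) (forget CommRingCat.{u}) :=
    reflectsColimit_of_reflectsIsomorphisms _ _
  refine isColimitOfReflects (forget CommRingCat.{u}) (Types.FilteredColimit.isColimitOf _ _ ?_ ?_)
  · intro x
    exact ⟨{x}, ⟨x, Algebra.subset_adjoin (Finset.mem_coe.mpr (Finset.mem_singleton_self x))⟩, rfl⟩
  · intro i j xi xj h
    exact ⟨i ∪ j, homOfLE Finset.subset_union_left, homOfLE Finset.subset_union_right, Subtype.ext h⟩

/-- The diagram of the spectra. -/
noncomputable def fgSpecDiagram : (Finset R)ᵒᵖ ⥤ Scheme.{u} := (fgRingDiagram R).op ⋙ Scheme.Spec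

/-- The cone with point `Spec R`. -/
noncomputable def fgSpecCone : Cone (fgSpecDiagram R) := Scheme.Spec.mapCone (fgRingCocone R).op

/-- `Spec R` is the limit of the spectra of its finitely generated subrings. -/
noncomputable def isLimitFgSpecCone : IsLimit (fgSpecCone R) :=
  isLimitOfPreserves Scheme.Spec (isColimitFgRingCocone R).op

instance {i j : (Finset R)ᵒᵖ} (f : i ⟶ j) : IsAffineHom ((fgSpecDiagram R).map f) :=
  inferInstanceAs (IsAffineHom (Spec.map _))

instance (j : (Finset R)ᵒᵖ) : IsAffine ((fgSpecDiagram R).obj j) :=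
  inferInstanceAs (IsAffine (Spec _))

instance (s : Finset R) : IsNoetherianRing (fgSub R s) :=
  Algebra.FiniteType.isNoetherianRing ℤ _ (h := .adjoin_of_finite s.finite_toSet)

variable {R}

lemma eq_later {X Z : Scheme.{u}} {f : X ⟶ Spec (CommRingCat.of R)} {j k : (Finset R)ᵒᵖ}
    {h : Z ⟶ (fgSpecDiagram R).obj j} {q : X ⟶ Z} (sq : IsPullback q f h ((fgSpecCone R).π.app j))
    (φ : k ⟶ j) : q ≫ h = (f ≫ (fgSpecCone R).π.app k) ≫ (fgSpecDiagram R).map φ := by
  rw [sq.w, Category.assoc]
  exact congrArg (f ≫ ·) ((fgSpecCone R).w φ).symm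


/-- Descent of a finitely presented scheme over `Spec R` to a stage. -/
lemma exists_stage_spec {X : Scheme.{u}} (f : X ⟶ Spec (CommRingCat.of R))
    [hf : LocallyOfFinitePresentation f] [hq : QuasiCompact f] [hs : QuasiSeparated f] :
    ∃ (j : (Finset R)ᵒᵖ) (Z : Scheme.{u}) (h : Z ⟶ (fgSpecDiagram R).obj j) (q : X ⟶ Z),
      LocallyOfFinitePresentation h ∧ QuasiCompact h ∧ QuasiSeparated h ∧
        IsPullback q f h ((fgSpecCone R).π.app j) :=
  @exists_stage_scheme _ _ (fgSpecDiagram R) (fgSpecCone R) _ (fun _ ↦ inferInstance)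
    (isLimitFgSpecCone R) (fun _ ↦ inferInstance) (fun _ ↦ inferInstance) X f hf hq hs

/-- A finitely presented scheme over an affine base has a Noetherian model. -/
theorem exists_noetherian_model_fp {X : Scheme.{u}} (f : X ⟶ Spec (CommRingCat.of R))
    [LocallyOfFinitePresentation f] [QuasiCompact f] [QuasiSeparated f] :
    ∃ (s : Finset R) (X₀ : Scheme.{u}) (f₀ : X₀ ⟶ Spec (CommRingCat.of (fgSub R s))) (g : X ⟶ X₀),
      LocallyOfFinitePresentation f₀ ∧ QuasiCompact f₀ ∧ QuasiSeparated f₀ ∧
      IsPullback g f f₀ (Spec.map (CommRingCat.ofHom (fgSub R s).val.toRingHom)) := by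
  obtain ⟨j, Z, h, q, h1, h2, h3, sq⟩ := exists_stage_spec f
  exact ⟨j.unop, Z, h, q, h1, h2, h3, sq⟩

lemma exists_stage_proper {X : Scheme.{u}} (f : X ⟶ Spec (CommRingCat.of R)) (j : (Finset R)ᵒᵖ)
    {X₀ : Scheme.{u}} (f₀ : X₀ ⟶ (fgSpecDiagram R).obj j) (g : X ⟶ X₀)
    [LocallyOfFiniteType f₀] [QuasiCompact f₀] [QuasiSeparated f₀]
    (sq : IsPullback g f f₀ ((fgSpecCone R).π.app j)) (hf : IsProper f) :
    ∃ (k : (Finset R)ᵒᵖ) (φ : k ⟶ j), IsProper (pullback.snd f₀ ((fgSpecDiagram R).map φ)) :=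
  descends_isProper (fgSpecDiagram R) (fgSpecCone R) (isLimitFgSpecCone R)
    (fun _ ↦ inferInstance) j f₀ ‹LocallyOfFiniteType f₀› f g sq hf

/-- A proper finitely presented scheme over an affine base has a proper Noetherian model. -/
theorem exists_noetherian_model_proper {X : Scheme.{u}} (f : X ⟶ Spec (CommRingCat.of R))
    [LocallyOfFinitePresentation f] [IsProper f] :
    ∃ (s : Finset R) (X₀ : Scheme.{u}) (f₀ : X₀ ⟶ Spec (CommRingCat.of (fgSub R s))) (g : X ⟶ X₀),
      LocallyOfFinitePresentation f₀ ∧ IsProper f₀ ∧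
      IsPullback g f f₀ (Spec.map (CommRingCat.ofHom (fgSub R s).val.toRingHom)) := by
  obtain ⟨j, Z, h, q, _, _, _, sq⟩ := exists_stage_spec f
  obtain ⟨k, φ, hk⟩ := exists_stage_proper f j h q sq ‹_›
  exact ⟨k.unop, _, pullback.snd h ((fgSpecDiagram R).map φ), _,
    MorphismProperty.pullback_snd (P := @LocallyOfFinitePresentation) _ _ ‹_›, hk,
    isPullback_later (D := fgSpecDiagram R) (c := fgSpecCone R) sq φ (eq_later sq φ)⟩

lemma exists_stage_flat {X : Scheme.{u}} (f : X ⟶ Spec (CommRingCat.of R)) (j : (Finset R)ᵒᵖ)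
    {X₀ : Scheme.{u}} (f₀ : X₀ ⟶ (fgSpecDiagram R).obj j) (g : X ⟶ X₀)
    [LocallyOfFinitePresentation f₀] [QuasiCompact f₀] [QuasiSeparated f₀]
    (sq : IsPullback g f f₀ ((fgSpecCone R).π.app j)) (hf : Flat f) :
    ∃ (k : (Finset R)ᵒᵖ) (φ : k ⟶ j), Flat (pullback.snd f₀ ((fgSpecDiagram R).map φ)) := by
  have : CompactSpace X₀ := QuasiCompact.compactSpace_of_compactSpace f₀
  obtain ⟨k, φ, Xk, Yk, fk, gk, pY, pX, hY, hX, hk⟩ :=
    LimSmooth.exists_stage (isLimitFgSpecCone R) (g₀ := 𝟙 ((fgSpecDiagram R).obj j))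
      (f₀ := f₀) (f := f) (g := 𝟙 (fgSpecCone R).pt)
      (qY := (fgSpecCone R).π.app j) (IsPullback.of_id_snd) sq
      affineSpreads_flat (fun _ _ ↦ inferInstance) hf
  have : IsIso gk := hY.isIso_snd_of_isIso
  have : Flat (fk ≫ gk) := inferInstance
  exact ⟨k, φ, prop_snd_of_isPullback (by simpa using hX.paste_vert hY) this⟩

/-- A proper flat finitely presented scheme over an affine base has a proper flat Noetherian
model. -/
theorem exists_noetherian_model_proper_flat {X : Scheme.{u}} (f : X ⟶ Spec (CommRingCat.of R))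
    [LocallyOfFinitePresentation f] [IsProper f] [Flat f] :
    ∃ (s : Finset R) (X₀ : Scheme.{u}) (f₀ : X₀ ⟶ Spec (CommRingCat.of (fgSub R s))) (g : X ⟶ X₀),
      LocallyOfFinitePresentation f₀ ∧ IsProper f₀ ∧ Flat f₀ ∧
      IsPullback g f f₀ (Spec.map (CommRingCat.ofHom (fgSub R s).val.toRingHom)) := by
  obtain ⟨j, Z, h, q, _, _, _, sq⟩ := exists_stage_spec f
  obtain ⟨k, φ, hk⟩ := exists_stage_proper f j h q sq ‹_›
  have sq' := isPullback_later (D := fgSpecDiagram R) (c := fgSpecCone R) sq φ (eq_later sq φ)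
  have h' : LocallyOfFinitePresentation (pullback.snd h ((fgSpecDiagram R).map φ)) :=
    MorphismProperty.pullback_snd (P := @LocallyOfFinitePresentation) _ _ ‹_›
  have : IsProper (pullback.snd h ((fgSpecDiagram R).map φ)) := hk
  obtain ⟨l, ψ, hl⟩ := exists_stage_flat f k _ _ sq' ‹_›
  exact ⟨l.unop, _, pullback.snd (pullback.snd h ((fgSpecDiagram R).map φ))
    ((fgSpecDiagram R).map ψ), _,
    MorphismProperty.pullback_snd (P := @LocallyOfFinitePresentation) _ _ h',
    MorphismProperty.pullback_snd (P := @IsProper) _ _ hk, hl,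
    isPullback_later (D := fgSpecDiagram R) (c := fgSpecCone R) sq' ψ (eq_later sq' ψ)⟩

end Groth.Agent.H8Lim
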