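import Groth.Agent.Coherent.InternalHom
import Groth.Agent.Coherent.QcohSections

/-!
# A linear map of sections on an affine open extends to a morphism of modules on it

For `F` quasi-coherent and `U` affine, `Γ(X, U)`-linear maps `Γ(F, U) → Γ(N, U)` extend to families
of linear maps on all opens inside `U`, and such families are determined by generators of `Γ(F, U)`.
-/

set_option autoImplicit false
set_option backward.isDefEq.respectTransparency false

universe u

open CategoryTheory CategoryTheory.Limits AlgebraicGeometry Opposite TopologicalSpace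
open Groth.Agent.Coherent Groth.Agent.PicLib

namespace Groth.Agent.H8Lim

variable {X : Scheme.{u}}

/-- Restriction of functions. -/
noncomputable abbrev rs {U V : X.Opens} (h : V ≤ U) : Γ(X, U) →+* Γ(X, V) :=
  (X.presheaf.map (homOfLE h).op).hom

theorem rs_rs {U V W : X.Opens} (h : V ≤ U) (h' : W ≤ V) (r : Γ(X, U)) :
    rs h' (rs h r) = rs (h'.trans h) r :=
  congr($((X.presheaf.map_comp (homOfLE h).op (homOfLE h').op).symm) r)

theorem resM_smul' (M : X.Modules) {U V : X.Opens} (h : V ≤ U) (r : Γ(X, U)) (a : Γ(M, U)) :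
    resM M h (r • a) = rs h r • resM M h a :=
  resM_smul M h r a

theorem isUnit_rs_basicOpen {U V : X.Opens} (hVU : V ≤ U) (f : Γ(X, U)) (h : V ≤ X.basicOpen f) :
    IsUnit (rs hVU f) := by
  exact (congrArg IsUnit (rs_rs (X.basicOpen_le f) h f)).mp
    ((X.toRingedSpace.isUnit_res_basicOpen f).map (rs h))

theorem sections_eq_of_locally {N : X.Modules} {W : X.Opens} {b b' : Γ(N, W)}
    (h : ∀ x ∈ W, ∃ (V : X.Opens) (hV : V ≤ W), x ∈ V ∧ resM N hV b = resM N hV b') : b = b' := by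
  choose V hV hx e using h
  exact TopCat.Sheaf.eq_of_locally_eq' (⟨N.presheaf, N.isSheaf⟩ : TopCat.Sheaf Ab X)
    (fun x : (W : Set X) => V x.1 x.2) W (fun x => homOfLE (hV x.1 x.2))
    (fun x hx' => Opens.mem_iSup.2 ⟨⟨x, hx'⟩, hx x hx'⟩) b b' fun x => e x.1 x.2

variable {F N : X.Modules} {U : X.Opens}

section Extend

variable (l : Γ(F, U) →ₗ[Γ(X, U)] Γ(N, U))

/-- `b` is the image of `a` under the extension of `l`: locally `c • a = m`, `c • b = l m`. -/
def Img {W : X.Opens} (hW : W ≤ U) (a : Γ(F, W)) (b : Γ(N, W)) : Prop :=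
  ∀ x ∈ W, ∃ (V : X.Opens) (hV : V ≤ W) (c : Γ(X, U)) (m : Γ(F, U)), x ∈ V ∧
    IsUnit (rs (hV.trans hW) c) ∧ rs (hV.trans hW) c • resM F hV a = resM F (hV.trans hW) m ∧
    rs (hV.trans hW) c • resM N hV b = resM N (hV.trans hW) (l m)

variable {l}

theorem Img.res {W W' : X.Opens} {hW : W ≤ U} {a : Γ(F, W)} {b : Γ(N, W)} (h : Img l hW a b)
    (hW' : W' ≤ W) : Img l (hW'.trans hW) (resM F hW' a) (resM N hW' b) := by
  intro x hx
  obtain ⟨V, hV, c, m, hxV, hu, ha, hb⟩ := h x (hW' hx)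
  refine ⟨V ⊓ W', inf_le_right, c, m, ⟨hxV, hx⟩, ?_, ?_, ?_⟩
  · have := hu.map (rs (inf_le_left : V ⊓ W' ≤ V))
    rwa [rs_rs] at this
  · have := congrArg (resM F (inf_le_left : V ⊓ W' ≤ V)) ha
    rw [resM_smul', resM_resM, resM_resM, rs_rs] at this
    rw [resM_resM]
    exact this
  · have := congrArg (resM N (inf_le_left : V ⊓ W' ≤ V)) hb
    rw [resM_smul', resM_resM, resM_resM, rs_rs] at this
    rw [resM_resM]
    exact this

theorem Img.unique (hU : IsAffineOpen U) [Coh.IsQCoh F] {W : X.Opens} {hW : W ≤ U} {a : Γ(F, W)}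
    {b b' : Γ(N, W)} (h : Img l hW a b) (h' : Img l hW a b') : b = b' := by
  refine sections_eq_of_locally fun x hx => ?_
  obtain ⟨V, hV, c, m, hxV, hu, ha, hb⟩ := h x hx
  obtain ⟨V', hV', c', m', hxV', hu', ha', hb'⟩ := h' x hx
  obtain ⟨g, hg, hxg⟩ := hU.exists_basicOpen_le (V := V ⊓ V') ⟨x, hxV, hxV'⟩ (hW hx)
  have g₁ : X.basicOpen g ≤ V := hg.trans inf_le_left
  have g₂ : X.basicOpen g ≤ V' := hg.trans inf_le_right
  refine ⟨X.basicOpen g, g₁.trans hV, hxg, ?_⟩
  have ea := congrArg (resM F g₁) ha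
  have eb := congrArg (resM N g₁) hb
  have ea' := congrArg (resM F g₂) ha'
  have eb' := congrArg (resM N g₂) hb'
  rw [resM_smul', resM_resM, resM_resM, rs_rs] at ea eb ea' eb'
  have huc := hu.map (rs g₁)
  have huc' := hu'.map (rs g₂)
  rw [rs_rs] at huc huc'
  have hz : resM F (X.basicOpen_le g) (c' • m - c • m') = 0 := by
    rw [map_sub, resM_smul', resM_smul', ← ea, ← ea', smul_comm, sub_self]
  obtain ⟨n, hn⟩ := qcoh_exists_pow_smul_eq_zero hU F g _ hz
  have hl : resM N (X.basicOpen_le g) (g ^ n • (c' • l m - c • l m')) = 0 := by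
    rw [← map_smul, ← map_smul, ← map_sub, ← map_smul, hn, map_zero, map_zero]
  rw [resM_smul', map_sub, resM_smul', resM_smul', ← eb, ← eb', map_pow,
    ((isUnit_rs_basicOpen _ g le_rfl).pow n).smul_eq_zero, sub_eq_zero,
    smul_comm, huc.smul_left_cancel, huc'.smul_left_cancel] at hl
  exact hl

theorem Img.add {W : X.Opens} {hW : W ≤ U} {a a' : Γ(F, W)} {b b' : Γ(N, W)}
    (h : Img l hW a b) (h' : Img l hW a' b') : Img l hW (a + a') (b + b') := by
  intro x hx
  obtain ⟨V, hV, c, m, hxV, hu, ha, hb⟩ := h x hx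
  obtain ⟨V', hV', c', m', hxV', hu', ha', hb'⟩ := h' x hx
  have g₁ : V ⊓ V' ≤ V := inf_le_left
  have g₂ : V ⊓ V' ≤ V' := inf_le_right
  refine ⟨V ⊓ V', g₁.trans hV, c * c', c' • m + c • m', ⟨hxV, hxV'⟩, ?_, ?_, ?_⟩
  · have huc := hu.map (rs g₁)
    have huc' := hu'.map (rs g₂)
    rw [rs_rs] at huc huc'
    rw [map_mul]
    exact huc.mul huc'
  · have ea := congrArg (resM F g₁) ha
    have ea' := congrArg (resM F g₂) ha'
    rw [resM_smul', resM_resM, resM_resM, rs_rs] at ea ea'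
    rw [map_add, map_add, resM_smul', resM_smul', ← ea, ← ea', smul_add, map_mul, mul_smul, mul_smul,
      smul_comm]
  · have ea := congrArg (resM N g₁) hb
    have ea' := congrArg (resM N g₂) hb'
    rw [resM_smul', resM_resM, resM_resM, rs_rs] at ea ea'
    rw [map_add, map_add, map_add, LinearMap.map_smul, LinearMap.map_smul, resM_smul', resM_smul', ← ea, ← ea', smul_add,
      map_mul, mul_smul, mul_smul, smul_comm]

theorem Img.smul (hU : IsAffineOpen U) {W : X.Opens} {hW : W ≤ U} (r : Γ(X, W)) {a : Γ(F, W)}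
    {b : Γ(N, W)} (h : Img l hW a b) : Img l hW (r • a) (r • b) := by
  intro x hx
  obtain ⟨V, hV, c, m, hxV, hu, ha, hb⟩ := h x hx
  obtain ⟨g, hg, hxg⟩ := hU.exists_basicOpen_le (V := V) ⟨x, hxV⟩ (hW hx)
  have := hU.isLocalization_basicOpen g
  obtain ⟨n, t, ht⟩ := IsLocalization.Away.surj g (rs (hg.trans hV) r)
  replace ht : rs (hg.trans hV) r * rs (X.basicOpen_le g) g ^ n = rs (X.basicOpen_le g) t := ht
  refine ⟨X.basicOpen g, hg.trans hV, g ^ n * c, t • m, hxg, ?_, ?_, ?_⟩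
  · have huc := hu.map (rs hg)
    rw [rs_rs] at huc
    rw [map_mul, map_pow]
    exact ((isUnit_rs_basicOpen _ g le_rfl).pow n).mul huc
  · have ea := congrArg (resM F hg) ha
    rw [resM_smul', resM_resM, resM_resM, rs_rs] at ea
    rw [resM_smul', resM_smul', ← ea, ← ht, map_mul, map_pow]
    simp only [← mul_smul]
    congr 1
    ring
  · have ea := congrArg (resM N hg) hb
    rw [resM_smul', resM_resM, resM_resM, rs_rs] at ea
    rw [resM_smul', map_smul, resM_smul', ← ea, ← ht, map_mul, map_pow]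
    simp only [← mul_smul]
    congr 1
    ring

theorem exists_img (hU : IsAffineOpen U) [Coh.IsQCoh F] {W : X.Opens} (hW : W ≤ U) (a : Γ(F, W)) :
    ∃ b, Img l hW a b := by
  have key : ∀ x : (W : Set X), ∃ (V : X.Opens) (hV : V ≤ W) (b : Γ(N, V)), x.1 ∈ V ∧
      Img l (hV.trans hW) (resM F hV a) b := by
    rintro ⟨x, hx⟩
    obtain ⟨f, hf, hxf⟩ := hU.exists_basicOpen_le (V := W) ⟨x, hx⟩ (hW hx)
    obtain ⟨k, m, hm⟩ := qcoh_exists_pow_smul hU F f (resM F hf a)
    obtain ⟨v, hv⟩ := ((isUnit_rs_basicOpen (X.basicOpen_le f) f le_rfl).pow k)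
    refine ⟨X.basicOpen f, hf, (↑v⁻¹ : Γ(X, X.basicOpen f)) • resM N (X.basicOpen_le f) (l m), hxf,
      fun y hy => ⟨X.basicOpen f, le_rfl, f ^ k, m, hy, ?_, ?_, ?_⟩⟩
    · rw [map_pow, ← hv]
      exact v.isUnit
    · rw [resM_refl]
      exact hm.symm
    · rw [resM_refl, map_pow, ← hv, ← mul_smul, Units.mul_inv, one_smul]
  choose V hV b hxV hb using key
  obtain ⟨β, hβ, -⟩ := TopCat.Sheaf.existsUnique_gluing'
    (⟨N.presheaf, N.isSheaf⟩ : TopCat.Sheaf Ab X) V W (fun x => homOfLE (hV x))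
    (fun x hx => Opens.mem_iSup.2 ⟨⟨x, hx⟩, hxV ⟨x, hx⟩⟩) b fun x y => by
      have h₁ := (hb x).res (inf_le_left : V x ⊓ V y ≤ V x)
      have h₂ := (hb y).res (inf_le_right : V x ⊓ V y ≤ V y)
      rw [resM_resM] at h₁ h₂
      exact Img.unique hU h₁ h₂
  refine ⟨β, fun x hx => ?_⟩
  obtain ⟨V', hV', c, m, hxV', hu, ha, hb'⟩ := hb ⟨x, hx⟩ x (hxV ⟨x, hx⟩)
  refine ⟨V', hV'.trans (hV _), c, m, hxV', hu, by rwa [resM_resM] at ha, ?_⟩
  have e : resM N (hV ⟨x, hx⟩) β = b ⟨x, hx⟩ := hβ ⟨x, hx⟩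
  rwa [← e, resM_resM] at hb'

theorem img_self (m : Γ(F, U)) {W : X.Opens} (hW : W ≤ U) :
    Img l hW (resM F hW m) (resM N hW (l m)) :=
  fun x hx => ⟨W, le_rfl, 1, m, hx, by simp, by rw [map_one, one_smul, resM_refl],
    by rw [map_one, one_smul, resM_refl]⟩

end Extend

/-- The extension of a linear map on an affine open. -/
noncomputable def extendHom (hU : IsAffineOpen U) [Coh.IsQCoh F]
    (l : Γ(F, U) →ₗ[Γ(X, U)] Γ(N, U)) : locHom F N U :=
  ⟨fun W hW => AddMonoidHom.mk' (fun a => (exists_img (l := l) hU hW a).choose) fun a a' =>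
      Img.unique hU (exists_img hU hW _).choose_spec
        ((exists_img hU hW a).choose_spec.add (exists_img hU hW a').choose_spec),
    fun W hW r a => Img.unique hU (exists_img (l := l) hU hW _).choose_spec
      ((exists_img hU hW a).choose_spec.smul hU r),
    fun W W' hW h a => Img.unique hU ((exists_img (l := l) hU hW a).choose_spec.res h)
      (exists_img hU (h.trans hW) (resM F h a)).choose_spec⟩

theorem ev_extendHom (hU : IsAffineOpen U) [Coh.IsQCoh F] (l : Γ(F, U) →ₗ[Γ(X, U)] Γ(N, U))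
    (m : Γ(F, U)) {W : X.Opens} (hW : W ≤ U) :
    ev (extendHom hU l) W hW (resM F hW m) = resM N hW (l m) :=
  Img.unique hU (exists_img hU hW _).choose_spec (img_self m hW)

/-- Post-composition of a family with a morphism. -/
noncomputable def postComp {N' : X.Modules} (φ : locHom F N U) (τ : N ⟶ N') : locHom F N' U :=
  ⟨fun W hW => (τ.app W).hom.comp (φ.1 W hW), fun W hW r a => by
    show τ.app W (φ.1 W hW (r • a)) = r • τ.app W (φ.1 W hW a)
    rw [φ.2.1, Scheme.Modules.Hom.app_smul], fun W W' hW h a => by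
    show resM N' h (τ.app W (φ.1 W hW a)) = τ.app W' (φ.1 W' (h.trans hW) (resM F h a))
    rw [← app_resM, φ.2.2]⟩

theorem ev_postComp {N' : X.Modules} (φ : locHom F N U) (τ : N ⟶ N') (W : X.Opens) (hW : W ≤ U)
    (a : Γ(F, W)) : ev (postComp φ τ) W hW a = τ.app W (ev φ W hW a) := rfl

/-- Families agreeing on generators over an affine cover agree. -/
theorem locHom_ext_cover [Coh.IsQCoh F] {φ ψ : locHom F N U} {ι : Type*} (V : ι → X.Opens)
    (hV : ∀ k, IsAffineOpen (V k)) (hVU : ∀ k, V k ≤ U) (hcov : ∀ x ∈ U, ∃ k, x ∈ V k)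
    (G : ∀ k, Set Γ(F, V k)) (hG : ∀ k, Submodule.span Γ(X, V k) (G k) = ⊤)
    (h : ∀ k, ∀ m ∈ G k, ev φ (V k) (hVU k) m = ev ψ (V k) (hVU k) m) : φ = ψ := by
  refine locHom_ext fun W hW a => sections_eq_of_locally fun x hx => ?_
  obtain ⟨k, hk⟩ := hcov x (hW hx)
  obtain ⟨g, hg, hxg⟩ := (hV k).exists_basicOpen_le (V := W) ⟨x, hx⟩ hk
  refine ⟨X.basicOpen g, hg, hxg, ?_⟩
  obtain ⟨n, m, hm⟩ := qcoh_exists_pow_smul (hV k) F g (resM F hg a)
  have hall : ∀ y : Γ(F, V k), ev φ (V k) (hVU k) y = ev ψ (V k) (hVU k) y := by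
    intro y
    clear hm m
    have hmem : y ∈ Submodule.span Γ(X, V k) (G k) := (hG k) ▸ trivial
    induction hmem using Submodule.span_induction with
    | mem y hy => exact h k y hy
    | zero => exact (map_zero (φ.1 _ _)).trans (map_zero (ψ.1 _ _)).symm
    | add y z _ _ hy hz =>
      exact (map_add (φ.1 _ _) y z).trans ((congrArg₂ (· + ·) hy hz).trans (map_add (ψ.1 _ _) y z).symm)
    | smul r y _ hy => rw [ev_smul_arg, ev_smul_arg, hy]
  have e := congrArg (resM N (X.basicOpen_le g)) (hall m)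
  rw [ev_res, ev_res, hm, ev_smul_arg, ev_smul_arg, map_pow] at e
  rw [ev_res, ev_res]
  exact (((isUnit_rs_basicOpen _ g le_rfl).pow n).smul_left_cancel).1 e

/-- Families on an open cover agreeing on overlaps glue to a morphism. -/
theorem exists_hom_of_locHom {ι : Type u} (V : ι → X.Opens) (hcov : ∀ x : X, ∃ k, x ∈ V k)
    (φ : ∀ k, locHom F N (V k))
    (h : ∀ k l, locHomRes F N inf_le_left (φ k) = locHomRes F N (inf_le_right : V k ⊓ V l ≤ V l) (φ l)) :
    ∃ Φ : F ⟶ N, ∀ k (W : X.Opens) (hW : W ≤ V k) (a : Γ(F, W)), Φ.app W a = ev (φ k) W hW a := by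
  obtain ⟨Ψ, hΨ, -⟩ := TopCat.Sheaf.existsUnique_gluing'
    (⟨locHomPre F N, isSheaf_locHomPre F N⟩ : TopCat.Sheaf Ab X) V ⊤ (fun k => homOfLE le_top)
    (fun x _ => Opens.mem_iSup.2 (hcov x)) φ (fun k l => h k l)
  let Φ : F ⟶ N :=
    ⟨PresheafOfModules.homMk
      { app := fun W => AddCommGrpCat.ofHom ((show locHom F N ⊤ from Ψ).1 W.unop le_top)
        naturality := fun W _ i => AddCommGrpCat.hom_ext (AddMonoidHom.ext fun a =>
          (ev_res (show locHom F N ⊤ from Ψ) (W := W.unop) le_top (leOfHom i.unop) a).symm) }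
      (fun W r a => ev_smul_arg (show locHom F N ⊤ from Ψ) W.unop le_top r a)⟩
  exact ⟨Φ, fun k W hW a => congrArg (fun θ : locHom F N (V k) => ev θ W hW a) (hΨ k)⟩

end Groth.Agent.H8Lim
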