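import Groth.Agent.H8Lim.ModSections

/-!
# Transition maps between pushforwards of pullbacks of a module
-/

set_option autoImplicit false
set_option backward.isDefEq.respectTransparency false

universe u

open CategoryTheory CategoryTheory.Limits AlgebraicGeometry Opposite TopologicalSpace
open Groth.Agent.Coherent Groth.Agent.PicLib Groth.Agent.EGA43.InjFibre

namespace Groth.Agent.H8Lim

variable {X V W Z : Scheme.{u}}

/-- The map `g_* g^* G → q_* q^* G` for `q = h ≫ g`. -/
noncomputable def transHom (h : W ⟶ V) (g : V ⟶ X) {q : W ⟶ X} (e : h ≫ g = q) (G : X.Modules) :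
    (Scheme.Modules.pushforward g).obj ((Scheme.Modules.pullback g).obj G) ⟶
      (Scheme.Modules.pushforward q).obj ((Scheme.Modules.pullback q).obj G) := by
  subst e
  exact (Scheme.Modules.pushforward g).map
      ((Scheme.Modules.pullbackPushforwardAdjunction h).unit.app _) ≫
    (Scheme.Modules.pushforwardComp h g).hom.app _ ≫
    (Scheme.Modules.pushforward (h ≫ g)).map ((Scheme.Modules.pullbackComp h g).hom.app G)

theorem transHom_app_rfl (h : W ⟶ V) (g : V ⟶ X) (G : X.Modules) (U : X.Opens)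
    (z : Γ((Scheme.Modules.pullback g).obj G, g ⁻¹ᵁ U)) :
    (transHom h g rfl G).app U z =
      ((Scheme.Modules.pullbackComp h g).hom.app G).app ((h ≫ g) ⁻¹ᵁ U) (pullSec h z) :=
  rfl

theorem transHom_pullSec (h : W ⟶ V) (g : V ⟶ X) {q : W ⟶ X} (e : h ≫ g = q) (G : X.Modules)
    {U : X.Opens} (x : Γ(G, U)) :
    (transHom h g e G).app U (pullSec g x) = pullSec q x := by
  subst e
  exact (transHom_app_rfl h g G U _).trans (pullbackComp_hom_app_pullSec h g G x)

theorem transHom_eq_zero_iff (h : W ⟶ V) (g : V ⟶ X) {q : W ⟶ X} (e : h ≫ g = q) (G : X.Modules)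
    {U : X.Opens} (z : Γ((Scheme.Modules.pullback g).obj G, g ⁻¹ᵁ U)) :
    (transHom h g e G).app U z = 0 ↔ pullSec h z = 0 := by
  subst e
  rw [transHom_app_rfl]
  refine ⟨fun h0 => ?_, fun h0 => by rw [h0]; exact map_zero _⟩
  have h1 := congrArg (((Scheme.Modules.pullbackComp h g).inv.app G).app ((h ≫ g) ⁻¹ᵁ U)) h0
  rw [map_zero] at h1
  refine Eq.trans ?_ h1
  exact (congr(($((Scheme.Modules.pullbackComp h g).hom_inv_id_app G)).app ((h ≫ g) ⁻¹ᵁ U)
    (pullSec h z))).symm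

theorem transHom_smul (h : W ⟶ V) (g : V ⟶ X) {q : W ⟶ X} (e : h ≫ g = q) (G : X.Modules)
    {U : X.Opens} (r : Γ(V, g ⁻¹ᵁ U)) (z : Γ((Scheme.Modules.pullback g).obj G, g ⁻¹ᵁ U)) :
    (transHom h g e G).app U (r • z) =
      (show Γ(W, q ⁻¹ᵁ U) from
        h.appLE (g ⁻¹ᵁ U) (q ⁻¹ᵁ U) (by rw [← e, Scheme.Hom.comp_preimage]) r) •
      (show Γ((Scheme.Modules.pullback q).obj G, q ⁻¹ᵁ U) from (transHom h g e G).app U z) := by
  subst e
  refine (transHom_app_rfl h g G U _).trans ?_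
  have h1 : pullSec h (r • z) = h.app (g ⁻¹ᵁ U) r • pullSec h z :=
    Scheme.Modules.Hom.app_smul
      ((Scheme.Modules.pullbackPushforwardAdjunction h).unit.app ((Scheme.Modules.pullback g).obj G)) r z
  rw [h1, Scheme.Modules.Hom.app_smul, Scheme.Hom.app_eq_appLE]
  rfl

/-- The transition maps compose. -/
theorem transHom_comp (h₁ : W ⟶ V) (h₂ : Z ⟶ W) (g : V ⟶ X) {q : W ⟶ X} (e₁ : h₁ ≫ g = q)
    {r : Z ⟶ X} (e₂ : h₂ ≫ q = r) {h₃ : Z ⟶ V} (e₃ : h₃ = h₂ ≫ h₁) (e₄ : h₃ ≫ g = r)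
    [IsAffineHom g] (G : X.Modules) [Coh.IsQCoh G] :
    transHom h₁ g e₁ G ≫ transHom h₂ q e₂ G = transHom h₃ g e₄ G := by
  refine modHom_ext_of_cover _ _ fun x => ⟨⊤, trivial, fun U hU _ z => ?_⟩
  rw [Scheme.Modules.Hom.comp_app, ConcreteCategory.comp_apply]
  have hz : z ∈ Submodule.span Γ(V, g ⁻¹ᵁ U) ((fun m : Γ(G, U) => pullSec g m) '' Set.univ) := by
    rw [show (fun m : Γ(G, U) => pullSec g m) = fun m =>
      resM ((Scheme.Modules.pullback g).obj G) le_rfl (pullSec g m) from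
        funext fun m => (resM_refl _ _).symm,
      span_pullSec_eq_top g hU (hU.preimage g) le_rfl G _ Submodule.span_univ]
    trivial
  induction hz using Submodule.span_induction with
  | mem y hy =>
    obtain ⟨m, -, rfl⟩ := hy
    erw [transHom_pullSec, transHom_pullSec, transHom_pullSec]
  | zero => simp only [map_zero]
  | add a b _ _ ha hb => simp only [map_add, ha, hb]
  | smul s a _ ha =>
    erw [transHom_smul, transHom_smul, transHom_smul, ha]
    congr 1
    subst e₃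
    show (h₁.appLE _ _ _ ≫ h₂.appLE _ _ _) s = (h₂ ≫ h₁).appLE _ _ _ s
    rw [Scheme.Hom.appLE_comp_appLE]

end Groth.Agent.H8Lim
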