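import Groth.Agent.H8Lim.ModEqApps
import Groth.Agent.H8Lim.ModTrans
import Groth.Agent.H8Lim.AffineLocHom

/-!
# EGA IV 8.5.2: morphisms of quasi-coherent modules descend to a stage
-/

set_option autoImplicit false
set_option backward.isDefEq.respectTransparency false
set_option maxHeartbeats 800000

universe u

open CategoryTheory CategoryTheory.Limits AlgebraicGeometry Opposite TopologicalSpace TensorProduct
open Groth.Agent.Coherent Groth.Agent.PicLib Groth.Agent.EGA43.InjFibre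

namespace Groth.Agent.H8Lim

/-- A morphism as a family on an open. -/
noncomputable def homLoc {X : Scheme.{u}} {F N : X.Modules} (φ : F ⟶ N) (U : X.Opens) :
    locHom F N U :=
  ⟨fun W _ => (φ.app W).hom, fun _ _ r a => Scheme.Modules.Hom.app_smul φ r a,
    fun _ _ _ h a => (app_resM φ h a).symm⟩

section Adjoint

variable {X V W : Scheme.{u}}

theorem homEquiv_symm_app_pullSec (g : V ⟶ X) {F : X.Modules} {N : V.Modules}
    (Φ : F ⟶ (Scheme.Modules.pushforward g).obj N) {U : X.Opens} (m : Γ(F, U)) :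
    (((Scheme.Modules.pullbackPushforwardAdjunction g).homEquiv F N).symm Φ).app _ (pullSec g m) =
      Φ.app U m := by
  let a := Scheme.Modules.pullbackPushforwardAdjunction g
  have h := (a.homEquiv F N).apply_symm_apply Φ
  rw [Adjunction.homEquiv_unit] at h
  exact congr(($h).app U m)

theorem homEquiv_app_apply (q : V ⟶ X) {F : X.Modules} {N : V.Modules}
    (θ : (Scheme.Modules.pullback q).obj F ⟶ N) {U : X.Opens} (m : Γ(F, U)) :
    ((Scheme.Modules.pullbackPushforwardAdjunction q).homEquiv F N θ).app U m =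
      θ.app _ (pullSec q m) := by
  rw [Adjunction.homEquiv_unit]
  rfl

/-- The adjoint of a lift induces the given morphism. -/
theorem conj_eq_of_transHom (h : W ⟶ V) (g : V ⟶ X) {q : W ⟶ X} (e : h ≫ g = q) {F G : X.Modules}
    [Coh.IsQCoh F] (Φ : F ⟶ (Scheme.Modules.pushforward g).obj ((Scheme.Modules.pullback g).obj G))
    (θ : (Scheme.Modules.pullback q).obj F ⟶ (Scheme.Modules.pullback q).obj G)
    {ι : Type*} (U : ι → X.Opens) (hU : ∀ k, IsAffineOpen (U k)) (hcov : ∀ x : X, ∃ k, x ∈ U k)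
    (H : ∀ k (m : Γ(F, U k)), (transHom h g e G).app (U k) (Φ.app (U k) m) =
      θ.app _ (pullSec q m)) :
    ((Scheme.Modules.pullbackComp h g ≪≫ Scheme.Modules.pullbackCongr e).app F).inv ≫
      (Scheme.Modules.pullback h).map
          (((Scheme.Modules.pullbackPushforwardAdjunction g).homEquiv F _).symm Φ) ≫
        ((Scheme.Modules.pullbackComp h g ≪≫ Scheme.Modules.pullbackCongr e).app G).hom = θ := by
  subst e
  refine hom_ext_pullSec (h ≫ g) _ _ U hU (fun y => hcov _) (fun _ => Set.univ)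
    (fun _ => Submodule.span_univ) fun k m _ => ?_
  rw [Scheme.Modules.Hom.comp_app, Scheme.Modules.Hom.comp_app]
  show ((Scheme.Modules.pullbackComp h g).hom.app G).app ((h ≫ g) ⁻¹ᵁ U k)
      (((Scheme.Modules.pullback h).map _).app _
        (((Scheme.Modules.pullbackComp h g).inv.app F).app ((h ≫ g) ⁻¹ᵁ U k) (pullSec (h ≫ g) m))) = _
  rw [pullbackComp_inv_app_pullSec]
  refine (congrArg _ (map_app_pullSec h _ (pullSec g m))).trans ?_
  rw [homEquiv_symm_app_pullSec, ← H k m]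
  rfl

end Adjoint

section Lift

/-- A linear map to sections of a pullback lifts to a stage: general form. -/
theorem exists_stage_lift_aux {J : Type u} [SmallCategory J] [IsCofiltered J]
    {E : J ⥤ Scheme.{u}} [∀ {i j} (f : i ⟶ j), IsAffineHom (E.map f)] {Y X : Scheme.{u}}
    (π : ∀ j, Y ⟶ E.obj j) (hπ : ∀ {j k} (φ : j ⟶ k), π j ≫ E.map φ = π k)
    (hlim : IsLimit (Cone.mk Y ⟨fun j => π j, fun j k φ => (Category.id_comp _).trans (hπ φ).symm⟩ :
      Cone E))
    (p : ∀ j, E.obj j ⟶ X) [∀ j, IsAffineHom (p j)]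
    (hp : ∀ {j k} (φ : j ⟶ k), E.map φ ≫ p k = p j) (q : Y ⟶ X) [IsAffineHom q]
    (hp' : ∀ j, π j ≫ p j = q) (F G : X.Modules) [Coh.IsQCoh F] [Coh.IsQCoh G] (hF : CohB1.IsFP F)
    {U : X.Opens} (hU : IsAffineOpen U)
    (h' : F ⟶ (Scheme.Modules.pushforward q).obj ((Scheme.Modules.pullback q).obj G)) :
    ∃ (j : J) (l : Γ(F, U) →ₗ[Γ(X, U)]
        Γ((Scheme.Modules.pushforward (p j)).obj ((Scheme.Modules.pullback (p j)).obj G), U)),
      ∀ m, (transHom (π j) (p j) (hp' j) G).app U (l m) = h'.app U m := by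
  let _ : ∀ j, Algebra Γ(X, U) Γ(E.obj j, p j ⁻¹ᵁ U) := fun j =>
    ((p j).appLE U (p j ⁻¹ᵁ U) le_rfl).hom.toAlgebra
  let _ : Algebra Γ(X, U) Γ(Y, q ⁻¹ᵁ U) := (q.appLE U (q ⁻¹ᵁ U) le_rfl).hom.toAlgebra
  have hs := colimSys_preimage hlim p hp q hp' hU
  let _ := Module.compHom Γ((Scheme.Modules.pullback q).obj G, q ⁻¹ᵁ U)
    (q.appLE U (q ⁻¹ᵁ U) le_rfl).hom
  have : IsScalarTower Γ(X, U) Γ(Y, q ⁻¹ᵁ U) Γ((Scheme.Modules.pullback q).obj G, q ⁻¹ᵁ U) :=
    IsScalarTower.of_algebraMap_smul fun _ _ => rfl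
  obtain ⟨μ, hμ, hμm⟩ := pullMap_isBaseChange q hU (hU.preimage q) le_rfl G
  have hFP := EGA43.QcohFP.finitePresentation_sections F hF hU
  let μe : Γ(Y, q ⁻¹ᵁ U) ⊗[Γ(X, U)] Γ(G, U) ≃ₗ[Γ(X, U)]
      Γ((Scheme.Modules.pullback q).obj G, q ⁻¹ᵁ U) := hμ.equiv.restrictScalars Γ(X, U)
  have hl : ∀ (r : Γ(X, U)) (m : Γ(F, U)), h'.app U (r • m) =
      r • (show Γ((Scheme.Modules.pullback q).obj G, q ⁻¹ᵁ U) from h'.app U m) := fun r m => by
    rw [Scheme.Modules.Hom.app_smul]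
    show q.app U r • (show Γ((Scheme.Modules.pullback q).obj G, q ⁻¹ᵁ U) from h'.app U m) =
      q.appLE U (q ⁻¹ᵁ U) le_rfl r • (show Γ((Scheme.Modules.pullback q).obj G, q ⁻¹ᵁ U) from h'.app U m)
    rw [Scheme.Hom.app_eq_appLE]
  let l : Γ(F, U) →ₗ[Γ(X, U)] Γ(Y, q ⁻¹ᵁ U) ⊗[Γ(X, U)] Γ(G, U) :=
    { toFun := fun m => μe.symm (h'.app U m)
      map_add' := fun a b => by rw [map_add]; exact map_add μe.symm _ _
      map_smul' := fun r m => by rw [hl, RingHom.id_apply, ← map_smul] }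
  obtain ⟨j, li, hli⟩ := exists_linearMap_lift hs Γ(F, U) Γ(G, U) l
  let _ := Module.compHom Γ((Scheme.Modules.pullback (p j)).obj G, p j ⁻¹ᵁ U)
    ((p j).appLE U (p j ⁻¹ᵁ U) le_rfl).hom
  have : IsScalarTower Γ(X, U) Γ(E.obj j, p j ⁻¹ᵁ U)
      Γ((Scheme.Modules.pullback (p j)).obj G, p j ⁻¹ᵁ U) :=
    IsScalarTower.of_algebraMap_smul fun _ _ => rfl
  obtain ⟨ν, hν, hνm⟩ := pullMap_isBaseChange (p j) hU (hU.preimage (p j)) le_rfl G
  let νe : Γ(E.obj j, p j ⁻¹ᵁ U) ⊗[Γ(X, U)] Γ(G, U) ≃ₗ[Γ(X, U)]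
      Γ((Scheme.Modules.pullback (p j)).obj G, p j ⁻¹ᵁ U) := hν.equiv.restrictScalars Γ(X, U)
  refine ⟨j,
    { toFun := fun m => νe (li m)
      map_add' := fun a b => by rw [map_add]; exact map_add νe _ _
      map_smul' := fun r m => by
        rw [map_smul, map_smul, RingHom.id_apply]
        show ((p j).appLE U (p j ⁻¹ᵁ U) le_rfl).hom r • νe (li m) = ((p j).app U).hom r • νe (li m)
        rw [Scheme.Hom.app_eq_appLE]
        }, fun m => ?_⟩
  show (transHom (π j) (p j) (hp' j) G).app U (hν.equiv (li m)) = _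
  have key : ∀ z : Γ(E.obj j, p j ⁻¹ᵁ U) ⊗[Γ(X, U)] Γ(G, U),
      (transHom (π j) (p j) (hp' j) G).app U (hν.equiv z) =
        hμ.equiv ((AlgHom.toLinearMap (⟨((π j).appLE (p j ⁻¹ᵁ U) (q ⁻¹ᵁ U)
          (by rw [← Scheme.Hom.comp_preimage, hp'])).hom, fun r => by
            show ((p j).appLE U _ _ ≫ (π j).appLE _ _ _) r = q.appLE U _ _ r
            rw [Scheme.Hom.appLE_comp_appLE]
            exact appLE_congr_apply (hp' j) _ _ _⟩ :
          Γ(E.obj j, p j ⁻¹ᵁ U) →ₐ[Γ(X, U)] Γ(Y, q ⁻¹ᵁ U))).rTensor Γ(G, U) z) := fun z => by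
    induction z using TensorProduct.induction_on with
    | zero => simp only [map_zero]
    | tmul a x =>
      rw [LinearMap.rTensor_tmul, AlgHom.toLinearMap_apply, hν.equiv_tmul, hμ.equiv_tmul, hνm, hμm,
        pullMap_eq_resM_pullSec, pullMap_eq_resM_pullSec, resM_refl, resM_refl]
      exact (transHom_smul (π j) (p j) (hp' j) G a (pullSec (p j) x)).trans
        (congrArg _ (transHom_pullSec (π j) (p j) (hp' j) G x))
    | add a b ha hb => simp only [map_add, ← ha, ← hb]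
  rw [key]
  refine (congrArg hμ.equiv (hli m)).trans ?_
  exact μe.apply_symm_apply _

variable {I : Type u} [SmallCategory I] [IsCofiltered I] {D : I ⥤ Scheme.{u}} {c : Cone D}
  [∀ {i j : I} (f : i ⟶ j), IsAffineHom (D.map f)] (hc : IsLimit c) {i : I}

include hc in
/-- A morphism to the limit lifts to a stage over an affine open. -/
theorem exists_stage_lift (F G : (D.obj i).Modules) [Coh.IsQCoh F] [Coh.IsQCoh G]
    (hF : CohB1.IsFP F) {U : (D.obj i).Opens} (hU : IsAffineOpen U)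
    (h' : F ⟶ (Scheme.Modules.pushforward (c.π.app i)).obj
      ((Scheme.Modules.pullback (c.π.app i)).obj G)) :
    ∃ (j : I) (φ : j ⟶ i) (l : Γ(F, U) →ₗ[Γ(D.obj i, U)]
        Γ((Scheme.Modules.pushforward (D.map φ)).obj ((Scheme.Modules.pullback (D.map φ)).obj G), U)),
      ∀ m, (transHom (c.π.app j) (D.map φ) (c.w φ) G).app U (l m) = h'.app U m := by
  have : ∀ {j k : Over i} (φ : j ⟶ k), IsAffineHom ((Over.forget i ⋙ D).map φ) := fun φ =>
    inferInstanceAs (IsAffineHom (D.map φ.left))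
  have : ∀ j : Over i, IsAffineHom (D.map j.hom) := fun j => inferInstance
  have := isAffineHom_π_app D c hc i
  obtain ⟨j, l, hl⟩ := exists_stage_lift_aux (E := Over.forget i ⋙ D)
    (Y := c.pt) (fun j => c.π.app j.left) (fun φ => c.w φ.left)
    (((Functor.Initial.isLimitWhiskerEquiv (Over.forget i) c).symm hc).ofIsoLimit
      (Cone.ext (Iso.refl _) (fun j => (Category.id_comp _).symm)))
    (fun j => D.map j.hom) (fun {j k} φ => by
      show D.map φ.left ≫ D.map k.hom = D.map j.hom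
      rw [← D.map_comp, Over.w]) (c.π.app i) (fun j => c.w j.hom) F G hF hU h'
  exact ⟨j.left, j.hom, l, hl⟩

include hc in
/-- Morphisms out of finitely presented modules descend. -/
theorem exists_stage_modHom [CompactSpace (D.obj i)] [QuasiSeparatedSpace (D.obj i)]
    (F G : (D.obj i).Modules) [Coh.IsQCoh F] [Coh.IsQCoh G] (hF : CohB1.IsFP F)
    (h : (Scheme.Modules.pullback (c.π.app i)).obj F ⟶ (Scheme.Modules.pullback (c.π.app i)).obj G) :
    ∃ (j : I) (φ : j ⟶ i) (hj : (Scheme.Modules.pullback (D.map φ)).obj F ⟶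
        (Scheme.Modules.pullback (D.map φ)).obj G),
      ((pullStageIso c φ).app F).inv ≫ (Scheme.Modules.pullback (c.π.app j)).map hj ≫
        ((pullStageIso c φ).app G).hom = h := by
  classical
  let h' := (Scheme.Modules.pullbackPushforwardAdjunction (c.π.app i)).homEquiv F _ h
  have hb : ∀ x : D.obj i, ∃ U : (D.obj i).Opens, IsAffineOpen U ∧ x ∈ U := fun x => by
    obtain ⟨U, hU, hx, -⟩ :=
      Opens.isBasis_iff_nbhd.mp (D.obj i).isBasis_affineOpens (Opens.mem_top x)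
    exact ⟨U, hU, hx⟩
  choose U hU hxU using hb
  obtain ⟨t, ht⟩ := CompactSpace.isCompact_univ.elim_finite_subcover
    (fun x => (U x : Set (D.obj i))) (fun x => (U x).2) fun x _ => Set.mem_iUnion.mpr ⟨x, hxU x⟩
  have hcov : ∀ y : D.obj i, ∃ k : t, y ∈ U k.1 := fun y => by
    obtain ⟨x, hx, hy⟩ := Set.mem_iUnion₂.mp (ht (Set.mem_univ y))
    exact ⟨⟨x, hx⟩, hy⟩
  have hlift := fun k : t => exists_stage_lift hc F G hF (hU k.1) h'
  choose jk φk lk hlk using hlift
  obtain ⟨J, g, gk, hg⟩ := IsCofiltered.wideCospan φk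
  have eg : ∀ k, D.map (gk k) ≫ D.map (φk k) = D.map g := fun k => by rw [← D.map_comp, hg]
  let ψ : ∀ k : t, locHom F
      ((Scheme.Modules.pushforward (D.map g)).obj ((Scheme.Modules.pullback (D.map g)).obj G))
      (U k.1) := fun k =>
    postComp (extendHom (hU k.1) (lk k)) (transHom (D.map (gk k)) (D.map (φk k)) (eg k) G)
  have hψ : ∀ k, postComp (ψ k) (transHom (c.π.app J) (D.map g) (c.w g) G) = homLoc h' (U k.1) := by
    intro k
    refine locHom_ext_cover (fun _ : Unit => U k.1) (fun _ => hU k.1) (fun _ => le_rfl)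
      (fun x hx => ⟨(), hx⟩) (fun _ => Set.univ) (fun _ => Submodule.span_univ) fun _ m _ => ?_
    show (transHom (c.π.app J) (D.map g) (c.w g) G).app (U k.1)
      ((transHom (D.map (gk k)) (D.map (φk k)) (eg k) G).app (U k.1)
        (ev (extendHom (hU k.1) (lk k)) (U k.1) le_rfl m)) = h'.app (U k.1) m
    have he : ev (extendHom (hU k.1) (lk k)) (U k.1) le_rfl m = lk k m := by
      have := ev_extendHom (hU k.1) (lk k) m (le_refl (U k.1))
      rwa [resM_refl, resM_refl] at this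
    rw [he, ← hlk k m, ← transHom_comp (D.map (gk k)) (c.π.app J) (D.map (φk k)) (eg k) (c.w g)
      (c.w (gk k)).symm (c.w (φk k)) G]
    rfl
  -- overlaps agree at a further stage
  have hov : ∀ p : t × t, ∃ (S : Finset (D.obj i)),
      ∃ V : (D.obj i) → (D.obj i).Opens, (∀ x ∈ S, IsAffineOpen (V x) ∧ V x ≤ U p.1.1 ⊓ U p.2.1) ∧
        ∀ y ∈ U p.1.1 ⊓ U p.2.1, ∃ x ∈ S, y ∈ V x := by
    intro p
    have hc' : IsCompact ((U p.1.1 ⊓ U p.2.1 : (D.obj i).Opens) : Set (D.obj i)) :=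
      QuasiSeparatedSpace.inter_isCompact _ _ (U p.1.1).2 (hU p.1.1).isCompact (U p.2.1).2
        (hU p.2.1).isCompact
    have hv : ∀ x : D.obj i, ∃ V : (D.obj i).Opens, x ∈ U p.1.1 ⊓ U p.2.1 →
        IsAffineOpen V ∧ x ∈ V ∧ V ≤ U p.1.1 ⊓ U p.2.1 := fun x => by
      by_cases hx : x ∈ U p.1.1 ⊓ U p.2.1
      · obtain ⟨V, hV, hxV, hVle⟩ := Opens.isBasis_iff_nbhd.mp (D.obj i).isBasis_affineOpens hx
        exact ⟨V, fun _ => ⟨hV, hxV, hVle⟩⟩
      · exact ⟨⊥, fun h => absurd h hx⟩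
    choose V hV using hv
    obtain ⟨S, hS⟩ := hc'.elim_finite_subcover
      (fun x : ((U p.1.1 ⊓ U p.2.1 : (D.obj i).Opens) : Set (D.obj i)) => (V x.1 : Set (D.obj i)))
      (fun x => (V x.1).2) fun x hx => Set.mem_iUnion.mpr ⟨⟨x, hx⟩, (hV x hx).2.1⟩
    refine ⟨S.image (·.1), V, fun x hx => ?_, fun y hy => ?_⟩
    · obtain ⟨z, -, rfl⟩ := Finset.mem_image.1 hx
      exact ⟨(hV z.1 z.2).1, (hV z.1 z.2).2.2⟩
    · obtain ⟨z, hz, hyz⟩ := Set.mem_iUnion₂.mp (hS hy)
      exact ⟨z.1, Finset.mem_image.2 ⟨z, hz, rfl⟩, hyz⟩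
  choose S V hV hVcov using hov
  have hfin := fun q : Σ p : t × t, ↥(S p) =>
    (finite_sections_of_isFT (haveI := hF; inferInstance : CohB1.IsFT F)
      (hV q.1 q.2.1 q.2.2).1).fg_top
  choose T hT using hfin
  have := EGA43.InjFibre.isQCoh_pullback (D.map g) G
  have hkill : ∀ r : Σ q : (Σ p : t × t, ↥(S p)), ↥(T q), ∃ (K : I) (η : K ⟶ J),
      pullSec (D.map η)
        ((ev (ψ r.1.1.1) (V r.1.1 r.1.2.1) ((hV r.1.1 r.1.2.1 r.1.2.2).2.trans inf_le_left) r.2.1 -
          ev (ψ r.1.1.2) (V r.1.1 r.1.2.1) ((hV r.1.1 r.1.2.1 r.1.2.2).2.trans inf_le_right) r.2.1 :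
          Γ((Scheme.Modules.pushforward (D.map g)).obj ((Scheme.Modules.pullback (D.map g)).obj G),
            V r.1.1 r.1.2.1)) :
          Γ((Scheme.Modules.pullback (D.map g)).obj G, D.map g ⁻¹ᵁ V r.1.1 r.1.2.1)) = 0 := by
    intro r
    refine exists_stage_pullSec_eq_zero hc ((Scheme.Modules.pullback (D.map g)).obj G)
      ((hV r.1.1 r.1.2.1 r.1.2.2).1.preimage (D.map g)) _ ?_
    refine (transHom_eq_zero_iff (c.π.app J) (D.map g) (c.w g) G _).1 ?_
    rw [map_sub, sub_eq_zero, ← ev_postComp, ← ev_postComp, hψ, hψ]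
    rfl
  choose Kr ηr hKr using hkill
  obtain ⟨K, η, ηk, hη⟩ := IsCofiltered.wideCospan ηr
  have eK : D.map η ≫ D.map g = D.map (η ≫ g) := (D.map_comp η g).symm
  let χ := fun k : t => postComp (ψ k) (transHom (D.map η) (D.map g) eK G)
  obtain ⟨Φ, hΦ⟩ := exists_hom_of_locHom (fun k : t => U k.1) hcov χ fun k l => by
    refine locHom_ext_cover (fun x : S (k, l) => V (k, l) x.1) (fun x => (hV _ _ x.2).1)
      (fun x => (hV _ _ x.2).2) (fun y hy => ?_) (fun x => (T ⟨(k, l), x⟩ : Set _))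
      (fun x => hT ⟨(k, l), x⟩) fun x m hm => ?_
    · obtain ⟨x, hx, hyx⟩ := hVcov (k, l) y hy
      exact ⟨⟨x, hx⟩, hyx⟩
    · show (transHom (D.map η) (D.map g) eK G).app _ (ev (ψ k) _ _ m) =
        (transHom (D.map η) (D.map g) eK G).app _ (ev (ψ l) _ _ m)
      rw [← sub_eq_zero, ← map_sub, transHom_eq_zero_iff]
      have := pullSec_comp_eq_zero (ηk ⟨⟨(k, l), x⟩, m, hm⟩) (hKr ⟨⟨(k, l), x⟩, m, hm⟩)
      rw [hη] at this
      exact this
  refine ⟨K, η ≫ g, ((Scheme.Modules.pullbackPushforwardAdjunction (D.map (η ≫ g))).homEquiv F _).symm Φ,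
    conj_eq_of_transHom (c.π.app K) (D.map (η ≫ g)) (c.w _) Φ h (fun k : t => U k.1)
      (fun k => hU k.1) hcov fun k m => ?_⟩
  rw [hΦ k (U k.1) le_rfl m, ← homEquiv_app_apply]
  show (transHom (c.π.app K) (D.map (η ≫ g)) (c.w _) G).app _
    ((transHom (D.map η) (D.map g) eK G).app _ (ev (ψ k) _ le_rfl m)) = _
  rw [← ConcreteCategory.comp_apply, ← Scheme.Modules.Hom.comp_app,
    transHom_comp (D.map η) (c.π.app K) (D.map g) eK (c.w _) (c.w η).symm (c.w g) G, ← ev_postComp,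
    hψ]
  rfl

include hc in
/-- Isomorphism classes of finitely presented modules descend. -/
theorem nonempty_iso_iff_eventually [CompactSpace (D.obj i)] [QuasiSeparatedSpace (D.obj i)]
    (F G : (D.obj i).Modules) [Coh.IsQCoh F] [Coh.IsQCoh G] (hF : CohB1.IsFP F)
    (hG : CohB1.IsFP G) :
    Nonempty ((Scheme.Modules.pullback (c.π.app i)).obj F ≅
        (Scheme.Modules.pullback (c.π.app i)).obj G) ↔
      ∃ (j : I) (φ : j ⟶ i), Nonempty ((Scheme.Modules.pullback (D.map φ)).obj F ≅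
        (Scheme.Modules.pullback (D.map φ)).obj G) := by
  constructor
  · rintro ⟨e⟩
    obtain ⟨j, φ, a, ha⟩ := exists_stage_modHom hc F G hF e.hom
    have := compactSpace_of_hom (D := D) φ
    have := EGA43.InjFibre.isQCoh_pullback (D.map φ) F
    have := EGA43.InjFibre.isQCoh_pullback (D.map φ) G
    have h1 : IsIso ((Scheme.Modules.pullback (c.π.app j)).map a) := by
      have : IsIso (((pullStageIso c φ).app F).inv ≫ (Scheme.Modules.pullback (c.π.app j)).map a ≫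
          ((pullStageIso c φ).app G).hom) := ha ▸ inferInstance
      have := IsIso.of_isIso_comp_left ((pullStageIso c φ).app F).inv
        ((Scheme.Modules.pullback (c.π.app j)).map a ≫ ((pullStageIso c φ).app G).hom)
      exact IsIso.of_isIso_comp_right _ ((pullStageIso c φ).app G).hom
    obtain ⟨k, ψ, hk⟩ := (isIso_iff_eventually hc
      (isFT_pullback_qcoh (D.map φ) ‹Coh.IsQCoh F› (haveI := hF; inferInstance))
      (Desc19b.ModStFib.isFP_pullback (D.map φ) G hG) a).1 h1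
    exact ⟨k, ψ ≫ φ, ⟨((pullCompIso φ ψ).app F).symm ≪≫
      asIso ((Scheme.Modules.pullback (D.map ψ)).map a) ≪≫ (pullCompIso φ ψ).app G⟩⟩
  · rintro ⟨j, φ, ⟨e⟩⟩
    exact ⟨((pullStageIso c φ).app F).symm ≪≫
      (Scheme.Modules.pullback (c.π.app j)).mapIso e ≪≫ (pullStageIso c φ).app G⟩

end Lift

end Groth.Agent.H8Lim
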