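import Groth.Agent.H8Lim.ModKill
import Groth.Agent.DCat.FlatPull

/-!
# EGA IV 8.5.2/8.5.6: equalities, epimorphisms, isomorphisms of pullbacks hold at a stage
-/

set_option autoImplicit false
set_option backward.isDefEq.respectTransparency false

universe u

open CategoryTheory CategoryTheory.Limits AlgebraicGeometry Opposite TopologicalSpace
open Groth.Agent.Coherent Groth.Agent.PicLib

namespace Groth.Agent.H8Lim

section Finite

variable {X : Scheme.{u}} {M N : X.Modules}

theorem finite_sections_of_isFT [Coh.IsQCoh M] (hM : CohB1.IsFT M) {U : X.Opens}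
    (hU : IsAffineOpen U) : Module.Finite Γ(X, U) Γ(M, U) :=
  finite_sections M (locallyFinGen_of_isFT M hM) hU

theorem isFT_of_finite_sections [Coh.IsQCoh M]
    (h : ∀ U : X.Opens, IsAffineOpen U → Module.Finite Γ(X, U) Γ(M, U)) : CohB1.IsFT M :=
  ((isCoh_iff_finite_sections M).2 ⟨inferInstance, h⟩).2

theorem shortExact_kernel (p : M ⟶ N) [Epi p] :
    (ShortComplex.mk (kernel.ι p) p (kernel.condition p)).ShortExact :=
  { exact := ShortComplex.exact_of_f_is_kernel _ (kernelIsKernel p) }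

theorem app_surjective_of_epi [Coh.IsQCoh M] [Coh.IsQCoh N] (p : M ⟶ N) [Epi p] {U : X.Opens}
    (hU : IsAffineOpen U) : Function.Surjective (p.app U) := by
  have : Coh.IsQCoh (kernel p) := isQCoh_kernel p
  exact @sections_surjective _ _ (shortExact_kernel p) ‹_› U hU

theorem isFT_of_epi [Coh.IsQCoh M] [Coh.IsQCoh N] (p : M ⟶ N) [Epi p] (hM : CohB1.IsFT M) :
    CohB1.IsFT N := by
  refine isFT_of_finite_sections fun U hU => ?_
  have := finite_sections_of_isFT hM hU
  exact Module.Finite.of_surjective (appLin p U) (app_surjective_of_epi p hU)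

theorem isFT_cokernel [Coh.IsQCoh M] [Coh.IsQCoh N] (f : M ⟶ N) (hN : CohB1.IsFT N) :
    CohB1.IsFT (cokernel f) :=
  have : Coh.IsQCoh (cokernel f) := isQCoh_cokernel f
  isFT_of_epi (cokernel.π f) hN

theorem isFT_kernel_of_fp [Coh.IsQCoh M] [Coh.IsQCoh N] (p : M ⟶ N) [Epi p] (hM : CohB1.IsFT M)
    (hN : CohB1.IsFP N) : CohB1.IsFT (kernel p) := by
  have : Coh.IsQCoh (kernel p) := isQCoh_kernel p
  refine isFT_of_finite_sections fun U hU => ?_
  have := finite_sections_of_isFT hM hU
  have := EGA43.QcohFP.finitePresentation_sections N hN hU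
  have hker := Module.FinitePresentation.fg_ker (appLin p U) (app_surjective_of_epi p hU)
  have := Module.Finite.iff_fg.mpr hker
  let κ := LinearMap.codRestrict (LinearMap.ker (appLin p U)) (appLin (kernel.ι p) U)
    fun k => kernel_ι_app_zero p U k
  have hinj : Function.Injective κ := fun a b h =>
    app_injective_of_mono (kernel.ι p) U (congrArg Subtype.val h)
  have hsurj : Function.Surjective κ := fun s => by
    obtain ⟨k, hk⟩ := kernel_sections_exact p s.1 s.2
    exact ⟨k, Subtype.ext hk⟩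
  exact Module.Finite.equiv (LinearEquiv.ofBijective κ ⟨hinj, hsurj⟩).symm

end Finite

variable {I : Type u} [SmallCategory I] [IsCofiltered I] {D : I ⥤ Scheme.{u}} {c : Cone D}
  [∀ {i j : I} (f : i ⟶ j), IsAffineHom (D.map f)] (hc : IsLimit c) {i : I}

theorem pullSec_comp_eq_zero {j k : I} {φ : j ⟶ i} (ψ : k ⟶ j) {G : (D.obj i).Modules}
    {U : (D.obj i).Opens} {x : Γ(G, U)} (hx : pullSec (D.map φ) x = 0) :
    pullSec (D.map (ψ ≫ φ)) x = 0 := by
  have h := pullbackComp_hom_app_pullSec (D.map ψ) (D.map φ) G x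
  rw [hx, pullSec_zero, map_zero] at h
  have key : ∀ (e : D.obj k ⟶ D.obj i), e = D.map ψ ≫ D.map φ → pullSec e x = 0 := by
    rintro e rfl
    exact h.symm
  exact key _ (D.map_comp ψ φ)

include hc in
/-- A morphism killed on the limit is killed at a stage. -/
theorem exists_stage_map_eq_zero [CompactSpace (D.obj i)] {F G : (D.obj i).Modules} [Coh.IsQCoh F]
    [Coh.IsQCoh G] (hF : CohB1.IsFT F) (d : F ⟶ G)
    (hd : (Scheme.Modules.pullback (c.π.app i)).map d = 0) :
    ∃ (j : I) (φ : j ⟶ i), (Scheme.Modules.pullback (D.map φ)).map d = 0 := by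
  classical
  have hb : ∀ x : D.obj i, ∃ U : (D.obj i).Opens, IsAffineOpen U ∧ x ∈ U := fun x => by
    obtain ⟨U, hU, hx, -⟩ :=
      Opens.isBasis_iff_nbhd.mp (D.obj i).isBasis_affineOpens (Opens.mem_top x)
    exact ⟨U, hU, hx⟩
  choose U hU hxU using hb
  obtain ⟨t, ht⟩ := CompactSpace.isCompact_univ.elim_finite_subcover
    (fun x => (U x : Set (D.obj i))) (fun x => (U x).2) fun x _ => Set.mem_iUnion.mpr ⟨x, hxU x⟩
  have hfin := fun x : t => (finite_sections_of_isFT hF (hU x.1)).fg_top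
  choose S hS using hfin
  have hkill : ∀ p : Σ x : t, ↥(S x), ∃ (j : I) (φ : j ⟶ i),
      pullSec (D.map φ) (d.app (U p.1.1) p.2.1) = 0 := fun p => by
    refine exists_stage_pullSec_eq_zero hc G (hU _) _ ?_
    rw [← map_app_pullSec, hd, Scheme.Modules.Hom.zero_app]
    rfl
  choose j φ hj using hkill
  obtain ⟨l, g, gk, hg⟩ := IsCofiltered.wideCospan φ
  refine ⟨l, g, hom_ext_pullSec (D.map g) _ _ (fun x : t => U x.1) (fun x => hU _) (fun y => ?_)
    (fun x => (S x : Set Γ(F, U x.1))) hS fun x m hm => ?_⟩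
  · obtain ⟨x, hx, hy⟩ := Set.mem_iUnion₂.mp (ht (Set.mem_univ (D.map g y)))
    exact ⟨⟨x, hx⟩, hy⟩
  · rw [map_app_pullSec, Scheme.Modules.Hom.zero_app]
    have := pullSec_comp_eq_zero (gk ⟨x, m, hm⟩) (hj ⟨x, m, hm⟩)
    rw [hg] at this
    exact this

omit [IsCofiltered I] [∀ {i j : I} (f : i ⟶ j), IsAffineHom (D.map f)] in
theorem map_eq_zero_of_stage {j : I} (φ : j ⟶ i) {F G : (D.obj i).Modules} (d : F ⟶ G)
    (h : (Scheme.Modules.pullback (D.map φ)).map d = 0) :
    (Scheme.Modules.pullback (c.π.app i)).map d = 0 := by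
  let e := Scheme.Modules.pullbackComp (c.π.app j) (D.map φ) ≪≫
    Scheme.Modules.pullbackCongr (c.w φ)
  rw [← cancel_epi (e.hom.app F), ← e.hom.naturality d, Functor.comp_map, h, Functor.map_zero,
    zero_comp, comp_zero]

include hc in
theorem map_eq_zero_iff_eventually [CompactSpace (D.obj i)] {F G : (D.obj i).Modules} [Coh.IsQCoh F]
    [Coh.IsQCoh G] (hF : CohB1.IsFT F) (d : F ⟶ G) :
    (Scheme.Modules.pullback (c.π.app i)).map d = 0 ↔
      ∃ (j : I) (φ : j ⟶ i), (Scheme.Modules.pullback (D.map φ)).map d = 0 :=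
  ⟨exists_stage_map_eq_zero hc hF d, fun ⟨_, φ, h⟩ => map_eq_zero_of_stage φ d h⟩

include hc in
theorem map_eq_iff_eventually [CompactSpace (D.obj i)] {F G : (D.obj i).Modules} [Coh.IsQCoh F]
    [Coh.IsQCoh G] (hF : CohB1.IsFT F) (a b : F ⟶ G) :
    (Scheme.Modules.pullback (c.π.app i)).map a = (Scheme.Modules.pullback (c.π.app i)).map b ↔
      ∃ (j : I) (φ : j ⟶ i),
        (Scheme.Modules.pullback (D.map φ)).map a = (Scheme.Modules.pullback (D.map φ)).map b := by
  simp only [← sub_eq_zero (a := (Scheme.Modules.pullback _).map a), ← CategoryTheory.Functor.map_sub]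
  exact map_eq_zero_iff_eventually hc hF (a - b)

omit [IsCofiltered I] [∀ {i j : I} (f : i ⟶ j), IsAffineHom (D.map f)] in
theorem map_comp_eq_zero {j k : I} (φ : j ⟶ i) (ψ : k ⟶ j) {F G : (D.obj i).Modules} (d : F ⟶ G)
    (h : (Scheme.Modules.pullback (D.map φ)).map d = 0) :
    (Scheme.Modules.pullback (D.map (ψ ≫ φ))).map d = 0 := by
  let e := Scheme.Modules.pullbackComp (D.map ψ) (D.map φ) ≪≫
    Scheme.Modules.pullbackCongr (D.map_comp ψ φ).symm
  rw [← cancel_epi (e.hom.app F), ← e.hom.naturality d, Functor.comp_map, h, Functor.map_zero,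
    zero_comp, comp_zero]

theorem pullback_map_cokernel_π_eq_zero {X Y : Scheme.{u}} (f : Y ⟶ X) {F G : X.Modules}
    (a : F ⟶ G) :
    (Scheme.Modules.pullback f).map (𝟙 (cokernel a)) = 0 ↔
      Epi ((Scheme.Modules.pullback f).map a) := by
  rw [CategoryTheory.Functor.map_id, ← IsZero.iff_id_eq_zero]
  constructor
  · intro h
    exact Preadditive.epi_of_isZero_cokernel _ (h.of_iso (PreservesCokernel.iso _ a).symm)
  · intro h
    exact (isZero_cokernel_of_epi _).of_iso (PreservesCokernel.iso _ a)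

include hc in
/-- Epimorphisms descend. -/
theorem epi_iff_eventually [CompactSpace (D.obj i)] {F G : (D.obj i).Modules} [Coh.IsQCoh F]
    [Coh.IsQCoh G] (hG : CohB1.IsFT G) (a : F ⟶ G) :
    Epi ((Scheme.Modules.pullback (c.π.app i)).map a) ↔
      ∃ (j : I) (φ : j ⟶ i), Epi ((Scheme.Modules.pullback (D.map φ)).map a) := by
  simp only [← pullback_map_cokernel_π_eq_zero]
  have : Coh.IsQCoh (cokernel a) := isQCoh_cokernel a
  exact map_eq_zero_iff_eventually hc (isFT_cokernel a hG) _

end Groth.Agent.H8Lim
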