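import Mathlib.AlgebraicGeometry.Morphisms.Immersion
import Groth.Agent.H8Lim.Descent

/-!
# Properties of the structure maps of the stages of a limit

EGA IV 8 / Stacks 01ZN, in absolute form: properties of `lim X_i → S` hold for `X_i → S` eventually.
-/

set_option backward.isDefEq.respectTransparency.types false

universe u

open CategoryTheory Limits AlgebraicGeometry Topology

namespace Groth.Agent.H8Lim

variable {I : Type u} [SmallCategory I] [IsCofiltered I] {D : I ⥤ Scheme.{u}} {S : Scheme.{u}}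
  (t : D ⟶ (Functor.const I).obj S) {c : Cone D} (hc : IsLimit c)
  [∀ {i j} (f : i ⟶ j), IsAffineHom (D.map f)] {s : c.pt ⟶ S}
  (hs : ∀ i, c.π.app i ≫ t.app i = s)

omit [IsCofiltered I] [∀ {i j} (f : i ⟶ j), IsAffineHom (D.map f)] in
lemma map_comp_stage {i j : I} (f : i ⟶ j) : D.map f ≫ t.app j = t.app i := by
  simp [t.naturality f]

omit [IsCofiltered I] [∀ {i j} (f : i ⟶ j), IsAffineHom (D.map f)] in
lemma preimage_map_stage {i j : I} (f : i ⟶ j) (V : S.Opens) :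
    D.map f ⁻¹ᵁ t.app j ⁻¹ᵁ V = t.app i ⁻¹ᵁ V := by
  rw [← Scheme.Hom.comp_preimage, map_comp_stage t f]

include hs in
omit [IsCofiltered I] [∀ {i j} (f : i ⟶ j), IsAffineHom (D.map f)] in
lemma preimage_π_stage (i : I) (V : S.Opens) : c.π.app i ⁻¹ᵁ t.app i ⁻¹ᵁ V = s ⁻¹ᵁ V := by
  rw [← Scheme.Hom.comp_preimage, hs i]

omit [∀ {i j} (f : i ⟶ j), IsAffineHom (D.map f)] in
lemma exists_forall_of_finite {κ : Type*} [Finite κ] (p : κ → I → Prop)
    (h : ∀ k, ∃ i, ∀ j, (j ⟶ i) → p k j) : ∃ i, ∀ j, (j ⟶ i) → ∀ k, p k j := by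
  classical
  cases nonempty_fintype κ
  choose i hi using h
  obtain ⟨l, hl⟩ := IsCofiltered.inf_objs_exists (Finset.univ.image i)
  exact ⟨l, fun j g k ↦ hi k j (g ≫ (hl (Finset.mem_image_of_mem i (Finset.mem_univ k))).some)⟩

include hc hs in
/-- If the preimage of an affine open in the limit is affine, so is it in a stage. -/
lemma exists_forall_isAffineOpen [∀ i, CompactSpace (D.obj i)]
    [∀ i, QuasiSeparatedSpace (D.obj i)] [QuasiSeparatedSpace S] {W : S.Opens}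
    (hW : IsAffineOpen W) (h : IsAffineOpen (s ⁻¹ᵁ W)) :
    ∃ i, ∀ j, (j ⟶ i) → IsAffineOpen (t.app j ⁻¹ᵁ W) := by
  obtain ⟨i₀⟩ := IsCofiltered.nonempty (C := I)
  obtain ⟨k, V, hV, hVs⟩ := exists_isAffineOpen_preimage_eq D c hc _ h
  have : ∀ i, QuasiCompact (t.app i) := fun i ↦
    @quasiCompact_of_compactSpace (D.obj i) S (t.app i) _ ‹QuasiSeparatedSpace S›
  obtain ⟨l, g, hl⟩ := exists_map_preimage_eq_map_preimage D c hc hV.isCompact
    ((t.app k).isCompact_preimage hW.isCompact)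
    (hVs.trans (preimage_π_stage t hs k W).symm)
  refine ⟨l, fun j f ↦ ?_⟩
  rw [← preimage_map_stage t (f ≫ g) W, D.map_comp, Scheme.Hom.comp_preimage, ← hl]
  exact (hV.preimage _).preimage _

include hc hs in
/-- EGA IV 8.10.5 (viii), absolute form. -/
theorem exists_forall_isAffineHom [∀ i, CompactSpace (D.obj i)]
    [∀ i, QuasiSeparatedSpace (D.obj i)] [CompactSpace S] [QuasiSeparatedSpace S]
    [IsAffineHom s] : ∃ i₁ : I, ∀ i, (i ⟶ i₁) → IsAffineHom (t.app i) := by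
  let 𝒰 := S.affineCover.finiteSubcover
  have hU : ∀ k, IsAffineOpen (𝒰.f k).opensRange := fun k ↦
    have : IsAffine (𝒰.X k) := inferInstanceAs (IsAffine (Spec _))
    isAffineOpen_opensRange _
  obtain ⟨i, hi⟩ := exists_forall_of_finite
    (fun k j ↦ IsAffineOpen (t.app j ⁻¹ᵁ (𝒰.f k).opensRange))
    fun k ↦ exists_forall_isAffineOpen t hc hs (hU k) ((hU k).preimage s)
  refine ⟨i, fun j f ↦ IsZariskiLocalAtTarget.of_iSup_eq_top (P := @IsAffineHom)
    (fun k ↦ (𝒰.f k).opensRange) 𝒰.isOpenCover_opensRange fun k ↦ ?_⟩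
  have : IsAffine (t.app j ⁻¹ᵁ (𝒰.f k).opensRange) := hi j f k
  have : IsAffine (𝒰.f k).opensRange := hU k
  infer_instance

omit [IsCofiltered I] [∀ {i j} (f : i ⟶ j), IsAffineHom (D.map f)] in
lemma affineAnd_morphismRestrict {Q : ∀ {R S : Type u} [CommRing R] [CommRing S], (R →+* S) → Prop}
    (hQ : RingHom.RespectsIso Q) {X Y : Scheme.{u}} (f : X ⟶ Y) (W : Y.Opens) [IsAffine W] :
    affineAnd Q (f ∣_ W) ↔ IsAffineOpen (f ⁻¹ᵁ W) ∧ Q (f.app W).hom := by
  rw [affineAnd_apply, Scheme.Hom.appTop, morphismRestrict_app]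
  constructor
  · rintro ⟨h, hf⟩
    refine ⟨h, ?_⟩
    have hf : Q (Scheme.Hom.app f (W.ι ''ᵁ ⊤)).hom := (hQ.cancel_right_isIso _ _).mp hf
    rwa [Scheme.Opens.ι_image_top] at hf
  · rintro ⟨h, hf⟩
    refine ⟨h, (hQ.cancel_right_isIso _ _).mpr ?_⟩
    rwa [Scheme.Opens.ι_image_top]

omit [IsCofiltered I] [∀ {i j} (f : i ⟶ j), IsAffineHom (D.map f)] in
lemma appLE_of_eq {X Y : Scheme.{u}} (f : X ⟶ Y) {V : Y.Opens} {U : X.Opens} (e : U = f ⁻¹ᵁ V)
    (P : ∀ {R S : CommRingCat.{u}} (_ : R ⟶ S), Prop) (h : P (f.app V)) :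
    P (f.appLE V U e.le) := by
  subst e
  rwa [Scheme.Hom.appLE_eq_app]

/-- The transition map of sections over the preimages of `W`. -/
noncomputable def res (W : S.Opens) {i j : I} (φ : j ⟶ i) :
    Γ(D.obj i, t.app i ⁻¹ᵁ W) ⟶ Γ(D.obj j, t.app j ⁻¹ᵁ W) :=
  (D.map φ).appLE _ _ (preimage_map_stage t φ W).ge

omit [IsCofiltered I] [∀ {i j} (f : i ⟶ j), IsAffineHom (D.map f)] in
@[reassoc]
lemma res_comp (W : S.Opens) {i j k : I} (φ : j ⟶ i) (ψ : k ⟶ j) :
    res t W φ ≫ res t W ψ = res t W (ψ ≫ φ) := by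
  simp only [res, Scheme.Hom.appLE_comp_appLE, D.map_comp]

omit [IsCofiltered I] [∀ {i j} (f : i ⟶ j), IsAffineHom (D.map f)] in
@[reassoc]
lemma app_comp_res (W : S.Opens) {i j : I} (φ : j ⟶ i) :
    (t.app i).app W ≫ res t W φ = (t.app j).app W := by
  dsimp only [res]
  rw [Scheme.Hom.app_eq_appLE, Scheme.Hom.appLE_comp_appLE, Scheme.Hom.app_eq_appLE]
  simp only [map_comp_stage t φ]

omit [IsCofiltered I] [∀ {i j} (f : i ⟶ j), IsAffineHom (D.map f)] in
lemma res_app (W : S.Opens) {i j : I} (φ : j ⟶ i) (r : Γ(S, W)) :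
    res t W φ ((t.app i).app W r) = (t.app j).app W r := by
  rw [← CommRingCat.comp_apply, app_comp_res]

include hc in
lemma exists_res_eq (W : S.Opens) {i : I} (hU : IsCompact (X := D.obj i) ↑(t.app i ⁻¹ᵁ W))
    (x y : Γ(D.obj i, t.app i ⁻¹ᵁ W)) (h : (c.π.app i).app _ x = (c.π.app i).app _ y) :
    ∃ (j : I) (φ : j ⟶ i), res t W φ x = res t W φ y := by
  obtain ⟨j, φ, e⟩ := exists_app_map_eq_map_of_isLimit D c hc hU x y h
  refine ⟨j, φ, ?_⟩
  simp only [res, Scheme.Hom.appLE, CommRingCat.comp_apply, e]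

omit [IsCofiltered I] [∀ {i j} (f : i ⟶ j), IsAffineHom (D.map f)] in
lemma exists_finset_forall_mem {B C : CommRingCat.{u}} (f : C ⟶ B) (hf : f.hom.FiniteType) :
    ∃ σ : Finset B, ∀ {A : CommRingCat.{u}} (φ : B ⟶ A) (T : Subring A),
      (∀ r, φ (f r) ∈ T) → (∀ x ∈ σ, φ x ∈ T) → ∀ x, φ x ∈ T := by
  let := f.hom.toAlgebra
  obtain ⟨σ, hσ⟩ := (hf : Algebra.FiniteType C B).out
  refine ⟨σ, fun {A} φ T h₀ h x ↦ ?_⟩
  let A' : Subalgebra C B := { (T.comap φ.hom).toSubsemiring with algebraMap_mem' := h₀ }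
  have : A' = ⊤ := top_le_iff.mp (hσ ▸ Algebra.adjoin_le fun x hx ↦ h x hx)
  exact (this.ge trivial : x ∈ A')

omit [IsCofiltered I] [∀ {i j} (f : i ⟶ j), IsAffineHom (D.map f)] in
lemma finiteType_app {W : S.Opens} (hW : IsAffineOpen W) (i : I)
    [LocallyOfFiniteType (t.app i)] (hi : IsAffineOpen (t.app i ⁻¹ᵁ W)) :
    ((t.app i).app W).hom.FiniteType := by
  rw [Scheme.Hom.app_eq_appLE]
  exact HasRingHomProperty.appLE @LocallyOfFiniteType (t.app i) ‹_› ⟨W, hW⟩ ⟨_, hi⟩ le_rfl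

include hc hs in
/-- Closed immersion over an affine open of the base descends to a stage. -/
lemma exists_forall_isClosedImmersion_restrict [∀ i, CompactSpace (D.obj i)]
    [∀ i, QuasiSeparatedSpace (D.obj i)] [QuasiSeparatedSpace S] {W : S.Opens}
    (hW : IsAffineOpen W) [IsClosedImmersion (s ∣_ W)]
    (hcl : ∀ {i j : I} (f : i ⟶ j), IsClosedImmersion (D.map f))
    (hlft : ∀ i, LocallyOfFiniteType (t.app i)) :
    ∃ i, ∀ j, (j ⟶ i) → IsClosedImmersion (t.app j ∣_ W) := by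
  have : IsAffine W := hW
  obtain ⟨hsW, hsurj'⟩ := (affineAnd_morphismRestrict RingHom.surjective_respectsIso s W).mp
    ((HasAffineProperty.iff_of_isAffine (P := @IsClosedImmersion)).mp ‹_›)
  obtain ⟨i, hi⟩ := exists_forall_isAffineOpen t hc hs hW hsW
  have hiW := hi i (𝟙 i)
  have hsurj : Function.Surjective ((c.π.app i ≫ t.app i).app W) := by
    rw [hs i]
    exact hsurj'
  obtain ⟨σ, hσ⟩ := exists_finset_forall_mem _ (finiteType_app t hW i hiW)
  have key : ∀ x ∈ σ, ∃ (j : I) (φ : j ⟶ i), res t W φ x ∈ ((t.app j).app W).hom.range := by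
    intro x _
    obtain ⟨r, hr⟩ := hsurj ((c.π.app i).app _ x)
    obtain ⟨j, φ, hj⟩ := exists_res_eq t hc W hiW.isCompact x ((t.app i).app W r) hr.symm
    exact ⟨j, φ, r, by rw [hj, res_app]⟩
  choose j φ hj using key
  obtain ⟨l, g, gk, hg⟩ := IsCofiltered.wideCospan (fun x : σ ↦ φ x.1 x.2)
  refine ⟨l, fun m f ↦ ?_⟩
  have hgsurj : Function.Surjective (res t W (f ≫ g)) :=
    appLE_of_eq _ (preimage_map_stage t (f ≫ g) W).symm (fun g ↦ Function.Surjective g)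
      ((D.map (f ≫ g)).app_surjective _ hiW)
  have : Function.Surjective ((t.app m).app W) := fun z ↦ by
    obtain ⟨x, rfl⟩ := hgsurj z
    refine hσ (res t W (f ≫ g)) ((t.app m).app W).hom.range (fun r ↦ ⟨r, ?_⟩) (fun x hx ↦ ?_) x
    · exact (res_app t W _ r).symm
    · obtain ⟨r, hr⟩ := hj x hx
      refine ⟨r, ?_⟩
      rw [← hg ⟨x, hx⟩, ← Category.assoc, ← res_comp, CommRingCat.comp_apply, ← hr, res_app]
  rw [HasAffineProperty.iff_of_isAffine (P := @IsClosedImmersion)]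
  exact (affineAnd_morphismRestrict RingHom.surjective_respectsIso _ W).mpr ⟨hi m (f ≫ g), this⟩

include hc hs in
/-- EGA IV 8.10.5 (iv), absolute form. -/
theorem exists_forall_isClosedImmersion [∀ i, CompactSpace (D.obj i)]
    [∀ i, QuasiSeparatedSpace (D.obj i)] [CompactSpace S] [QuasiSeparatedSpace S]
    [IsClosedImmersion s] (hcl : ∀ {i j : I} (f : i ⟶ j), IsClosedImmersion (D.map f))
    (hlft : ∀ i, LocallyOfFiniteType (t.app i)) :
    ∃ i, ∀ j, (j ⟶ i) → IsClosedImmersion (t.app j) := by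
  let 𝒰 := S.affineCover.finiteSubcover
  have hU : ∀ k, IsAffineOpen (𝒰.f k).opensRange := fun k ↦
    have : IsAffine (𝒰.X k) := inferInstanceAs (IsAffine (Spec _))
    isAffineOpen_opensRange _
  obtain ⟨i, hi⟩ := exists_forall_of_finite
    (fun k j ↦ IsClosedImmersion (t.app j ∣_ (𝒰.f k).opensRange))
    fun k ↦ exists_forall_isClosedImmersion_restrict t hc hs (hU k) hcl hlft
  exact ⟨i, fun j f ↦ IsZariskiLocalAtTarget.of_iSup_eq_top (P := @IsClosedImmersion)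
    (fun k ↦ (𝒰.f k).opensRange) 𝒰.isOpenCover_opensRange fun k ↦ hi j f k⟩

include hc hs in
/-- EGA IV 8.10.5 (x), absolute form. -/
theorem exists_forall_isFinite [∀ i, CompactSpace (D.obj i)]
    [∀ i, QuasiSeparatedSpace (D.obj i)] [CompactSpace S] [QuasiSeparatedSpace S]
    [IsIntegralHom s] (hfin : ∀ {i j : I} (f : i ⟶ j), IsIntegralHom (D.map f))
    (hlft : ∀ i, LocallyOfFiniteType (t.app i)) :
    ∃ i, ∀ j, (j ⟶ i) → IsFinite (t.app j) := by
  obtain ⟨i₁, hi₁⟩ := exists_forall_isAffineHom t hc hs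
  let 𝒰 := S.affineCover.finiteSubcover
  have hU : ∀ k, IsAffineOpen (𝒰.f k).opensRange := fun k ↦
    have : IsAffine (𝒰.X k) := inferInstanceAs (IsAffine (Spec _))
    isAffineOpen_opensRange _
  suffices ∀ W : S.Opens, IsAffineOpen W →
      ∃ i, ∀ j, (j ⟶ i) → IsFinite (t.app j ∣_ W) by
    obtain ⟨i, hi⟩ := exists_forall_of_finite
      (fun k j ↦ IsFinite (t.app j ∣_ (𝒰.f k).opensRange)) fun k ↦ this _ (hU k)
    exact ⟨i, fun j f ↦ IsZariskiLocalAtTarget.of_iSup_eq_top (P := @IsFinite)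
      (fun k ↦ (𝒰.f k).opensRange) 𝒰.isOpenCover_opensRange fun k ↦ hi j f k⟩
  intro W hW
  have : IsAffine W := hW
  have := hi₁ i₁ (𝟙 _)
  have hiW : IsAffineOpen (t.app i₁ ⁻¹ᵁ W) := hW.preimage _
  have hint : ((c.π.app i₁ ≫ t.app i₁).app W).hom.IsIntegral := by
    rw [hs i₁]
    exact IsIntegralHom.isIntegral_app s W hW
  have := hlft i₁
  obtain ⟨σ, hσ⟩ := exists_finset_forall_mem _ (finiteType_app t hW i₁ hiW)
  have key : ∀ x ∈ σ, ∃ (j : I) (φ : j ⟶ i₁),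
      ((t.app j).app W).hom.IsIntegralElem (res t W φ x) := by
    intro x _
    obtain ⟨q, hq, hqx⟩ := hint ((c.π.app i₁).app _ x)
    obtain ⟨j, φ, hj⟩ := exists_res_eq t hc W hiW.isCompact
      (q.eval₂ ((t.app i₁).app W).hom x) 0 (by
        rw [map_zero]
        exact (Polynomial.hom_eval₂ q _ ((c.π.app i₁).app _).hom x).trans hqx)
    refine ⟨j, φ, q, hq, ?_⟩
    rw [map_zero] at hj
    rw [← hj, ← app_comp_res t W φ, CommRingCat.hom_comp]
    exact (Polynomial.hom_eval₂ q _ _ x).symm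
  choose j φ hj using key
  obtain ⟨l, g, gk, hg⟩ := IsCofiltered.wideCospan (fun x : σ ↦ φ x.1 x.2)
  refine ⟨l, fun m f ↦ ?_⟩
  have := hi₁ m (f ≫ g)
  have hmW : IsAffineOpen (t.app m ⁻¹ᵁ W) := hW.preimage _
  let : Algebra Γ(S, W) Γ(D.obj m, t.app m ⁻¹ᵁ W) := ((t.app m).app W).hom.toAlgebra
  let A : Subalgebra Γ(S, W) Γ(D.obj m, t.app m ⁻¹ᵁ W) :=
    integralClosure Γ(S, W) Γ(D.obj m, t.app m ⁻¹ᵁ W)
  have hT : ∀ x, res t W (f ≫ g) x ∈ A.toSubring := by
    refine hσ (res t W (f ≫ g)) A.toSubring (fun r ↦ ?_) (fun x hx ↦ ?_)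
    · rw [res_app]
      exact ((t.app m).app W).hom.isIntegralElem_map
    · obtain ⟨q, hq, hqx⟩ := hj x hx
      refine ⟨q, hq, ?_⟩
      change q.eval₂ ((t.app m).app W).hom _ = 0
      rw [← hg ⟨x, hx⟩, ← Category.assoc, ← res_comp, CommRingCat.comp_apply,
        ← app_comp_res t W (f ≫ gk ⟨x, hx⟩), CommRingCat.hom_comp, ← Polynomial.hom_eval₂]
      exact (congrArg _ hqx).trans (map_zero _)
  have hi : ((t.app m).app W).hom.IsIntegral := by
    intro z
    have := hfin (f ≫ g)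
    have hz : (res t W (f ≫ g)).hom.IsIntegralElem z :=
      appLE_of_eq _ (preimage_map_stage t (f ≫ g) W).symm (fun g ↦ g.hom.IsIntegral)
        (IsIntegralHom.isIntegral_app _ _ hiW) z
    have hz' : IsIntegral A z := by
      obtain ⟨q, hq, hqz⟩ := hz
      refine ⟨q.map ((res t W (f ≫ g)).hom.codRestrict A.toSubring hT), hq.map _, ?_⟩
      rw [Polynomial.eval₂_map]
      exact hqz
    exact (isIntegral_trans (R := Γ(S, W)) (A := A) z hz' : IsIntegral Γ(S, W) z)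
  have := hlft m
  rw [HasAffineProperty.iff_of_isAffine (P := @IsFinite)]
  exact (affineAnd_morphismRestrict RingHom.finite_respectsIso _ W).mpr ⟨hmW,
    RingHom.finite_iff_isIntegral_and_finiteType.mpr ⟨hi, finiteType_app t hW m hmW⟩⟩

include hc hs in
/-- EGA IV 8.10.5 (iii), absolute form. -/
theorem exists_forall_isImmersion [∀ i, CompactSpace (D.obj i)]
    [∀ i, QuasiSeparatedSpace (D.obj i)] [QuasiSeparatedSpace S] [IsImmersion s]
    (hcl : ∀ {i j : I} (f : i ⟶ j), IsClosedImmersion (D.map f))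
    (hlft : ∀ i, LocallyOfFiniteType (t.app i)) :
    ∃ i, ∀ j, (j ⟶ i) → IsImmersion (t.app j) := by
  obtain ⟨i₀⟩ := IsCofiltered.nonempty (C := I)
  obtain ⟨i₂, φ, hi₂⟩ := exists_map_eq_top D c hc (t.app i₀ ⁻¹ᵁ s.coborderRange) (by
    rw [preimage_π_stage t hs]
    exact top_le_iff.mp fun x _ ↦ subset_coborder ⟨x, rfl⟩)
  rw [preimage_map_stage t φ] at hi₂
  obtain ⟨κ, _, V, hV, hle, hcov⟩ : ∃ (κ : Type u) (_ : Finite κ) (V : κ → S.Opens),
      (∀ k, IsAffineOpen (V k)) ∧ (∀ k, V k ≤ s.coborderRange) ∧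
        Set.range (t.app i₂) ⊆ ⋃ k, (V k : Set S) := by
    obtain ⟨σ, hσ⟩ := (isCompact_range (t.app i₂).continuous).elim_finite_subcover
      (fun V : { V : S.Opens // IsAffineOpen V ∧ V ≤ s.coborderRange } ↦ (V.1 : Set S))
      (fun V ↦ V.1.2) (by
        rintro _ ⟨x, rfl⟩
        have : x ∈ t.app i₂ ⁻¹ᵁ s.coborderRange := hi₂ ▸ trivial
        obtain ⟨_, ⟨V, hV, rfl⟩, hxV, hVle⟩ := S.isBasis_affineOpens.exists_subset_of_mem_open
          (this : t.app i₂ x ∈ (s.coborderRange : Set S)) s.coborderRange.2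
        exact Set.mem_iUnion.mpr ⟨⟨V, hV, hVle⟩, hxV⟩)
    refine ⟨σ, inferInstance, fun k ↦ k.1.1, fun k ↦ k.1.2.1, fun k ↦ k.1.2.2,
      hσ.trans (Set.iUnion₂_subset fun V hV ↦ ?_)⟩
    exact Set.subset_iUnion_of_subset ⟨V, hV⟩ subset_rfl
  have hres : ∀ k, IsClosedImmersion (s ∣_ V k) := fun k ↦ by
    refine .of_isPreimmersion _ ?_
    rw [show Set.range (s ∣_ V k) = (V k).ι ⁻¹' Set.range s by
      rw [morphismRestrict_base]; exact Set.range_restrictPreimage ..]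
    suffices ((V k).ι ⁻¹' closure (Set.range s)) = (V k).ι ⁻¹' Set.range s by
      rw [← this]
      exact isClosed_closure.preimage (V k).ι.continuous
    ext y
    exact ⟨fun hy ↦ (coborder_inter_closure (s := Set.range s)).subset
      ⟨(hle k y.2 : (V k).ι y ∈ coborder (Set.range s)), hy⟩, fun hy ↦ subset_closure hy⟩
  obtain ⟨i, hi⟩ := exists_forall_of_finite (fun k j ↦ IsClosedImmersion (t.app j ∣_ V k))
    fun k ↦ have := hres k; exists_forall_isClosedImmersion_restrict t hc hs (hV k) hcl hlft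
  refine ⟨IsCofiltered.min i i₂, fun j f ↦ ?_⟩
  let O : S.Opens := ⨆ k, V k
  have htop : t.app j ⁻¹ᵁ O = ⊤ := top_le_iff.mp fun x _ ↦ by
    obtain ⟨k, hk⟩ := Set.mem_iUnion.mp (hcov ⟨D.map (f ≫ IsCofiltered.minToRight i i₂) x, rfl⟩)
    rw [← Scheme.Hom.comp_apply, map_comp_stage t] at hk
    exact (le_iSup V k) hk
  have : IsClosedImmersion (t.app j ∣_ O) := by
    refine IsZariskiLocalAtTarget.of_iSup_eq_top (P := @IsClosedImmersion)
      (fun k ↦ O.ι ⁻¹ᵁ V k) ?_ fun k ↦ ?_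
    · rw [← Scheme.Hom.preimage_iSup]
      exact O.ι_preimage_self
    · rw [MorphismProperty.arrow_mk_iso_iff @IsClosedImmersion (morphismRestrictRestrict _ O _)]
      have : O.ι ''ᵁ O.ι ⁻¹ᵁ V k = V k := by
        rw [Scheme.Hom.image_preimage_eq_opensRange_inf, Scheme.Opens.opensRange_ι,
          inf_eq_right.mpr (le_iSup V k)]
      rw [this]
      exact hi j (f ≫ IsCofiltered.minToLeft i i₂) k
  have e : t.app j = (D.obj j).topIso.inv ≫ ((D.obj j).isoOfEq htop).inv ≫ (t.app j ∣_ O) ≫ O.ι := by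
    simp
  rw [e]
  infer_instance

end Groth.Agent.H8Lim
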