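import Groth.Agent.H8Lim.ApproxFP

/-!
# Closed immersions are limits of finitely presented closed immersions

Stacks 01ZJ / EGA IV 8.8: the image of a model of `X` under a closed immersion `Y → X` is a model
of `Y`, closed in it.
-/

set_option autoImplicit false
set_option backward.isDefEq.respectTransparency.types false

universe u

open CategoryTheory Limits AlgebraicGeometry TopologicalSpace Opposite

namespace Groth.Agent.H8Lim

variable {X Y X₁ : Scheme.{u}} (ι : Y ⟶ X) (a : X ⟶ X₁)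

lemma imgW : (ι ≫ a) ≫ 𝟙 X₁ = ι ≫ a := Category.comp_id _

/-- The map on sections of a morphism over `X₁`. -/
noncomputable abbrev imgComp (U : X₁.Opens) : Γ(X, a ⁻¹ᵁ U) ⟶ Γ(Y, (ι ≫ a) ⁻¹ᵁ U) :=
  pairComp a (ι ≫ a) ι (𝟙 X₁) (imgW ι a) U

lemma resF_imgComp {U' U : X₁.Opens} (e : U' ≤ U) (x : Γ(X, a ⁻¹ᵁ U)) :
    resF (ι ≫ a) e (imgComp ι a U x) = imgComp ι a U' (resF a e x) :=
  resF_pairComp a (ι ≫ a) ι (𝟙 X₁) (imgW ι a) e x

lemma imgComp_appF (U : X₁.Opens) (r : Γ(X₁, U)) :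
    imgComp ι a U (appF a U r) = appF (ι ≫ a) U r :=
  pairComp_appF a (ι ≫ a) ι (𝟙 X₁) (imgW ι a) U r

/-- The image of a chart. -/
noncomputable def imgChart (i : Chart a) : Chart (ι ≫ a) :=
  open Classical in ⟨i.U, i.F.image (imgComp ι a i.U), i.isAffineOpen⟩

lemma imgComp_mem_K (i : Chart a) {x : Γ(X, a ⁻¹ᵁ i.U)} (hx : x ∈ i.K) :
    imgComp ι a i.U x ∈ (imgChart ι a i).K := by
  classical
  induction hx using Subring.closure_induction with
  | mem z hz =>
    rcases hz with ⟨r, rfl⟩ | hz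
    · rw [imgComp_appF]
      exact Chart.appF_mem (ι ≫ a) (imgChart ι a i) r
    · exact Subring.subset_closure (Or.inr (Finset.mem_image_of_mem _ hz))
  | zero => rw [map_zero]; exact Subring.zero_mem _
  | one => rw [map_one]; exact Subring.one_mem _
  | add p q _ _ hp hq => rw [map_add]; exact Subring.add_mem _ hp hq
  | neg p _ hp => rw [map_neg]; exact Subring.neg_mem _ hp
  | mul p q _ _ hp hq => rw [map_mul]; exact Subring.mul_mem _ hp hq

lemma exists_of_mem_K_img (i : Chart a) {y : Γ(Y, (ι ≫ a) ⁻¹ᵁ i.U)} (hy : y ∈ (imgChart ι a i).K) :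
    ∃ x ∈ i.K, imgComp ι a i.U x = y := by
  classical
  have : (imgChart ι a i).K ≤ i.K.map (imgComp ι a i.U).hom := by
    refine Subring.closure_le.mpr (Set.union_subset ?_ ?_)
    · rintro _ ⟨r, rfl⟩
      exact ⟨appF a i.U r, Chart.appF_mem a i r, imgComp_appF ι a i.U r⟩
    · intro z hz
      obtain ⟨x, hx, rfl⟩ := Finset.mem_image.mp hz
      exact ⟨x, Subring.subset_closure (Or.inr hx), rfl⟩
  obtain ⟨x, hx, hxy⟩ := this hy
  exact ⟨x, hx, hxy⟩

/-- The image of a model. -/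
noncomputable def imgFamily (G : Family a) : Family (ι ≫ a) where
  l := G.l.map (imgChart ι a)
  good := by
    intro i' hi' y hy k' hk'
    obtain ⟨i, hi, rfl⟩ := List.mem_map.mp hi'
    obtain ⟨k, hk, rfl⟩ := List.mem_map.mp hk'
    intro (g : Γ(X₁, k.U)) (e : X₁.basicOpen g ≤ i.U)
    obtain ⟨x, hx, rfl⟩ := exists_of_mem_K_img ι a i hy
    obtain ⟨n, c, hc, hxc⟩ := G.good i hi hx k hk g e
    refine ⟨n, imgComp ι a k.U c, imgComp_mem_K ι a k hc, ?_⟩
    show resF (ι ≫ a) (X₁.basicOpen_le g) (imgComp ι a k.U c) =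
      resF (ι ≫ a) e (imgComp ι a i.U x) *
        resF (ι ≫ a) (X₁.basicOpen_le g) (appF (ι ≫ a) k.U g) ^ n
    rw [resF_imgComp, resF_imgComp, ← imgComp_appF, resF_imgComp, hxc, map_mul, map_pow]
  cover b := by
    obtain ⟨i, hi, hb⟩ := G.cover b
    exact ⟨imgChart ι a i, List.mem_map_of_mem hi, hb⟩

variable [IsAffineHom a] [QuasiSeparatedSpace X₁]

lemma compat_imgFamily (G : Family a) :
    Compat a (ι ≫ a) ι (𝟙 X₁) (imgW ι a) G (imgFamily ι a G) := by
  intro U x hx k' hk'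
  obtain ⟨k, hk, rfl⟩ := List.mem_map.mp hk'
  intro (g : Γ(X₁, k.U)) (e : X₁.basicOpen g ≤ U)
  obtain ⟨n, c, hc, hxc⟩ := hx k hk g e
  refine ⟨n, imgComp ι a k.U c, imgComp_mem_K ι a k hc, ?_⟩
  show resF (ι ≫ a) (X₁.basicOpen_le g) (imgComp ι a k.U c) =
    resF (ι ≫ a) e (imgComp ι a U x) * resF (ι ≫ a) (X₁.basicOpen_le g) (appF (ι ≫ a) k.U g) ^ n
  rw [resF_imgComp, resF_imgComp, ← imgComp_appF, resF_imgComp, hxc, map_mul, map_pow]

variable [IsAffineHom ι] [CompactSpace X₁]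

omit [CompactSpace X₁] in
lemma imgFamily_surj (G : Family a) {U : X₁.Opens} (hU : IsAffineOpen U)
    {y : Γ(Y, (ι ≫ a) ⁻¹ᵁ U)} (hy : y ∈ (imgFamily ι a G).A U) :
    ∃ x ∈ G.A U, imgComp ι a U x = y := by
  let C := (G.A U).map (imgComp ι a U).hom
  have hC : ∀ r, appF (ι ≫ a) U r ∈ C := fun r ↦
    ⟨appF a U r, appF_mem_partialA a G.l U r, imgComp_appF ι a U r⟩
  have hex : ∀ b : (U : Set X₁), ∃ i ∈ G.l, ∃ (g : Γ(X₁, U)) (g' : Γ(X₁, i.U)),
      X₁.basicOpen g = X₁.basicOpen g' ∧ b.1 ∈ X₁.basicOpen g := fun b ↦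
    G.exists_common_basicOpen U hU b.2
  choose i hi g g' he hb using hex
  have key : resF (ι ≫ a) (X₁.basicOpen_le 1) y ∈ locSubring (ι ≫ a) C hC (1 : Γ(X₁, U)) := by
    refine mem_locSubring_of_cover (ι ≫ a) hC hU 1 g
      (fun b ↦ (X₁.basicOpen_le _).trans (Scheme.basicOpen_of_isUnit _ isUnit_one).ge)
      (fun z hz ↦ Opens.mem_iSup.mpr ⟨⟨z, (Scheme.basicOpen_of_isUnit _ isUnit_one).le hz⟩, hb _⟩)
      _ fun b ↦ ?_
    obtain ⟨m, d, hd, hyd⟩ := hy (imgChart ι a (i b)) (List.mem_map_of_mem (hi b)) (g' b)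
      ((he b).ge.trans (X₁.basicOpen_le _))
    obtain ⟨x, hx, rfl⟩ := exists_of_mem_K_img ι a (i b) hd
    replace hyd : resF (ι ≫ a) (X₁.basicOpen_le (g' b)) (imgComp ι a (i b).U x) =
        resF (ι ≫ a) ((he b).ge.trans (X₁.basicOpen_le _)) y *
          resF (ι ≫ a) (X₁.basicOpen_le (g' b)) (appF (ι ≫ a) (i b).U (g' b)) ^ m := hyd
    let e' : X₁.basicOpen (g b) ≤ (i b).U := (he b).le.trans (X₁.basicOpen_le _)
    have hxG : x ∈ G.A (i b).U := G.good (i b) (hi b) hx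
    obtain ⟨n, c, hc, hxc⟩ := exists_mem_partialA a G.l hU (g b) (resF_mem_partialA a G.l e' hxG)
    have h0 : IsUnit (X₁.presheaf.map (homOfLE e').op (g' b)) := by
      have h1 : IsUnit (X₁.presheaf.map (homOfLE (X₁.basicOpen_le (g' b))).op (g' b)) :=
        RingedSpace.isUnit_res_basicOpen X₁.toRingedSpace (g' b)
      rw [show (homOfLE e').op = (homOfLE (X₁.basicOpen_le (g' b))).op ≫
        (homOfLE (he b).le).op from rfl, Functor.map_comp, CommRingCat.comp_apply]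
      exact h1.map (X₁.presheaf.map (homOfLE (he b).le).op).hom
    obtain ⟨v, hv⟩ := isUnit_iff_exists_inv.mp (h0.pow m)
    have h2 := congr(resF (ι ≫ a) (he b).le $hyd)
    rw [map_mul, map_pow, resF_resF, resF_resF, resF_resF, resF_appF] at h2
    rw [resF_resF]
    have h3 : resF (ι ≫ a) (X₁.basicOpen_le (g b)) y =
        resF (ι ≫ a) e' (imgComp ι a (i b).U x) * appF (ι ≫ a) (X₁.basicOpen (g b)) v := by
      rw [h2, mul_assoc, ← map_pow, ← map_mul, hv, map_one, mul_one]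
    rw [h3]
    refine Subring.mul_mem _ ⟨n, imgComp ι a U c, ⟨c, hc, rfl⟩, ?_⟩
      (appF_mem_locSubring (ι ≫ a) hC hU _ _)
    rw [resF_imgComp, resF_imgComp, ← imgComp_appF, resF_imgComp, hxc, map_mul, map_pow]
  obtain ⟨n, c, ⟨x, hx, rfl⟩, hc⟩ := key
  rw [map_one, map_one, one_pow, mul_one] at hc
  exact ⟨x, hx, resF_injective (ι ≫ a) _ (Scheme.basicOpen_of_isUnit _ isUnit_one).ge hc⟩

omit [CompactSpace X₁] in
/-- The image model is closed in the model. -/
theorem isClosedImmersion_img (G : Family a) :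
    IsClosedImmersion (compat_imgFamily ι a G).hom := by
  let F := imgFamily ι a G
  let hc := compat_imgFamily ι a G
  have : IsAffineHom G.alg.π := G.alg.isAffineHom_π
  have : IsAffineHom F.alg.π := F.alg.isAffineHom_π
  have w' : hc.hom ≫ G.alg.π = F.alg.π := hc.hom_π.trans (Category.comp_id _)
  refine ProjLib.isClosedImmersion_of_app_surjective G.alg.π F.alg.π hc.hom w' fun U z ↦ ?_
  have hiso : IsIso F.alg.gammaMap := RelSpecLib.isIso_gammaMap F.alg
  have hisoG : IsIso G.alg.gammaMap := RelSpecLib.isIso_gammaMap G.alg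
  have h3 : (F.alg.π ≫ 𝟙 X₁) ⁻¹ᵁ U.1 ≤ hc.hom ⁻¹ᵁ (G.alg.π ⁻¹ᵁ U.1) := by
    rw [← Scheme.Hom.comp_preimage hc.hom, hc.hom_π]
  have hs := toSpec_appLE (F.alg.π ≫ 𝟙 X₁) (A := G.alg) hc.alg U h3
  have hsurj : Function.Surjective (hc.hom.appLE (G.alg.π ⁻¹ᵁ U.1) ((F.alg.π ≫ 𝟙 X₁) ⁻¹ᵁ U.1) h3) := by
    intro z'
    have hb : Function.Bijective (F.alg.gammaMap.app (op U.1)) := ConcreteCategory.bijective_of_isIso _
    obtain ⟨x, hx, hxy⟩ := imgFamily_surj ι a G U.2
      (y := (F.alg.gammaMap.app (op U.1) z').1) (F.alg.gammaMap.app (op U.1) z').2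
    have hg : Function.Bijective (G.alg.gammaAff U.1 U.2) := by
      rw [← G.alg.gammaMap_app U.1 U.2]
      exact ConcreteCategory.bijective_of_isIso _
    obtain ⟨z₀, hz₀⟩ := hg.2 ⟨x, hx⟩
    refine ⟨z₀, ?_⟩
    erw [hs]
    rw [CommRingCat.comp_apply, hz₀]
    refine hb.1 ?_
    exact (hc.gammaMap_alg U.1 ⟨x, hx⟩).trans (Subtype.ext hxy)
  have e : (F.alg.π ≫ 𝟙 X₁) ⁻¹ᵁ U.1 = hc.hom ⁻¹ᵁ (G.alg.π ⁻¹ᵁ U.1) := by
    rw [← Scheme.Hom.comp_preimage hc.hom, hc.hom_π]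
  have := (hc.hom.appLE_congr h3 rfl e fun f ↦ Function.Surjective f.hom).mp hsurj
  rw [← Scheme.Hom.app_eq_appLE] at this
  exact this z

/-- The model pair given by the image. -/
noncomputable def imgPair (G : Family a) : PairModel a (ι ≫ a) ι (𝟙 X₁) (imgW ι a) :=
  ⟨G, imgFamily ι a G, compat_imgFamily ι a G⟩

omit [CompactSpace X₁] in
lemma monotone_imgPair : Monotone (imgPair ι a) := by
  intro G G' h
  refine ⟨h, Family.le_of_forall fun i' hi' y hy ↦ ?_⟩
  obtain ⟨i, hi, rfl⟩ := List.mem_map.mp hi'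
  obtain ⟨x, hx, rfl⟩ := imgFamily_surj ι a G i.isAffineOpen hy
  exact imgComp_mem_K ι a i (partialA_eq_K a G'.good hi ▸ h _ hx)

/-- Stacks 01ZJ: a closed immersion into a qcqs scheme is a limit of finitely presented closed
immersions. -/
theorem exists_limit_closedImmersion_finitePresentation {X Y : Scheme.{u}} (ι : Y ⟶ X)
    [IsClosedImmersion ι] [CompactSpace X] [QuasiSeparatedSpace X] :
    ∃ (I : Type u) (_ : Preorder I) (_ : IsDirected I (fun a b => a ≤ b)) (_ : Nonempty I)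
      (D : Iᵒᵖ ⥤ Over X) (c : Cone D) (_ : IsLimit c),
      (∀ i, IsClosedImmersion (D.obj i).hom ∧ LocallyOfFinitePresentation (D.obj i).hom) ∧
      Nonempty (c.pt ≅ Over.mk ι) := by
  classical
  obtain ⟨X₁, a, ha, hc, hqs, hN, -⟩ := exists_int_model X
  let f := (monotone_imgPair ι a).functor
  have hfinal : f.Final := (Monotone.final_functor_iff _).mpr fun p ↦ by
    have hex : ∀ i : Chart (ι ≫ a), ∀ y ∈ i.F, ∃ x, imgComp ι a i.U x = y := fun i y _ ↦ by
      obtain ⟨x, hx⟩ := ι.app_surjective _ (i.isAffineOpen.preimage a) y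
      refine ⟨x, ?_⟩
      rw [← hx, Scheme.Hom.app_eq_appLE]
      rfl
    choose x hx using hex
    let gen : Chart (ι ≫ a) → Σ V : X₁.affineOpens, Finset Γ(X, a ⁻¹ᵁ V.1) := fun i ↦
      ⟨⟨i.U, i.isAffineOpen⟩, i.F.attach.image fun y ↦ x i y.1 y.2⟩
    obtain ⟨G, hG⟩ := Family.exists_mem_forall (h := a) (p.F.l.map gen)
    obtain ⟨G', h₁, h₂⟩ := Family.exists_le_le p.G G
    refine ⟨G', h₁, fun U y hy ↦ (imgFamily ι a G').mem_of_locally _ fun b hb ↦ ?_⟩
    obtain ⟨k, hk, hbk⟩ := p.F.cover b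
    obtain ⟨g, hg, hbg⟩ := k.isAffineOpen.exists_basicOpen_le (V := U ⊓ k.U) ⟨b, hb, hbk⟩ hbk
    refine ⟨X₁.basicOpen g, hg.trans inf_le_left, hbg, ?_⟩
    obtain ⟨n, d, hd, hyd⟩ := hy k hk g (hg.trans inf_le_left)
    have hdI : d ∈ (imgFamily ι a G').A k.U := by
      clear hyd
      induction hd using Subring.closure_induction with
      | mem z hz =>
        rcases hz with ⟨r, rfl⟩ | hz
        · exact appF_mem_partialA _ _ _ _
        · have hxz : x k z hz ∈ G'.A k.U := h₂ _ (hG (gen k) (List.mem_map_of_mem hk) _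
            (Finset.mem_image.mpr ⟨⟨z, hz⟩, Finset.mem_attach _ _, rfl⟩))
          rw [← hx k z hz]
          exact compat_imgFamily ι a G' k.U _ hxz
      | zero => exact Subring.zero_mem _
      | one => exact Subring.one_mem _
      | add p q _ _ hp hq => exact Subring.add_mem _ hp hq
      | neg p _ hp => exact Subring.neg_mem _ hp
      | mul p q _ _ hp hq => exact Subring.mul_mem _ hp hq
    have h0 : IsUnit (X₁.presheaf.map (homOfLE (X₁.basicOpen_le g)).op g) :=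
      RingedSpace.isUnit_res_basicOpen X₁.toRingedSpace g
    obtain ⟨v, hv⟩ := isUnit_iff_exists_inv.mp (h0.pow n)
    have h3 : resF (ι ≫ a) (hg.trans inf_le_left) y =
        resF (ι ≫ a) (X₁.basicOpen_le g) d * appF (ι ≫ a) (X₁.basicOpen g) v := by
      rw [hyd, resF_appF, mul_assoc, ← map_pow, ← map_mul, hv, map_one, mul_one]
    rw [h3]
    exact Subring.mul_mem _ (resF_mem_partialA _ _ _ hdI) (appF_mem_partialA _ _ _ _)
  refine ⟨Family a, inferInstance, inferInstance, inferInstance,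
    f.op ⋙ PairModel.overDiagram a (ι ≫ a) ι (𝟙 X₁) (imgW ι a),
    (PairModel.overCone a (ι ≫ a) ι (𝟙 X₁) (imgW ι a)).whisker f.op,
    (Functor.Initial.isLimitWhiskerEquiv f.op _).symm
      (PairModel.isLimit_overCone a (ι ≫ a) ι (𝟙 X₁) (imgW ι a)).some, fun G ↦
    ⟨MorphismProperty.pullback_snd (P := @IsClosedImmersion) _ _ (isClosedImmersion_img ι a G.unop),
      (PairModel.overHom_props a (ι ≫ a) ι (𝟙 X₁) (imgW ι a) (imgPair ι a G.unop)).1⟩,
    ⟨Iso.refl _⟩⟩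

end Groth.Agent.H8Lim
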