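import Groth.Agent.Coherent.PullUnit
import Groth.Agent.EGA43.FPKernel

/-!
# Sections of pullbacks of quasi-coherent modules: generation and extensionality
-/

set_option autoImplicit false
set_option backward.isDefEq.respectTransparency false

universe u

open CategoryTheory CategoryTheory.Limits AlgebraicGeometry Opposite TopologicalSpace
open Groth.Agent.Coherent Groth.Agent.PicLib Groth.Agent.EGA43.InjFibre

namespace Groth.Agent.H8Lim

variable {X Y Z : Scheme.{u}}

/-- Morphisms of modules agreeing on the affine opens of a cover agree. -/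
theorem modHom_ext_of_cover {M N : X.Modules} (φ ψ : M ⟶ N)
    (h : ∀ x : X, ∃ V : X.Opens, x ∈ V ∧ ∀ W : X.Opens, IsAffineOpen W → W ≤ V →
      ∀ s : Γ(M, W), φ.app W s = ψ.app W s) : φ = ψ := by
  refine Scheme.Modules.hom_ext _ _ fun U => ConcreteCategory.hom_ext _ _ fun s => ?_
  choose V hV hW using h
  have hc : ∀ x : (U : Set X), ∃ W : X.Opens, IsAffineOpen W ∧ x.1 ∈ W ∧ W ≤ U ⊓ V x.1 := fun x =>
    Opens.isBasis_iff_nbhd.mp X.isBasis_affineOpens (⟨x.2, hV _⟩ : x.1 ∈ U ⊓ V x.1)
  choose W hWa hxW hWle using hc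
  refine TopCat.Sheaf.eq_of_locally_eq' (⟨N.presheaf, N.isSheaf⟩ : TopCat.Sheaf Ab X) W U
    (fun x => homOfLE ((hWle x).trans inf_le_left)) (fun x hx => Opens.mem_iSup.2 ⟨⟨x, hx⟩, hxW _⟩)
    _ _ fun x => ?_
  have e := hW x.1 (W x) (hWa x) ((hWle x).trans inf_le_right)
    (resM M ((hWle x).trans inf_le_left) s)
  rw [app_resM, app_resM] at e
  exact e

/-- The sections of a pullback over an affine open are generated by pullbacks of sections. -/
theorem span_pullSec_eq_top (f : Y ⟶ X) {U : X.Opens} (hU : IsAffineOpen U) {W : Y.Opens}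
    (hW : IsAffineOpen W) (e : W ≤ f ⁻¹ᵁ U) (M : X.Modules) [Coh.IsQCoh M] (G : Set Γ(M, U))
    (hG : Submodule.span Γ(X, U) G = ⊤) :
    Submodule.span Γ(Y, W)
      ((fun m => resM ((Scheme.Modules.pullback f).obj M) e (pullSec f m)) '' G) = ⊤ := by
  let _ := (f.appLE U W e).hom.toAlgebra
  let _ := Module.compHom Γ((Scheme.Modules.pullback f).obj M, W) (f.appLE U W e).hom
  have : IsScalarTower Γ(X, U) Γ(Y, W) Γ((Scheme.Modules.pullback f).obj M, W) :=
    IsScalarTower.of_algebraMap_smul fun _ _ => rfl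
  obtain ⟨μ, hμ, hμm⟩ := pullMap_isBaseChange f hU hW e M
  refine eq_top_iff.mpr fun z hz0 => ?_
  clear hz0
  induction z using hμ.inductionOn with
  | zero => exact Submodule.zero_mem _
  | tmul m =>
    have hm : m ∈ Submodule.span Γ(X, U) G := hG ▸ trivial
    induction hm using Submodule.span_induction with
    | mem x hx => exact Submodule.subset_span ⟨x, hx, by rw [hμm, pullMap_eq_resM_pullSec]⟩
    | zero => rw [map_zero]; exact Submodule.zero_mem _
    | add a b _ _ ha hb => rw [map_add]; exact Submodule.add_mem _ ha hb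
    | smul r a _ ha =>
      rw [map_smul, ← IsScalarTower.algebraMap_smul Γ(Y, W) r (μ a)]
      exact Submodule.smul_mem _ _ ha
  | smul r z hz => exact Submodule.smul_mem _ _ hz
  | add a b ha hb => exact Submodule.add_mem _ ha hb

/-- A morphism out of a pullback is determined by the pullbacks of generators on an affine cover. -/
theorem hom_ext_pullSec (f : Y ⟶ X) {M : X.Modules} [Coh.IsQCoh M] {N : Y.Modules}
    (φ ψ : (Scheme.Modules.pullback f).obj M ⟶ N) {ι : Type*} (U : ι → X.Opens)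
    (hU : ∀ k, IsAffineOpen (U k)) (hcov : ∀ y : Y, ∃ k, f y ∈ U k) (G : ∀ k, Set Γ(M, U k))
    (hG : ∀ k, Submodule.span Γ(X, U k) (G k) = ⊤)
    (h : ∀ k, ∀ m ∈ G k, φ.app _ (pullSec f m) = ψ.app _ (pullSec f m)) : φ = ψ := by
  refine modHom_ext_of_cover φ ψ fun y => ?_
  obtain ⟨k, hk⟩ := hcov y
  refine ⟨f ⁻¹ᵁ U k, hk, fun W hW e s => ?_⟩
  have hs : s ∈ Submodule.span Γ(Y, W) ((fun m =>
      resM ((Scheme.Modules.pullback f).obj M) e (pullSec f m)) '' G k) :=
    span_pullSec_eq_top f (hU k) hW e M _ (hG k) ▸ trivial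
  induction hs using Submodule.span_induction with
  | mem x hx =>
    obtain ⟨m, hm, rfl⟩ := hx
    rw [app_resM, app_resM, h k m hm]
  | zero => rw [map_zero, map_zero]
  | add a b _ _ ha hb => rw [map_add, map_add, ha, hb]
  | smul r a _ ha => rw [Scheme.Modules.Hom.app_smul, Scheme.Modules.Hom.app_smul, ha]

/-- Pullback of morphisms on pulled back sections. -/
theorem map_app_pullSec (f : Y ⟶ X) {M N : X.Modules} (φ : M ⟶ N) {U : X.Opens} (m : Γ(M, U)) :
    ((Scheme.Modules.pullback f).map φ).app _ (pullSec f m) = pullSec f (φ.app U m) :=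
  congr(($((Scheme.Modules.pullbackPushforwardAdjunction f).unit.naturality φ)).app U m).symm

theorem pullSec_add (f : Y ⟶ X) {M : X.Modules} {U : X.Opens} (a b : Γ(M, U)) :
    pullSec f (a + b) = pullSec f a + pullSec f b :=
  map_add ((((Scheme.Modules.pullbackPushforwardAdjunction f).unit.app M).app U).hom) a b

theorem pullSec_zero (f : Y ⟶ X) {M : X.Modules} {U : X.Opens} :
    pullSec f (0 : Γ(M, U)) = 0 :=
  map_zero ((((Scheme.Modules.pullbackPushforwardAdjunction f).unit.app M).app U).hom)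

/-- The comparison of iterated pullbacks on sections. -/
theorem pullbackComp_hom_app_pullSec (h : Z ⟶ Y) (g : Y ⟶ X) (M : X.Modules) {U : X.Opens}
    (m : Γ(M, U)) :
    ((Scheme.Modules.pullbackComp h g).hom.app M).app ((h ≫ g) ⁻¹ᵁ U) (pullSec h (pullSec g m)) =
      pullSec (h ≫ g) m := by
  rw [← pullbackComp_inv_app_pullSec]
  exact congr(($((Scheme.Modules.pullbackComp h g).inv_hom_id_app M)).app ((h ≫ g) ⁻¹ᵁ U) _)

end Groth.Agent.H8Lim
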