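import Groth.Agent.H8Lim.ApproxFP
import Groth.Agent.H8Lim.ClosedModels
import Groth.Agent.H8Lim.ClosedIntoStage

/-!
# Closed immersions into schemes of finite presentation

Stacks 09ZP, 09ZR: schemes of finite type are closed in schemes of finite presentation.
-/

set_option autoImplicit false
set_option backward.isDefEq.respectTransparency.types false

universe u

open CategoryTheory Limits AlgebraicGeometry TopologicalSpace Opposite

namespace Groth.Agent.H8Lim

/-- Composing with a morphism of bases preserves cofiltered limits of schemes over a base. -/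
theorem isLimit_overMap {U S : Scheme.{u}} (j : U ⟶ S) {I : Type u} [SmallCategory I]
    [IsCofiltered I] {D : I ⥤ Over U} {c : Cone D} (hc : IsLimit c) :
    Nonempty (IsLimit ((Over.map j).mapCone c)) := by
  have := IsCofiltered.isConnected I
  have h : IsLimit ((Over.forget S).mapCone ((Over.map j).mapCone c)) :=
    isLimitOfPreserves (Over.forget U) hc
  exact ⟨isLimitOfReflects (Over.forget S) h⟩

variable {X S : Scheme.{u}} (f : X ⟶ S) [LocallyOfFiniteType f] [CompactSpace X]
  [QuasiSeparatedSpace X] [QuasiSeparatedSpace S]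

/-- Stacks 09ZQ: a qcqs scheme of finite type is closed in one of finite presentation. -/
theorem exists_isClosedImmersion_finitePresentation :
    ∃ (Z : Scheme.{u}) (g : Z ⟶ S) (j : X ⟶ Z), LocallyOfFinitePresentation g ∧ QuasiCompact g ∧
      QuasiSeparated g ∧ (IsSeparated f → IsSeparated g) ∧ IsClosedImmersion j ∧ CompactSpace Z ∧
      QuasiSeparatedSpace Z ∧ j ≫ g = f := by
  obtain ⟨I, _, _, _, D, c, hc, hD, htr, hqcqs, ⟨e⟩⟩ := exists_limit_finitePresentation f
  let E := D ⋙ Over.forget S
  have : IsConnected Iᵒᵖ := IsCofiltered.isConnected _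
  let cE : Cone E := (Over.forget S).mapCone c
  have hE : IsLimit cE := isLimitOfPreserves (Over.forget S) hc
  have : ∀ {i j : Iᵒᵖ} (g : i ⟶ j), IsAffineHom (E.map g) := fun g ↦ htr _ _ g
  have : ∀ i, CompactSpace (E.obj i) := fun i ↦ (hqcqs i).1
  have : ∀ i, QuasiSeparatedSpace (E.obj i) := fun i ↦ (hqcqs i).2
  let t : E ⟶ (Functor.const _).obj S :=
    { app := fun i ↦ (D.obj i).hom
      naturality := fun i j g ↦ (Over.w (D.map g)).trans (Category.comp_id _).symm }
  have hs : ∀ i, cE.π.app i ≫ t.app i = c.pt.hom := fun i ↦ Over.w (c.π.app i)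
  let h : X ⟶ cE.pt := e.inv.left
  have hh : IsIso h := inferInstanceAs (IsIso ((Over.forget S).map e.inv))
  have hf : h ≫ c.pt.hom = f := Over.w e.inv
  obtain ⟨i₀⟩ := IsCofiltered.nonempty (C := Iᵒᵖ)
  have hlft : LocallyOfFiniteType ((h ≫ cE.π.app i₀) ≫ t.app i₀) := by
    rw [Category.assoc, hs, hf]; infer_instance
  obtain ⟨i₁, hi₁⟩ := exists_isClosedImmersion_comp_π hE t h i₀
  obtain ⟨i, ⟨φ⟩, hsep⟩ : ∃ i, Nonempty (i ⟶ i₁) ∧ (IsSeparated f → IsSeparated (t.app i)) := by
    by_cases hsf : IsSeparated f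
    · have hsc : IsSeparated c.pt.hom := by
        let e' : cE.pt ≅ X := (Over.forget S).mapIso e
        have he : c.pt.hom = e'.hom ≫ f := by
          rw [← hf, ← Category.assoc]
          refine (Category.id_comp _).symm.trans (congrArg (· ≫ c.pt.hom) ?_)
          exact e'.hom_inv_id.symm
        rw [he]
        exact MorphismProperty.comp_mem @IsSeparated _ _ (inferInstanceAs (IsSeparated e'.hom)) hsf
      let s' : cE.pt ⟶ S := c.pt.hom
      have : IsSeparated s' := hsc
      obtain ⟨i₂, hi₂⟩ := exists_forall_isSeparated t (s := s') hs hE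
      exact ⟨IsCofiltered.min i₁ i₂, ⟨IsCofiltered.minToLeft _ _⟩,
        fun _ ↦ hi₂ _ (IsCofiltered.minToRight _ _)⟩
    · exact ⟨i₁, ⟨𝟙 _⟩, fun h ↦ absurd h hsf⟩
  have hcl : IsClosedImmersion ((h ≫ cE.π.app i) ≫ E.map φ) := by
    rw [Category.assoc, cE.w]; exact hi₁
  have hmap : IsSeparated (E.map φ) := inferInstance
  have := IsClosedImmersion.of_comp (h ≫ cE.π.app i) (E.map φ)
  obtain ⟨h1, h2, h3⟩ := hD i
  exact ⟨E.obj i, t.app i, h ≫ cE.π.app i, h1, h2, h3, hsep, this, inferInstance, inferInstance,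
    by rw [Category.assoc, hs, hf]⟩

/-- Stacks 09ZR: a qcqs scheme of finite type is a limit of schemes of finite presentation with
closed immersions as transition maps. -/
theorem exists_limit_closedImmersion_transitions :
    ∃ (I : Type u) (_ : Preorder I) (_ : IsDirected I (fun a b => a ≤ b)) (_ : Nonempty I)
      (D : Iᵒᵖ ⥤ Over S) (c : Cone D) (_ : IsLimit c),
      (∀ i, LocallyOfFinitePresentation (D.obj i).hom ∧ QuasiCompact (D.obj i).hom ∧
        QuasiSeparated (D.obj i).hom ∧ CompactSpace (D.obj i).left ∧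
        QuasiSeparatedSpace (D.obj i).left) ∧
      (∀ (i j : Iᵒᵖ) (a : i ⟶ j), IsClosedImmersion (D.map a).left) ∧
      (IsSeparated f → ∀ i, IsSeparated (D.obj i).hom) ∧
      (∀ i, IsClosedImmersion (c.π.app i).left) ∧
      Nonempty (c.pt ≅ Over.mk f) := by
  obtain ⟨Z, g, j, hg1, hg2, hg3, hsep, hj, hZc, hZq, hjg⟩ :=
    exists_isClosedImmersion_finitePresentation f
  obtain ⟨I, _, _, _, D, c, hc, hD, ⟨e⟩⟩ := exists_limit_closedImmersion_finitePresentation j
  obtain ⟨hc'⟩ := isLimit_overMap g hc
  refine ⟨I, inferInstance, inferInstance, inferInstance, D ⋙ Over.map g,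
    (Over.map g).mapCone c, hc', fun i ↦ ?_, fun i k a ↦ ?_, fun hs i ↦ ?_, fun i ↦ ?_,
    ⟨(Over.map g).mapIso e ≪≫ Over.isoMk (Iso.refl _) (by
      change 𝟙 _ ≫ f = j ≫ g
      rw [hjg, Category.id_comp])⟩⟩
  · obtain ⟨h1, h2⟩ := hD i
    let p : (D.obj i).left ⟶ Z := (D.obj i).hom
    have : IsClosedImmersion p := h1
    have : LocallyOfFinitePresentation p := h2
    refine ⟨?_, ?_, ?_, QuasiCompact.compactSpace_of_compactSpace p,
      quasiSeparatedSpace_of_quasiSeparated p⟩
    · change LocallyOfFinitePresentation (p ≫ g); infer_instance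
    · change QuasiCompact (p ≫ g); infer_instance
    · change QuasiSeparated (p ≫ g); infer_instance
  · let p : (D.obj i).left ⟶ Z := (D.obj i).hom
    let q : (D.obj k).left ⟶ Z := (D.obj k).hom
    have : IsClosedImmersion q := (hD k).1
    have : IsClosedImmersion ((D.map a).left ≫ q) := by
      rw [show (D.map a).left ≫ q = p from Over.w (D.map a)]
      exact (hD i).1
    exact IsClosedImmersion.of_comp (D.map a).left q
  · let p : (D.obj i).left ⟶ Z := (D.obj i).hom
    have : IsClosedImmersion p := (hD i).1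
    have := hsep hs
    change IsSeparated (p ≫ g)
    infer_instance
  · let p : (D.obj i).left ⟶ Z := (D.obj i).hom
    have : IsClosedImmersion p := (hD i).1
    let l : c.pt.left ⟶ (D.obj i).left := (c.π.app i).left
    have : IsClosedImmersion (l ≫ p) := by
      rw [show l ≫ p = c.pt.hom from Over.w (c.π.app i)]
      have : IsClosedImmersion (e.hom.left ≫ j) := by
        have : IsIso e.hom.left := inferInstanceAs (IsIso ((Over.forget Z).map e.hom))
        infer_instance
      rwa [show e.hom.left ≫ j = c.pt.hom from Over.w e.hom] at this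
    exact IsClosedImmersion.of_comp l p

end Groth.Agent.H8Lim
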