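import Mathlib

/-!
# Zariski's main theorem for normal schemes (EGA IV 8.12)
-/

set_option backward.isDefEq.respectTransparency.types false

universe u

open CategoryTheory Limits AlgebraicGeometry TopologicalSpace

namespace Groth.Agent.H8Lim

theorem isIso_of_bijective_appTop {X Y : Scheme.{u}} [IsAffine X] [IsAffine Y] (g : X ⟶ Y)
    (h : Function.Bijective g.appTop) : IsIso g := by
  have : IsIso g.appTop := (ConcreteCategory.isIso_iff_bijective g.appTop).mpr h
  have e : g = X.isoSpec.hom ≫ Spec.map g.appTop ≫ Y.isoSpec.inv := by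
    rw [Scheme.isoSpec_hom_naturality_assoc, Iso.hom_inv_id, Category.comp_id]
  rw [e]
  infer_instance

theorem isIntegrallyClosed_of_isAffineOpen {Y : Scheme.{u}} [IsIntegral Y]
    (hN : ∀ y : Y, IsIntegrallyClosed (Y.presheaf.stalk y)) {U : Y.Opens} (hU : IsAffineOpen U)
    [Nonempty U] : IsIntegrallyClosed Γ(Y, U) :=
  IsIntegrallyClosed.of_localization_maximal fun p _ hp ↦ by
    let P : PrimeSpectrum Γ(Y, U) := ⟨p, hp.isPrime⟩
    obtain ⟨z, hz, hzP⟩ : ∃ (z : Y) (hz : z ∈ U), hU.primeIdealOf ⟨z, hz⟩ = P := by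
      refine ⟨hU.fromSpec P, hU.range_fromSpec.le (Set.mem_range_self _), ?_⟩
      exact hU.fromSpec.isOpenEmbedding.injective (hU.fromSpec_primeIdealOf _)
    let : Algebra Γ(Y, U) (Y.presheaf.stalk z) := (Y.presheaf.germ U z hz).hom.toAlgebra
    have hloc := hU.isLocalization_stalk ⟨z, hz⟩
    rw [hzP] at hloc
    have := hN z
    exact IsIntegrallyClosed.of_equiv (@IsLocalization.algEquiv Γ(Y, U) _ p.primeCompl
      (Y.presheaf.stalk z) _ _ hloc (Localization p.primeCompl) _ _ _).toRingEquiv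

/-- A function-field element integral over a normal affine open is a function on it. -/
theorem mem_range_germ_of_isIntegralElem {Y : Scheme.{u}} [IsIntegral Y]
    (hN : ∀ y : Y, IsIntegrallyClosed (Y.presheaf.stalk y)) {U : Y.Opens} (hU : IsAffineOpen U)
    {z : Y} (hz : z = genericPoint Y) (hzU : z ∈ U) (x : Y.presheaf.stalk z)
    (hx : (Y.presheaf.germ U z hzU).hom.IsIntegralElem x) :
    x ∈ Set.range (Y.presheaf.germ U z hzU) := by
  subst hz
  have : Nonempty U := ⟨⟨_, hzU⟩⟩
  have := isIntegrallyClosed_of_isAffineOpen hN hU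
  let : Algebra Γ(Y, U) (Y.presheaf.stalk (genericPoint Y)) :=
    (Y.presheaf.germ U _ hzU).hom.toAlgebra
  have : IsFractionRing Γ(Y, U) (Y.presheaf.stalk (genericPoint Y)) :=
    functionField_isFractionRing_of_isAffineOpen Y U hU
  exact IsIntegrallyClosed.isIntegral_iff.mp (hx : IsIntegral Γ(Y, U) x)

/-- Quasi-finite maps to which the base is integrally closed are open immersions. -/
theorem isOpenImmersion_of_integrallyClosed {W T : Scheme.{u}} [IsAffine W] [IsAffine T] (h : W ⟶ T)
    [LocallyQuasiFinite h] [LocallyOfFiniteType h] (hinj : Function.Injective h.appTop)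
    (hint : ∀ b, h.appTop.hom.IsIntegralElem b → b ∈ Set.range h.appTop) : IsOpenImmersion h := by
  have : IsAffine h.normalization := isAffine_of_isAffineHom h.fromNormalization
  have hb : Function.Bijective h.fromNormalization.appTop := by
    rw [Scheme.Hom.appTop, h.fromNormalization_app (isAffineOpen_top T)]
    let := (h.app (⊤ : T.Opens)).hom.toAlgebra
    have halg : Function.Bijective
        (algebraMap Γ(T, ⊤) (integralClosure Γ(T, ⊤) Γ(W, h ⁻¹ᵁ ⊤))) := by
      constructor
      · intro a b hab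
        exact hinj congr(Subtype.val $hab)
      · rintro ⟨b, hb⟩
        obtain ⟨a, ha⟩ := hint b hb
        exact ⟨a, Subtype.ext ha⟩
    exact (ConcreteCategory.bijective_of_isIso
      (h.normalizationObjIso (isAffineOpen_top T)).inv).comp halg
  have := isIso_of_bijective_appTop h.fromNormalization hb
  rw [← h.toNormalization_fromNormalization]
  infer_instance

theorem isOpenImmersion_ι_comp_of_integrallyClosed {X Y : Scheme.{u}} (f : X ⟶ Y)
    [LocallyQuasiFinite f] [LocallyOfFiniteType f] {W : X.Opens} (hW : IsAffineOpen W) {V : Y.Opens}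
    (hV : IsAffineOpen V) (e : W ≤ f ⁻¹ᵁ V) (hinj : Function.Injective (f.appLE V W e))
    (hint : ∀ b, (f.appLE V W e).hom.IsIntegralElem b → b ∈ Set.range (f.appLE V W e)) :
    IsOpenImmersion (W.ι ≫ f) := by
  have : IsAffine (W : Scheme.{u}) := hW
  have : IsAffine (V : Scheme.{u}) := hV
  have : LocallyQuasiFinite (f.resLE V W e ≫ V.ι) := by
    rw [Scheme.Hom.resLE_comp_ι]; infer_instance
  have : LocallyQuasiFinite (f.resLE V W e) := .of_comp _ V.ι
  have : LocallyOfFiniteType (f.resLE V W e ≫ V.ι) := by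
    rw [Scheme.Hom.resLE_comp_ι]; infer_instance
  have : LocallyOfFiniteType (f.resLE V W e) := locallyOfFiniteType_of_comp _ V.ι
  have key : (f.resLE V W e).appTop = V.topIso.hom ≫ f.appLE V W e ≫ W.topIso.inv :=
    Scheme.Hom.resLE_app_top f e
  have h' : IsOpenImmersion (f.resLE V W e) := by
    refine isOpenImmersion_of_integrallyClosed _ ?_ fun b hb ↦ ?_
    · rw [key]
      exact ((ConcreteCategory.bijective_of_isIso W.topIso.inv).1.comp hinj).comp
        (ConcreteCategory.bijective_of_isIso V.topIso.hom).1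
    · rw [key] at hb ⊢
      obtain ⟨q, hq, hqb⟩ := hb
      have hb' : (f.appLE V W e).hom.IsIntegralElem (W.topIso.hom b) := by
        refine ⟨q.map V.topIso.hom.hom, hq.map _, ?_⟩
        rw [Polynomial.eval₂_map]
        have h0 := congr(W.topIso.hom.hom $hqb)
        rw [map_zero, Polynomial.hom_eval₂, ← CommRingCat.hom_comp, Category.assoc, Category.assoc,
          Iso.inv_hom_id, Category.comp_id, CommRingCat.hom_comp] at h0
        exact h0
      obtain ⟨a, ha⟩ := hint _ hb'
      refine ⟨V.topIso.inv a, ?_⟩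
      rw [CommRingCat.comp_apply, CommRingCat.comp_apply, ← CommRingCat.comp_apply V.topIso.inv,
        Iso.inv_hom_id, CommRingCat.id_apply, ha, ← CommRingCat.comp_apply, Iso.hom_inv_id,
        CommRingCat.id_apply]
  rw [← Scheme.Hom.resLE_comp_ι f e]
  infer_instance

/-- EGA IV 8.12.10: birational quasi-finite morphisms to normal schemes are local isomorphisms. -/
theorem isLocalIso_of_birational {X Y : Scheme.{u}} [IsIntegral X] [IsIntegral Y]
    (hN : ∀ y : Y, IsIntegrallyClosed (Y.presheaf.stalk y)) (f : X ⟶ Y) [LocallyQuasiFinite f]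
    [LocallyOfFiniteType f] (hgen : f (genericPoint X) = genericPoint Y)
    (hbir : IsIso (f.stalkMap (genericPoint X))) : IsLocalIso f := by
  refine ⟨fun x ↦ ?_⟩
  obtain ⟨_, ⟨V, hV, rfl⟩, hxV, -⟩ :=
    Y.isBasis_affineOpens.exists_subset_of_mem_open (Set.mem_univ (f x)) isOpen_univ
  obtain ⟨_, ⟨W, hW, rfl⟩, hxW, hWV⟩ :=
    X.isBasis_affineOpens.exists_subset_of_mem_open (show x ∈ f ⁻¹ᵁ V from hxV) (f ⁻¹ᵁ V).isOpen
  refine ⟨W, hxW, ?_⟩
  have hηW : genericPoint X ∈ W := (genericPoint_specializes x).mem_open W.isOpen hxW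
  have hηV : f (genericPoint X) ∈ V := hWV hηW
  have : Nonempty W := ⟨⟨x, hxW⟩⟩
  have : Nonempty V := ⟨⟨_, hxV⟩⟩
  have hb := (ConcreteCategory.isIso_iff_bijective (f.stalkMap (genericPoint X))).mp hbir
  have hcomm : ∀ a : Γ(Y, V), X.presheaf.germ W _ hηW (f.appLE V W hWV a) =
      f.stalkMap (genericPoint X) (Y.presheaf.germ V _ hηV a) := fun a ↦ by
    rw [Scheme.Hom.germ_stalkMap_apply, Scheme.Hom.appLE, CommRingCat.comp_apply,
      TopCat.Presheaf.germ_res_apply]
  refine isOpenImmersion_ι_comp_of_integrallyClosed f hW hV hWV ?_ fun b hb' ↦ ?_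
  · intro a a' haa
    have h0 := congr(X.presheaf.germ W _ hηW $haa)
    rw [hcomm, hcomm] at h0
    have h1 := hb.1 h0
    have key : ∀ (z : Y) (hz : z ∈ V), z = genericPoint Y →
        Function.Injective (Y.presheaf.germ V z hz) := by
      rintro z hz rfl
      exact germ_injective_of_isIntegral Y _ hz
    exact key _ hηV hgen h1
  · obtain ⟨y, hy⟩ := hb.2 (X.presheaf.germ W _ hηW b)
    have hy' : (Y.presheaf.germ V _ hηV).hom.IsIntegralElem y := by
      obtain ⟨q, hq, hqb⟩ := hb'
      refine ⟨q, hq, hb.1 ?_⟩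
      rw [map_zero]
      refine (Polynomial.hom_eval₂ q _ (f.stalkMap (genericPoint X)).hom y).trans ?_
      have : (f.stalkMap (genericPoint X)).hom.comp (Y.presheaf.germ V _ hηV).hom =
          (X.presheaf.germ W _ hηW).hom.comp (f.appLE V W hWV).hom := by
        ext a; exact (hcomm a).symm
      rw [this, hy, ← Polynomial.hom_eval₂, hqb, map_zero]
    obtain ⟨a, ha⟩ := mem_range_germ_of_isIntegralElem hN hV hgen hηV y hy'
    refine ⟨a, germ_injective_of_isIntegral X _ hηW ?_⟩
    rw [hcomm, ha, hy]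

theorem isOpenImmersion_of_isLocalIso {X Y : Scheme.{u}} [IsIntegral X] (f : X ⟶ Y) [IsLocalIso f]
    [IsSeparated f] : IsOpenImmersion f := by
  rw [IsOpenImmersion.iff_isIso_stalkMap]
  have hex := IsLocalIso.exists_isOpenImmersion (f := f)
  refine ⟨Topology.IsOpenEmbedding.of_continuous_injective_isOpenMap f.continuous ?_ ?_, ?_⟩
  · intro x₁ x₂ hx
    obtain ⟨W₁, hW₁, h₁⟩ := hex x₁
    obtain ⟨W₂, hW₂, h₂⟩ := hex x₂
    let m : pullback (W₁.ι ≫ f) (W₂.ι ≫ f) ⟶ pullback f f :=
      pullback.map _ _ _ _ W₁.ι W₂.ι (𝟙 Y) (Category.comp_id _) (Category.comp_id _)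
    let l : ((W₁ ⊓ W₂ : X.Opens) : Scheme.{u}) ⟶ pullback (W₁.ι ≫ f) (W₂.ι ≫ f) :=
      pullback.lift (X.homOfLE inf_le_left) (X.homOfLE inf_le_right) (by simp)
    have hl : l ≫ m = (W₁ ⊓ W₂).ι ≫ pullback.diagonal f := by
      apply pullback.hom_ext
      · simp only [Category.assoc, m, l, pullback.lift_fst, pullback.lift_fst_assoc,
          pullback.diagonal_fst, Category.comp_id, Scheme.homOfLE_ι]
      · simp only [Category.assoc, m, l, pullback.lift_snd, pullback.lift_snd_assoc,
          pullback.diagonal_snd, Category.comp_id, Scheme.homOfLE_ι]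
    obtain ⟨z, hz₁, hz₂⟩ := Scheme.Pullback.exists_preimage_pullback (f := W₁.ι ≫ f)
      (g := W₂.ι ≫ f) ⟨x₁, hW₁⟩ ⟨x₂, hW₂⟩ (by
        rw [Scheme.Hom.comp_apply, Scheme.Hom.comp_apply]; exact hx)
    have hη : genericPoint X ∈ W₁ ⊓ W₂ :=
      ⟨(genericPoint_specializes x₁).mem_open W₁.isOpen hW₁,
        (genericPoint_specializes x₂).mem_open W₂.isOpen hW₂⟩
    let e := l ⟨_, hη⟩
    have hspec : e ⤳ z := by
      refine (pullback.fst (W₁.ι ≫ f) (W₂.ι ≫ f)).isOpenEmbedding.isInducing.specializes_iff.mp ?_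
      rw [hz₁, ← W₁.ι.isOpenEmbedding.isInducing.specializes_iff]
      have : W₁.ι (pullback.fst (W₁.ι ≫ f) (W₂.ι ≫ f) e) = genericPoint X := by
        show W₁.ι (pullback.fst (W₁.ι ≫ f) (W₂.ι ≫ f) (l ⟨genericPoint X, hη⟩)) = _
        rw [← Scheme.Hom.comp_apply, ← Scheme.Hom.comp_apply, pullback.lift_fst_assoc,
          Scheme.homOfLE_ι]
        rfl
      rw [this]
      exact genericPoint_specializes _
    have he : m e ∈ Set.range (pullback.diagonal f) :=
      ⟨(W₁ ⊓ W₂).ι ⟨_, hη⟩, by rw [← Scheme.Hom.comp_apply, ← hl, Scheme.Hom.comp_apply]⟩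
    obtain ⟨t, ht⟩ :=
      (hspec.map m.continuous).mem_closed (pullback.diagonal f).isClosedEmbedding.isClosed_range he
    have e₁ := congr(pullback.fst f f $ht)
    have e₂ := congr(pullback.snd f f $ht)
    simp only [← Scheme.Hom.comp_apply, pullback.diagonal_fst, pullback.diagonal_snd] at e₁ e₂
    simp only [m, pullback.lift_fst, pullback.lift_snd] at e₁ e₂
    rw [Scheme.Hom.comp_apply, hz₁] at e₁
    rw [Scheme.Hom.comp_apply, hz₂] at e₂
    exact e₁.symm.trans e₂
  · intro O hO
    rw [isOpen_iff_forall_mem_open]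
    rintro _ ⟨x, hx, rfl⟩
    obtain ⟨W, hW, h⟩ := hex x
    refine ⟨(W.ι ≫ f) '' (W.ι ⁻¹' O), ?_,
      (W.ι ≫ f).isOpenEmbedding.isOpenMap _ (hO.preimage W.ι.continuous), ⟨x, hW⟩, hx, rfl⟩
    rintro _ ⟨y, hy, rfl⟩
    exact ⟨W.ι y, hy, rfl⟩
  · intro x
    obtain ⟨W, hW, h⟩ := hex x
    have : IsIso ((W.ι ≫ f).stalkMap ⟨x, hW⟩) := inferInstance
    rw [Scheme.Hom.stalkMap_comp] at this
    have : IsIso (W.ι.stalkMap ⟨x, hW⟩) := IsOpenImmersion.iff_isIso_stalkMap.mp
      (inferInstanceAs (IsOpenImmersion W.ι)) |>.2 _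
    exact @IsIso.of_isIso_comp_right _ _ _ _ _ _ _ (by assumption) (by assumption)

end Groth.Agent.H8Lim

namespace Groth.Agent.H8Lim

/-- An element of the function field which is everywhere locally a section, is a section. -/
theorem mem_range_germ_of_local {X : Scheme.{u}} [IsIntegral X] {O : X.Opens}
    (hη : genericPoint X ∈ O) (ξ : X.presheaf.stalk (genericPoint X))
    (h : ∀ x ∈ O, ∃ (W : X.Opens) (hηW : genericPoint X ∈ W), W ≤ O ∧ x ∈ W ∧
      ξ ∈ Set.range (X.presheaf.germ W _ hηW)) :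
    ξ ∈ Set.range (X.presheaf.germ O _ hη) := by
  choose W hηW hWO hxW sf hsf using fun x : O ↦ h x.1 x.2
  obtain ⟨s, hs, -⟩ := X.sheaf.existsUnique_gluing' W O (fun x ↦ homOfLE (hWO x))
    (fun x hx ↦ Opens.mem_iSup.mpr ⟨⟨x, hx⟩, hxW _⟩) sf (fun a b ↦ by
      refine germ_injective_of_isIntegral X _
        (show genericPoint X ∈ W a ⊓ W b from ⟨hηW a, hηW b⟩) ?_
      erw [TopCat.Presheaf.germ_res_apply, TopCat.Presheaf.germ_res_apply]
      exact (hsf a).trans (hsf b).symm)
  refine ⟨s, ?_⟩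
  rw [← hsf ⟨_, hη⟩, ← hs ⟨_, hη⟩]
  erw [TopCat.Presheaf.germ_res_apply]

/-- EGA IV 8.12.11. -/
theorem isLocalIso_toNormalization {X Y : Scheme.{u}} [IsIntegral X]
    (hN : ∀ x : X, IsIntegrallyClosed (X.presheaf.stalk x)) (f : X ⟶ Y)
    [LocallyQuasiFinite f] [LocallyOfFiniteType f] [QuasiCompact f] [QuasiSeparated f] :
    IsLocalIso f.toNormalization := by
  have : LocallyQuasiFinite (f.toNormalization ≫ f.fromNormalization) := by simpa
  have : LocallyQuasiFinite f.toNormalization := .of_comp _ f.fromNormalization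
  have : LocallyOfFiniteType (f.toNormalization ≫ f.fromNormalization) := by simpa
  have : LocallyOfFiniteType f.toNormalization := locallyOfFiniteType_of_comp _ f.fromNormalization
  refine ⟨fun x ↦ ?_⟩
  obtain ⟨_, ⟨V, hV, rfl⟩, hxV, -⟩ :=
    Y.isBasis_affineOpens.exists_subset_of_mem_open (Set.mem_univ (f x)) isOpen_univ
  obtain ⟨_, ⟨W, hW, rfl⟩, hxW, hWV⟩ :=
    X.isBasis_affineOpens.exists_subset_of_mem_open (show x ∈ f ⁻¹ᵁ V from hxV) (f ⁻¹ᵁ V).isOpen
  let T := f.fromNormalization ⁻¹ᵁ V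
  have hT : IsAffineOpen T := hV.preimage f.fromNormalization
  have hTpre : f.toNormalization ⁻¹ᵁ T = f ⁻¹ᵁ V := by
    rw [← Scheme.Hom.comp_preimage, Scheme.Hom.toNormalization_fromNormalization]
  have e : W ≤ f.toNormalization ⁻¹ᵁ T := hTpre ▸ hWV
  refine ⟨W, hxW, ?_⟩
  have hηW : genericPoint X ∈ W := (genericPoint_specializes x).mem_open W.isOpen hxW
  have hηV : genericPoint X ∈ f ⁻¹ᵁ V := hWV hηW
  let := (f.app V).hom.toAlgebra
  have happ : ∀ a, X.presheaf.germ W _ hηW (f.toNormalization.appLE T W e a) =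
      X.presheaf.germ _ _ hηV ((f.normalizationObjIso hV).hom a).1 := fun a ↦ by
    rw [Scheme.Hom.appLE, CommRingCat.comp_apply, TopCat.Presheaf.germ_res_apply,
      f.toNormalization_app_preimage ⟨V, hV⟩]
    exact TopCat.Presheaf.germ_res_apply _ _ _ _ _
  refine isOpenImmersion_ι_comp_of_integrallyClosed f.toNormalization hW hT e ?_ fun b hb ↦ ?_
  · intro a a' haa
    have h0 := congr(X.presheaf.germ W _ hηW $haa)
    rw [happ, happ] at h0
    exact (ConcreteCategory.bijective_of_isIso (f.normalizationObjIso hV).hom).1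
      (Subtype.ext (germ_injective_of_isIntegral X _ hηV h0))
  · -- integral over the base
    have hb₀ : (f.appLE V W hWV).hom.IsIntegralElem b := by
      have h1 := f.fromNormalization.isIntegral_app V hV
      have h2 : f.appLE V W hWV = f.fromNormalization.app V ≫ f.toNormalization.appLE T W e := by
        rw [Scheme.Hom.app_eq_appLE, Scheme.Hom.appLE_comp_appLE]
        simp
      rw [h2]
      let A₁ := (f.fromNormalization.app V).hom.toAlgebra
      let A₂ := (f.toNormalization.appLE T W e).hom.toAlgebra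
      let A₃ := (f.fromNormalization.app V ≫ f.toNormalization.appLE T W e).hom.toAlgebra
      have : IsScalarTower Γ(Y, V) Γ(f.normalization, T) Γ(X, W) := .of_algebraMap_eq' rfl
      have : Algebra.IsIntegral Γ(Y, V) Γ(f.normalization, T) := ⟨fun z ↦ h1 z⟩
      exact isIntegral_trans (R := Γ(Y, V)) b hb
    obtain ⟨q, hq, hqb⟩ := hb₀
    obtain ⟨b', hb'⟩ := mem_range_germ_of_local hηV (X.presheaf.germ W _ hηW b) fun y hy ↦ by
      obtain ⟨_, ⟨W', hW', rfl⟩, hyW', hW'V⟩ :=
        X.isBasis_affineOpens.exists_subset_of_mem_open hy (f ⁻¹ᵁ V).isOpen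
      have hηW' : genericPoint X ∈ W' := (genericPoint_specializes y).mem_open W'.isOpen hyW'
      refine ⟨W', hηW', hW'V, hyW', mem_range_germ_of_isIntegralElem hN hW' rfl hηW' _
        ⟨q.map (f.appLE V W' hW'V).hom, hq.map _, ?_⟩⟩
      rw [Polynomial.eval₂_map]
      have : (X.presheaf.germ W' _ hηW').hom.comp (f.appLE V W' hW'V).hom =
          (X.presheaf.germ W _ hηW).hom.comp (f.appLE V W hWV).hom := by
        rw [← CommRingCat.hom_comp, ← CommRingCat.hom_comp, Scheme.Hom.appLE, Scheme.Hom.appLE,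
          Category.assoc, Category.assoc, TopCat.Presheaf.germ_res, TopCat.Presheaf.germ_res]
      rw [this]
      refine (Polynomial.hom_eval₂ q _ (X.presheaf.germ W _ hηW).hom b).symm.trans ?_
      rw [hqb, map_zero]
    have hint : IsIntegral Γ(Y, V) b' := by
      refine ⟨q, hq, germ_injective_of_isIntegral X _ hηV ?_⟩
      rw [map_zero]
      refine (Polynomial.hom_eval₂ q _ (X.presheaf.germ _ _ hηV).hom b').trans ?_
      have : (X.presheaf.germ _ _ hηV).hom.comp (algebraMap Γ(Y, V) Γ(X, f ⁻¹ᵁ V)) =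
          (X.presheaf.germ W _ hηW).hom.comp (f.appLE V W hWV).hom := by
        rw [← CommRingCat.hom_comp, Scheme.Hom.appLE, Category.assoc, TopCat.Presheaf.germ_res]
        rfl
      rw [this, hb']
      refine (Polynomial.hom_eval₂ q _ (X.presheaf.germ W _ hηW).hom b).symm.trans ?_
      rw [hqb, map_zero]
    refine ⟨(f.normalizationObjIso hV).inv ⟨b', hint⟩, germ_injective_of_isIntegral X _ hηW ?_⟩
    rw [happ, ← CommRingCat.comp_apply, Iso.inv_hom_id]
    exact hb'

end Groth.Agent.H8Lim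

namespace Groth.Agent.H8Lim

theorem stalkIso_germ_top {X : Scheme.{u}} (W : X.Opens) (x : W) (t : Γ(W, ⊤)) :
    (W.stalkIso x).hom ((W : Scheme.{u}).presheaf.germ ⊤ x trivial t) =
      X.presheaf.germ W x.1 x.2 (W.topIso.hom t) := by
  rw [← CommRingCat.comp_apply, Scheme.Opens.germ_stalkIso_hom, Scheme.Opens.topIso_hom]
  exact (TopCat.Presheaf.germ_res_apply _ _ _ _ _).symm

/-- At a normal point of the base, a birational quasi-finite map is surjective on local rings. -/
theorem surjective_stalkMap_of_quasiFinite {X Y : Scheme.{u}} [IsIntegral X] [IsIntegral Y]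
    (f : X ⟶ Y) (hgen : f (genericPoint X) = genericPoint Y)
    (hbir : IsIso (f.stalkMap (genericPoint X))) {V : Y.Opens} (hV : IsAffineOpen V) {W : X.Opens}
    (hW : IsAffineOpen W) (e : W ≤ f ⁻¹ᵁ V) [LocallyQuasiFinite (W.ι ≫ f)]
    [LocallyOfFiniteType f] (x : X) (hxW : x ∈ W)
    (hy : IsIntegrallyClosed (Y.presheaf.stalk (f x))) :
    Function.Surjective (f.stalkMap x) := by
  have : IsAffine (W : Scheme.{u}) := hW
  have : IsAffine (V : Scheme.{u}) := hV
  have : LocallyQuasiFinite (f.resLE V W e ≫ V.ι) := by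
    rw [Scheme.Hom.resLE_comp_ι]; infer_instance
  have : LocallyQuasiFinite (f.resLE V W e) := .of_comp _ V.ι
  have : LocallyOfFiniteType (f.resLE V W e ≫ V.ι) := by
    rw [Scheme.Hom.resLE_comp_ι]; infer_instance
  have : LocallyOfFiniteType (f.resLE V W e) := locallyOfFiniteType_of_comp _ V.ι
  let h := f.resLE V W e
  have : IsAffine h.normalization := isAffine_of_isAffineHom h.fromNormalization
  have hxV : f x ∈ V := e hxW
  have hηW : genericPoint X ∈ W := (genericPoint_specializes x).mem_open W.isOpen hxW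
  -- integral functions come from the local ring of the normal point
  have hint : ∀ b, (f.appLE V W e).hom.IsIntegralElem b →
      X.presheaf.germ W x hxW b ∈ Set.range (f.stalkMap x) := by
    intro b ⟨q, hq, hqb⟩
    have hbij := (ConcreteCategory.isIso_iff_bijective (f.stalkMap (genericPoint X))).mp hbir
    have hsp : genericPoint X ⤳ x := genericPoint_specializes x
    have hsp' : f (genericPoint X) ⤳ f x := hsp.map f.continuous
    obtain ⟨ξ, hξ⟩ := hbij.2 (X.presheaf.germ W _ hηW b)
    -- compatibility with the function fields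
    have hc₁ : ∀ a, X.presheaf.stalkSpecializes hsp (f.stalkMap x a) =
        f.stalkMap (genericPoint X) (Y.presheaf.stalkSpecializes hsp' a) := fun a ↦
      (f.stalkSpecializes_stalkMap_apply _ _ hsp a).symm
    have hc₂ : ∀ a : Γ(Y, V), X.presheaf.germ W _ hηW (f.appLE V W e a) =
        f.stalkMap (genericPoint X)
          (Y.presheaf.stalkSpecializes hsp' (Y.presheaf.germ V _ hxV a)) := fun a ↦ by
      rw [TopCat.Presheaf.germ_stalkSpecializes_apply]
      erw [Scheme.Hom.germ_stalkMap_apply, TopCat.Presheaf.germ_res_apply]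
      rfl
    obtain ⟨η₀, hη₀⟩ : ξ ∈ Set.range (Y.presheaf.stalkSpecializes hsp') := by
      have key : ∀ (z : Y) (hz : z = genericPoint Y) (hzy : z ⤳ f x) (ζ : Y.presheaf.stalk z),
          (Y.presheaf.stalkSpecializes hzy).hom.IsIntegralElem ζ →
          ζ ∈ Set.range (Y.presheaf.stalkSpecializes hzy) := by
        rintro z rfl hzy ζ hζ
        have : IsFractionRing (Y.presheaf.stalk (f x)) Y.functionField := inferInstance
        exact IsIntegrallyClosed.isIntegral_iff.mp
          (hζ : IsIntegral (Y.presheaf.stalk (f x)) (ζ : Y.functionField))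
      refine key _ hgen hsp' ξ ⟨q.map (Y.presheaf.germ V _ hxV).hom, hq.map _, hbij.1 ?_⟩
      rw [map_zero, Polynomial.eval₂_map]
      refine (Polynomial.hom_eval₂ q _ (f.stalkMap (genericPoint X)).hom ξ).trans ?_
      have : (f.stalkMap (genericPoint X)).hom.comp
          ((Y.presheaf.stalkSpecializes hsp').hom.comp (Y.presheaf.germ V _ hxV).hom) =
          (X.presheaf.germ W _ hηW).hom.comp (f.appLE V W e).hom := by
        ext a; exact (hc₂ a).symm
      rw [this, hξ]
      refine (Polynomial.hom_eval₂ q _ (X.presheaf.germ W _ hηW).hom b).symm.trans ?_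
      rw [hqb, map_zero]
    refine ⟨η₀, ?_⟩
    apply IsFractionRing.injective (X.presheaf.stalk x) X.functionField
    change X.presheaf.stalkSpecializes hsp (f.stalkMap x η₀) =
      X.presheaf.stalkSpecializes hsp (X.presheaf.germ W x hxW b)
    rw [hc₁, hη₀, hξ, TopCat.Presheaf.germ_stalkSpecializes_apply]
  -- fractions of integral functions exhaust the local ring
  intro ξ
  let x' : (W : Scheme.{u}) := ⟨x, hxW⟩
  let z := h.toNormalization x'
  obtain ⟨ζ, hζ⟩ := (ConcreteCategory.bijective_of_isIso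
    (h.toNormalization.stalkMap x' ≫ (W.stalkIso x').hom)).2 ξ
  have hz : z ∈ (⊤ : h.normalization.Opens) := trivial
  let := (h.normalization.presheaf.germ ⊤ z hz).hom.toAlgebra
  have := (isAffineOpen_top h.normalization).isLocalization_stalk ⟨z, hz⟩
  obtain ⟨⟨c, d⟩, hcd⟩ := IsLocalization.surj
    ((isAffineOpen_top h.normalization).primeIdealOf ⟨z, hz⟩).asIdeal.primeCompl ζ
  have hd := IsLocalization.map_units (h.normalization.presheaf.stalk z) d
  have hint' : ∀ c : Γ(h.normalization, ⊤),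
      (h.toNormalization.stalkMap x' ≫ (W.stalkIso x').hom)
        (h.normalization.presheaf.germ ⊤ z hz c) ∈ Set.range (f.stalkMap x) := by
    intro c
    have hcint : h.appTop.hom.IsIntegralElem (h.toNormalization.appTop c) := by
      obtain ⟨q, hq, hqc⟩ := h.fromNormalization.isIntegral_app ⊤ (isAffineOpen_top _) c
      refine ⟨q, hq, ?_⟩
      have h1 : h.appTop = h.fromNormalization.appTop ≫ h.toNormalization.appTop := by
        rw [← Scheme.Hom.comp_appTop, Scheme.Hom.toNormalization_fromNormalization]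
      rw [h1]
      refine (Polynomial.hom_eval₂ q _ h.toNormalization.appTop.hom c).symm.trans ?_
      erw [show Polynomial.eval₂ h.fromNormalization.appTop.hom c q = 0 from hqc]
      exact map_zero _
    have key : h.appTop = V.topIso.hom ≫ f.appLE V W e ≫ W.topIso.inv :=
      Scheme.Hom.resLE_app_top f e
    obtain ⟨q, hq, hqb⟩ := hcint
    have hb : (f.appLE V W e).hom.IsIntegralElem (W.topIso.hom (h.toNormalization.appTop c)) := by
      refine ⟨q.map V.topIso.hom.hom, hq.map _, ?_⟩
      rw [Polynomial.eval₂_map]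
      have h0 := congr(W.topIso.hom.hom $hqb)
      rw [map_zero, Polynomial.hom_eval₂, key, ← CommRingCat.hom_comp, Category.assoc,
        Category.assoc, Iso.inv_hom_id, Category.comp_id, CommRingCat.hom_comp] at h0
      exact h0
    rw [CommRingCat.comp_apply]
    have hg : h.toNormalization.stalkMap x' (h.normalization.presheaf.germ ⊤ z hz c) =
        (W : Scheme.{u}).presheaf.germ ⊤ x' trivial (h.toNormalization.appTop c) :=
      Scheme.Hom.germ_stalkMap_apply _ ⊤ x' trivial c
    rw [hg, stalkIso_germ_top]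
    exact hint _ hb
  obtain ⟨γ, hγ⟩ := hint' c
  obtain ⟨δ, hδ⟩ := hint' d
  have hδu : IsUnit δ := by
    have : IsLocalHom (f.stalkMap x).hom := inferInstance
    refine (isUnit_map_iff (f.stalkMap x).hom δ).mp ?_
    change IsUnit (f.stalkMap x δ)
    rw [hδ]
    exact hd.map (h.toNormalization.stalkMap x' ≫ (W.stalkIso x').hom).hom
  obtain ⟨δ, rfl⟩ := hδu
  refine ⟨γ * ↑δ⁻¹, (IsUnit.mul_left_inj ((δ.isUnit.map (f.stalkMap x).hom))).mp ?_⟩
  change f.stalkMap x _ * f.stalkMap x _ = _ * f.stalkMap x _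
  rw [← map_mul, mul_assoc, Units.inv_mul, mul_one, hγ, hδ, ← hζ, ← map_mul]
  exact congrArg _ hcd.symm

/-- EGA IV 8.12.10, pointwise. -/
theorem exists_isOpenImmersion_of_quasiFiniteAt {X Y : Scheme.{u}} [IsIntegral X] [IsIntegral Y]
    (f : X ⟶ Y) [LocallyOfFiniteType f] (hgen : f (genericPoint X) = genericPoint Y)
    (hbir : IsIso (f.stalkMap (genericPoint X))) (x : X) (hq : f.QuasiFiniteAt x)
    (hy : IsIntegrallyClosed (Y.presheaf.stalk (f x))) :
    ∃ W : X.Opens, x ∈ W ∧ IsOpenImmersion (W.ι ≫ f) := by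
  obtain ⟨_, ⟨V, hV, rfl⟩, hxV, -⟩ :=
    Y.isBasis_affineOpens.exists_subset_of_mem_open (Set.mem_univ (f x)) isOpen_univ
  obtain ⟨_, ⟨W, hW, rfl⟩, hxW, hWV'⟩ :=
    X.isBasis_affineOpens.exists_subset_of_mem_open
      (show x ∈ f ⁻¹ᵁ V ⊓ f.quasiFiniteLocus from ⟨hxV, hq⟩) (f ⁻¹ᵁ V ⊓ f.quasiFiniteLocus).isOpen
  have e : W ≤ f ⁻¹ᵁ V := fun z hz ↦ (hWV' hz).1
  have hWq : LocallyQuasiFinite (Scheme.Opens.ι W ≫ f) := by
    rw [← Scheme.Hom.quasiFiniteLocus_eq_top_iff, Scheme.Hom.quasiFiniteLocus_comp]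
    exact top_le_iff.mp fun z _ ↦ (hWV' z.2).2
  have hsurj := surjective_stalkMap_of_quasiFinite f hgen hbir hV hW e x hxW hy
  have hft : (f.appLE V W e).hom.FiniteType :=
    HasRingHomProperty.appLE @LocallyOfFiniteType f inferInstance ⟨V, hV⟩ ⟨W, hW⟩ e
  let := (f.appLE V W e).hom.toAlgebra
  obtain ⟨σ, hσ⟩ := (hft : Algebra.FiniteType Γ(Y, V) Γ(X, W)).out
  -- denominators for the generators
  let A₀ := (Y.presheaf.germ V _ hxV).hom.toAlgebra
  have := hV.isLocalization_stalk ⟨f x, hxV⟩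
  have hex : ∀ b : Γ(X, W), ∃ a s : Γ(Y, V), IsUnit (Y.presheaf.germ V _ hxV s) ∧
      f.appLE V W e s * b = f.appLE V W e a := fun b ↦ by
    obtain ⟨η₀, hη₀⟩ := hsurj (X.presheaf.germ W x hxW b)
    obtain ⟨⟨a, s⟩, has⟩ := IsLocalization.surj
      (hV.primeIdealOf ⟨f x, hxV⟩).asIdeal.primeCompl η₀
    refine ⟨a, s, IsLocalization.map_units _ s, germ_injective_of_isIntegral X x hxW ?_⟩
    have hc : ∀ r, X.presheaf.germ W x hxW (f.appLE V W e r) =
        f.stalkMap x (Y.presheaf.germ V _ hxV r) := fun r ↦ by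
      erw [Scheme.Hom.germ_stalkMap_apply, TopCat.Presheaf.germ_res_apply]
      rfl
    rw [map_mul, hc, hc, ← hη₀, ← map_mul, mul_comm]
    exact congrArg _ has
  choose a s hs hsb using hex
  classical
  let t := ∏ b ∈ σ, s b
  have htu : IsUnit (Y.presheaf.germ V _ hxV t) := by
    rw [map_prod]
    exact IsUnit.prod_iff.mpr fun b _ ↦ hs b
  let V' := Y.basicOpen t
  let W' := X.basicOpen (f.appLE V W e t)
  have hxV' : f x ∈ V' := (Y.mem_basicOpen _ _ hxV).mpr htu
  have hW'eq : W' = W ⊓ f ⁻¹ᵁ V' := by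
    rw [Scheme.preimage_basicOpen]
    exact Scheme.basicOpen_res _ _ _
  have hxW' : x ∈ W' := hW'eq ▸ ⟨hxW, hxV'⟩
  have e' : W' ≤ f ⁻¹ᵁ V' := hW'eq ▸ inf_le_right
  have : IsAffine (W' : Scheme.{u}) := hW.basicOpen _
  have : IsAffine (V' : Scheme.{u}) := hV.basicOpen _
  let rX := X.presheaf.map (homOfLE (X.basicOpen_le (f.appLE V W e t))).op
  let rY := Y.presheaf.map (homOfLE (Y.basicOpen_le t)).op
  have hcomm : ∀ r, rX (f.appLE V W e r) = f.appLE V' W' e' (rY r) := fun r ↦ by
    rw [← CommRingCat.comp_apply, ← CommRingCat.comp_apply, Scheme.Hom.appLE_map,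
      Scheme.Hom.map_appLE]
  have hbij : Function.Bijective (f.appLE V' W' e') := by
    constructor
    · have hηW' : genericPoint X ∈ W' := (genericPoint_specializes x).mem_open W'.isOpen hxW'
      have hbij' := (ConcreteCategory.isIso_iff_bijective (f.stalkMap (genericPoint X))).mp hbir
      intro r r' hrr
      have h0 := congr(X.presheaf.germ W' _ hηW' $hrr)
      rw [Scheme.Hom.appLE, CommRingCat.comp_apply, CommRingCat.comp_apply,
        TopCat.Presheaf.germ_res_apply, TopCat.Presheaf.germ_res_apply] at h0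
      erw [← Scheme.Hom.germ_stalkMap_apply, ← Scheme.Hom.germ_stalkMap_apply] at h0
      have key : ∀ (z : Y) (hz : z ∈ V'), z = genericPoint Y →
          Function.Injective (Y.presheaf.germ V' z hz) := by
        rintro z hz rfl
        exact germ_injective_of_isIntegral Y _ hz
      exact key _ (e' hηW') hgen (hbij'.1 h0)
    · let R : Subalgebra Γ(Y, V) Γ(X, W) :=
        { ((f.appLE V' W' e').hom.range.comap rX.hom).toSubsemiring with
          algebraMap_mem' := fun r ↦ ⟨rY r, (hcomm r).symm⟩ }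
      have hR : R = ⊤ := by
        rw [eq_top_iff, ← hσ]
        refine Algebra.adjoin_le fun b hb ↦ ?_
        have hu : IsUnit (rY (s b)) := by
          have : IsUnit (rY t) := RingedSpace.isUnit_res_basicOpen Y.toRingedSpace t
          rw [map_prod] at this
          exact IsUnit.prod_iff.mp this b hb
        obtain ⟨u, hu⟩ := hu
        refine ⟨↑u⁻¹ * rY (a b), ?_⟩
        have h0 := congr(rX $(hsb b))
        rw [map_mul, hcomm, hcomm, ← hu] at h0
        rw [map_mul, ← h0, ← mul_assoc, ← map_mul, Units.inv_mul, map_one, one_mul]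
      intro z
      let A₁ := rX.hom.toAlgebra
      have := hW.isLocalization_basicOpen (f.appLE V W e t)
      obtain ⟨n, b, hb⟩ := IsLocalization.Away.surj (f.appLE V W e t) z
      obtain ⟨r, hr⟩ : b ∈ R := hR ▸ Algebra.mem_top
      have hu : IsUnit (rY t) := RingedSpace.isUnit_res_basicOpen Y.toRingedSpace t
      obtain ⟨u, hu⟩ := hu
      refine ⟨r * ↑(u ^ n)⁻¹, ?_⟩
      have hut : IsUnit (f.appLE V' W' e' ↑(u ^ n)) := (u ^ n).isUnit.map (f.appLE V' W' e').hom
      refine hut.mul_left_inj.mp ?_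
      rw [← map_mul, mul_assoc, Units.inv_mul, mul_one, Units.val_pow_eq_pow_val, map_pow, hu,
        ← hcomm]
      exact hr.trans hb.symm
  refine ⟨W', hxW', ?_⟩
  rw [← Scheme.Hom.resLE_comp_ι f e']
  have : IsIso (f.resLE V' W' e') := by
    refine isIso_of_bijective_appTop _ ?_
    rw [show (f.resLE V' W' e').appTop = _ from Scheme.Hom.resLE_app_top f e']
    exact ((ConcreteCategory.bijective_of_isIso W'.topIso.inv).comp hbij).comp
      (ConcreteCategory.bijective_of_isIso V'.topIso.hom)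
  infer_instance

end Groth.Agent.H8Lim
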