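import Groth.Agent.H8Lim.AffineModel
import Groth.Agent.H8Lim.BiratNormal

/-!
# Absolute Noetherian approximation

A quasi-compact quasi-separated scheme over a Noetherian scheme `R` is affine over a scheme of
finite type over `R` (Thomason–Trobaugh, Temkin; Stacks 01ZA).
-/

set_option autoImplicit false
set_option backward.isDefEq.respectTransparency.types false

universe u

open CategoryTheory Limits AlgebraicGeometry TopologicalSpace Opposite

namespace Groth.Agent.H8Lim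

/-- A morphism that restricts to open immersions over opens whose preimages cover is an open
immersion. -/
lemma isOpenImmersion_of_preimages {X Y : Scheme.{u}} (f : X ⟶ Y) {κ : Type*} (D : κ → Y.Opens)
    (hcov : ⨆ k, f ⁻¹ᵁ D k = ⊤) (h : ∀ k, IsOpenImmersion ((f ⁻¹ᵁ D k).ι ≫ f)) :
    IsOpenImmersion f := by
  have hloc : IsLocalIso f := ⟨fun x ↦ by
    obtain ⟨k, hk⟩ := Opens.mem_iSup.mp (hcov.ge (Opens.mem_top x))
    exact ⟨_, hk, h k⟩⟩
  rw [IsOpenImmersion.iff_isIso_stalkMap]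
  refine ⟨Topology.IsOpenEmbedding.of_continuous_injective_isOpenMap f.continuous ?_ ?_, ?_⟩
  · intro x y hxy
    obtain ⟨k, hk⟩ := Opens.mem_iSup.mp (hcov.ge (Opens.mem_top x))
    have hk' : y ∈ f ⁻¹ᵁ D k := by
      change f y ∈ D k
      rw [← hxy]; exact hk
    exact congrArg Subtype.val (((f ⁻¹ᵁ D k).ι ≫ f).isOpenEmbedding.injective
      (a₁ := ⟨x, hk⟩) (a₂ := ⟨y, hk'⟩) hxy)
  · intro O hO
    rw [isOpen_iff_forall_mem_open]
    rintro _ ⟨x, hx, rfl⟩
    obtain ⟨k, hk⟩ := Opens.mem_iSup.mp (hcov.ge (Opens.mem_top x))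
    refine ⟨((f ⁻¹ᵁ D k).ι ≫ f) '' ((f ⁻¹ᵁ D k).ι ⁻¹' O), ?_,
      ((f ⁻¹ᵁ D k).ι ≫ f).isOpenEmbedding.isOpenMap _ (hO.preimage (f ⁻¹ᵁ D k).ι.continuous),
      ⟨⟨x, hk⟩, hx, rfl⟩⟩
    rintro _ ⟨z, hz, rfl⟩
    exact ⟨_, hz, rfl⟩
  · intro x
    obtain ⟨k, hk⟩ := Opens.mem_iSup.mp (hcov.ge (Opens.mem_top x))
    let z : (f ⁻¹ᵁ D k).toScheme := ⟨x, hk⟩
    have h1 : IsIso (((f ⁻¹ᵁ D k).ι ≫ f).stalkMap z) := inferInstance
    have h2 : IsIso ((f ⁻¹ᵁ D k).ι.stalkMap z) := inferInstance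
    rw [Scheme.Hom.stalkMap_comp] at h1
    exact @IsIso.of_isIso_comp_right _ _ _ _ _ (f.stalkMap ((f ⁻¹ᵁ D k).ι z)) ((f ⁻¹ᵁ D k).ι.stalkMap z) h2 h1

/-- Gluing of two schemes along a common open. -/
theorem exists_glue_two {R O X₁ X₂ : Scheme.{u}} (i : O ⟶ X₁) (j : O ⟶ X₂) [IsOpenImmersion i]
    [IsOpenImmersion j] (f₁ : X₁ ⟶ R) (f₂ : X₂ ⟶ R) (hf : i ≫ f₁ = j ≫ f₂) :
    ∃ (Z : Scheme.{u}) (a : X₁ ⟶ Z) (b : X₂ ⟶ Z) (f : Z ⟶ R),
      IsOpenImmersion a ∧ IsOpenImmersion b ∧ i ≫ a = j ≫ b ∧ a ≫ f = f₁ ∧ b ≫ f = f₂ ∧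
      (∀ z, z ∈ Set.range a ∨ z ∈ Set.range b) ∧
      (∀ x y, a x = b y → ∃ o, i o = x ∧ j o = y) := by
  refine ⟨pushout i j, pushout.inl i j, pushout.inr i j, pushout.desc f₁ f₂ hf,
    inferInstanceAs (IsOpenImmersion (colimit.ι (span i j) _)),
    inferInstanceAs (IsOpenImmersion (colimit.ι (span i j) _)), pushout.condition,
    pushout.inl_desc _ _ _, pushout.inr_desc _ _ _, fun z ↦ ?_, fun x y hxy ↦ ?_⟩
  · obtain ⟨k, w, rfl⟩ := Scheme.IsLocallyDirected.ι_jointly_surjective (span i j) z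
    rcases k with _ | ⟨_ | _⟩
    · exact Or.inl ⟨i w, by
        rw [← colimit.w (span i j) WalkingSpan.Hom.fst]; rfl⟩
    · exact Or.inl ⟨w, rfl⟩
    · exact Or.inr ⟨w, rfl⟩
  · obtain ⟨k, fi, fj, w, h₁, h₂⟩ := (Scheme.IsLocallyDirected.ι_eq_ι_iff (span i j)
      (i := WalkingSpan.left) (j := WalkingSpan.right) (xi := x) (xj := y)).mp hxy
    change WidePushoutShape.Hom k (some WalkingPair.left) at fi
    change WidePushoutShape.Hom k (some WalkingPair.right) at fj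
    rcases k with _ | k
    · cases fi
      cases fj
      exact ⟨w, h₁, h₂⟩
    · cases fi
      cases fj

/-- Gluing of morphisms defined on two opens. -/
theorem exists_glue_hom {X Z : Scheme.{u}} (U V : X.Opens) (p : U.toScheme ⟶ Z) (q : V.toScheme ⟶ Z)
    (h : X.homOfLE inf_le_left ≫ p = X.homOfLE (inf_le_right : U ⊓ V ≤ V) ≫ q) :
    ∃ r : (U ⊔ V).toScheme ⟶ Z,
      X.homOfLE le_sup_left ≫ r = p ∧ X.homOfLE le_sup_right ≫ r = q := by
  let 𝒰 : (U ⊔ V).toScheme.OpenCover :=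
    (U ⊔ V).toScheme.openCoverOfIsOpenCover
      (fun s : Bool ↦ (U ⊔ V).ι ⁻¹ᵁ (bif s then U else V)) (by
      rw [IsOpenCover, eq_top_iff]
      rintro ⟨x, hx | hx⟩ -
      · exact Opens.mem_iSup.mpr ⟨true, hx⟩
      · exact Opens.mem_iSup.mpr ⟨false, hx⟩)
  let c : ∀ s : Bool, 𝒰.X s ⟶ Z := fun s ↦ Bool.casesOn (motive := fun s ↦ 𝒰.X s ⟶ Z) s
    (IsOpenImmersion.lift V.ι (((U ⊔ V).ι ⁻¹ᵁ V).ι ≫ (U ⊔ V).ι) (by
      rw [Scheme.Opens.range_ι]; rintro _ ⟨x, rfl⟩; exact x.2) ≫ q)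
    (IsOpenImmersion.lift U.ι (((U ⊔ V).ι ⁻¹ᵁ U).ι ≫ (U ⊔ V).ι) (by
      rw [Scheme.Opens.range_ι]; rintro _ ⟨x, rfl⟩; exact x.2) ≫ p)
  have hcompat : ∀ s t, pullback.fst (𝒰.f s) (𝒰.f t) ≫ c s = pullback.snd (𝒰.f s) (𝒰.f t) ≫ c t := by
    intro s t
    cases s <;> cases t
    · rw [← cancel_mono (𝒰.f false) |>.mp (pullback.condition (f := 𝒰.f false) (g := 𝒰.f false))]
    · let l : pullback (𝒰.f false) (𝒰.f true) ⟶ (U ⊓ V).toScheme :=
        IsOpenImmersion.lift (U ⊓ V).ι (pullback.fst _ _ ≫ 𝒰.f false ≫ (U ⊔ V).ι) (by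
          rw [Scheme.Opens.range_ι]
          rintro _ ⟨x, rfl⟩
          refine ⟨?_, ((pullback.fst (𝒰.f false) (𝒰.f true)) x).2⟩
          rw [← Category.assoc, pullback.condition, Category.assoc]
          exact ((pullback.snd (𝒰.f false) (𝒰.f true)) x).2)
      have e1 : pullback.fst (𝒰.f false) (𝒰.f true) ≫ IsOpenImmersion.lift V.ι
          (((U ⊔ V).ι ⁻¹ᵁ V).ι ≫ (U ⊔ V).ι) (by
            rw [Scheme.Opens.range_ι]; rintro _ ⟨x, rfl⟩; exact x.2) =
          l ≫ X.homOfLE inf_le_right := by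
        rw [← cancel_mono V.ι, Category.assoc, IsOpenImmersion.lift_fac, Category.assoc,
          Scheme.homOfLE_ι, IsOpenImmersion.lift_fac]
        rfl
      have e2 : pullback.snd (𝒰.f false) (𝒰.f true) ≫ IsOpenImmersion.lift U.ι
          (((U ⊔ V).ι ⁻¹ᵁ U).ι ≫ (U ⊔ V).ι) (by
            rw [Scheme.Opens.range_ι]; rintro _ ⟨x, rfl⟩; exact x.2) =
          l ≫ X.homOfLE inf_le_left := by
        rw [← cancel_mono U.ι, Category.assoc, IsOpenImmersion.lift_fac, Category.assoc,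
          Scheme.homOfLE_ι, IsOpenImmersion.lift_fac, pullback.condition_assoc]
        rfl
      simp only [c]
      rw [reassoc_of% e1, reassoc_of% e2, h]
    · let l : pullback (𝒰.f true) (𝒰.f false) ⟶ (U ⊓ V).toScheme :=
        IsOpenImmersion.lift (U ⊓ V).ι (pullback.fst _ _ ≫ 𝒰.f true ≫ (U ⊔ V).ι) (by
          rw [Scheme.Opens.range_ι]
          rintro _ ⟨x, rfl⟩
          refine ⟨((pullback.fst (𝒰.f true) (𝒰.f false)) x).2, ?_⟩
          rw [← Category.assoc, pullback.condition, Category.assoc]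
          exact ((pullback.snd (𝒰.f true) (𝒰.f false)) x).2)
      have e1 : pullback.fst (𝒰.f true) (𝒰.f false) ≫ IsOpenImmersion.lift U.ι
          (((U ⊔ V).ι ⁻¹ᵁ U).ι ≫ (U ⊔ V).ι) (by
            rw [Scheme.Opens.range_ι]; rintro _ ⟨x, rfl⟩; exact x.2) =
          l ≫ X.homOfLE inf_le_left := by
        rw [← cancel_mono U.ι, Category.assoc, IsOpenImmersion.lift_fac, Category.assoc,
          Scheme.homOfLE_ι, IsOpenImmersion.lift_fac]
        rfl
      have e2 : pullback.snd (𝒰.f true) (𝒰.f false) ≫ IsOpenImmersion.lift V.ι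
          (((U ⊔ V).ι ⁻¹ᵁ V).ι ≫ (U ⊔ V).ι) (by
            rw [Scheme.Opens.range_ι]; rintro _ ⟨x, rfl⟩; exact x.2) =
          l ≫ X.homOfLE inf_le_right := by
        rw [← cancel_mono V.ι, Category.assoc, IsOpenImmersion.lift_fac, Category.assoc,
          Scheme.homOfLE_ι, IsOpenImmersion.lift_fac, pullback.condition_assoc]
        rfl
      simp only [c]
      rw [reassoc_of% e1, reassoc_of% e2, h]
    · rw [← cancel_mono (𝒰.f true) |>.mp (pullback.condition (f := 𝒰.f true) (g := 𝒰.f true))]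
  refine ⟨𝒰.glueMorphisms c hcompat, ?_, ?_⟩
  · let l : U.toScheme ⟶ 𝒰.X true :=
      IsOpenImmersion.lift (𝒰.f true) (X.homOfLE le_sup_left) (by
        change _ ⊆ Set.range ((U ⊔ V).ι ⁻¹ᵁ U).ι
        rw [Scheme.Opens.range_ι]; rintro _ ⟨x, rfl⟩
        show (U ⊔ V).ι (X.homOfLE le_sup_left x) ∈ U
        rw [← Scheme.Hom.comp_apply, Scheme.homOfLE_ι]; exact x.2)
    have hl : l ≫ 𝒰.f true = X.homOfLE le_sup_left := IsOpenImmersion.lift_fac _ _ _
    rw [← hl, Category.assoc, 𝒰.ι_glueMorphisms, ← Category.assoc]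
    refine (congrArg (· ≫ p) ?_).trans (Category.id_comp p)
    rw [← cancel_mono U.ι, Category.assoc, IsOpenImmersion.lift_fac, Category.id_comp]
    exact (Category.assoc _ _ _).symm.trans ((congrArg (· ≫ (U ⊔ V).ι) hl).trans (X.homOfLE_ι _))
  · let l : V.toScheme ⟶ 𝒰.X false :=
      IsOpenImmersion.lift (𝒰.f false) (X.homOfLE le_sup_right) (by
        change _ ⊆ Set.range ((U ⊔ V).ι ⁻¹ᵁ V).ι
        rw [Scheme.Opens.range_ι]; rintro _ ⟨x, rfl⟩
        show (U ⊔ V).ι (X.homOfLE le_sup_right x) ∈ V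
        rw [← Scheme.Hom.comp_apply, Scheme.homOfLE_ι]; exact x.2)
    have hl : l ≫ 𝒰.f false = X.homOfLE le_sup_right := IsOpenImmersion.lift_fac _ _ _
    rw [← hl, Category.assoc, 𝒰.ι_glueMorphisms, ← Category.assoc]
    refine (congrArg (· ≫ q) ?_).trans (Category.id_comp q)
    rw [← cancel_mono V.ι, Category.assoc, IsOpenImmersion.lift_fac, Category.id_comp]
    exact (Category.assoc _ _ _).symm.trans ((congrArg (· ≫ (U ⊔ V).ι) hl).trans (X.homOfLE_ι _))

theorem exists_glue_hom_ext {X Z : Scheme.{u}} (U V : X.Opens) {r r' : (U ⊔ V).toScheme ⟶ Z}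
    (h₁ : X.homOfLE le_sup_left ≫ r = X.homOfLE le_sup_left ≫ r')
    (h₂ : X.homOfLE le_sup_right ≫ r = X.homOfLE le_sup_right ≫ r') : r = r' := by
  let 𝒰 : (U ⊔ V).toScheme.OpenCover :=
    (U ⊔ V).toScheme.openCoverOfIsOpenCover
      (fun s : Bool ↦ (U ⊔ V).ι ⁻¹ᵁ (bif s then U else V)) (by
      rw [IsOpenCover, eq_top_iff]
      rintro ⟨x, hx | hx⟩ -
      · exact Opens.mem_iSup.mpr ⟨true, hx⟩
      · exact Opens.mem_iSup.mpr ⟨false, hx⟩)
  refine 𝒰.hom_ext _ _ fun s ↦ ?_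
  cases s
  · let l : 𝒰.X false ⟶ V.toScheme := IsOpenImmersion.lift V.ι (𝒰.f false ≫ (U ⊔ V).ι) (by
      rw [Scheme.Opens.range_ι]; rintro _ ⟨x, rfl⟩; exact x.2)
    have hl : l ≫ X.homOfLE le_sup_right = 𝒰.f false := by
      rw [← cancel_mono (U ⊔ V).ι, Category.assoc, Scheme.homOfLE_ι, IsOpenImmersion.lift_fac]
    rw [← hl, Category.assoc, Category.assoc, h₂]
  · let l : 𝒰.X true ⟶ U.toScheme := IsOpenImmersion.lift U.ι (𝒰.f true ≫ (U ⊔ V).ι) (by
      rw [Scheme.Opens.range_ι]; rintro _ ⟨x, rfl⟩; exact x.2)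
    have hl : l ≫ X.homOfLE le_sup_left = 𝒰.f true := by
      rw [← cancel_mono (U ⊔ V).ι, Category.assoc, Scheme.homOfLE_ι, IsOpenImmersion.lift_fac]
    rw [← hl, Category.assoc, Category.assoc, h₁]

section stageData

variable {I : Type u} [SmallCategory I] [IsCofiltered I] {E : I ⥤ Scheme.{u}} {c : Cone E}
  (hc : IsLimit c) [∀ {i j} (f : i ⟶ j), IsAffineHom (E.map f)] [∀ i, CompactSpace (E.obj i)]
  [∀ i, QuasiSeparatedSpace (E.obj i)]

include hc in
lemma exists_affine_basicOpen_stage {i : I} (r : Γ(E.obj i, ⊤))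
    (h : IsAffineOpen (c.pt.basicOpen ((c.π.app i).appTop r))) :
    ∃ (j : I) (φ : j ⟶ i), IsAffineOpen ((E.obj j).basicOpen ((E.map φ).appTop r)) := by
  have hU : IsCompact ((E.obj i).basicOpen r : Set (E.obj i)) :=
    isCompact_basicOpen (E.obj i) (U := ⊤) isCompact_univ r
  have : ∀ j : Over i, CompactSpace ((opensDiagram E i ((E.obj i).basicOpen r)).obj j) := fun j ↦
    isCompact_iff_compactSpace.mp
      (QuasiCompact.isCompact_preimage (f := E.map j.hom) _ ((E.obj i).basicOpen r).2 hU)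
  have : ∀ j : Over i, QuasiSeparatedSpace ((opensDiagram E i ((E.obj i).basicOpen r)).obj j) :=
    fun j ↦ QuasiSeparatedSpace.of_isOpenEmbedding (Scheme.Opens.ι _).isOpenEmbedding
  have : IsAffine (opensCone E c i ((E.obj i).basicOpen r)).pt := by
    change IsAffineOpen (c.π.app i ⁻¹ᵁ (E.obj i).basicOpen r)
    rw [Scheme.preimage_basicOpen_top]
    exact h
  obtain ⟨j, hj⟩ := Scheme.exists_isAffine_of_isLimit _ _
    (isLimitOpensCone E c hc i ((E.obj i).basicOpen r))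
  exact ⟨j.left, j.hom, (Scheme.preimage_basicOpen_top (E.map j.hom) r) ▸ hj⟩

include hc in
/-- Finitely many functions on the limit with affine nonvanishing loci covering everything come
from a stage with the same properties, mapping into a given open of the base. -/
theorem exists_stage_data {R : Scheme.{u}} (t : E ⟶ (Functor.const I).obj R) (s : c.pt ⟶ R)
    (hs : ∀ i, c.π.app i ≫ t.app i = s) (W : R.Opens) (hW : s ⁻¹ᵁ W = ⊤)
    {κ : Type u} [Finite κ] (g : κ → Γ(c.pt, ⊤)) (hg : ⨆ k, c.pt.basicOpen (g k) = ⊤)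
    (hga : ∀ k, IsAffineOpen (c.pt.basicOpen (g k))) :
    ∃ (j : I) (σ : κ → Γ(E.obj j, ⊤)), (∀ k, (c.π.app j).appTop (σ k) = g k) ∧
      (∀ k, IsAffineOpen ((E.obj j).basicOpen (σ k))) ∧ ⨆ k, (E.obj j).basicOpen (σ k) = ⊤ ∧
      (t.app j) ⁻¹ᵁ W = ⊤ := by
  classical
  cases nonempty_fintype κ
  choose i r hr using fun k ↦ exists_appTop_π_eq_of_isLimit E c hc (g k)
  choose j φ hj using fun k ↦
    exists_affine_basicOpen_stage hc (r k) (by rw [← hr k]; exact hga k)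
  obtain ⟨n, hn⟩ := IsCofiltered.inf_objs_exists (Finset.univ.image j)
  let ψ := fun k ↦ (hn (Finset.mem_image_of_mem j (Finset.mem_univ k))).some
  let σ := fun k ↦ (E.map (ψ k ≫ φ k)).appTop (r k)
  have hσ : ∀ k, (c.π.app n).appTop (σ k) = g k := fun k ↦ by
    simp only [σ]
    rw [← CommRingCat.comp_apply, ← Scheme.Hom.comp_appTop, c.w, ← hr k]
  have haff : ∀ k, IsAffineOpen ((E.obj n).basicOpen (σ k)) := fun k ↦ by
    simp only [σ, E.map_comp, Scheme.Hom.comp_appTop, CommRingCat.comp_apply]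
    rw [← Scheme.preimage_basicOpen_top]
    exact (hj k).preimage _
  obtain ⟨m, ψ', hm⟩ := exists_map_eq_top E c hc
    ((⨆ k, (E.obj n).basicOpen (σ k)) ⊓ t.app n ⁻¹ᵁ W) (by
      rw [Scheme.Hom.preimage_inf, Scheme.Hom.preimage_iSup, ← Scheme.Hom.comp_preimage, hs, hW,
        inf_top_eq]
      simp_rw [Scheme.preimage_basicOpen_top, hσ]
      exact hg)
  rw [Scheme.Hom.preimage_inf, inf_eq_top_iff] at hm
  refine ⟨m, fun k ↦ (E.map ψ').appTop (σ k), fun k ↦ ?_, fun k ↦ ?_, ?_, ?_⟩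
  · rw [← CommRingCat.comp_apply, ← Scheme.Hom.comp_appTop, c.w, hσ]
  · rw [← Scheme.preimage_basicOpen_top]
    exact (haff k).preimage _
  · simp_rw [← Scheme.preimage_basicOpen_top, ← Scheme.Hom.preimage_iSup]
    exact hm.1
  · rw [← hm.2, ← Scheme.Hom.comp_preimage]
    exact congrArg (fun f ↦ f ⁻¹ᵁ W) ((t.naturality ψ').trans (Category.comp_id _)).symm

end stageData

/-- The affine piece: an affine scheme `B` with a quasi-compact open `O` affine over `O'` is affine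
over a finite type affine scheme containing `O'` as an open. -/
theorem exists_affine_extension {R B O O' : Scheme.{u}} [IsAffine R] [IsAffine B]
    [CompactSpace O] [QuasiSeparatedSpace O] [CompactSpace O'] [QuasiSeparatedSpace O']
    (b : B ⟶ R) (jB : O ⟶ B) [IsOpenImmersion jB] (π : O ⟶ O') (f' : O' ⟶ R)
    [LocallyOfFiniteType f'] (w : jB ≫ b = π ≫ f') {κ : Type u} [Finite κ]
    (g : κ → Γ(B, ⊤)) (σ : κ → Γ(O', ⊤)) (hgσ : ∀ k, π.appTop (σ k) = jB.appTop (g k))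
    (hgO : ∀ k, B.basicOpen (g k) ≤ jB.opensRange) (hgcov : jB.opensRange ≤ ⨆ k, B.basicOpen (g k))
    (hσa : ∀ k, IsAffineOpen (O'.basicOpen (σ k))) (hσcov : ⨆ k, O'.basicOpen (σ k) = ⊤) :
    ∃ (Y : Scheme.{u}) (_ : IsAffine Y) (y : Y ⟶ R) (γ : O' ⟶ Y) (q : B ⟶ Y),
      LocallyOfFiniteType y ∧ IsOpenImmersion γ ∧ q ≫ y = b ∧ γ ≫ y = f' ∧ jB ≫ q = π ≫ γ ∧
      ∀ x, q x ∈ Set.range γ → x ∈ Set.range jB := by
  classical
  cases nonempty_fintype κ
  let Pr := Γ(B, ⊤) × Γ(O', ⊤)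
  let δ : Γ(R, ⊤) →+* Pr := b.appTop.hom.prod f'.appTop.hom
  let P : Subring Pr := RingHom.eqLocus (jB.appTop.hom.comp (RingHom.fst Γ(B, ⊤) Γ(O', ⊤)))
    (π.appTop.hom.comp (RingHom.snd Γ(B, ⊤) Γ(O', ⊤)))
  have memP : ∀ p : Pr, p ∈ P ↔ jB.appTop p.1 = π.appTop p.2 := fun p ↦ Iff.rfl
  have hδ : ∀ r, δ r ∈ P := fun r ↦ by
    rw [memP]
    have hw := congrArg Scheme.Hom.appTop w
    rw [Scheme.Hom.comp_appTop, Scheme.Hom.comp_appTop] at hw
    exact congr($(hw).hom r)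
  let G : κ → Pr := fun k ↦ (g k, σ k)
  have hG : ∀ k, G k ∈ P := fun k ↦ (memP _).mpr (hgσ k).symm
  -- sections of `O` agree with those of `B` after localizing at `g`
  have hpre : ∀ k, jB ⁻¹ᵁ B.basicOpen (g k) = O.basicOpen (jB.appTop (g k)) := fun k ↦
    Scheme.preimage_basicOpen_top jB (g k)
  have hiso : ∀ k, Function.Bijective (jB.app (B.basicOpen (g k))) := fun k ↦
    have := jB.isIso_app _ (hgO k)
    ConcreteCategory.bijective_of_isIso _
  -- every section of `O'` extends after multiplying by a power of `σ`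
  have hlift : ∀ k (s : Γ(O', ⊤)), ∃ (n : ℕ) (a : Γ(B, ⊤)), (a, σ k ^ n * s) ∈ P := by
    intro k s
    let inst₁ := (B.presheaf.map (homOfLE (le_top : B.basicOpen (g k) ≤ ⊤)).op).hom.toAlgebra
    have := (isAffineOpen_top B).isLocalization_of_eq_basicOpen (g k) (homOfLE le_top) rfl
    let z := (O.presheaf.map (homOfLE (le_top : jB ⁻¹ᵁ B.basicOpen (g k) ≤ ⊤)).op) (π.appTop s)
    obtain ⟨z', hz'⟩ := (hiso k).2 z
    obtain ⟨n, a, ha⟩ := IsLocalization.Away.surj (g k) z'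
    have ha' : O.presheaf.map (homOfLE (le_top : jB ⁻¹ᵁ B.basicOpen (g k) ≤ ⊤)).op
        (π.appTop s * jB.appTop (g k) ^ n) =
        O.presheaf.map (homOfLE (le_top : jB ⁻¹ᵁ B.basicOpen (g k) ≤ ⊤)).op (jB.appTop a) := by
      have h1 := congr(jB.app (B.basicOpen (g k)) $ha)
      have hn : ∀ v, jB.app (B.basicOpen (g k)) (algebraMap Γ(B, ⊤) Γ(B, B.basicOpen (g k)) v) =
          O.presheaf.map (homOfLE (le_top : jB ⁻¹ᵁ B.basicOpen (g k) ≤ ⊤)).op (jB.appTop v) :=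
        fun v ↦ congr($(jB.naturality (homOfLE le_top).op).hom v)
      rw [map_mul, map_pow, hn, hn, hz'] at h1
      rw [map_mul, map_pow]
      exact h1
    let inst₂ := (O.presheaf.map (homOfLE (le_top : jB ⁻¹ᵁ B.basicOpen (g k) ≤ ⊤)).op).hom.toAlgebra
    have : IsLocalization.Away (jB.appTop (g k)) Γ(O, jB ⁻¹ᵁ B.basicOpen (g k)) := by
      dsimp +instances [inst₂]
      rw! (castMode := .all) [hpre k]
      exact isLocalization_basicOpen_of_qcqs isCompact_univ isQuasiSeparated_univ _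
    obtain ⟨m, hm⟩ := IsLocalization.Away.exists_of_eq (jB.appTop (g k)) ha'
    refine ⟨m + n, g k ^ m * a, (memP _).mpr ?_⟩
    simp only [map_mul, map_pow, ← hm, hgσ, pow_add]
    ring
  choose n a hna using hlift
  -- generators
  let inst := fun k ↦
    (O'.presheaf.map (homOfLE (le_top : O'.basicOpen (σ k) ≤ ⊤)).op).hom.toAlgebra
  have hloc : ∀ k, @IsLocalization.Away _ _ (σ k) Γ(O', O'.basicOpen (σ k)) _ (inst k) := fun k ↦
    isLocalization_basicOpen_of_qcqs isCompact_univ isQuasiSeparated_univ _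
  have hft : ∀ k, ((f'.appLE ⊤ (O'.basicOpen (σ k)) le_top).hom).FiniteType := fun k ↦
    HasRingHomProperty.appLE @LocallyOfFiniteType _ ‹_› ⟨⊤, isAffineOpen_top R⟩ ⟨_, hσa k⟩ le_top
  choose T hT using fun k ↦ (hft k).1
  have hsurj : ∀ k (z : Γ(O', O'.basicOpen (σ k))), ∃ (m : ℕ) (s : Γ(O', ⊤)),
      z * O'.presheaf.map (homOfLE le_top).op (σ k) ^ m = O'.presheaf.map (homOfLE le_top).op s :=
    fun k z ↦ by
      let := inst k
      have := hloc k
      exact IsLocalization.Away.surj (σ k) z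
  choose m s hms using hsurj
  let gens : Finset Pr := Finset.univ.image G ∪ Finset.univ.biUnion fun k ↦
    (T k).image fun z ↦ (a k (s k z), σ k ^ n k (s k z) * s k z)
  let B1 : Subring Pr := Subring.closure (Set.range δ ∪ (gens : Set Pr))
  have hGB : ∀ k, G k ∈ B1 := fun k ↦ Subring.subset_closure (Or.inr (Finset.mem_union_left _
    (Finset.mem_image_of_mem G (Finset.mem_univ k))))
  have hB1P : B1 ≤ P := by
    refine Subring.closure_le.mpr (Set.union_subset ?_ ?_)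
    · rintro _ ⟨r, rfl⟩; exact hδ r
    · intro p hp
      rcases Finset.mem_union.mp hp with hp | hp
      · obtain ⟨k, -, rfl⟩ := Finset.mem_image.mp hp
        exact hG k
      · obtain ⟨k, -, hp⟩ := Finset.mem_biUnion.mp hp
        obtain ⟨z, -, rfl⟩ := Finset.mem_image.mp hp
        exact hna _ _
  let A1 : CommRingCat.{u} := CommRingCat.of B1
  let δ1 : Γ(R, ⊤) ⟶ A1 :=
    CommRingCat.ofHom (δ.codRestrict B1 fun r ↦ Subring.subset_closure (Or.inl ⟨r, rfl⟩))
  let p1 : A1 ⟶ Γ(B, ⊤) := CommRingCat.ofHom ((RingHom.fst _ _).comp B1.subtype)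
  let p2 : A1 ⟶ Γ(O', ⊤) := CommRingCat.ofHom ((RingHom.snd _ _).comp B1.subtype)
  let y : Spec A1 ⟶ R := Spec.map δ1 ≫ R.isoSpec.inv
  let γ : O' ⟶ Spec A1 := O'.toSpecΓ ≫ Spec.map p2
  let q : B ⟶ Spec A1 := B.toSpecΓ ≫ Spec.map p1
  have hγ : γ.appTop = (Scheme.ΓSpecIso A1).hom ≫ p2 := by
    simp [γ, Scheme.toSpecΓ_appTop, Scheme.ΓSpecIso_naturality]
  have hq : q.appTop = (Scheme.ΓSpecIso A1).hom ≫ p1 := by
    simp [q, Scheme.toSpecΓ_appTop, Scheme.ΓSpecIso_naturality]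
  have hy : y.appTop = δ1 ≫ (Scheme.ΓSpecIso A1).inv := by
    rw [← cancel_mono (Scheme.ΓSpecIso A1).hom, Category.assoc, Iso.inv_hom_id, Category.comp_id]
    simp [y, Scheme.ΓSpecIso_naturality, Scheme.isoSpec, Scheme.toSpecΓ_appTop]
  let Gb : κ → Γ(Spec A1, ⊤) := fun k ↦ (Scheme.ΓSpecIso A1).inv ⟨G k, hGB k⟩
  have hγG : ∀ k, γ.appTop (Gb k) = σ k := fun k ↦ by
    simp only [Gb, hγ, CommRingCat.comp_apply, Iso.inv_hom_id_apply]; rfl
  have hqG : ∀ k, q.appTop (Gb k) = g k := fun k ↦ by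
    simp only [Gb, hq, CommRingCat.comp_apply, Iso.inv_hom_id_apply]; rfl
  have hγpre : ∀ k, γ ⁻¹ᵁ (Spec A1).basicOpen (Gb k) = O'.basicOpen (σ k) := fun k ↦ by
    rw [Scheme.preimage_basicOpen_top, hγG]
  have hγy : γ ≫ y = f' := by
    refine ext_of_isAffine ?_
    rw [Scheme.Hom.comp_appTop, hy, hγ, Category.assoc, Iso.inv_hom_id_assoc]
    rfl
  have hqy : q ≫ y = b := by
    refine ext_of_isAffine ?_
    rw [Scheme.Hom.comp_appTop, hy, hq, Category.assoc, Iso.inv_hom_id_assoc]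
    rfl
  have hjq : jB ≫ q = π ≫ γ := by
    refine ext_of_isAffine ?_
    rw [Scheme.Hom.comp_appTop jB q, Scheme.Hom.comp_appTop π γ, hγ, hq]
    ext v
    exact (memP _).mp (hB1P ((Scheme.ΓSpecIso A1).hom v).2)
  have hlftA : δ1.hom.FiniteType := by
    let : Algebra Γ(R, ⊤) B1 := δ1.hom.toAlgebra
    change Algebra.FiniteType Γ(R, ⊤) B1
    have hmem : ∀ p ∈ gens, p ∈ B1 := fun p hp ↦ Subring.subset_closure (Or.inr hp)
    refine ⟨⟨gens.attach.image fun p ↦ (⟨p.1, hmem p.1 p.2⟩ : B1), eq_top_iff.mpr fun z _ ↦ ?_⟩⟩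
    let S' := Algebra.adjoin Γ(R, ⊤)
      (SetLike.coe (gens.attach.image fun p ↦ (⟨p.1, hmem p.1 p.2⟩ : B1)))
    have hle : B1 ≤ S'.toSubring.map B1.subtype := by
      refine Subring.closure_le.mpr (Set.union_subset ?_ ?_)
      · rintro _ ⟨r, rfl⟩
        exact ⟨δ1 r, S'.algebraMap_mem r, rfl⟩
      · intro p hp
        exact ⟨⟨p, hmem p hp⟩, Algebra.subset_adjoin (Finset.mem_image.mpr
          ⟨⟨p, hp⟩, Finset.mem_attach _ _, rfl⟩), rfl⟩
    obtain ⟨v, hv, hvz⟩ := hle z.2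
    exact (Subtype.ext hvz : v = z) ▸ hv
  have hlft : LocallyOfFiniteType y := by
    have : LocallyOfFiniteType (Spec.map δ1) :=
      (HasRingHomProperty.Spec_iff (P := @LocallyOfFiniteType)).mpr hlftA
    infer_instance
  have hbij : ∀ k, Function.Bijective (γ.app ((Spec A1).basicOpen (Gb k))) := by
    intro k
    have hD : IsAffineOpen ((Spec A1).basicOpen (Gb k)) := (isAffineOpen_top _).basicOpen _
    let e := O'.presheaf.map (eqToHom (hγpre k).symm).op
    have he : Function.Bijective e := ConcreteCategory.bijective_of_isIso e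
    let instA := ((Spec A1).presheaf.map
      (homOfLE (le_top : (Spec A1).basicOpen (Gb k) ≤ ⊤)).op).hom.toAlgebra
    have hA := (isAffineOpen_top (Spec A1)).isLocalization_of_eq_basicOpen (Gb k) (homOfLE le_top) rfl
    let φ : Γ(Spec A1, (Spec A1).basicOpen (Gb k)) ⟶ Γ(O', O'.basicOpen (σ k)) :=
      γ.appLE _ _ (hγpre k).ge
    suffices h : Function.Bijective φ by
      rw [Scheme.Hom.app_eq_appLE]
      exact (γ.appLE_congr (hγpre k).ge rfl (hγpre k).symm fun f ↦ Function.Bijective f.hom).mp h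
    have hφ : ∀ v : A1, φ (algebraMap Γ(Spec A1, ⊤) _ ((Scheme.ΓSpecIso A1).inv v)) =
        O'.presheaf.map (homOfLE le_top).op v.1.2 := by
      intro v
      change (((Spec A1).presheaf.map (homOfLE le_top).op) ≫ φ) _ = _
      rw [Scheme.Hom.map_appLE, Scheme.Hom.appLE, CommRingCat.comp_apply]
      erw [show γ.app ⊤ ((Scheme.ΓSpecIso A1).inv v) = v.1.2 by
        rw [show γ.app ⊤ = γ.appTop from rfl, hγ]
        show p2 ((Scheme.ΓSpecIso A1).hom _) = _
        rw [Iso.inv_hom_id_apply]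
        rfl]
      rfl
    let := inst k
    have := hloc k
    have hu : IsUnit (O'.presheaf.map (homOfLE (le_top : O'.basicOpen (σ k) ≤ ⊤)).op (σ k)) :=
      IsLocalization.Away.algebraMap_isUnit (σ k)
    refine ⟨?_, fun z ↦ ?_⟩
    · rw [injective_iff_map_eq_zero]
      intro v hv
      obtain ⟨N, v', hv'⟩ := IsLocalization.Away.surj (Gb k) v
      obtain ⟨w', rfl⟩ := (ConcreteCategory.bijective_of_isIso (Scheme.ΓSpecIso A1).inv).2 v'
      have h0 : O'.presheaf.map (homOfLE (le_top : O'.basicOpen (σ k) ≤ ⊤)).op w'.1.2 = 0 := by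
        rw [← hφ w', ← hv', map_mul, hv, zero_mul]
      obtain ⟨N', hN'⟩ := IsLocalization.Away.exists_of_eq (σ k)
        (h0.trans (map_zero (O'.presheaf.map (homOfLE (le_top : O'.basicOpen (σ k) ≤ ⊤)).op).hom).symm)
      rw [mul_zero] at hN'
      have hb0 : B.presheaf.map (homOfLE (le_top : B.basicOpen (g k) ≤ ⊤)).op (g k ^ N' * w'.1.1) = 0 := by
        refine (hiso k).1 ?_
        rw [map_zero, ← CommRingCat.comp_apply, jB.naturality]
        change O.presheaf.map _ (jB.appTop (g k ^ N' * w'.1.1)) = 0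
        rw [map_mul, map_pow, (memP _).mp (hB1P w'.2), ← hgσ, ← map_pow, ← map_mul, hN',
          map_zero, map_zero]
      let instB := (B.presheaf.map (homOfLE (le_top : B.basicOpen (g k) ≤ ⊤)).op).hom.toAlgebra
      have := (isAffineOpen_top B).isLocalization_of_eq_basicOpen (g k) (homOfLE le_top) rfl
      obtain ⟨M, hM⟩ := IsLocalization.Away.exists_of_eq (g k)
        (hb0.trans (map_zero (B.presheaf.map (homOfLE (le_top : B.basicOpen (g k) ≤ ⊤)).op).hom).symm)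
      rw [mul_zero] at hM
      have hzero : (⟨G k, hGB k⟩ : B1) ^ (M + N') * w' = 0 := by
        refine Subtype.ext (Prod.ext ?_ ?_)
        · show g k ^ (M + N') * w'.1.1 = 0
          rw [pow_add, mul_assoc, hM]
        · show σ k ^ (M + N') * w'.1.2 = 0
          rw [pow_add, mul_assoc, hN', mul_zero]
      have hu' : IsUnit (algebraMap Γ(Spec A1, ⊤) Γ(Spec A1, (Spec A1).basicOpen (Gb k)) (Gb k)) :=
        IsLocalization.Away.algebraMap_isUnit (Gb k)
      refine ((hu'.pow N).mul_left_eq_zero).mp ?_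
      rw [hv']
      refine ((hu'.pow (M + N')).mul_right_eq_zero).mp ?_
      rw [← map_pow, ← map_mul]
      simp only [Gb]
      rw [← map_pow, ← map_mul]
      change algebraMap _ _ ((Scheme.ΓSpecIso A1).inv ((⟨G k, hGB k⟩ : B1) ^ (M + N') * w')) = 0
      rw [hzero, map_zero, map_zero]
    · have hrange : ∀ z, z ∈ φ.hom.range := by
        intro z
        have hz : z ∈ (φ.hom.range : Subring _) := by
          let : Algebra Γ(R, ⊤) Γ(O', O'.basicOpen (σ k)) :=
            (f'.appLE ⊤ (O'.basicOpen (σ k)) le_top).hom.toAlgebra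
          let S' : Subalgebra Γ(R, ⊤) Γ(O', O'.basicOpen (σ k)) :=
            { φ.hom.range with
              algebraMap_mem' := fun r ↦ ⟨algebraMap Γ(Spec A1, ⊤) _
                  ((Scheme.ΓSpecIso A1).inv (δ1 r)), (hφ (δ1 r)).trans (by
                rw [RingHom.algebraMap_toAlgebra, Scheme.Hom.appLE, CommRingCat.hom_comp,
                  RingHom.comp_apply]
                rfl)⟩ }
          suffices Algebra.adjoin Γ(R, ⊤) (T k : Set Γ(O', O'.basicOpen (σ k))) ≤ S' from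
            this ((hT k).ge Algebra.mem_top)
          refine Algebra.adjoin_le fun t ht ↦ ?_
          obtain ⟨u', hu'⟩ := IsLocalization.Away.algebraMap_isUnit
            (S := Γ(Spec A1, (Spec A1).basicOpen (Gb k))) (Gb k)
          have hp : (a k (s k t), σ k ^ n k (s k t) * s k t) ∈ B1 :=
            Subring.subset_closure (Or.inr (Finset.mem_union_right _ (Finset.mem_biUnion.mpr
              ⟨k, Finset.mem_univ k, Finset.mem_image.mpr ⟨t, ht, rfl⟩⟩)))
          let v := algebraMap Γ(Spec A1, ⊤) Γ(Spec A1, (Spec A1).basicOpen (Gb k))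
            ((Scheme.ΓSpecIso A1).inv (⟨_, hp⟩ : B1))
          refine ⟨v * (↑(u'⁻¹)) ^ (n k (s k t) + m k t), ?_⟩
          have h2 : φ ↑u' = O'.presheaf.map (homOfLE le_top).op (σ k) := by
            rw [hu']; exact hφ ⟨G k, hGB k⟩
          have h3 : φ ↑u' * φ ↑(u'⁻¹) = 1 := by rw [← map_mul, Units.mul_inv, map_one]
          rw [map_mul, map_pow, hφ, map_mul, map_pow, ← hms, ← h2, pow_add]
          calc _ = t * ((φ ↑u' * φ ↑(u'⁻¹)) ^ n k (s k t) * (φ ↑u' * φ ↑(u'⁻¹)) ^ m k t) := by ring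
            _ = t := by rw [h3, one_pow, one_pow, one_mul, mul_one]
        exact hz
      exact hrange z
  refine ⟨Spec A1, inferInstance, y, γ, q, hlft, ?_, hqy, hγy, hjq, fun x hx ↦ ?_⟩
  · refine isOpenImmersion_of_preimages γ (fun k ↦ (Spec A1).basicOpen (Gb k))
      ((iSup_congr hγpre).trans hσcov) fun k ↦ ?_
    have hD : IsAffineOpen ((Spec A1).basicOpen (Gb k)) := (isAffineOpen_top _).basicOpen _
    have : IsAffine ((Spec A1).basicOpen (Gb k)).toScheme := hD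
    have : IsAffine (γ ⁻¹ᵁ (Spec A1).basicOpen (Gb k)).toScheme := by
      rw [hγpre]; exact hσa k
    have : IsIso (γ ∣_ (Spec A1).basicOpen (Gb k)) := by
      refine isIso_of_bijective_appTop _ ⟨?_, ?_⟩
      · exact ProjLib.appTop_morphismRestrict_injective γ _ (hbij k).1
      · exact ProjLib.appTop_morphismRestrict_surjective γ _ (hbij k).2
    rw [← morphismRestrict_ι]
    infer_instance
  · obtain ⟨o, ho⟩ := hx
    obtain ⟨k, hk⟩ := Opens.mem_iSup.mp (hσcov.ge (Opens.mem_top o))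
    refine hgO k ?_
    have : q x ∈ (Spec A1).basicOpen (Gb k) := by
      rw [← ho]
      exact (hγpre k).ge hk
    have h2 : x ∈ q ⁻¹ᵁ (Spec A1).basicOpen (Gb k) := this
    rwa [Scheme.preimage_basicOpen_top, hqG] at h2

section approximation

variable {R S : Scheme.{u}} (f : S ⟶ R)

/-- `U` is affine over a scheme of finite type over `R`. -/
def Approximable (U : S.Opens) : Prop :=
  ∃ (U₁ : Scheme.{u}) (a : U.toScheme ⟶ U₁) (f₁ : U₁ ⟶ R), IsAffineHom a ∧ CompactSpace U₁ ∧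
    LocallyOfFiniteType f₁ ∧ a ≫ f₁ = U.ι ≫ f

variable [IsLocallyNoetherian R]

set_option maxHeartbeats 400000 in
/-- The induction step. -/
theorem approximable_sup [QuasiSeparatedSpace S] {U V : S.Opens} (hUc : IsCompact (U : Set S))
    (hV : IsAffineOpen V) {W : R.Opens} (hW : IsAffineOpen W) (hVW : V ≤ f ⁻¹ᵁ W)
    (h : Approximable f U) : Approximable f (U ⊔ V) := by
  classical
  obtain ⟨U₁, a, f₁, ha, hU₁, hf₁, haf⟩ := h
  have : IsLocallyNoetherian U₁ := LocallyOfFiniteType.isLocallyNoetherian f₁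
  let D := Family.diagram a
  have hlim : IsLimit (Family.cone a) := (Family.isLimit_cone a).some
  let t : D ⟶ (Functor.const _).obj R :=
    { app := fun F ↦ (Family.diagramπ a).app F ≫ f₁
      naturality := fun F G φ ↦ by
        have := (Family.diagramπ a).naturality φ
        change D.map φ ≫ _ ≫ f₁ = (_ ≫ f₁) ≫ 𝟙 R
        rw [Category.comp_id, ← Category.assoc]
        exact congrArg (· ≫ f₁) (this.trans (Category.comp_id _)) }
  have : ∀ F, LocallyOfFiniteType (t.app F) := fun F ↦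
    inferInstanceAs (LocallyOfFiniteType (F.unop.alg.π ≫ f₁))
  have : ∀ F, IsLocallyNoetherian (D.obj F) := fun F ↦
    show IsLocallyNoetherian F.unop.alg.spec from
      LocallyOfFiniteType.isLocallyNoetherian (F.unop.alg.π ≫ f₁)
  have : ∀ F, CompactSpace (D.obj F) := fun F ↦
    show CompactSpace F.unop.alg.spec from
      haveI : IsAffineHom F.unop.alg.π := F.unop.alg.isAffineHom_π
      QuasiCompact.compactSpace_of_compactSpace F.unop.alg.π
  -- descend the intersection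
  have hUVc : IsCompact ((U.ι ⁻¹ᵁ V : U.toScheme.Opens) : Set U.toScheme) := by
    rw [U.ι.isOpenEmbedding.isInducing.isCompact_iff]
    change IsCompact (U.ι '' (U.ι ⁻¹' (V : Set S)))
    rw [Set.image_preimage_eq_inter_range, Scheme.Opens.range_ι]
    exact hV.isCompact.inter_of_isOpen hUc V.2 U.2
  obtain ⟨i, Oi, hOic, hOi⟩ := _root_.AlgebraicGeometry.exists_preimage_eq D (Family.cone a) hlim (U.ι ⁻¹ᵁ V) hUVc
  let π₀ : ∀ F, U.toScheme ⟶ D.obj F := fun F ↦ F.unop.toModel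
  have hπ₀ : ∀ {F G} (φ : F ⟶ G), π₀ F ≫ D.map φ = π₀ G := fun φ ↦ (Family.cone a).w φ
  replace hOi : π₀ i ⁻¹ᵁ Oi = U.ι ⁻¹ᵁ V := hOi
  let E := opensDiagram D i Oi
  let cE := opensCone D (Family.cone a) i Oi
  have hE : IsLimit cE := isLimitOpensCone D _ hlim i Oi
  have : ∀ j, CompactSpace (E.obj j) := fun j ↦
    isCompact_iff_compactSpace.mp
      (QuasiCompact.isCompact_preimage (f := D.map j.hom) _ Oi.2 hOic)
  have : ∀ j, QuasiSeparatedSpace (E.obj j) := fun j ↦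
    QuasiSeparatedSpace.of_isOpenEmbedding (Scheme.Opens.ι _).isOpenEmbedding
  let ιE : ∀ j : Over i, E.obj j ⟶ D.obj j.left := fun j ↦ (D.map j.hom ⁻¹ᵁ Oi).ι
  have hιE : ∀ j, IsOpenImmersion (ιE j) := fun j ↦ inferInstanceAs (IsOpenImmersion (Scheme.Opens.ι _))
  let tE : E ⟶ (Functor.const _).obj R :=
    { app := fun j ↦ ιE j ≫ t.app j.left
      naturality := fun j k φ ↦ by
        have h1 : E.map φ ≫ ιE k = ιE j ≫ D.map φ.left := (opensDiagramι D i Oi).naturality φ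
        have h2 := t.naturality φ.left
        simp only [Functor.const_obj_map] at h2 ⊢
        rw [← Category.assoc, h1, Category.assoc]
        exact congrArg _ h2 }
  let O := cE.pt
  let ιO : O ⟶ U.toScheme := (π₀ i ⁻¹ᵁ Oi).ι
  have hιO : Set.range ιO = U.ι ⁻¹' (V : Set S) := by
    change Set.range (π₀ i ⁻¹ᵁ Oi).ι = _
    rw [Scheme.Opens.range_ι, hOi]
    rfl
  let πE : ∀ j, O ⟶ E.obj j := fun j ↦ cE.π.app j
  have hπ : ∀ j, πE j ≫ ιE j = ιO ≫ π₀ j.left :=
    fun j ↦ Scheme.Hom.resLE_comp_ι _ _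
  have hs : ∀ j, cE.π.app j ≫ tE.app j = ιO ≫ U.ι ≫ f := fun j ↦ by
    change πE j ≫ ιE j ≫ t.app j.left = _
    rw [reassoc_of% (hπ j), ← haf]
    refine congrArg _ ?_
    change j.left.unop.toModel ≫ j.left.unop.alg.π ≫ f₁ = _
    rw [Family.toModel_π_assoc]
  let jB : O ⟶ V.toScheme := IsOpenImmersion.lift V.ι (ιO ≫ U.ι) (by
    rw [Scheme.Opens.range_ι]
    rintro _ ⟨x, rfl⟩
    exact hιO.le ⟨x, rfl⟩)
  have hjB : jB ≫ V.ι = ιO ≫ U.ι := IsOpenImmersion.lift_fac _ _ _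
  have : IsOpenImmersion ιO := inferInstanceAs (IsOpenImmersion (Scheme.Opens.ι _))
  have : IsOpenImmersion (jB ≫ V.ι) := hjB ▸ inferInstance
  have : IsOpenImmersion jB := IsOpenImmersion.of_comp jB V.ι
  have : IsAffine V.toScheme := hV
  have : IsAffine W.toScheme := hW
  have : CompactSpace O := by
    change CompactSpace (π₀ i ⁻¹ᵁ Oi : U.toScheme.Opens)
    rw [hOi]
    exact isCompact_iff_compactSpace.mp hUVc
  have : QuasiSeparatedSpace O := QuasiSeparatedSpace.of_isOpenEmbedding jB.isOpenEmbedding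
  obtain ⟨s₀, hs₀, hs₁⟩ := exists_basicOpen_cover (isAffineOpen_top V.toScheme) le_top
    (W := jB.opensRange) (isCompact_range jB.continuous)
  let g : {k // k ∈ s₀} → Γ(V.toScheme, ⊤) := fun k ↦ k.1
  have hgpre : ∀ k, jB ⁻¹ᵁ V.toScheme.basicOpen (g k) = O.basicOpen (jB.appTop (g k)) := fun k ↦
    Scheme.preimage_basicOpen_top _ _
  have hgcov : jB.opensRange ≤ ⨆ k, V.toScheme.basicOpen (g k) :=
    hs₁.trans (iSup₂_le fun k hk ↦ le_iSup (fun k ↦ V.toScheme.basicOpen (g k)) ⟨k, hk⟩)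
  have hgO : ∀ k, V.toScheme.basicOpen (g k) ≤ jB.opensRange := fun k ↦ hs₀ k.1 k.2
  obtain ⟨j, σ, hσ, hσa, hσcov, hσW⟩ := exists_stage_data hE tE (ιO ≫ U.ι ≫ f) hs W (by
      rw [eq_top_iff]
      intro x _
      exact hVW (hιO.le ⟨x, rfl⟩))
    (fun k ↦ jB.appTop (g k)) (by
      rw [eq_top_iff]
      intro x _
      obtain ⟨k, hk⟩ := Opens.mem_iSup.mp (hgcov ⟨x, rfl⟩)
      exact Opens.mem_iSup.mpr ⟨k, (hgpre k).le hk⟩)
    (fun k ↦ hgpre k ▸
      ((isAffineOpen_top V.toScheme).basicOpen (g k)).preimage_of_isOpenImmersion jB (hgO k))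
  let fW : E.obj j ⟶ W.toScheme := IsOpenImmersion.lift W.ι (tE.app j) (by
    rw [Scheme.Opens.range_ι]
    rintro _ ⟨x, rfl⟩
    exact hσW.ge (Opens.mem_top x))
  have hfW : fW ≫ W.ι = tE.app j := IsOpenImmersion.lift_fac _ _ _
  have : LocallyOfFiniteType (fW ≫ W.ι) := by
    rw [hfW]
    exact inferInstanceAs (LocallyOfFiniteType (Scheme.Opens.ι _ ≫ t.app j.left))
  have : LocallyOfFiniteType fW := locallyOfFiniteType_of_comp fW W.ι
  obtain ⟨Y, hY, y, γ, q, hy, hγ, hqy, hγy, hjq, hqrange⟩ := exists_affine_extension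
    (f.resLE W V hVW) jB (πE j) fW (by
      rw [← cancel_mono W.ι, Category.assoc, Category.assoc, Scheme.Hom.resLE_comp_ι, hfW,
        reassoc_of% hjB]
      exact (hs j).symm)
    g σ hσ hgO hgcov hσa hσcov
  obtain ⟨Z, za, zb, fZ, hza, hzb, hzw, hfa, hfb, hcov, hint⟩ :=
    exists_glue_two (ιE j) γ (t.app j.left) (y ≫ W.ι) (by
      rw [reassoc_of% hγy, hfW])
  let aU : U.toScheme ⟶ D.obj j.left := π₀ j.left
  have : IsAffineHom aU := inferInstanceAs (IsAffineHom j.left.unop.toModel)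
  have : LocallyOfFiniteType (y ≫ W.ι) := inferInstance
  let p : U.toScheme ⟶ Z := aU ≫ za
  let q' : V.toScheme ⟶ Z := q ≫ zb
  have hOpq : ιO ≫ p = jB ≫ q' := by
    simp only [p, q']
    rw [reassoc_of% hjq, ← hzw, ← reassoc_of% (hπ j)]
  let l : (U ⊓ V).toScheme ⟶ O := IsOpenImmersion.lift ιO (S.homOfLE inf_le_left) (by
    rw [hιO]
    rintro _ ⟨x, rfl⟩
    show U.ι (S.homOfLE inf_le_left x) ∈ V
    rw [← Scheme.Hom.comp_apply, Scheme.homOfLE_ι]
    exact x.2.2)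
  have hl : l ≫ ιO = S.homOfLE inf_le_left := IsOpenImmersion.lift_fac _ _ _
  have hl' : l ≫ jB = S.homOfLE inf_le_right := by
    rw [← cancel_mono V.ι, Category.assoc, hjB, reassoc_of% hl, Scheme.homOfLE_ι, Scheme.homOfLE_ι]
  obtain ⟨r, hrU, hrV⟩ := exists_glue_hom U V p q' (by
    rw [← hl, ← hl', Category.assoc, Category.assoc, hOpq])
  have hUV : ∀ x : (U ⊔ V).toScheme, (∃ w, S.homOfLE le_sup_left w = x) ∨
      (∃ w, S.homOfLE le_sup_right w = x) := fun x ↦ by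
    rcases x.2 with hx | hx
    · exact Or.inl ⟨⟨x.1, hx⟩, Subtype.ext (S.homOfLE_apply le_sup_left _)⟩
    · exact Or.inr ⟨⟨x.1, hx⟩, Subtype.ext (S.homOfLE_apply le_sup_right _)⟩
  have key₁ : ∀ w v, p w = zb v → ∃ w', S.homOfLE (le_sup_right : V ≤ U ⊔ V) w' =
      S.homOfLE le_sup_left w := by
    intro w v hwv
    obtain ⟨o, ho, -⟩ := hint _ _ hwv
    have hw : w ∈ (π₀ i ⁻¹ᵁ Oi) := by
      have h2 : aU w ∈ D.map j.hom ⁻¹ᵁ Oi := ho ▸ o.2
      have h3 : (aU ≫ D.map j.hom) w ∈ Oi := h2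
      rwa [hπ₀] at h3
    rw [hOi] at hw
    refine ⟨⟨U.ι w, hw⟩, (U ⊔ V).ι.isOpenEmbedding.injective ?_⟩
    rw [← Scheme.Hom.comp_apply, ← Scheme.Hom.comp_apply, Scheme.homOfLE_ι, Scheme.homOfLE_ι]
    rfl
  have key₂ : ∀ w v, q' w = za v → ∃ w', S.homOfLE (le_sup_left : U ≤ U ⊔ V) w' =
      S.homOfLE le_sup_right w := by
    intro w v hwv
    obtain ⟨o, -, ho⟩ := hint _ _ hwv.symm
    obtain ⟨o', ho'⟩ := hqrange w ⟨o, ho⟩
    refine ⟨ιO o', (U ⊔ V).ι.isOpenEmbedding.injective ?_⟩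
    rw [← ho', ← Scheme.Hom.comp_apply (f := S.homOfLE _), ← Scheme.Hom.comp_apply (f := S.homOfLE _),
      Scheme.homOfLE_ι, Scheme.homOfLE_ι, ← Scheme.Hom.comp_apply, ← Scheme.Hom.comp_apply, hjB]
  have hrU' : ∀ w, r (S.homOfLE le_sup_left w) = za (aU w) := fun w ↦ by
    rw [← Scheme.Hom.comp_apply, hrU]
    rfl
  have hrV' : ∀ w, r (S.homOfLE le_sup_right w) = zb (q w) := fun w ↦ by
    rw [← Scheme.Hom.comp_apply, hrV]
    rfl
  refine ⟨Z, r, fZ, isAffineHom_of_forall_exists_isAffineOpen r fun z ↦ ?_, ?_, ?_, ?_⟩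
  · rcases hcov z with ⟨z', rfl⟩ | ⟨z', rfl⟩
    · obtain ⟨A, hA, hz', -⟩ := exists_isAffineOpen_mem_and_subset (X := D.obj j.left) (x := z')
        (U := ⊤) trivial
      refine ⟨za ''ᵁ A, ⟨z', hz', rfl⟩, hA.image_of_isOpenImmersion za, ?_⟩
      have : r ⁻¹ᵁ (za ''ᵁ A) = S.homOfLE le_sup_left ''ᵁ (aU ⁻¹ᵁ A) := by
        ext x
        constructor
        · rintro ⟨z₀, hz₀, hz₀'⟩
          replace hz₀' : za z₀ = r x := hz₀'
          obtain ⟨w, rfl⟩ | ⟨w, rfl⟩ := hUV x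
          · rw [hrU'] at hz₀'
            exact ⟨w, show aU w ∈ A from za.isOpenEmbedding.injective hz₀' ▸ hz₀, rfl⟩
          · obtain ⟨w', hw'⟩ := key₂ w z₀ ((hz₀'.trans (hrV' w)).symm)
            rw [← hw', hrU'] at hz₀'
            exact ⟨w', show aU w' ∈ A from za.isOpenEmbedding.injective hz₀' ▸ hz₀, hw'⟩
        · rintro ⟨w, hw, rfl⟩
          exact ⟨aU w, hw, (hrU' w).symm⟩
      rw [this]
      exact (hA.preimage aU).image_of_isOpenImmersion _
    · obtain ⟨A, hA, hz', -⟩ := exists_isAffineOpen_mem_and_subset (X := Y) (x := z')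
        (U := ⊤) trivial
      refine ⟨zb ''ᵁ A, ⟨z', hz', rfl⟩, hA.image_of_isOpenImmersion zb, ?_⟩
      have : r ⁻¹ᵁ (zb ''ᵁ A) = S.homOfLE le_sup_right ''ᵁ (q ⁻¹ᵁ A) := by
        ext x
        constructor
        · rintro ⟨z₀, hz₀, hz₀'⟩
          replace hz₀' : zb z₀ = r x := hz₀'
          obtain ⟨w, rfl⟩ | ⟨w, rfl⟩ := hUV x
          · obtain ⟨w', hw'⟩ := key₁ w z₀ ((hz₀'.trans (hrU' w)).symm)
            rw [← hw', hrV'] at hz₀'
            exact ⟨w', show q w' ∈ A from zb.isOpenEmbedding.injective hz₀' ▸ hz₀, hw'⟩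
          · rw [hrV'] at hz₀'
            exact ⟨w, show q w ∈ A from zb.isOpenEmbedding.injective hz₀' ▸ hz₀, rfl⟩
        · rintro ⟨w, hw, rfl⟩
          exact ⟨q w, hw, (hrV' w).symm⟩
      rw [this]
      exact (hA.preimage q).image_of_isOpenImmersion _
  · refine ⟨?_⟩
    have : Set.univ = Set.range za ∪ Set.range zb := (Set.eq_univ_of_forall fun z ↦ hcov z).symm
    rw [this]
    exact (isCompact_range za.continuous).union (isCompact_range zb.continuous)
  · refine IsZariskiLocalAtSource.of_iSup_eq_top (P := @LocallyOfFiniteType)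
      (fun b : Bool ↦ bif b then za.opensRange else zb.opensRange) ?_ ?_
    · rw [eq_top_iff]
      intro z _
      rcases hcov z with hz | hz
      · exact Opens.mem_iSup.mpr ⟨true, hz⟩
      · exact Opens.mem_iSup.mpr ⟨false, hz⟩
    · intro b
      cases b
      · rw [← MorphismProperty.cancel_left_of_respectsIso @LocallyOfFiniteType zb.isoOpensRange.hom,
          ← Category.assoc]
        dsimp only [cond_false]
        rw [Scheme.Hom.isoOpensRange_hom_ι, hfb]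
        infer_instance
      · rw [← MorphismProperty.cancel_left_of_respectsIso @LocallyOfFiniteType za.isoOpensRange.hom,
          ← Category.assoc]
        dsimp only [cond_true]
        rw [Scheme.Hom.isoOpensRange_hom_ι, hfa]
        exact inferInstanceAs (LocallyOfFiniteType (t.app j.left))
  · refine exists_glue_hom_ext U V ?_ ?_
    · rw [reassoc_of% hrU, Scheme.homOfLE_ι_assoc]
      simp only [p, Category.assoc, hfa]
      change j.left.unop.toModel ≫ j.left.unop.alg.π ≫ f₁ = _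
      rw [Family.toModel_π_assoc, haf]
    · rw [reassoc_of% hrV, Scheme.homOfLE_ι_assoc]
      simp only [q', Category.assoc, hfb]
      rw [reassoc_of% hqy, Scheme.Hom.resLE_comp_ι]

/-- Absolute Noetherian approximation (Thomason–Trobaugh, Temkin): a quasi-compact quasi-separated
scheme over a Noetherian scheme is affine over a scheme of finite type. -/
theorem exists_isAffineHom_locallyOfFiniteType [CompactSpace S] [QuasiSeparatedSpace S] :
    ∃ (S₁ : Scheme.{u}) (a : S ⟶ S₁) (f₁ : S₁ ⟶ R), IsAffineHom a ∧ CompactSpace S₁ ∧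
      QuasiSeparatedSpace S₁ ∧ LocallyOfFiniteType f₁ ∧ a ≫ f₁ = f := by
  classical
  have hsmall : ∀ x : S, ∃ (V : S.Opens) (W : R.Opens), IsAffineOpen V ∧ IsAffineOpen W ∧ x ∈ V ∧
      V ≤ f ⁻¹ᵁ W := fun x ↦ by
    obtain ⟨W, hW, hxW, -⟩ := exists_isAffineOpen_mem_and_subset (X := R) (x := f x) (U := ⊤) trivial
    obtain ⟨V, hV, hxV, hle⟩ := exists_isAffineOpen_mem_and_subset (X := S) (x := x)
      (U := f ⁻¹ᵁ W) hxW
    exact ⟨V, W, hV, hW, hxV, fun y hy ↦ hle hy⟩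
  choose V W hV hW hxV hVW using hsmall
  obtain ⟨t, ht⟩ := isCompact_univ.elim_finite_subcover (fun x ↦ (V x : Set S)) (fun x ↦ (V x).2)
    fun x _ ↦ Set.mem_iUnion.mpr ⟨x, hxV x⟩
  have hind : ∀ s : Finset S, Approximable f (s.sup V) ∧ IsCompact ((s.sup V : S.Opens) : Set S) := by
    intro s
    induction s using Finset.induction_on with
    | empty =>
      rw [Finset.sup_empty]
      refine ⟨⟨(⊥ : S.Opens).toScheme, 𝟙 _, (⊥ : S.Opens).ι ≫ f, inferInstance, ?_, ?_,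
        Category.id_comp _⟩, by simp⟩
      · exact isCompact_iff_compactSpace.mp (by simp)
      · have : IsEmpty (⊥ : S.Opens).toScheme := ⟨fun x ↦ x.2.elim⟩
        infer_instance
    | insert x s _ ih =>
      rw [Finset.sup_insert, sup_comm]
      refine ⟨approximable_sup f ih.2 (hV x) (hW x) (hVW x) ih.1, ?_⟩
      rw [Opens.coe_sup]
      exact ih.2.union (hV x).isCompact
  have htop : t.sup V = ⊤ := eq_top_iff.mpr fun x _ ↦ by
    obtain ⟨y, hy, hxy⟩ := Set.mem_iUnion₂.mp (ht (Set.mem_univ x))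
    exact Finset.le_sup (f := V) hy hxy
  obtain ⟨S₁, a, f₁, ha, hc, hlft, haf⟩ := htop ▸ (hind t).1
  have : IsLocallyNoetherian S₁ := LocallyOfFiniteType.isLocallyNoetherian f₁
  refine ⟨S₁, S.topIso.inv ≫ a, f₁, inferInstance, hc, inferInstance, hlft, ?_⟩
  rw [Category.assoc, haf]
  simp

end approximation

end Groth.Agent.H8Lim
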