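import Groth.Agent.H8Lim.Descent
import Mathlib.RingTheory.Extension.Presentation.Core
import Mathlib.AlgebraicGeometry.Morphisms.FinitePresentation
import Mathlib.AlgebraicGeometry.Morphisms.QuasiSeparated

/-!
# Affine finitely presented schemes over a limit descend to a stage
-/

set_option autoImplicit false
set_option backward.isDefEq.respectTransparency.types false

universe u

open CategoryTheory Limits AlgebraicGeometry TensorProduct

namespace Groth.Agent.H8Lim

/-- Ring level model: a finitely presented algebra over `R` whose coefficients come from `R₀`. -/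
lemma exists_model_of_finite_coeffs {R S : Type u} [CommRing R] [CommRing S] [Algebra R S]
    [Algebra.FinitePresentation R S] :
    ∃ s : Set R, s.Finite ∧ ∀ (R₀ : Type u) [CommRing R₀] [Algebra R₀ R],
      s ⊆ Set.range (algebraMap R₀ R) →
      ∃ (M : Type u) (_ : CommRing M) (_ : Algebra R₀ M), Algebra.FinitePresentation R₀ M ∧
        Nonempty (R ⊗[R₀] M ≃ₐ[R] S) := by
  let P := Algebra.Presentation.ofFinitePresentation R S
  refine ⟨P.coeffs, P.finite_coeffs, fun R₀ _ _ hs ↦ ?_⟩
  let := ((algebraMap R S).comp (algebraMap R₀ R)).toAlgebra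
  have : IsScalarTower R₀ R S := IsScalarTower.of_algebraMap_eq fun _ ↦ rfl
  have : P.HasCoeffs R₀ := ⟨hs⟩
  exact ⟨P.ModelOfHasCoeffs R₀, inferInstance, inferInstance, inferInstance,
    ⟨P.tensorModelOfHasCoeffsEquiv R₀⟩⟩

/-- Scheme form of base change along a ring map, read through `isoSpec`. -/
lemma exists_isPullback_of_model {T B V : Scheme.{u}} [IsAffine T] [IsAffine B] [IsAffine V]
    (π : T ⟶ B) (h : V ⟶ T) (M : CommRingCat.{u}) (m : Γ(B, ⊤) ⟶ M)
    (inl : Γ(T, ⊤) ⟶ Γ(V, ⊤)) (hinl : inl = h.appTop) (inr : M ⟶ Γ(V, ⊤))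
    (hp : IsPushout π.appTop m inl inr) :
    ∃ q : V ⟶ Spec M, IsPullback q h (Spec.map m ≫ B.isoSpec.inv) π := by
  subst hinl
  refine ⟨V.isoSpec.hom ≫ Spec.map inr, ?_⟩
  refine (isPullback_SpecMap_of_isPushout _ _ _ _ hp).flip.of_iso V.isoSpec.symm (Iso.refl _)
    T.isoSpec.symm B.isoSpec.symm ?_ ?_ (by simp) ?_
  · simp
  · simp [← Scheme.isoSpec_inv_naturality]
  · simp [← Scheme.isoSpec_inv_naturality]

/-- An affine finitely presented scheme over an affine scheme descends to every affine base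
whose functions contain a given finite set. -/
lemma exists_coeffs_descend {T V : Scheme.{u}} [IsAffine T] [IsAffine V] (h : V ⟶ T)
    [LocallyOfFinitePresentation h] :
    ∃ s : Set Γ(T, ⊤), s.Finite ∧ ∀ (B : Scheme.{u}) [IsAffine B] (π : T ⟶ B),
      s ⊆ Set.range π.appTop → ∃ (Z : Scheme.{u}) (z : Z ⟶ B) (q : V ⟶ Z),
        LocallyOfFinitePresentation z ∧ QuasiCompact z ∧ QuasiSeparated z ∧
          IsPullback q h z π := by
  let := h.appTop.hom.toAlgebra
  have : Algebra.FinitePresentation Γ(T, ⊤) Γ(V, ⊤) := by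
    have : h.appTop.hom.FinitePresentation :=
      (HasRingHomProperty.iff_of_isAffine (P := @LocallyOfFinitePresentation)).mp ‹_›
    exact this
  obtain ⟨s, hs, H⟩ := exists_model_of_finite_coeffs (R := Γ(T, ⊤)) (S := Γ(V, ⊤))
  refine ⟨s, hs, fun B _ π hj ↦ ?_⟩
  let := π.appTop.hom.toAlgebra
  obtain ⟨M, _, _, hM, ⟨e⟩⟩ := H Γ(B, ⊤) hj
  let m : Γ(B, ⊤) ⟶ CommRingCat.of M := CommRingCat.ofHom (algebraMap _ M)
  let inr : CommRingCat.of M ⟶ Γ(V, ⊤) := CommRingCat.ofHom
    (e.toRingEquiv.toRingHom.comp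
      (Algebra.TensorProduct.includeRight : M →ₐ[Γ(B, ⊤)] _).toRingHom)
  have hp : IsPushout π.appTop m h.appTop inr := by
    refine (CommRingCat.isPushout_tensorProduct Γ(B, ⊤) Γ(T, ⊤) M).of_iso
      (Iso.refl _) (Iso.refl _) (Iso.refl _) e.toRingEquiv.toCommRingCatIso rfl rfl ?_ rfl
    ext r
    exact e.commutes r
  obtain ⟨q, hq⟩ := exists_isPullback_of_model π h _ m h.appTop rfl inr hp
  have : LocallyOfFinitePresentation (Spec.map m) :=
    (HasRingHomProperty.Spec_iff (P := @LocallyOfFinitePresentation)).mpr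
      (RingHom.finitePresentation_algebraMap.mpr hM)
  exact ⟨_, _, q, inferInstance, inferInstance, inferInstance, hq⟩

/-- A finitely presented affine scheme over the limit of affine schemes descends to a stage. -/
theorem exists_stage_of_isAffine {J : Type u} [SmallCategory J] [IsCofiltered J]
    (E : J ⥤ Scheme.{u}) (cE : Cone E) (hc : IsLimit cE)
    [∀ {i j : J} (φ : i ⟶ j), IsAffineHom (E.map φ)] [∀ j, IsAffine (E.obj j)] (i : J)
    {V : Scheme.{u}} [IsAffine V] (h : V ⟶ cE.pt) [LocallyOfFinitePresentation h] :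
    ∃ (j : J) (_ : j ⟶ i) (Z : Scheme.{u}) (z : Z ⟶ E.obj j) (q : V ⟶ Z),
      LocallyOfFinitePresentation z ∧ QuasiCompact z ∧ QuasiSeparated z ∧
        IsPullback q h z (cE.π.app j) := by
  have : IsAffine cE.pt := Scheme.isAffine_of_isLimit _ hc
  obtain ⟨s, hs, H⟩ := exists_coeffs_descend h
  obtain ⟨j, φ, hj⟩ := exists_finite_lift hc (i := i) hs
  exact ⟨j, φ, H (E.obj j) (cE.π.app j) hj⟩

end Groth.Agent.H8Lim
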