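import Groth.Agent.H8Lim.SchemeDescentCover
import Groth.Agent.H8Lim.SchemeDescentAffine
import Groth.Agent.H8Lim.HomDescent
import Groth.Agent.H8Lim.DescentMore
import Groth.Agent.H8Lim.FinitePresentation

/-!
# Finitely presented schemes over a limit descend to a stage (EGA IV 8.8.2 (ii))
-/

set_option autoImplicit false
set_option backward.isDefEq.respectTransparency.types false
set_option maxHeartbeats 1000000
set_option synthInstance.maxHeartbeats 100000

universe u

open CategoryTheory Limits AlgebraicGeometry TopologicalSpace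

namespace Groth.Agent.H8Lim

variable {I : Type u} [SmallCategory I] (D : I ⥤ Scheme.{u}) (c : Cone D)

/-- `f` is the base change of a finitely presented scheme over some stage. -/
def Descendable {X : Scheme.{u}} (f : X ⟶ c.pt) : Prop :=
  ∃ (j : I) (Z : Scheme.{u}) (h : Z ⟶ D.obj j) (q : X ⟶ Z),
    LocallyOfFinitePresentation h ∧ QuasiCompact h ∧ QuasiSeparated h ∧
      IsPullback q f h (c.π.app j)

/-- An open of a scheme is retrocompact if, together with a quasi-separated open meeting it in a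
compact set, it covers. -/
lemma isRetrocompact_of_cover {X : Scheme.{u}} {A B : X.Opens}
    (hcov : ∀ x : X, x ∈ A ∨ x ∈ B) (hB : IsQuasiSeparated (B : Set X))
    (hAB : IsCompact ((A : Set X) ∩ B)) : IsRetrocompact (A : Set X) := by
  intro K hKc hKo
  have h : ∀ x : K, ∃ W : X.Opens, IsAffineOpen W ∧ x.1 ∈ W ∧ (W : Set X) ⊆ K ∧
      ((W : Set X) ⊆ A ∨ (W : Set X) ⊆ B) := by
    rintro ⟨x, hx⟩
    obtain hA | hB' := hcov x
    · obtain ⟨W, hW, hxW, hWK⟩ := Opens.isBasis_iff_nbhd.mp X.isBasis_affineOpens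
        (show x ∈ (⟨K, hKo⟩ ⊓ A : X.Opens) from ⟨hx, hA⟩)
      exact ⟨W, hW, hxW, fun y hy ↦ (hWK hy).1, .inl fun y hy ↦ (hWK hy).2⟩
    · obtain ⟨W, hW, hxW, hWK⟩ := Opens.isBasis_iff_nbhd.mp X.isBasis_affineOpens
        (show x ∈ (⟨K, hKo⟩ ⊓ B : X.Opens) from ⟨hx, hB'⟩)
      exact ⟨W, hW, hxW, fun y hy ↦ (hWK hy).1, .inr fun y hy ↦ (hWK hy).2⟩
  choose W hW hxW hWK hWAB using h
  obtain ⟨t, ht⟩ := hKc.elim_finite_subcover (fun x ↦ (W x : Set X)) (fun x ↦ (W x).2)
    fun x hx ↦ Set.mem_iUnion.mpr ⟨⟨x, hx⟩, hxW _⟩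
  have e : (A : Set X) ∩ K = ⋃ x ∈ t, (A : Set X) ∩ W x := by
    ext y
    simp only [Set.mem_inter_iff, Set.mem_iUnion, exists_prop]
    constructor
    · rintro ⟨hyA, hyK⟩
      obtain ⟨x, hx, hy⟩ := Set.mem_iUnion₂.mp (ht hyK)
      exact ⟨x, hx, hyA, hy⟩
    · rintro ⟨x, -, hyA, hy⟩
      exact ⟨hyA, hWK x hy⟩
  rw [e]
  refine t.isCompact_biUnion fun x _ ↦ ?_
  obtain hA | hB' := hWAB x
  · rw [Set.inter_eq_right.mpr hA]; exact (hW x).isCompact
  · have : (A : Set X) ∩ W x = ((A : Set X) ∩ B) ∩ W x := by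
      ext y; exact ⟨fun h ↦ ⟨⟨h.1, hB' h.2⟩, h.2⟩, fun h ↦ ⟨h.1.1, h.2⟩⟩
    rw [this]
    exact hB _ _ Set.inter_subset_right (A.2.inter B.2) hAB hB' (W x).2 (hW x).isCompact

variable {D c}

lemma isPullback_precomp_iso {W W' Z T B : Scheme.{u}} {q : W ⟶ Z} {w : W ⟶ T} {h : Z ⟶ B}
    {π : T ⟶ B} (sq : IsPullback q w h π) (e : W' ⟶ W) [IsIso e] :
    IsPullback (e ≫ q) (e ≫ w) h π :=
  sq.of_iso (asIso e).symm (Iso.refl _) (Iso.refl _) (Iso.refl _)
    (by simp) (by simp) (by simp) (by simp)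

lemma descendable_of_iso {X Y : Scheme.{u}} {f : X ⟶ c.pt} (h : Descendable D c f) (e : Y ⟶ X)
    [IsIso e] : Descendable D c (e ≫ f) := by
  obtain ⟨j, Z, z, q, h1, h2, h3, sq⟩ := h
  exact ⟨j, Z, z, _, h1, h2, h3, isPullback_precomp_iso sq e⟩

/-- A base change square over `j` gives one over a later stage. -/
lemma isPullback_later {W Z : Scheme.{u}} {j k : I} {h : Z ⟶ D.obj j} {q : W ⟶ Z} {w : W ⟶ c.pt}
    (sq : IsPullback q w h (c.π.app j)) (φ : k ⟶ j)
    (e : q ≫ h = (w ≫ c.π.app k) ≫ D.map φ) :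
    IsPullback (pullback.lift q (w ≫ c.π.app k) e) w (pullback.snd h (D.map φ)) (c.π.app k) :=
  IsPullback.of_right (by rw [pullback.lift_fst, c.w]; exact sq) (pullback.lift_snd _ _ _)
    (IsPullback.of_hasPullback h (D.map φ))

lemma exists_later {W Z : Scheme.{u}} {j k : I} {h : Z ⟶ D.obj j} {q : W ⟶ Z} {w : W ⟶ c.pt}
    [LocallyOfFinitePresentation h] [QuasiCompact h] [QuasiSeparated h]
    (sq : IsPullback q w h (c.π.app j)) (φ : k ⟶ j) :
    ∃ (Z' : Scheme.{u}) (h' : Z' ⟶ D.obj k) (q' : W ⟶ Z'),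
      LocallyOfFinitePresentation h' ∧ QuasiCompact h' ∧ QuasiSeparated h' ∧
        IsPullback q' w h' (c.π.app k) :=
  ⟨_, _, _, inferInstance, inferInstance, inferInstance,
    isPullback_later sq φ (by rw [Category.assoc, c.w, sq.w])⟩

variable [IsCofiltered I] [∀ {i j : I} (f : i ⟶ j), IsAffineHom (D.map f)] (hc : IsLimit c)
  [∀ i, CompactSpace (D.obj i)] [∀ i, QuasiSeparatedSpace (D.obj i)]

include hc in
/-- Affine pieces over an affine open of a stage descend. -/
lemma descendable_affine {V : Scheme.{u}} [IsAffine V] (f : V ⟶ c.pt)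
    [LocallyOfFinitePresentation f] (i : I) {W : (D.obj i).Opens} (hW : IsAffineOpen W)
    (hf : Set.range f ⊆ ((c.π.app i ⁻¹ᵁ W : c.pt.Opens) : Set c.pt)) : Descendable D c f := by
  let E := opensDiagram D i W
  have : ∀ j : Over i, IsAffine (E.obj j) := fun j ↦ hW.preimage (D.map j.hom)
  let T : c.pt.Opens := c.π.app i ⁻¹ᵁ W
  let f' : V ⟶ (T : Scheme.{u}) := IsOpenImmersion.lift T.ι f (by rwa [Scheme.Opens.range_ι])
  have hf' : f' ≫ T.ι = f := IsOpenImmersion.lift_fac _ _ _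
  have : LocallyOfFinitePresentation (f' ≫ T.ι) := by rw [hf']; infer_instance
  have : LocallyOfFinitePresentation f' := lfp_cancel_right f' T.ι
  obtain ⟨j, -, Z, z, q, hz1, hz2, hz3, sq⟩ := @exists_stage_of_isAffine _ _ _ E (opensCone D c i W)
    (isLimitOpensCone D c hc i W) (fun _ ↦ inferInstance) _ (Over.mk (𝟙 i)) V _ f'
    ‹LocallyOfFinitePresentation f'›
  let U : (D.obj j.left).Opens := D.map j.hom ⁻¹ᵁ W
  have hU : IsAffineOpen U := hW.preimage (D.map j.hom)
  have : CompactSpace U := isCompact_iff_compactSpace.mp hU.isCompact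
  have : QuasiCompact U.ι := quasiCompact_of_compactSpace _
  let z' : Z ⟶ (U : Scheme.{u}) := z
  have : LocallyOfFinitePresentation z' := hz1
  have : QuasiCompact z' := hz2
  have : QuasiSeparated z' := hz3
  refine ⟨j.left, Z, z' ≫ U.ι, q, inferInstance, inferInstance, inferInstance, ?_⟩
  have sq' : IsPullback ((opensCone D c i W).π.app j) T.ι U.ι (c.π.app j.left) := by
    refine @IsOpenImmersion.isPullback _ _ _ _ _ _ _ _ (Scheme.Opens.instIsOpenImmersionι T)
      (Scheme.Opens.instIsOpenImmersionι U) (Scheme.Hom.resLE_comp_ι _ _).symm ?_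
    exact ((congrArg (c.π.app j.left ⁻¹ᵁ ·) (Scheme.Opens.opensRange_ι U)).trans
      (congrArg (fun e ↦ e ⁻¹ᵁ W) (c.w j.hom))).trans (Scheme.Opens.opensRange_ι T).symm
  exact hf' ▸ sq.paste_vert sq'

include hc in
/-- A compact open of the limit of a finitely presented stage scheme is cartesian over a compact
open of a later stage. -/
lemma exists_stage_open {W Z : Scheme.{u}} {j : I} {h : Z ⟶ D.obj j} {q : W ⟶ Z} {w : W ⟶ c.pt}
    [LocallyOfFinitePresentation h] [QuasiCompact h] [QuasiSeparated h]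
    (sq : IsPullback q w h (c.π.app j)) {A : Scheme.{u}} (ι : A ⟶ W) [IsOpenImmersion ι]
    [CompactSpace A] :
    ∃ (k : I) (_ : k ⟶ j) (Z' O : Scheme.{u}) (h' : Z' ⟶ D.obj k) (q' : W ⟶ Z') (o : O ⟶ Z')
      (qA : A ⟶ O), LocallyOfFinitePresentation h' ∧ QuasiCompact h' ∧ QuasiSeparated h' ∧
        IsOpenImmersion o ∧ CompactSpace O ∧ IsPullback q' w h' (c.π.app k) ∧
        IsPullback qA ι o q' := by
  have : CompactSpace Z := QuasiCompact.compactSpace_of_compactSpace h
  have : QuasiSeparatedSpace Z := quasiSeparatedSpace_of_quasiSeparated h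
  obtain ⟨k, O, hO, hOι⟩ := AlgebraicGeometry.exists_preimage_eq (stage D h) (stageCone h c q w sq)
    (isLimitStageCone h q w sq hc) ι.opensRange (isCompact_range ι.continuous)
  let q' := stageProj h c q w sq k
  have sq' : IsPullback q' w (stageSnd D h k) (c.π.app k.left) :=
    IsPullback.of_right (by rw [stageProj_fst, c.w]; exact sq) (stageProj_snd _ _ _ _ _ _)
      (isPullback_stage D h k)
  let qA : A ⟶ O.toScheme := IsOpenImmersion.lift O.ι (ι ≫ q') (by
    rw [Scheme.Opens.range_ι]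
    rintro _ ⟨x, rfl⟩
    have : ι x ∈ (stageCone h c q w sq).π.app k ⁻¹ᵁ O := hOι.ge ⟨x, rfl⟩
    exact this)
  refine ⟨k.left, k.hom, _, O.toScheme, stageSnd D h k, q', O.ι, qA,
    inferInstanceAs (LocallyOfFinitePresentation (pullback.snd _ _)),
    inferInstanceAs (QuasiCompact (pullback.snd _ _)),
    inferInstanceAs (QuasiSeparated (pullback.snd _ _)), inferInstance,
    isCompact_iff_compactSpace.mp hO, sq', ?_⟩
  refine IsOpenImmersion.isPullback _ _ _ _ (IsOpenImmersion.lift_fac _ _ _).symm ?_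
  rw [Scheme.Opens.opensRange_ι]
  exact hOι

include hc in
/-- An open immersion into the limit of a finitely presented stage scheme descends. -/
lemma exists_stage_openImmersion {A W O Z : Scheme.{u}} {j : I} {g : O ⟶ D.obj j}
    {h : Z ⟶ D.obj j} {qA : A ⟶ O} {q : W ⟶ Z} {a : A ⟶ c.pt} {w : W ⟶ c.pt}
    [LocallyOfFinitePresentation h] [QuasiCompact h] [QuasiSeparated h]
    [LocallyOfFinitePresentation g] [QuasiCompact g] [QuasiSeparated g]
    (sqA : IsPullback qA a g (c.π.app j)) (sq : IsPullback q w h (c.π.app j))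
    (e : A ⟶ W) [IsOpenImmersion e] (he : e ≫ w = a) :
    ∃ (n : I) (χ : n ⟶ j) (O' Z' : Scheme.{u}) (g' : O' ⟶ D.obj n) (h' : Z' ⟶ D.obj n)
      (d : O' ⟶ Z') (pO : O' ⟶ O) (sA : A ⟶ O') (q' : W ⟶ Z'),
        IsPullback pO g' g (D.map χ) ∧ sA ≫ pO = qA ∧ sA ≫ g' = a ≫ c.π.app n ∧
        LocallyOfFinitePresentation h' ∧ QuasiCompact h' ∧ QuasiSeparated h' ∧
        IsPullback q' w h' (c.π.app n) ∧ IsOpenImmersion d ∧ d ≫ h' = g' ∧
        IsPullback sA e d q' := by
  have : CompactSpace O := QuasiCompact.compactSpace_of_compactSpace g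
  have : QuasiSeparatedSpace O := quasiSeparatedSpace_of_quasiSeparated g
  obtain ⟨m, φ, u, s, hu, hs1, hs2, hs3⟩ := exists_stage_hom hc sqA (e ≫ q) (yi := h) (by
    rw [Category.assoc, sq.w, ← Category.assoc, he, sqA.w])
  let d₀ : pullback g (D.map φ) ⟶ pullback h (D.map φ) :=
    pullback.lift u (pullback.snd _ _) (hu.trans pullback.condition)
  have eq : q ≫ h = (w ≫ c.π.app m) ≫ D.map φ := by rw [Category.assoc, c.w, sq.w]
  have sqW := isPullback_later sq φ eq
  let p := pullback.lift q (w ≫ c.π.app m) eq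
  have sqAm : IsPullback s a (pullback.snd g (D.map φ)) (c.π.app m) :=
    IsPullback.of_right (by rw [hs1, c.w]; exact sqA) hs2 (IsPullback.of_hasPullback _ _)
  have sqd : IsPullback s e d₀ p := by
    refine IsPullback.of_bot (by rw [pullback.lift_snd, he]; exact sqAm) ?_ sqW
    apply pullback.hom_ext
    · simp only [d₀, p, Category.assoc, pullback.lift_fst]
      exact hs3
    · simp only [d₀, p, Category.assoc, pullback.lift_snd, hs2, reassoc_of% he]
  have : CompactSpace ↥(pullback g (D.map φ)) :=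
    QuasiCompact.compactSpace_of_compactSpace (pullback.snd g (D.map φ))
  have : QuasiSeparatedSpace ↥(pullback g (D.map φ)) :=
    quasiSeparatedSpace_of_quasiSeparated (pullback.snd g (D.map φ))
  have : CompactSpace ↥(pullback h (D.map φ)) :=
    QuasiCompact.compactSpace_of_compactSpace (pullback.snd h (D.map φ))
  have : QuasiSeparatedSpace ↥(pullback h (D.map φ)) :=
    quasiSeparatedSpace_of_quasiSeparated (pullback.snd h (D.map φ))
  have : LocallyOfFinitePresentation (d₀ ≫ pullback.snd h (D.map φ)) := by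
    rw [pullback.lift_snd]; infer_instance
  have hd₀ : LocallyOfFinitePresentation d₀ := lfp_cancel_right d₀ (pullback.snd h (D.map φ))
  obtain ⟨n, χ, O', Z', d, h', pY, pX, hY, hX, hd⟩ :=
    descends_isOpenImmersion.exists_stage hc (f₀ := d₀) sqW sqd hd₀ ‹IsOpenImmersion e›
  have : IsOpenImmersion d := hd
  have eW : p ≫ pullback.snd h (D.map φ) = (w ≫ c.π.app n) ≫ D.map χ := by
    rw [Category.assoc, c.w, sqW.w]
  have sqW' : IsPullback (hY.lift p _ eW) w h' (c.π.app n) :=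
    IsPullback.of_right (by rw [hY.lift_fst, c.w]; exact sqW) (hY.lift_snd _ _ _) hY
  have hw₃ : s ≫ d₀ = (e ≫ hY.lift p _ eW) ≫ pY := by
    rw [Category.assoc, hY.lift_fst, sqd.w]
  have sqd' : IsPullback (hX.lift s _ hw₃) e d (hY.lift p _ eW) :=
    IsPullback.of_right (by rw [hX.lift_fst, hY.lift_fst]; exact sqd) (hX.lift_snd _ _ _) hX
  have hO' : IsPullback (pX ≫ pullback.fst g (D.map φ)) (d ≫ h') g (D.map (χ ≫ φ)) := by
    rw [D.map_comp]
    have := hX.paste_vert hY
    rw [pullback.lift_snd] at this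
    exact this.paste_horiz (IsPullback.of_hasPullback g (D.map φ))
  refine ⟨n, χ ≫ φ, O', Z', d ≫ h', h', d, _, hX.lift s _ hw₃, hY.lift p _ eW, hO', ?_, ?_,
    MorphismProperty.of_isPullback hY inferInstance, MorphismProperty.of_isPullback hY inferInstance,
    MorphismProperty.of_isPullback hY inferInstance, sqW', hd, rfl, sqd'⟩
  · rw [← Category.assoc, hX.lift_fst, hs1]
  · rw [← Category.assoc, hX.lift_snd, Category.assoc, sqW'.w, ← Category.assoc, he]

include hc in
/-- Gluing step. -/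
lemma descendable_sup {X : Scheme.{u}} (f : X ⟶ c.pt) [QuasiSeparated f] {U V : X.Opens}
    (hUc : IsCompact (U : Set X)) (hVc : IsCompact (V : Set X))
    (hU : Descendable D c (U.ι ≫ f)) (hV : Descendable D c (V.ι ≫ f)) :
    Descendable D c ((U ⊔ V).ι ≫ f) := by
  obtain ⟨j₁, Z₁, h₁, q₁, _, _, _, sq₁⟩ := hU
  obtain ⟨j₂, Z₂, h₂, q₂, _, _, _, sq₂⟩ := hV
  obtain ⟨k, φ₁, φ₂, -⟩ := IsCofilteredOrEmpty.cone_objs j₁ j₂
  obtain ⟨Z₁, h₁, q₁, _, _, _, sq₁⟩ := exists_later sq₁ φ₁
  obtain ⟨Z₂, h₂, q₂, _, _, _, sq₂⟩ := exists_later sq₂ φ₂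
  have : IsAffineHom (c.π.app k) := isAffineHom_π_app D c hc k
  have : QuasiSeparatedSpace c.pt := quasiSeparatedSpace_of_quasiSeparated (c.π.app k)
  have : QuasiSeparatedSpace X := quasiSeparatedSpace_of_quasiSeparated f
  -- the intersection inside both
  let iU : (U ⊓ V : X.Opens).toScheme ⟶ U.toScheme := X.homOfLE inf_le_left
  let iV : (U ⊓ V : X.Opens).toScheme ⟶ V.toScheme := X.homOfLE inf_le_right
  have hiU : iU ≫ U.ι ≫ f = (U ⊓ V).ι ≫ f := Scheme.homOfLE_ι_assoc _ _ _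
  have hiV : iV ≫ V.ι ≫ f = (U ⊓ V).ι ≫ f := Scheme.homOfLE_ι_assoc _ _ _
  have : CompactSpace (U ⊓ V : X.Opens).toScheme :=
    isCompact_iff_compactSpace.mp (hUc.inter_of_isOpen hVc U.2 V.2)
  obtain ⟨l, ψ, P₁, O, g₁, r₁, o, qO, _, _, _, _, _, sqr₁, hOU⟩ := exists_stage_open hc sq₁ iU
  obtain ⟨Z₂, h₂, q₂, _, _, _, sq₂⟩ := exists_later sq₂ ψ
  have : CompactSpace P₁ := QuasiCompact.compactSpace_of_compactSpace g₁
  have : QuasiSeparatedSpace P₁ := quasiSeparatedSpace_of_quasiSeparated g₁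
  have : QuasiSeparatedSpace O := QuasiSeparatedSpace.of_isOpenEmbedding o.isOpenEmbedding
  have : QuasiCompact (o ≫ g₁) := quasiCompact_of_compactSpace _
  have : QuasiSeparated (o ≫ g₁) := inferInstance
  have : LocallyOfFinitePresentation (o ≫ g₁) := inferInstance
  have sqO : IsPullback qO ((U ⊓ V).ι ≫ f) (o ≫ g₁) (c.π.app l) := hiU ▸ hOU.paste_vert sqr₁
  obtain ⟨n, χ, O', Z₂', g', h₂', d, pO, sA, q₂', sqO', hsA, hsA', _, _, _, sq₂', _, hd, sqV⟩ :=
    exists_stage_openImmersion hc sqO sq₂ iV hiV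
  -- the stage of `P₁`
  have er : r₁ ≫ g₁ = ((U.ι ≫ f) ≫ c.π.app n) ≫ D.map χ := by
    rw [Category.assoc, c.w, sqr₁.w]
  have sq₁' := isPullback_later sqr₁ χ er
  let a' : O' ⟶ pullback g₁ (D.map χ) :=
    pullback.lift (pO ≫ o) g' (by rw [Category.assoc, sqO'.w])
  have sqa : IsPullback pO a' o (pullback.fst g₁ (D.map χ)) :=
    IsPullback.of_bot (by rw [pullback.lift_snd]; exact sqO') (pullback.lift_fst _ _ _).symm
      (IsPullback.of_hasPullback g₁ (D.map χ))
  have : IsOpenImmersion a' := MorphismProperty.of_isPullback sqa ‹IsOpenImmersion o›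
  let r₁' := pullback.lift r₁ ((U.ι ≫ f) ≫ c.π.app n) er
  have sqU : IsPullback sA iU a' r₁' := by
    refine IsPullback.of_bot ?_ ?_ sq₁'
    · rw [pullback.lift_snd, hiU, ← hd, ← hiV]
      exact sqV.paste_vert sq₂'
    · apply pullback.hom_ext
      · simp only [a', r₁', Category.assoc, pullback.lift_fst]
        rw [← Category.assoc, hsA, hOU.w]
      · simp only [a', r₁', Category.assoc, pullback.lift_snd]
        rw [hsA', ← hiU, Category.assoc, Category.assoc]
  -- glue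
  obtain ⟨Z, a, b, z, _, _, hab, haz, hbz, hcov, hov⟩ := exists_glue_two a' d
    (pullback.snd g₁ (D.map χ)) h₂' (by rw [hd, pullback.lift_snd])
  obtain ⟨r, hrU, hrV⟩ := exists_glue_hom U V (r₁' ≫ a) (q₂' ≫ b) (by
    change iU ≫ r₁' ≫ a = iV ≫ q₂' ≫ b
    rw [← Category.assoc, ← sqU.w, ← Category.assoc iV, ← sqV.w, Category.assoc, Category.assoc,
      hab])
  have hw : r ≫ z = ((U ⊔ V).ι ≫ f) ≫ c.π.app n := by
    obtain ⟨r', -, -⟩ := exists_glue_hom U V ((U.ι ≫ f) ≫ c.π.app n) ((V.ι ≫ f) ≫ c.π.app n)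
      (by simp)
    refine exists_glue_hom_ext U V ?_ ?_
    · rw [← Category.assoc, hrU, Category.assoc, haz, sq₁'.w]; simp
    · rw [← Category.assoc, hrV, Category.assoc, hbz, sq₂'.w]; simp
  have hmem : ∀ (y : (U ⊔ V : X.Opens).toScheme),
      (r y ∈ Set.range a ↔ y ∈ Set.range (X.homOfLE (le_sup_left : U ≤ U ⊔ V))) ∧
      (r y ∈ Set.range b ↔ y ∈ Set.range (X.homOfLE (le_sup_right : V ≤ U ⊔ V))) := by
    intro y
    have hy : (∃ x : U.toScheme, X.homOfLE (le_sup_left : U ≤ U ⊔ V) x = y) ∨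
        ∃ x : V.toScheme, X.homOfLE (le_sup_right : V ≤ U ⊔ V) x = y := by
      obtain hy | hy := (show y.1 ∈ (U : Set X) ∪ (V : Set X) from y.2)
      · exact .inl ⟨⟨y.1, hy⟩, Subtype.ext (by simp)⟩
      · exact .inr ⟨⟨y.1, hy⟩, Subtype.ext (by simp)⟩
    have h1 : ∀ x : U.toScheme, r (X.homOfLE le_sup_left x) = a (r₁' x) := fun x ↦ by
      rw [← Scheme.Hom.comp_apply, hrU, Scheme.Hom.comp_apply]
    have h2 : ∀ x : V.toScheme, r (X.homOfLE le_sup_right x) = b (q₂' x) := fun x ↦ by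
      rw [← Scheme.Hom.comp_apply, hrV, Scheme.Hom.comp_apply]
    have key : ∀ (v : (U ⊓ V : X.Opens).toScheme),
        X.homOfLE (le_sup_left : U ≤ U ⊔ V) (iU v) = X.homOfLE (le_sup_right : V ≤ U ⊔ V) (iV v) :=
      fun v ↦ by simp only [iU, iV, ← Scheme.Hom.comp_apply, Scheme.homOfLE_homOfLE]
    refine ⟨⟨fun ⟨t, ht⟩ ↦ ?_, ?_⟩, ⟨fun ⟨t, ht⟩ ↦ ?_, ?_⟩⟩
    · obtain ⟨x, rfl⟩ | ⟨x, rfl⟩ := hy
      · exact ⟨x, rfl⟩
      · obtain ⟨w, -, hw⟩ := hov t (q₂' x) (by rw [ht, h2])
        obtain ⟨v, -, hv⟩ := Scheme.Pullback.exists_preimage_pullback (f := d) (g := q₂') w x hw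
        refine ⟨iU (sqV.isoPullback.inv v), ?_⟩
        rw [key]
        congr 1
        rw [← Scheme.Hom.comp_apply, sqV.isoPullback_inv_snd, hv]
    · rintro ⟨x, rfl⟩; exact ⟨_, (h1 x).symm⟩
    · obtain ⟨x, rfl⟩ | ⟨x, rfl⟩ := hy
      · obtain ⟨w, hw, -⟩ := hov (r₁' x) t (by rw [ht, h1])
        obtain ⟨v, -, hv⟩ := Scheme.Pullback.exists_preimage_pullback (f := a') (g := r₁') w x hw
        refine ⟨iV (sqU.isoPullback.inv v), ?_⟩
        rw [← key]
        congr 1
        rw [← Scheme.Hom.comp_apply, sqU.isoPullback_inv_snd, hv]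
      · exact ⟨x, rfl⟩
    · rintro ⟨x, rfl⟩; exact ⟨_, (h2 x).symm⟩
  let aK : ∀ k : Bool, (bif k then pullback g₁ (D.map χ) else Z₂') ⟶ Z :=
    fun k ↦ Bool.rec b a k
  let uK : ∀ k : Bool, (bif k then U.toScheme else V.toScheme) ⟶ (U ⊔ V : X.Opens).toScheme :=
    fun k ↦ Bool.rec (X.homOfLE le_sup_right) (X.homOfLE le_sup_left) k
  have haK : ∀ k, IsOpenImmersion (aK k) := fun k ↦ by cases k <;> assumption
  have huK : ∀ k, IsOpenImmersion (uK k) := fun k ↦ by
    cases k <;> exact inferInstanceAs (IsOpenImmersion (X.homOfLE _))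
  have hpb : IsPullback r ((U ⊔ V).ι ≫ f) z (c.π.app n) := by
    refine @isPullback_of_cover _ _ _ _ r _ z _ hw Bool
      (fun k ↦ bif k then pullback g₁ (D.map χ) else Z₂') aK haK (fun x ↦ ?_)
      (fun k ↦ bif k then U.toScheme else V.toScheme) uK huK
      (fun k ↦ Bool.rec q₂' r₁' k) (fun k ↦ ?_) (fun k ↦ ?_)
    · obtain hx | hx := hcov x
      · exact ⟨true, hx⟩
      · exact ⟨false, hx⟩
    · cases k
      · refine IsOpenImmersion.isPullback _ _ _ _ hrV (Opens.ext (Set.ext fun y ↦ (hmem y).2))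
      · refine IsOpenImmersion.isPullback _ _ _ _ hrU (Opens.ext (Set.ext fun y ↦ (hmem y).1))
    · cases k
      · change IsPullback q₂' (X.homOfLE le_sup_right ≫ (U ⊔ V).ι ≫ f) (b ≫ z) (c.π.app n)
        rw [hbz, Scheme.homOfLE_ι_assoc]
        exact sq₂'
      · change IsPullback r₁' (X.homOfLE le_sup_left ≫ (U ⊔ V).ι ≫ f) (a ≫ z) (c.π.app n)
        rw [haz, Scheme.homOfLE_ι_assoc]
        exact sq₁'
  -- properties of the glued scheme
  have : CompactSpace ↥(pullback g₁ (D.map χ)) :=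
    QuasiCompact.compactSpace_of_compactSpace (pullback.snd g₁ (D.map χ))
  have : CompactSpace Z₂' := QuasiCompact.compactSpace_of_compactSpace h₂'
  have : QuasiSeparatedSpace ↥(pullback g₁ (D.map χ)) :=
    quasiSeparatedSpace_of_quasiSeparated (pullback.snd g₁ (D.map χ))
  have : QuasiSeparatedSpace Z₂' := quasiSeparatedSpace_of_quasiSeparated h₂'
  let Uab : Bool → Z.Opens := fun k ↦ Bool.rec b.opensRange a.opensRange k
  have hUab : IsOpenCover Uab := top_le_iff.mp fun x _ ↦ by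
    obtain hx | hx := hcov x
    · exact Opens.mem_iSup.mpr ⟨true, hx⟩
    · exact Opens.mem_iSup.mpr ⟨false, hx⟩
  have : CompactSpace Z := by
    refine ⟨?_⟩
    rw [show (Set.univ : Set Z) = Set.range a ∪ Set.range b from
      (Set.eq_univ_of_forall hcov).symm]
    exact (isCompact_range a.continuous).union (isCompact_range b.continuous)
  have : CompactSpace O' := by
    have : IsAffineHom pO := MorphismProperty.of_isPullback sqO'.flip inferInstance
    exact QuasiCompact.compactSpace_of_compactSpace pO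
  have hinter : Set.range a ∩ Set.range b = Set.range (a' ≫ a) := by
    ext t
    constructor
    · rintro ⟨⟨x, rfl⟩, y, hy⟩
      obtain ⟨w, hw, -⟩ := hov x y hy.symm
      exact ⟨w, by rw [Scheme.Hom.comp_apply, hw]⟩
    · rintro ⟨w, rfl⟩
      exact ⟨⟨_, (Scheme.Hom.comp_apply _ _ _).symm⟩,
        d w, by rw [← Scheme.Hom.comp_apply, ← hab]⟩
  have : QuasiSeparatedSpace Z := by
    have hqs : ∀ {W : Scheme.{u}} (e : W ⟶ Z) [IsOpenImmersion e] [QuasiSeparatedSpace W],
        IsQuasiSeparated (Set.range e) := fun e _ _ ↦ by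
      rw [← Set.image_univ]
      exact (isQuasiSeparated_univ_iff.mpr ‹_›).image_of_isEmbedding e.isOpenEmbedding.isEmbedding
    have hc' : IsCompact (Set.range a ∩ Set.range b) :=
      hinter ▸ isCompact_range (a' ≫ a).continuous
    refine QuasiSeparatedSpace.of_isOpenCover hUab (fun k ↦ ?_) (fun k ↦ ?_)
    · cases k
      · exact isRetrocompact_of_cover (A := b.opensRange) (B := a.opensRange) (fun x ↦ (hcov x).symm)
          ((hqs a)) (Set.inter_comm _ _ ▸ hc')
      · exact isRetrocompact_of_cover (A := a.opensRange) (B := b.opensRange) hcov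
          ((hqs b)) hc'
    · cases k
      · exact (hqs b)
      · exact (hqs a)
  have : LocallyOfFinitePresentation z := by
    refine (IsZariskiLocalAtSource.iff_of_iSup_eq_top (P := @LocallyOfFinitePresentation) Uab
      hUab).mpr fun k ↦ ?_
    cases k
    · change LocallyOfFinitePresentation (b.opensRange.ι ≫ z)
      rw [← b.isoOpensRange_inv_comp, Category.assoc, hbz]
      infer_instance
    · change LocallyOfFinitePresentation (a.opensRange.ι ≫ z)
      rw [← a.isoOpensRange_inv_comp, Category.assoc, haz]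
      infer_instance
  exact ⟨n, Z, z, r, this, quasiCompact_of_compactSpace z, inferInstance, hpb⟩

include hc in
/-- EGA IV 8.8.2 (ii): finitely presented schemes over the limit come from a stage. -/
theorem exists_stage_scheme {X : Scheme.{u}} (f : X ⟶ c.pt) [LocallyOfFinitePresentation f]
    [QuasiCompact f] [QuasiSeparated f] : Descendable D c f := by
  classical
  obtain ⟨i⟩ := IsCofiltered.nonempty (C := I)
  have : IsAffineHom (c.π.app i) := isAffineHom_π_app D c hc i
  have : CompactSpace c.pt := QuasiCompact.compactSpace_of_compactSpace (c.π.app i)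
  have : CompactSpace X := QuasiCompact.compactSpace_of_compactSpace f
  have hnb : ∀ x : X, ∃ (W : (D.obj i).Opens) (V : X.Opens), IsAffineOpen W ∧ IsAffineOpen V ∧
      x ∈ V ∧ V ≤ (f ≫ c.π.app i) ⁻¹ᵁ W := fun x ↦ by
    obtain ⟨W, hW, hxW, -⟩ := Opens.isBasis_iff_nbhd.mp (D.obj i).isBasis_affineOpens
      (Opens.mem_top ((f ≫ c.π.app i) x))
    obtain ⟨V, hV, hxV, hVW⟩ := Opens.isBasis_iff_nbhd.mp X.isBasis_affineOpens
      (show x ∈ (f ≫ c.π.app i) ⁻¹ᵁ W from hxW)
    exact ⟨W, V, hW, hV, hxV, hVW⟩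
  choose W V hW hV hxV hVW using hnb
  have haff : ∀ U : X.Opens, IsAffineOpen U → ∀ x, U ≤ (f ≫ c.π.app i) ⁻¹ᵁ W x →
      Descendable D c (U.ι ≫ f) := fun U hU x hUx ↦ by
    have : IsAffine U.toScheme := hU
    refine descendable_affine hc _ i (hW x) ?_
    rintro _ ⟨y, rfl⟩
    exact hUx y.2
  obtain ⟨t, ht⟩ := CompactSpace.isCompact_univ.elim_finite_subcover (fun x ↦ (V x : Set X))
    (fun x ↦ (V x).2) fun x _ ↦ Set.mem_iUnion.mpr ⟨x, hxV x⟩
  have key : ∀ s : Finset X, IsCompact ((s.sup V : X.Opens) : Set X) ∧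
      Descendable D c ((s.sup V).ι ≫ f) := by
    intro s
    induction s using Finset.induction_on with
    | empty =>
      refine ⟨by simp, ?_⟩
      rw [Finset.sup_empty]
      have : IsAffine (⊥ : X.Opens).toScheme := isAffineOpen_bot X
      refine descendable_affine hc _ i (isAffineOpen_bot (D.obj i)) ?_
      rintro _ ⟨y, rfl⟩
      exact y.2.elim
    | insert a s _ ih =>
      rw [Finset.sup_insert]
      refine ⟨?_, descendable_sup hc f (hV a).isCompact ih.1 (haff _ (hV a) a (hVW a)) ih.2⟩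
      rw [Opens.coe_sup]
      exact (hV a).isCompact.union ih.1
  have htop : t.sup V = ⊤ := top_le_iff.mp fun x _ ↦ by
    obtain ⟨y, hy, hxy⟩ := Set.mem_iUnion₂.mp (ht (Set.mem_univ x))
    exact (Finset.le_sup (f := V) hy) hxy
  have := (key t).2
  rw [htop] at this
  have h2 := descendable_of_iso this X.topIso.inv
  rwa [← Category.assoc, ← Scheme.topIso_hom, Iso.inv_hom_id, Category.id_comp] at h2

end Groth.Agent.H8Lim
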