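import Groth.Agent.H8Lim.AffineLocHom
import Groth.Agent.H8Lim.Approximation
import Groth.Agent.Coherent.SubFTApps
import Groth.Agent.Coherent.FinitePres
import Groth.Agent.Desc19b.ModStFibGrpd

/-!
# Modules of finite type are quotients of pullbacks of finitely presented ones

For `g : Y → X` affine with `X` quasi-compact and quasi-separated, every quasi-coherent module of
finite type on `Y` receives an epimorphism from the pullback of a finitely presented module on `X`.
-/

set_option autoImplicit false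
set_option backward.isDefEq.respectTransparency false

universe u

open CategoryTheory CategoryTheory.Limits AlgebraicGeometry Opposite TopologicalSpace
open Groth.Agent.Coherent Groth.Agent.PicLib

namespace Groth.Agent.H8Lim

variable {X Y : Scheme.{u}}

/-- A morphism as a family. -/
noncomputable def homLocTop {F N : Y.Modules} (φ : F ⟶ N) : locHom F N ⊤ :=
  ⟨fun W _ => (φ.app W).hom, fun _ _ r a => Scheme.Modules.Hom.app_smul φ r a,
    fun _ _ _ h a => (app_resM φ h a).symm⟩

/-- A finite type quotient, by a pullback of a finite type module. -/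
theorem exists_epi_pullback_ft (g : Y ⟶ X) [IsAffineHom g] [CompactSpace X]
    [QuasiSeparatedSpace X] (F : Y.Modules) [Coh.IsQCoh F] (hF : CohB1.IsFT F) :
    ∃ (G : X.Modules) (φ : (Scheme.Modules.pullback g).obj G ⟶ F),
      Coh.IsQCoh G ∧ CohB1.IsFT G ∧ Epi φ := by
  classical
  let N := (Scheme.Modules.pushforward g).obj F
  have : Coh.IsQCoh N := isQCoh_push g F
  obtain ⟨t, ht, hcov⟩ := isCompact_iff_finite_and_eq_biUnion_affineOpens.1
    (show IsCompact ((⊤ : X.Opens) : Set X) from isCompact_univ)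
  have := ht.to_subtype
  have hgen : ∀ k : t, ∃ S : Finset Γ(F, g ⁻¹ᵁ k.1.1),
      Submodule.span Γ(Y, g ⁻¹ᵁ k.1.1) (S : Set Γ(F, g ⁻¹ᵁ k.1.1)) = ⊤ := fun k =>
    (finite_sections F (locallyFinGen_of_isFT F hF) (k.1.2.preimage g)).fg_top
  choose S hS using hgen
  have hQ : ∀ k : t, ∃ Q : SubM N, Q.Good ⊤ ∧ ∀ s : S k, (show Γ(N, k.1.1) from s.1) ∈ Q.carrier k.1.1 :=
    fun k => exists_good_containing_qcqs (F := N) k.1.2.isCompact (fun s : S k => s.1)
  choose Q hQg hQs using hQ
  let P := SubM.sum Q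
  have hP : P.Good ⊤ := SubM.good_sum Q hQg
  let G := P.toMod
  have hG : Coh.IsQCoh G := SubM.isQCoh hP
  refine ⟨G, ((Scheme.Modules.pullbackPushforwardAdjunction g).homEquiv G F).symm P.toι, hG,
    SubM.isFT hP, ⟨fun {N'} u v huv => ?_⟩⟩
  have hloc : homLocTop u = homLocTop v := by
    refine locHom_ext_cover (fun k : t => g ⁻¹ᵁ k.1.1) (fun k => k.1.2.preimage g)
      (fun _ => le_top) (fun y _ => ?_) (fun k => (S k : Set Γ(F, g ⁻¹ᵁ k.1.1))) hS fun k s hs => ?_
    · have : g y ∈ (⊤ : X.Opens) := trivial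
      rw [hcov] at this
      simp only [Opens.mem_iSup] at this
      obtain ⟨j, hj, hy⟩ := this
      exact ⟨⟨j, hj⟩, hy⟩
    · have hmem := P.mem_range_toι.2 (SubM.le_sum Q k k.1.1 (hQs k ⟨s, hs⟩))
      obtain ⟨s', hs'⟩ := hmem
      have e := congr(($huv).app (g ⁻¹ᵁ k.1.1) (pullSec g s'))
      rw [Scheme.Modules.Hom.comp_app, Scheme.Modules.Hom.comp_app, ConcreteCategory.comp_apply,
        ConcreteCategory.comp_apply, homEquiv_symm_app_pullSec, hs'] at e
      exact e
  refine Scheme.Modules.hom_ext _ _ fun U => ConcreteCategory.hom_ext _ _ fun a => ?_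
  exact congrArg (fun θ : locHom F N' ⊤ => ev θ U le_top a) hloc

/-- A finitely presented quotient: modules of finite type on `Y` are quotients of pullbacks of
finitely presented modules on `X`. -/
theorem exists_epi_pullback_fp (g : Y ⟶ X) [IsAffineHom g] [CompactSpace X]
    [QuasiSeparatedSpace X] (F : Y.Modules) [Coh.IsQCoh F] (hF : CohB1.IsFT F) :
    ∃ (P : X.Modules) (φ : (Scheme.Modules.pullback g).obj P ⟶ F),
      Coh.IsQCoh P ∧ CohB1.IsFP P ∧ Epi φ := by
  have : IsNoetherianRing (ULift.{u} ℤ) := isNoetherianRing_of_ringEquiv ℤ ULift.ringEquiv.symm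
  have : IsNoetherianRing (CommRingCat.of (ULift.{u} ℤ)) := this
  obtain ⟨Z, a, f₁, ha, hZc, hZq, hlft, -⟩ :=
    exists_isAffineHom_locallyOfFiniteType (R := Spec (CommRingCat.of (ULift.{u} ℤ)))
      (S := X) (specULiftZIsTerminal.from X)
  have := ha
  have := hlft
  have : IsLocallyNoetherian Z := LocallyOfFiniteType.isLocallyNoetherian f₁
  obtain ⟨G, ψ, hG, hGt, hψ⟩ := exists_epi_pullback_ft (g ≫ a) F hF
  have := hG
  have := EGA43.InjFibre.isQCoh_pullback a G
  refine ⟨(Scheme.Modules.pullback a).obj G,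
    (Scheme.Modules.pullbackComp g a).hom.app G ≫ ψ, this,
    Desc19b.ModStFib.isFP_pullback a G (isFP_of_isCoh ⟨hG, hGt⟩), ?_⟩
  have := hψ
  exact epi_comp _ _

end Groth.Agent.H8Lim
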