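import Groth.Agent.H8Lim.ModHomDescent
import Groth.Agent.H8Lim.ModEpiStage
import Groth.Agent.EGA43.FPKernel

/-!
# EGA IV 8.5.2 (ii): finitely presented modules and their quotients descend to a stage
-/

set_option autoImplicit false
set_option backward.isDefEq.respectTransparency false
set_option maxHeartbeats 800000

universe u

open CategoryTheory CategoryTheory.Limits AlgebraicGeometry Opposite TopologicalSpace
open Groth.Agent.Coherent Groth.Agent.PicLib

namespace Groth.Agent.H8Lim

/-- Cokernels of maps from finite type to finitely presented modules are finitely presented. -/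
theorem isFP_cokernel {X : Scheme.{u}} {M N : X.Modules} [Coh.IsQCoh M] [Coh.IsQCoh N] (f : M ⟶ N)
    (hM : CohB1.IsFT M) (hN : CohB1.IsFP N) : CohB1.IsFP (cokernel f) := by
  have : Coh.IsQCoh (cokernel f) := isQCoh_cokernel f
  refine EGA43.FPKernel.isFP_of_forall_exists_affine _ fun x => ?_
  obtain ⟨U, hU, hx, -⟩ := Opens.isBasis_iff_nbhd.mp X.isBasis_affineOpens (Opens.mem_top x)
  have := finite_sections_of_isFT hM hU
  have := EGA43.QcohFP.finitePresentation_sections N hN hU
  refine ⟨U, hU, hx, Module.finitePresentation_of_surjective (appLin (cokernel.π f) U)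
    (app_surjective_of_epi (cokernel.π f) hU) ?_⟩
  have hker : LinearMap.ker (appLin (cokernel.π f) U) = LinearMap.range (appLin f U) := by
    ext n
    constructor
    · intro hn
      have : Coh.IsQCoh (Abelian.image f) := isQCoh_kernel (cokernel.π f)
      obtain ⟨k, hk⟩ := kernel_sections_exact (cokernel.π f) n hn
      obtain ⟨m, hm⟩ := app_surjective_of_epi (Abelian.factorThruImage f) hU k
      refine ⟨m, ?_⟩
      show f.app U m = n
      rw [← hk, ← hm]
      exact congr(($(Abelian.image.fac f)).app U m).symm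
    · rintro ⟨m, rfl⟩
      exact congr(($(cokernel.condition f)).app U m)
  rw [hker, LinearMap.range_eq_map]
  exact Module.Finite.fg_top.map _

variable {I : Type u} [SmallCategory I] [IsCofiltered I] {D : I ⥤ Scheme.{u}} {c : Cone D}
  [∀ {i j : I} (f : i ⟶ j), IsAffineHom (D.map f)] (hc : IsLimit c) {i : I}

include hc in
/-- Finitely presented quotients descend. -/
theorem exists_stage_quotient [CompactSpace (D.obj i)] [QuasiSeparatedSpace (D.obj i)]
    (F₀ : (D.obj i).Modules) [Coh.IsQCoh F₀] (hF₀ : CohB1.IsFP F₀) {G : c.pt.Modules}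
    [Coh.IsQCoh G] (hG : CohB1.IsFP G) (p : (Scheme.Modules.pullback (c.π.app i)).obj F₀ ⟶ G)
    [Epi p] :
    ∃ (j : I) (φ : j ⟶ i) (Gj : (D.obj j).Modules) (_ : Coh.IsQCoh Gj)
      (pj : (Scheme.Modules.pullback (D.map φ)).obj F₀ ⟶ Gj)
      (e : (Scheme.Modules.pullback (c.π.app j)).obj Gj ≅ G),
      CohB1.IsFP Gj ∧ Epi pj ∧
        ((pullStageIso c φ).app F₀).inv ≫ (Scheme.Modules.pullback (c.π.app j)).map pj ≫ e.hom = p := by
  have := isAffineHom_π_app D c hc i
  have := EGA43.InjFibre.isQCoh_pullback (c.π.app i) F₀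
  have : Coh.IsQCoh (kernel p) := isQCoh_kernel p
  obtain ⟨Q, q, hQ, hQfp, hq⟩ := exists_epi_pullback_fp (c.π.app i) (kernel p)
    (isFT_kernel_of_fp p
      (isFT_pullback_qcoh (c.π.app i) ‹Coh.IsQCoh F₀› (haveI := hF₀; inferInstance)) hG)
  have := hQ
  have := hq
  obtain ⟨j, φ, u, hu⟩ := exists_stage_modHom hc Q F₀ hQfp (q ≫ kernel.ι p)
  have := EGA43.InjFibre.isQCoh_pullback (D.map φ) Q
  have := EGA43.InjFibre.isQCoh_pullback (D.map φ) F₀
  let π := Scheme.Modules.pullback (c.π.app j)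
  let α := (pullStageIso c φ).app F₀
  have hc1 := CokernelCofork.mapIsColimit _ (cokernelIsCokernel u) π
  have w : π.map u ≫ α.hom ≫ p = 0 := by
    rw [← cancel_epi ((pullStageIso c φ).app Q).inv, comp_zero]
    calc ((pullStageIso c φ).app Q).inv ≫ π.map u ≫ α.hom ≫ p
        = (((pullStageIso c φ).app Q).inv ≫ π.map u ≫ α.hom) ≫ p := by simp only [Category.assoc]
      _ = 0 := by rw [hu, Category.assoc, kernel.condition, comp_zero]
  have hc2 : IsColimit (CokernelCofork.ofπ (α.hom ≫ p) w) := by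
    refine CokernelCofork.IsColimit.ofπ' _ _ fun {A} k hk => ?_
    have hk' : kernel.ι p ≫ α.inv ≫ k = 0 := by
      rw [← cancel_epi q, comp_zero, ← Category.assoc, ← hu]
      simp only [α, Category.assoc, Iso.hom_inv_id_assoc]
      erw [hk, comp_zero]
    obtain ⟨d, hd⟩ := CokernelCofork.IsColimit.desc'
      (Abelian.epiIsCokernelOfKernel _ (kernelIsKernel p)) (α.inv ≫ k) hk'
    refine ⟨d, ?_⟩
    have hd' : p ≫ d = α.inv ≫ k := hd
    rw [Category.assoc, hd', Iso.hom_inv_id_assoc]
  let e := hc1.coconePointUniqueUpToIso hc2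
  have he : π.map (cokernel.π u) ≫ e.hom = α.hom ≫ p :=
    IsColimit.comp_coconePointUniqueUpToIso_hom hc1 hc2 WalkingParallelPair.one
  refine ⟨j, φ, cokernel u, isQCoh_cokernel u, cokernel.π u, e,
    isFP_cokernel u (isFT_pullback_qcoh (D.map φ) hQ (haveI := hQfp; inferInstance))
      (Desc19b.ModStFib.isFP_pullback (D.map φ) F₀ hF₀), inferInstance, ?_⟩
  rw [he]
  exact α.inv_hom_id_assoc p

include hc in
/-- Finitely presented modules descend. -/
theorem exists_stage_fpModule [CompactSpace (D.obj i)] [QuasiSeparatedSpace (D.obj i)]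
    (F : c.pt.Modules) [Coh.IsQCoh F] (hF : CohB1.IsFP F) :
    ∃ (j : I) (_ : j ⟶ i) (Fj : (D.obj j).Modules), Coh.IsQCoh Fj ∧ CohB1.IsFP Fj ∧
      Nonempty ((Scheme.Modules.pullback (c.π.app j)).obj Fj ≅ F) := by
  have := isAffineHom_π_app D c hc i
  obtain ⟨P, p, hP, hPfp, hp⟩ := exists_epi_pullback_fp (c.π.app i) F (haveI := hF; inferInstance)
  have := hP
  have := hp
  obtain ⟨j, φ, G, hG, pj, e, hfp, -, -⟩ := exists_stage_quotient hc P hPfp hF p
  exact ⟨j, φ, G, hG, hfp, ⟨e⟩⟩

end Groth.Agent.H8Lim
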