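import Groth.Agent.ConsPropLib.PairProps

/-!
Isomorphisms after a field extension exist after a finite extension.
-/

set_option autoImplicit false
set_option backward.isDefEq.respectTransparency.types false

universe u

open CategoryTheory Limits AlgebraicGeometry

namespace Groth.Agent.H8Lim.FiniteExtensionWitness

open ConsPropLib

/-- A witness after a field extension spreads to an affine scheme of finite type over the field. -/
theorem exists_ft_witness {k K : Type u} [Field k] [Field K] [Algebra k K]
    {Q : MorphismProperty Scheme.{u}} [Q.IsStableUnderBaseChange] (hQd : DescendsNoeth Q)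
    {X Y : Scheme.{u}} (u : X ⟶ Spec (.of k)) (v : Y ⟶ Spec (.of k))
    [LocallyOfFiniteType u] [QuasiCompact u] [LocallyOfFiniteType v] [QuasiCompact v]
    (gK : pullback u (Spec.map (CommRingCat.ofHom (algebraMap k K))) ⟶
      pullback v (Spec.map (CommRingCat.ofHom (algebraMap k K))))
    (hg : gK ≫ pullback.snd _ _ = pullback.snd _ _) (hQ : Q gK) :
    ∃ (W : Scheme.{u}) (t : W ⟶ Spec (.of k)) (g : pullback u t ⟶ pullback v t),
      IsAffine W ∧ Nonempty W ∧ LocallyOfFiniteType t ∧
        g ≫ pullback.snd v t = pullback.snd u t ∧ Q g := by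
  obtain ⟨I, _, _, D, c, hc, e, t, he, hobj, htπ, htm⟩ := exists_fp_system k K
  let q := Spec.map (CommRingCat.ofHom (algebraMap k K))
  have haff : ∀ (i j : I) (f : i ⟶ j), IsAffineHom (D.map f) := fun i j f => by
    have := (hobj i).1
    have := (hobj j).1
    infer_instance
  obtain ⟨i⟩ := IsCofiltered.nonempty (C := I)
  have sX : IsPullback (pullback.fst u q) (pullback.snd u q ≫ inv e) u (c.π.app i ≫ t i) :=
    (IsPullback.of_hasPullback u q).of_iso (Iso.refl _) (Iso.refl _) (asIso e).symm (Iso.refl _)
      (by simp) (by simp) (by simp) (by simp [htπ, q])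
  have sY : IsPullback (pullback.fst v q) (pullback.snd v q ≫ inv e) v (c.π.app i ≫ t i) :=
    (IsPullback.of_hasPullback v q).of_iso (Iso.refl _) (Iso.refl _) (asIso e).symm (Iso.refl _)
      (by simp) (by simp) (by simp) (by simp [htπ, q])
  let rX : pullback u q ⟶ pullback u (t i) :=
    pullback.lift (pullback.fst u q) ((pullback.snd u q ≫ inv e) ≫ c.π.app i)
      (by rw [Category.assoc]; exact sX.w)
  let rY : pullback v q ⟶ pullback v (t i) :=
    pullback.lift (pullback.fst v q) ((pullback.snd v q ≫ inv e) ≫ c.π.app i)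
      (by rw [Category.assoc]; exact sY.w)
  have hX₀ : IsPullback rX (pullback.snd u q ≫ inv e) (pullback.snd u (t i)) (c.π.app i) :=
    IsPullback.of_right (by simp only [rX, pullback.lift_fst]; exact sX)
      (pullback.lift_snd _ _ _) (IsPullback.of_hasPullback u (t i))
  have hY₀ : IsPullback rY (pullback.snd v q ≫ inv e) (pullback.snd v (t i)) (c.π.app i) :=
    IsPullback.of_right (by simp only [rY, pullback.lift_fst]; exact sY)
      (pullback.lift_snd _ _ _) (IsPullback.of_hasPullback v (t i))
  have := (hobj i).2.1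
  have := (hobj i).1
  have hXn : IsNoetherian (pullback u (t i)) := isNoetherian_of_lft (pullback.snd u (t i))
  obtain ⟨j, ψ, gj, sj, hgj, hsj1, hsj2, hsj3⟩ := H8Lim.exists_stage_hom (D := D) hc hX₀
    (yi := pullback.snd v (t i)) (gK ≫ rY) (by
      rw [Category.assoc, hY₀.w, ← Category.assoc gK, ← Category.assoc gK, hg, hX₀.w])
  let g₁ : pullback (pullback.snd u (t i)) (D.map ψ) ⟶ pullback (pullback.snd v (t i)) (D.map ψ) :=
    pullback.lift gj (pullback.snd _ _) (by rw [hgj, pullback.condition])
  have hg₁ : g₁ ≫ pullback.snd (pullback.snd v (t i)) (D.map ψ) =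
      pullback.snd (pullback.snd u (t i)) (D.map ψ) := pullback.lift_snd _ _ _
  let rYj : pullback v q ⟶ pullback (pullback.snd v (t i)) (D.map ψ) :=
    pullback.lift rY ((pullback.snd v q ≫ inv e) ≫ c.π.app j)
      (by rw [hY₀.w, Category.assoc _ _ (D.map ψ), c.w])
  have hYj : IsPullback rYj (pullback.snd v q ≫ inv e) (pullback.snd (pullback.snd v (t i)) (D.map ψ))
      (c.π.app j) :=
    IsPullback.of_right (by simp only [rYj, pullback.lift_fst, c.w]; exact hY₀)
      (pullback.lift_snd _ _ _) (IsPullback.of_hasPullback _ _)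
  have hXj : IsPullback sj (pullback.snd u q ≫ inv e) (pullback.snd (pullback.snd u (t i)) (D.map ψ))
      (c.π.app j) :=
    IsPullback.of_right (by rw [hsj1, c.w]; exact hX₀) hsj2 (IsPullback.of_hasPullback _ _)
  have hgK' : gK ≫ pullback.snd v q ≫ inv e = pullback.snd u q ≫ inv e := by
    rw [← Category.assoc, hg]
  have hsq : IsPullback sj gK g₁ rYj := by
    refine IsPullback.of_bot ?_ ?_ hYj
    · rw [hg₁, hgK']; exact hXj
    · apply pullback.hom_ext
      · simp only [g₁, rYj, Category.assoc, pullback.lift_fst, hsj3]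
      · simp only [g₁, rYj, Category.assoc, pullback.lift_snd, hsj2]
        exact (reassoc_of% hgK') (c.π.app j) |>.symm
  have := (hobj j).2.1
  have := (hobj j).1
  have : IsNoetherian (pullback (pullback.snd u (t i)) (D.map ψ)) :=
    isNoetherian_of_lft (pullback.snd (pullback.snd u (t i)) (D.map ψ))
  have : IsNoetherian (pullback (pullback.snd v (t i)) (D.map ψ)) :=
    isNoetherian_of_lft (pullback.snd (pullback.snd v (t i)) (D.map ψ))
  have : LocallyOfFiniteType (g₁ ≫ pullback.snd (pullback.snd v (t i)) (D.map ψ)) := by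
    rw [hg₁]; infer_instance
  have : LocallyOfFiniteType g₁ :=
    locallyOfFiniteType_of_comp g₁ (pullback.snd (pullback.snd v (t i)) (D.map ψ))
  obtain ⟨l, θ, Xl, Yl, fl, gl, pY, pX, hYl, hXl, hQl⟩ :=
    hQd D c hc j g₁ _ gK _ rYj sj hYj hsq hQ
  have wX : IsPullback (pX ≫ pullback.fst _ _ ≫ pullback.fst u (t i)) (fl ≫ gl) u (t l) := by
    have h1 := hXl.paste_vert hYl
    rw [hg₁] at h1
    have h2 := (h1.paste_horiz (IsPullback.of_hasPullback _ (D.map ψ))).paste_horiz
      (IsPullback.of_hasPullback u (t i))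
    rw [show (D.map θ ≫ D.map ψ) ≫ t i = t l by rw [← D.map_comp, htm]] at h2
    simpa only [Category.assoc] using h2
  have wY : IsPullback (pY ≫ pullback.fst _ _ ≫ pullback.fst v (t i)) gl v (t l) := by
    have h2 := (hYl.paste_horiz (IsPullback.of_hasPullback _ (D.map ψ))).paste_horiz
      (IsPullback.of_hasPullback v (t i))
    rw [show (D.map θ ≫ D.map ψ) ≫ t i = t l by rw [← D.map_comp, htm]] at h2
    simpa only [Category.assoc] using h2
  refine ⟨D.obj l, t l, wX.isoPullback.inv ≫ fl ≫ wY.isoPullback.hom, (hobj l).1,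
    ⟨c.π.app l (inv e (default : Spec (CommRingCat.of K)))⟩, ?_, ?_, ?_⟩
  · have := (hobj l).2.2
    infer_instance
  · simp only [Category.assoc, IsPullback.isoPullback_hom_snd]
    exact wX.isoPullback_inv_snd
  · rw [MorphismProperty.cancel_left_of_respectsIso Q, MorphismProperty.cancel_right_of_respectsIso Q]
    exact hQl

/-- A witness after a field extension gives one after a finite extension. -/
theorem exists_finite_witness {k K : Type u} [Field k] [Field K] [Algebra k K]
    {Q : MorphismProperty Scheme.{u}} [Q.IsStableUnderBaseChange] (hQd : DescendsNoeth Q)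
    {X Y : Scheme.{u}} (u : X ⟶ Spec (.of k)) (v : Y ⟶ Spec (.of k))
    [LocallyOfFiniteType u] [QuasiCompact u] [LocallyOfFiniteType v] [QuasiCompact v]
    (gK : pullback u (Spec.map (CommRingCat.ofHom (algebraMap k K))) ⟶
      pullback v (Spec.map (CommRingCat.ofHom (algebraMap k K))))
    (hg : gK ≫ pullback.snd _ _ = pullback.snd _ _) (hQ : Q gK) :
    ∃ (k' : Type u) (_ : Field k') (_ : Algebra k k') (_ : Module.Finite k k')
      (g : pullback u (Spec.map (CommRingCat.ofHom (algebraMap k k'))) ⟶
        pullback v (Spec.map (CommRingCat.ofHom (algebraMap k k')))),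
      g ≫ pullback.snd _ _ = pullback.snd _ _ ∧ Q g := by
  obtain ⟨W, t, g, hW, hne, hlft, hgt, hQg⟩ := exists_ft_witness hQd u v gK hg hQ
  obtain ⟨φ, hφ⟩ := Spec.map_surjective (W.isoSpec.inv ≫ t)
  have : LocallyOfFiniteType (Spec.map φ) := by rw [hφ]; infer_instance
  have hφft : φ.hom.FiniteType := (HasRingHomProperty.Spec_iff (P := @LocallyOfFiniteType)).mp this
  letI : Algebra k Γ(W, ⊤) := φ.hom.toAlgebra
  have : Algebra.FiniteType k Γ(W, ⊤) := hφft
  have : Nontrivial Γ(W, ⊤) := by
    obtain ⟨w⟩ := hne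
    exact PrimeSpectrum.nontrivial (W.isoSpec.hom w)
  obtain ⟨m, hm⟩ := Ideal.exists_maximal Γ(W, ⊤)
  letI : Field (Γ(W, ⊤) ⧸ m) := Ideal.Quotient.field m
  have : Algebra.FiniteType k (Γ(W, ⊤) ⧸ m) :=
    Algebra.FiniteType.of_surjective (Ideal.Quotient.mkₐ k m) (Ideal.Quotient.mkₐ_surjective k m)
  let k' := Γ(W, ⊤) ⧸ m
  let a : Spec (.of k') ⟶ W := Spec.map (CommRingCat.ofHom (Ideal.Quotient.mk m)) ≫ W.isoSpec.inv
  let q := Spec.map (CommRingCat.ofHom (algebraMap k k'))
  have ha : a ≫ t = q := by
    rw [Category.assoc, ← hφ, ← Spec.map_comp]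
    rfl
  have cX : IsPullback (pullback.lift (pullback.fst u q) (pullback.snd u q ≫ a)
      (by rw [Category.assoc, ha, pullback.condition])) (pullback.snd u q) (pullback.snd u t) a := by
    refine IsPullback.of_right ?_ (pullback.lift_snd _ _ _) (IsPullback.of_hasPullback u t)
    rw [pullback.lift_fst, ha]
    exact IsPullback.of_hasPullback u q
  have cY : IsPullback (pullback.lift (pullback.fst v q) (pullback.snd v q ≫ a)
      (by rw [Category.assoc, ha, pullback.condition])) (pullback.snd v q) (pullback.snd v t) a := by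
    refine IsPullback.of_right ?_ (pullback.lift_snd _ _ _) (IsPullback.of_hasPullback v t)
    rw [pullback.lift_fst, ha]
    exact IsPullback.of_hasPullback v q
  let g' := cY.lift (pullback.lift (pullback.fst u q) (pullback.snd u q ≫ a)
      (by rw [Category.assoc, ha, pullback.condition]) ≫ g) (pullback.snd u q)
    (by rw [Category.assoc, hgt, pullback.lift_snd])
  have hg' : g' ≫ pullback.snd v q = pullback.snd u q := cY.lift_snd _ _ _
  refine ⟨k', inferInstance, inferInstance, finite_of_finite_type_of_isJacobsonRing k k', g', hg', ?_⟩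
  refine Q.of_isPullback (IsPullback.of_bot ?_ (cY.lift_fst _ _ _).symm cY) hQg
  rw [hg', hgt]
  exact cX

end Groth.Agent.H8Lim.FiniteExtensionWitness
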