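import Groth.Agent.H8Lim.Constructible
import Groth.Agent.EGA43.InjFibre.InjLimitScheme

/-!
# Ideals of finite type vanishing or becoming the unit ideal on a limit do so at a stage
-/

set_option autoImplicit false
set_option backward.isDefEq.respectTransparency false

universe u

open CategoryTheory CategoryTheory.Limits AlgebraicGeometry Opposite TopologicalSpace
open Groth.Agent.EGA43.InjFibre

namespace Groth.Agent.H8Lim

/-- A function killed on the limit is killed at a stage: general form. -/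
theorem exists_stage_app_eq_zero_aux {J : Type u} [SmallCategory J] [IsCofiltered J]
    {E : J ⥤ Scheme.{u}} [∀ {i j} (f : i ⟶ j), IsAffineHom (E.map f)] {Y X : Scheme.{u}}
    (π : ∀ j, Y ⟶ E.obj j) (hπ : ∀ {j k} (φ : j ⟶ k), π j ≫ E.map φ = π k)
    (hlim : IsLimit (Cone.mk Y ⟨fun j => π j, fun j k φ => (Category.id_comp _).trans (hπ φ).symm⟩ :
      Cone E))
    (p : ∀ j, E.obj j ⟶ X) [∀ j, IsAffineHom (p j)]
    (hp : ∀ {j k} (φ : j ⟶ k), E.map φ ≫ p k = p j) (q : Y ⟶ X) [IsAffineHom q]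
    (hp' : ∀ j, π j ≫ p j = q) {U : X.Opens} (hU : IsAffineOpen U) (r : Γ(X, U))
    (hr : q.app U r = 0) : ∃ j, (p j).app U r = 0 := by
  let _ : ∀ j, Algebra Γ(X, U) Γ(E.obj j, p j ⁻¹ᵁ U) := fun j =>
    ((p j).appLE U (p j ⁻¹ᵁ U) le_rfl).hom.toAlgebra
  let _ : Algebra Γ(X, U) Γ(Y, q ⁻¹ᵁ U) := (q.appLE U (q ⁻¹ᵁ U) le_rfl).hom.toAlgebra
  have hs := colimSys_preimage hlim p hp q hp' hU
  obtain ⟨j₀⟩ := hs.nonempty
  have h0 : algebraMap Γ(X, U) Γ(Y, q ⁻¹ᵁ U) r = 0 := by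
    show q.appLE U (q ⁻¹ᵁ U) le_rfl r = 0
    rw [← Scheme.Hom.app_eq_appLE]
    exact hr
  obtain ⟨j, h, hh⟩ := hs.kill j₀ (algebraMap _ _ r) (by rw [AlgHom.commutes, h0])
  refine ⟨j, ?_⟩
  rw [AlgHom.commutes] at hh
  rw [Scheme.Hom.app_eq_appLE]
  exact hh

theorem comap_eq_bot_iff {X Y : Scheme.{u}} (f : Y ⟶ X) [QuasiCompact f] (J : X.IdealSheafData) :
    J.comap f = ⊥ ↔ ∀ U : X.affineOpens, J.ideal U ≤ RingHom.ker (f.app U.1).hom := by
  rw [← le_bot_iff, ← Scheme.IdealSheafData.le_map_iff_comap_le, Scheme.IdealSheafData.map_bot]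
  exact ⟨fun h U => (h U).trans (Scheme.Hom.ker_apply f U).le,
    fun h U => (h U).trans (Scheme.Hom.ker_apply f U).ge⟩

theorem comap_eq_bot_of_cover {X Y : Scheme.{u}} (f : Y ⟶ X) [QuasiCompact f]
    (J : X.IdealSheafData) {ι : Type*} (U : ι → X.affineOpens) (hU : ⨆ k, (U k).1 = ⊤)
    (h : ∀ k, J.ideal (U k) ≤ RingHom.ker (f.app (U k).1).hom) : J.comap f = ⊥ := by
  rw [← le_bot_iff, ← Scheme.IdealSheafData.le_map_iff_comap_le, Scheme.IdealSheafData.map_bot]
  exact Scheme.IdealSheafData.le_of_iSup_eq_top U hU fun k => (h k).trans (Scheme.Hom.ker_apply f _).ge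

variable {I : Type u} [SmallCategory I] [IsCofiltered I] {D : I ⥤ Scheme.{u}} {c : Cone D}
  [∀ {i j : I} (f : i ⟶ j), IsAffineHom (D.map f)] (hc : IsLimit c) {i : I}

include hc in
/-- A function killed on the limit is killed at a stage. -/
theorem exists_stage_app_eq_zero {U : (D.obj i).Opens} (hU : IsAffineOpen U) (r : Γ(D.obj i, U))
    (hr : (c.π.app i).app U r = 0) : ∃ (j : I) (φ : j ⟶ i), (D.map φ).app U r = 0 := by
  have : ∀ {j k : Over i} (φ : j ⟶ k), IsAffineHom ((Over.forget i ⋙ D).map φ) := fun φ =>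
    inferInstanceAs (IsAffineHom (D.map φ.left))
  have : ∀ j : Over i, IsAffineHom (D.map j.hom) := fun j => inferInstance
  have := isAffineHom_π_app D c hc i
  obtain ⟨j, hj⟩ := exists_stage_app_eq_zero_aux (E := Over.forget i ⋙ D)
    (Y := c.pt) (fun j => c.π.app j.left) (fun φ => c.w φ.left)
    (((Functor.Initial.isLimitWhiskerEquiv (Over.forget i) c).symm hc).ofIsoLimit
      (Cone.ext (Iso.refl _) (fun j => (Category.id_comp _).symm)))
    (fun j => D.map j.hom) (fun {j k} φ => by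
      show D.map φ.left ≫ D.map k.hom = D.map j.hom
      rw [← D.map_comp, Over.w]) (c.π.app i) (fun j => c.w j.hom) hU r hr
  exact ⟨j.left, j.hom, hj⟩

theorem comap_comp_eq_bot {j k : I} (φ : j ⟶ i) (ψ : k ⟶ j) {J : (D.obj i).IdealSheafData}
    (h : J.comap (D.map φ) = ⊥) : J.comap (D.map (ψ ≫ φ)) = ⊥ := by
  rw [D.map_comp, Scheme.IdealSheafData.comap_comp, h, Scheme.IdealSheafData.comap_bot]

theorem comap_comp_eq_top {j k : I} (φ : j ⟶ i) (ψ : k ⟶ j) {J : (D.obj i).IdealSheafData}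
    (h : J.comap (D.map φ) = ⊤) : J.comap (D.map (ψ ≫ φ)) = ⊤ := by
  rw [D.map_comp, Scheme.IdealSheafData.comap_comp, h, Scheme.IdealSheafData.comap_top]

include hc in
/-- An ideal of finite type killed on the limit is killed at a stage. -/
theorem exists_stage_comap_eq_bot [CompactSpace (D.obj i)] (J : (D.obj i).IdealSheafData)
    (hJ : ∀ U, (J.ideal U).FG) (h : J.comap (c.π.app i) = ⊥) :
    ∃ (j : I) (φ : j ⟶ i), J.comap (D.map φ) = ⊥ := by
  classical
  have := isAffineHom_π_app D c hc i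
  rw [comap_eq_bot_iff] at h
  have hb : ∀ x : D.obj i, ∃ U : (D.obj i).affineOpens, x ∈ U.1 := fun x => by
    obtain ⟨U, hU, hx, -⟩ :=
      Opens.isBasis_iff_nbhd.mp (D.obj i).isBasis_affineOpens (Opens.mem_top x)
    exact ⟨⟨U, hU⟩, hx⟩
  choose U hxU using hb
  obtain ⟨t, ht⟩ := CompactSpace.isCompact_univ.elim_finite_subcover
    (fun x => ((U x).1 : Set (D.obj i))) (fun x => (U x).1.2) fun x _ => Set.mem_iUnion.mpr ⟨x, hxU x⟩
  have hfg := fun x : t => hJ (U x.1)
  choose S hS using hfg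
  have hk : ∀ p : Σ x : t, ↥(S x), ∃ (j : I) (φ : j ⟶ i), (D.map φ).app (U p.1.1).1 p.2.1 = 0 :=
    fun p => exists_stage_app_eq_zero hc (U p.1.1).2 _
      (RingHom.mem_ker.1 (h (U p.1.1) (hS p.1 ▸ Ideal.subset_span p.2.2)))
  choose j φ hj using hk
  obtain ⟨l, g, gk, hg⟩ := IsCofiltered.wideCospan φ
  refine ⟨l, g, comap_eq_bot_of_cover (D.map g) J (fun x : t => U x.1)
    (eq_top_iff.2 fun y _ => ?_) fun x => ?_⟩
  · obtain ⟨x, hx, hy⟩ := Set.mem_iUnion₂.mp (ht (Set.mem_univ y))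
    exact Opens.mem_iSup.2 ⟨⟨x, hx⟩, hy⟩
  · rw [← hS x, Ideal.span_le]
    intro r hr
    have key : ∀ (e : D.obj l ⟶ D.obj i), e = D.map (gk ⟨x, r, hr⟩) ≫ D.map (φ ⟨x, r, hr⟩) →
        e.app (U x.1).1 r = 0 := by
      rintro e rfl
      rw [Scheme.Hom.comp_app, ConcreteCategory.comp_apply, hj ⟨x, r, hr⟩]
      exact map_zero _
    exact key _ (by rw [← D.map_comp, hg])

include hc in
/-- An ideal becoming the unit ideal on the limit does so at a stage. -/
theorem exists_stage_comap_eq_top [CompactSpace (D.obj i)] (J : (D.obj i).IdealSheafData)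
    (h : J.comap (c.π.app i) = ⊤) : ∃ (j : I) (φ : j ⟶ i), J.comap (D.map φ) = ⊤ := by
  obtain ⟨j, φ, hj⟩ := exists_forall_map_notMem hc (K := ⊤) isCompact_univ
    (Z := Set.univ) Topology.IsLocallyConstructible.univ J.support.2 (fun p _ _ hp => by
      have : p ∈ (J.comap (c.π.app i)).support := by
        rw [Scheme.IdealSheafData.support_comap]
        exact hp
      rw [h, Scheme.IdealSheafData.support_top] at this
      exact this)
  refine ⟨j, φ, ?_⟩
  rw [← Scheme.IdealSheafData.support_eq_bot_iff, Scheme.IdealSheafData.support_comap]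
  exact le_bot_iff.1 fun y hy => hj y trivial trivial hy

end Groth.Agent.H8Lim
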