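import Groth.Agent.H8Lim.ModEqApps
import Groth.Agent.H8Lim.ModIdeal
import Groth.Agent.FlatMor12.FittSheaf
import Groth.Agent.Props12.FinLocFree
import Groth.Agent.DCat.PerfTensor
import Mathlib.RingTheory.Flat.EquationalCriterion

/-!
# EGA IV 8.5.5: local freeness descends to a stage
-/

set_option autoImplicit false
set_option backward.isDefEq.respectTransparency false
set_option maxHeartbeats 800000

universe u

open CategoryTheory CategoryTheory.Limits AlgebraicGeometry Opposite TopologicalSpace TensorProduct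
open Groth.Agent.Coherent Groth.Agent.PicLib Groth.Agent.EGA43.InjFibre

namespace Groth.Agent.H8Lim

section Algebra

variable {R : Type u} [CommRing R] {ι : Type u} {G : ι → Type u} [∀ i, CommRing (G i)]
  [∀ i, Algebra R (G i)] {A : Type u} [CommRing A] [Algebra R A] {g : ∀ i, G i →ₐ[R] A}

theorem lTensor_rTensor_apply {M N : Type u} [AddCommGroup M] [Module R M] [AddCommGroup N]
    [Module R N] {B C : Type u} [AddCommGroup B] [Module R B] [AddCommGroup C] [Module R C]
    (φ : B →ₗ[R] C) (ρ : M →ₗ[R] N) (z : B ⊗[R] M) :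
    φ.rTensor N (ρ.lTensor B z) = ρ.lTensor C (φ.rTensor M z) := by
  induction z using TensorProduct.induction_on with
  | zero => simp
  | tmul a m => simp
  | add a b ha hb => simp only [map_add, ha, hb]

/-- A finitely presented module projective over the colimit is projective at a stage. -/
theorem exists_stage_projective (hs : CAlgH.ColimSys g) (M : Type u) [AddCommGroup M] [Module R M]
    [Module.FinitePresentation R M] [Module.Projective A (A ⊗[R] M)] :
    ∃ i, Module.Projective (G i) (G i ⊗[R] M) := by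
  classical
  obtain ⟨n, ρ, hρ⟩ := Module.Finite.exists_fin' R M
  obtain ⟨l, hl⟩ := Module.projective_lifting_property (ρ.baseChange A) LinearMap.id (by
    rw [LinearMap.baseChange_eq_ltensor]
    exact LinearMap.lTensor_surjective A hρ)
  obtain ⟨i, li, hli⟩ := exists_linearMap_lift hs M (Fin n → R)
    ((l.restrictScalars R) ∘ₗ TensorProduct.mk R A M 1)
  let d : M →ₗ[R] G i ⊗[R] M := ρ.lTensor (G i) ∘ₗ li - TensorProduct.mk R (G i) M 1
  have hd : ∀ m, (g i).toLinearMap.rTensor M (d m) = 0 := fun m => by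
    simp only [d, LinearMap.sub_apply, LinearMap.comp_apply, TensorProduct.mk_apply, map_sub,
      LinearMap.rTensor_tmul, AlgHom.toLinearMap_apply, map_one, lTensor_rTensor_apply, hli]
    rw [sub_eq_zero]
    exact congr($hl ((1 : A) ⊗ₜ[R] m))
  obtain ⟨S, hS⟩ := (Module.Finite.fg_top : (⊤ : Submodule R M).FG)
  have hub : ∀ s : Finset M, ∃ j, ∃ h : CAlgH.CompatHom g i j,
      ∀ m ∈ s, h.1.toLinearMap.rTensor M (d m) = 0 := fun s => by
    induction s using Finset.induction with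
    | empty => exact ⟨i, .refl g i, by simp⟩
    | insert a s _ ih =>
      obtain ⟨j, h, hh⟩ := ih
      obtain ⟨k, h', hh'⟩ := hs.rTensor_kill M (h.1.toLinearMap.rTensor M (d a)) (by
        rw [← LinearMap.rTensor_comp_apply, ← AlgHom.comp_toLinearMap, h.2, hd])
      refine ⟨k, h'.comp h, fun m hm => ?_⟩
      show (h'.1.comp h.1).toLinearMap.rTensor M (d m) = 0
      rw [AlgHom.comp_toLinearMap, LinearMap.rTensor_comp_apply]
      rcases Finset.mem_insert.mp hm with rfl | hm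
      · exact hh'
      · rw [hh m hm, map_zero]
  obtain ⟨j, h, hh⟩ := hub S
  have hzero : h.1.toLinearMap.rTensor M ∘ₗ d = 0 :=
    LinearMap.ext_on hS fun m hm => hh m hm
  refine ⟨j, Module.Projective.of_split
    ((h.1.toLinearMap.rTensor (Fin n → R) ∘ₗ li).liftBaseChange (G j)) (ρ.baseChange (G j)) ?_⟩
  refine LinearMap.ext fun z => ?_
  induction z using TensorProduct.induction_on with
  | zero => simp
  | tmul a m =>
    have e := LinearMap.congr_fun hzero m
    simp only [d, LinearMap.comp_apply, LinearMap.sub_apply, map_sub, LinearMap.zero_apply,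
      TensorProduct.mk_apply, LinearMap.rTensor_tmul, AlgHom.toLinearMap_apply, map_one, sub_eq_zero,
      lTensor_rTensor_apply] at e
    rw [LinearMap.comp_apply, LinearMap.id_apply, LinearMap.liftBaseChange_tmul, map_smul,
      LinearMap.comp_apply, LinearMap.baseChange_eq_ltensor, e, TensorProduct.smul_tmul',
      smul_eq_mul, mul_one]
  | add a b ha hb => rw [map_add, ha, hb, map_add]

end Algebra

section Stage

/-- Projectivity of sections descends: general form. -/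
theorem exists_stage_flat_sections_aux {J : Type u} [SmallCategory J] [IsCofiltered J]
    {E : J ⥤ Scheme.{u}} [∀ {i j} (f : i ⟶ j), IsAffineHom (E.map f)] {Y X : Scheme.{u}}
    (π : ∀ j, Y ⟶ E.obj j) (hπ : ∀ {j k} (φ : j ⟶ k), π j ≫ E.map φ = π k)
    (hlim : IsLimit (Cone.mk Y ⟨fun j => π j, fun j k φ => (Category.id_comp _).trans (hπ φ).symm⟩ :
      Cone E))
    (p : ∀ j, E.obj j ⟶ X) [∀ j, IsAffineHom (p j)]
    (hp : ∀ {j k} (φ : j ⟶ k), E.map φ ≫ p k = p j) (q : Y ⟶ X) [IsAffineHom q]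
    (hp' : ∀ j, π j ≫ p j = q) (F : X.Modules) [Coh.IsQCoh F] (hF : CohB1.IsFP F)
    {U : X.Opens} (hU : IsAffineOpen U)
    (hq : Module.Flat Γ(Y, q ⁻¹ᵁ U) Γ((Scheme.Modules.pullback q).obj F, q ⁻¹ᵁ U)) :
    ∃ j, Module.Flat Γ(E.obj j, p j ⁻¹ᵁ U) Γ((Scheme.Modules.pullback (p j)).obj F, p j ⁻¹ᵁ U) := by
  let _ : ∀ j, Algebra Γ(X, U) Γ(E.obj j, p j ⁻¹ᵁ U) := fun j =>
    ((p j).appLE U (p j ⁻¹ᵁ U) le_rfl).hom.toAlgebra
  let _ : Algebra Γ(X, U) Γ(Y, q ⁻¹ᵁ U) := (q.appLE U (q ⁻¹ᵁ U) le_rfl).hom.toAlgebra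
  have hs := colimSys_preimage hlim p hp q hp' hU
  let _ := Module.compHom Γ((Scheme.Modules.pullback q).obj F, q ⁻¹ᵁ U)
    (q.appLE U (q ⁻¹ᵁ U) le_rfl).hom
  have : IsScalarTower Γ(X, U) Γ(Y, q ⁻¹ᵁ U) Γ((Scheme.Modules.pullback q).obj F, q ⁻¹ᵁ U) :=
    IsScalarTower.of_algebraMap_smul fun _ _ => rfl
  obtain ⟨μ, hμ, -⟩ := pullMap_isBaseChange q hU (hU.preimage q) le_rfl F
  have hFP := EGA43.QcohFP.finitePresentation_sections F hF hU
  have : Module.Flat Γ(Y, q ⁻¹ᵁ U) (Γ(Y, q ⁻¹ᵁ U) ⊗[Γ(X, U)] Γ(F, U)) :=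
    Module.Flat.of_linearEquiv hμ.equiv
  have : Module.Projective Γ(Y, q ⁻¹ᵁ U) (Γ(Y, q ⁻¹ᵁ U) ⊗[Γ(X, U)] Γ(F, U)) :=
    Module.Flat.projective_of_finitePresentation
  obtain ⟨j, hj⟩ := exists_stage_projective hs Γ(F, U)
  let _ := Module.compHom Γ((Scheme.Modules.pullback (p j)).obj F, p j ⁻¹ᵁ U)
    ((p j).appLE U (p j ⁻¹ᵁ U) le_rfl).hom
  have : IsScalarTower Γ(X, U) Γ(E.obj j, p j ⁻¹ᵁ U)
      Γ((Scheme.Modules.pullback (p j)).obj F, p j ⁻¹ᵁ U) :=
    IsScalarTower.of_algebraMap_smul fun _ _ => rfl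
  obtain ⟨ν, hν, -⟩ := pullMap_isBaseChange (p j) hU (hU.preimage (p j)) le_rfl F
  exact ⟨j, Module.Flat.of_linearEquiv hν.equiv.symm⟩

theorem flat_sections_pullback {X Y : Scheme.{u}} (f : Y ⟶ X) [IsAffineHom f] (F : X.Modules)
    [Coh.IsQCoh F] {U : X.Opens} (hU : IsAffineOpen U) [Module.Flat Γ(X, U) Γ(F, U)] :
    Module.Flat Γ(Y, f ⁻¹ᵁ U) Γ((Scheme.Modules.pullback f).obj F, f ⁻¹ᵁ U) := by
  let _ := (f.appLE U (f ⁻¹ᵁ U) le_rfl).hom.toAlgebra
  let _ := Module.compHom Γ((Scheme.Modules.pullback f).obj F, f ⁻¹ᵁ U)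
    (f.appLE U (f ⁻¹ᵁ U) le_rfl).hom
  have : IsScalarTower Γ(X, U) Γ(Y, f ⁻¹ᵁ U) Γ((Scheme.Modules.pullback f).obj F, f ⁻¹ᵁ U) :=
    IsScalarTower.of_algebraMap_smul fun _ _ => rfl
  obtain ⟨μ, hμ, -⟩ := pullMap_isBaseChange f hU (hU.preimage f) le_rfl F
  exact Module.Flat.isBaseChange Γ(X, U) Γ(Y, f ⁻¹ᵁ U) (M := Γ(F, U)) _ hμ

theorem flat_sections_of_iso {X : Scheme.{u}} {M N : X.Modules} (e : M ≅ N) (U : X.Opens)
    [Module.Flat Γ(X, U) Γ(M, U)] : Module.Flat Γ(X, U) Γ(N, U) :=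
  Module.Flat.of_linearEquiv (LinearEquiv.ofBijective (appLin e.hom U)
    ⟨fun a b h => by
      have := congrArg (e.inv.app U) h
      exact (congr(($(e.hom_inv_id)).app U a).symm.trans (this.trans congr(($(e.hom_inv_id)).app U b))),
    fun b => ⟨e.inv.app U b, congr(($(e.inv_hom_id)).app U b)⟩⟩).symm

variable {I : Type u} [SmallCategory I] [IsCofiltered I] {D : I ⥤ Scheme.{u}} {c : Cone D}
  [∀ {i j : I} (f : i ⟶ j), IsAffineHom (D.map f)] (hc : IsLimit c) {i : I}

include hc in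
/-- Flatness of a finitely presented module over an affine open descends. -/
theorem exists_stage_flat_sections (F : (D.obj i).Modules) [Coh.IsQCoh F] (hF : CohB1.IsFP F)
    {U : (D.obj i).Opens} (hU : IsAffineOpen U)
    (h : Module.Flat Γ(c.pt, c.π.app i ⁻¹ᵁ U)
      Γ((Scheme.Modules.pullback (c.π.app i)).obj F, c.π.app i ⁻¹ᵁ U)) :
    ∃ (j : I) (φ : j ⟶ i), Module.Flat Γ(D.obj j, D.map φ ⁻¹ᵁ U)
      Γ((Scheme.Modules.pullback (D.map φ)).obj F, D.map φ ⁻¹ᵁ U) := by
  have : ∀ {j k : Over i} (φ : j ⟶ k), IsAffineHom ((Over.forget i ⋙ D).map φ) := fun φ =>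
    inferInstanceAs (IsAffineHom (D.map φ.left))
  have : ∀ j : Over i, IsAffineHom (D.map j.hom) := fun j => inferInstance
  have := isAffineHom_π_app D c hc i
  obtain ⟨j, hj⟩ := exists_stage_flat_sections_aux (E := Over.forget i ⋙ D)
    (Y := c.pt) (fun j => c.π.app j.left) (fun φ => c.w φ.left)
    (((Functor.Initial.isLimitWhiskerEquiv (Over.forget i) c).symm hc).ofIsoLimit
      (Cone.ext (Iso.refl _) (fun j => (Category.id_comp _).symm)))
    (fun j => D.map j.hom) (fun {j k} φ => by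
      show D.map φ.left ≫ D.map k.hom = D.map j.hom
      rw [← D.map_comp, Over.w]) (c.π.app i) (fun j => c.w j.hom) F hF hU h
  exact ⟨j.left, j.hom, hj⟩

include hc in
/-- Local freeness descends. -/
theorem isFinLocFree_iff_eventually [CompactSpace (D.obj i)] (F : (D.obj i).Modules) [Coh.IsQCoh F]
    (hF : CohB1.IsFP F) :
    FlatMod.IsFinLocFree ((Scheme.Modules.pullback (c.π.app i)).obj F) ↔
      ∃ (j : I) (φ : j ⟶ i), FlatMod.IsFinLocFree ((Scheme.Modules.pullback (D.map φ)).obj F) := by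
  classical
  constructor
  · intro h
    have := isAffineHom_π_app D c hc i
    have := EGA43.InjFibre.isQCoh_pullback (c.π.app i) F
    have hflat := Props12.isFlat_of_isFinLocFree _ h
    have hb : ∀ x : D.obj i, ∃ U : (D.obj i).Opens, IsAffineOpen U ∧ x ∈ U := fun x => by
      obtain ⟨U, hU, hx, -⟩ :=
        Opens.isBasis_iff_nbhd.mp (D.obj i).isBasis_affineOpens (Opens.mem_top x)
      exact ⟨U, hU, hx⟩
    choose U hU hxU using hb
    obtain ⟨t, ht⟩ := CompactSpace.isCompact_univ.elim_finite_subcover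
      (fun x => (U x : Set (D.obj i))) (fun x => (U x).2) fun x _ => Set.mem_iUnion.mpr ⟨x, hxU x⟩
    have hst := fun k : t => exists_stage_flat_sections hc F hF (hU k.1)
      (Props12.flat_sections_of_isFlat _ hflat ((hU k.1).preimage (c.π.app i)))
    choose jk φk hk using hst
    obtain ⟨J, g, gk, hg⟩ := IsCofiltered.wideCospan φk
    have := EGA43.InjFibre.isQCoh_pullback (D.map g) F
    have hFJ := Desc19b.ModStFib.isFP_pullback (D.map g) F hF
    refine ⟨J, g, Props12.isFinLocFree_of_isFP_of_free_stalks _ hFJ fun y => ?_⟩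
    obtain ⟨x, hx, hy⟩ := Set.mem_iUnion₂.mp (ht (Set.mem_univ (D.map g y)))
    let k : t := ⟨x, hx⟩
    have := EGA43.InjFibre.isQCoh_pullback (D.map (φk k)) F
    have := hk k
    have hV : IsAffineOpen (D.map (φk k) ⁻¹ᵁ U x) := (hU x).preimage _
    have := flat_sections_pullback (D.map (gk k)) ((Scheme.Modules.pullback (D.map (φk k))).obj F) hV
    have := flat_sections_of_iso
      (M := (Scheme.Modules.pullback (D.map (gk k))).obj ((Scheme.Modules.pullback (D.map (φk k))).obj F))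
      (N := (Scheme.Modules.pullback (D.map g)).obj F)
      ((pullCompIso (D := D) (φk k) (gk k) ≪≫
        Scheme.Modules.pullbackCongr (congrArg D.map (hg k))).app F)
      (D.map (gk k) ⁻¹ᵁ (D.map (φk k) ⁻¹ᵁ U x))
    have hy' : y ∈ D.map (gk k) ⁻¹ᵁ (D.map (φk k) ⁻¹ᵁ U x) := by
      show D.map (φk k) (D.map (gk k) y) ∈ U x
      rw [← Scheme.Hom.comp_apply, ← D.map_comp, hg k]
      exact hy
    have := Props12.flat_stalk_of_flat_sections ((Scheme.Modules.pullback (D.map g)).obj F)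
      (hV.preimage (D.map (gk k))) hy'
    have := Props12.finite_stalk_of_isFT ((Scheme.Modules.pullback (D.map g)).obj F) (haveI := hFJ; inferInstance) y
    exact Module.free_of_flat_of_isLocalRing
  · rintro ⟨j, φ, h⟩
    exact DCat.PerfTensor.isFinLocFree_of_iso ((pullStageIso c φ).app F)
      (DCat.PullPerf.isFinLocFree_pullback (c.π.app j) h)

include hc in
/-- Local freeness of rank `n` descends. -/
theorem isFinLocFreeOfRank_iff_eventually [CompactSpace (D.obj i)] (F : (D.obj i).Modules)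
    [Coh.IsQCoh F] (hF : CohB1.IsFP F) (n : ℕ) :
    FlatMod.IsFinLocFreeOfRank n ((Scheme.Modules.pullback (c.π.app i)).obj F) ↔
      ∃ (j : I) (φ : j ⟶ i),
        FlatMod.IsFinLocFreeOfRank n ((Scheme.Modules.pullback (D.map φ)).obj F) := by
  have hT : CohB1.IsFT F := haveI := hF; inferInstance
  have := fun {Y : Scheme.{u}} (f : Y ⟶ D.obj i) => EGA43.InjFibre.isQCoh_pullback f F
  have hiff : ∀ {Y : Scheme.{u}} (f : Y ⟶ D.obj i),
      FlatMod.IsFinLocFreeOfRank n ((Scheme.Modules.pullback f).obj F) ↔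
        (0 < n → (Fitt.sheafIdeal F (n - 1)).comap f = ⊥) ∧ (Fitt.sheafIdeal F n).comap f = ⊤ := by
    intro Y f
    rw [FlatMor12.FittSheaf.isFinLocFreeOfRank_iff _ (isFT_pullback_qcoh f ‹Coh.IsQCoh F› hT)]
    simp only [← FlatMor12.FittSheaf.comap_eq F f hT]
    refine ⟨fun ⟨h0, h1⟩ => ⟨fun hn => h0 _ (by omega), h1 n le_rfl⟩, fun ⟨h0, h1⟩ =>
      ⟨fun k hk => le_bot_iff.1 ?_, fun k hk => top_le_iff.1 ?_⟩⟩
    · rw [← h0 (by omega)]
      exact Scheme.IdealSheafData.comap_mono f (FlatMor12.FittSheaf.sheafIdeal_mono F hT (by omega))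
    · rw [← h1]
      exact Scheme.IdealSheafData.comap_mono f (FlatMor12.FittSheaf.sheafIdeal_mono F hT hk)
  simp only [hiff]
  constructor
  · rintro ⟨h0, h1⟩
    obtain ⟨j, φ, hj⟩ := exists_stage_comap_eq_top hc _ h1
    by_cases hn : 0 < n
    · obtain ⟨k, ψ, hk⟩ := exists_stage_comap_eq_bot hc _
        (FlatMor12.FittSheaf.isFiniteTypeIdeal F hF (n - 1)) (h0 hn)
      obtain ⟨l, a, b, hab⟩ := IsCofiltered.cospan φ ψ
      exact ⟨l, a ≫ φ, fun _ => hab ▸ comap_comp_eq_bot ψ b hk, comap_comp_eq_top φ a hj⟩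
    · exact ⟨j, φ, fun h => absurd h hn, hj⟩
  · rintro ⟨j, φ, h0, h1⟩
    rw [← c.w φ]
    exact ⟨fun hn => by rw [Scheme.IdealSheafData.comap_comp, h0 hn, Scheme.IdealSheafData.comap_bot],
      by rw [Scheme.IdealSheafData.comap_comp, h1, Scheme.IdealSheafData.comap_top]⟩

end Stage

end Groth.Agent.H8Lim
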