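import Mathlib.AlgebraicGeometry.SpreadingOut
import Mathlib.AlgebraicGeometry.Morphisms.FinitePresentation
import Mathlib.RingTheory.FinitePresentation

/-!
# Spreading out morphisms defined at a point, without hypothesis on the source
-/

universe u

open CategoryTheory AlgebraicGeometry TopologicalSpace

namespace Groth.Agent.H8Lim

variable {X Y S : Scheme.{u}}

/-- Two elements of sections with the same germ agree near the point. -/
lemma exists_res_eq_of_germ_eq {W : X.Opens} {x : X} (hx : x ∈ W) (a b : Γ(X, W))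
    (h : X.presheaf.germ W x hx a = X.presheaf.germ W x hx b) :
    ∃ (W' : X.Opens) (_ : x ∈ W') (i : W' ≤ W),
      X.presheaf.map (homOfLE i).op a = X.presheaf.map (homOfLE i).op b := by
  obtain ⟨W', hx', iU, iV, e⟩ := X.presheaf.germ_eq x hx hx a b h
  exact ⟨W', hx', iU.le, e⟩

/-- Finitely many pairs of sections with the same germs agree on a common neighbourhood. -/
lemma exists_res_eq_of_germ_eq_finset {ι : Type*} (s : Finset ι) {W : X.Opens} {x : X} (hx : x ∈ W)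
    (a b : ι → Γ(X, W))
    (h : ∀ i ∈ s, X.presheaf.germ W x hx (a i) = X.presheaf.germ W x hx (b i)) :
    ∃ (W' : X.Opens) (_ : x ∈ W') (j : W' ≤ W), ∀ i ∈ s,
      X.presheaf.map (homOfLE j).op (a i) = X.presheaf.map (homOfLE j).op (b i) := by
  classical
  induction s using Finset.induction_on with
  | empty => exact ⟨W, hx, le_rfl, by simp⟩
  | insert i s _ ih =>
    obtain ⟨W₁, hx₁, j₁, h₁⟩ := exists_res_eq_of_germ_eq hx _ _ (h i (Finset.mem_insert_self i s))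
    obtain ⟨W₂, hx₂, j₂, h₂⟩ := ih fun k hk ↦ h k (Finset.mem_insert_of_mem hk)
    refine ⟨W₁ ⊓ W₂, ⟨hx₁, hx₂⟩, inf_le_left.trans j₁, fun k hk ↦ ?_⟩
    rcases Finset.mem_insert.1 hk with rfl | hk
    · have := congrArg (X.presheaf.map (homOfLE (inf_le_left : W₁ ⊓ W₂ ≤ W₁)).op) h₁
      simpa [← CommRingCat.comp_apply, ← Functor.map_comp, ← op_comp, homOfLE_comp] using this
    · have := congrArg (X.presheaf.map (homOfLE (inf_le_right : W₁ ⊓ W₂ ≤ W₂)).op) (h₂ k hk)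
      simpa [← CommRingCat.comp_apply, ← Functor.map_comp, ← op_comp, homOfLE_comp] using this

/-- Two morphisms to a scheme locally of finite type over `S` which induce the same map on the local
ring at a point agree near this point; no condition on the source. -/
theorem spread_out_unique (sX : X ⟶ S) (sY : Y ⟶ S) [LocallyOfFiniteType sY]
    (f g : X ⟶ Y) (hf : f ≫ sY = sX) (hg : g ≫ sY = sX) {x : X} (e : f x = g x)
    (H : f.stalkMap x =
      Y.presheaf.stalkSpecializes (Inseparable.of_eq e.symm).specializes ≫ g.stalkMap x) :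
    ∃ U : X.Opens, x ∈ U ∧ U.ι ≫ f = U.ι ≫ g := by
  obtain ⟨U, hU, hsU, -⟩ := exists_isAffineOpen_mem_and_subset (x := sY (f x)) (U := ⊤) trivial
  obtain ⟨V, hV, hxV, hVU⟩ := exists_isAffineOpen_mem_and_subset (x := f x) (U := sY ⁻¹ᵁ U) hsU
  have iVU : V ≤ sY ⁻¹ᵁ U := hVU
  have hxV' : g x ∈ V := e ▸ hxV
  let W : X.Opens := f ⁻¹ᵁ V ⊓ g ⁻¹ᵁ V
  have hxW : x ∈ W := ⟨hxV, hxV'⟩
  have hft : (sY.appLE U V iVU).hom.FiniteType := sY.finiteType_appLE hU hV _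
  let α := f.appLE V W inf_le_left
  let β := g.appLE V W inf_le_right
  let := (sY.appLE U V iVU).hom.toAlgebra
  obtain ⟨s, hs⟩ := hft
  have hgerm : ∀ a : Γ(Y, V), X.presheaf.germ W x hxW (α a) = X.presheaf.germ W x hxW (β a) := by
    intro a
    have key : α ≫ X.presheaf.germ W x hxW = β ≫ X.presheaf.germ W x hxW := by
      simp only [α, β, Scheme.Hom.appLE, Category.assoc, X.presheaf.germ_res]
      rw [← Scheme.Hom.germ_stalkMap f V x hxV, ← Scheme.Hom.germ_stalkMap g V x hxV', H,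
        TopCat.Presheaf.germ_stalkSpecializes_assoc]
    simpa using congr($key a)
  obtain ⟨W', hxW', iW, hW'⟩ := exists_res_eq_of_germ_eq_finset s hxW (fun a ↦ α a) (fun a ↦ β a)
    (fun a _ ↦ hgerm a)
  have hbase : sY.appLE U V iVU ≫ f.appLE V W' (iW.trans inf_le_left) =
      sY.appLE U V iVU ≫ g.appLE V W' (iW.trans inf_le_right) := by
    rw [Scheme.Hom.appLE_comp_appLE, Scheme.Hom.appLE_comp_appLE]
    congr 1
    rw [hf, hg]
  have hres : ∀ a ∈ s, f.appLE V W' (iW.trans inf_le_left) a = g.appLE V W' (iW.trans inf_le_right) a := by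
    intro a ha
    have := hW' a ha
    simpa [α, β, ← CommRingCat.comp_apply, Scheme.Hom.appLE_map] using this
  have heq : f.appLE V W' (iW.trans inf_le_left) = g.appLE V W' (iW.trans inf_le_right) := by
    ext a
    have ha : a ∈ Algebra.adjoin Γ(S, U) (s : Set Γ(Y, V)) := hs ▸ Algebra.mem_top
    induction ha using Algebra.adjoin_induction with
    | mem a ha => exact hres a ha
    | algebraMap r => exact congr($hbase r)
    | add a b _ _ ha hb => simp only [map_add, ha, hb]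
    | mul a b _ _ ha hb => simp only [map_mul, ha, hb]
  refine ⟨W', hxW', ?_⟩
  rw [← Scheme.Hom.resLE_comp_ι _ (iW.trans inf_le_left),
    ← Scheme.Hom.resLE_comp_ι _ (iW.trans inf_le_right)]
  congr 1
  have : IsAffine V := hV
  suffices ∀ (U₀ V₀) (eU : W' = U₀) (eV : V = V₀),
      f.appLE V₀ U₀ (eU ▸ eV ▸ iW.trans inf_le_left) =
        g.appLE V₀ U₀ (eU ▸ eV ▸ iW.trans inf_le_right) by
    rw [← cancel_mono V.toScheme.isoSpec.hom]
    simp only [Scheme.isoSpec, asIso_hom, Scheme.toSpecΓ_naturality,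
      Scheme.Hom.app_eq_appLE, Scheme.Hom.resLE_appLE]
    congr 2
    apply this <;> simp
  rintro U₀ V₀ rfl rfl
  exact heq

/-- Lifting a morphism of rings into a stalk along a map of finite presentation. -/
lemma exists_lift_of_finitePresentation {R A : CommRingCat.{u}} {U : X.Opens} {x : X} (hxU : x ∈ U)
    (φ : A ⟶ X.presheaf.stalk x) (φRA : R ⟶ A) (φRX : R ⟶ Γ(X, U))
    (hφRA : RingHom.FinitePresentation φRA.hom)
    (e : φRA ≫ φ = φRX ≫ X.presheaf.germ U x hxU) :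
    ∃ (V : X.Opens) (hxV : x ∈ V) (φ' : A ⟶ Γ(X, V)) (i : V ≤ U), IsAffineOpen V ∧
      φ = φ' ≫ X.presheaf.germ V x hxV ∧ φRX ≫ X.presheaf.map i.hom.op = φRA ≫ φ' := by
  classical
  algebraize [φRA.hom]
  obtain ⟨n, π, hπ, hker⟩ := ‹Algebra.FinitePresentation R A›.out
  choose W hW c hc using fun i ↦ X.presheaf.exists_germ_eq (φ (π (MvPolynomial.X i)))
  let W₀ := U ⊓ Finset.univ.inf W
  have hxW₀ : x ∈ W₀ := by
    refine ⟨hxU, ?_⟩
    rw [TopologicalSpace.Opens.coe_finset_inf]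
    simpa using hW
  have iW : ∀ i, W₀ ≤ W i := fun i ↦ inf_le_right.trans (Finset.inf_le (Finset.mem_univ i))
  let ψ : MvPolynomial (Fin n) R →+* Γ(X, W₀) :=
    MvPolynomial.eval₂Hom (φRX ≫ X.presheaf.map (homOfLE (inf_le_left : W₀ ≤ U)).op).hom
      fun i ↦ X.presheaf.map (homOfLE (iW i)).op (c i)
  have hψ : (X.presheaf.germ W₀ x hxW₀).hom.comp ψ = φ.hom.comp π.toRingHom := by
    refine MvPolynomial.ringHom_ext (fun r ↦ ?_) fun i ↦ ?_
    · simp only [RingHom.comp_apply, ψ, MvPolynomial.eval₂Hom_C]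
      have h2 : π.toRingHom (MvPolynomial.C r) = φRA r := π.commutes r
      rw [h2]
      change X.presheaf.germ W₀ x hxW₀ (X.presheaf.map _ (φRX r)) = (φRA ≫ φ) r
      rw [TopCat.Presheaf.germ_res_apply, e]
      rfl
    · simp only [RingHom.comp_apply, ψ, MvPolynomial.eval₂Hom_X']
      exact (TopCat.Presheaf.germ_res_apply _ _ _ _ _).trans (hc i)
  obtain ⟨t, ht⟩ := hker
  obtain ⟨W₁, hx₁, j₁, h₁⟩ := exists_res_eq_of_germ_eq_finset t hxW₀ (fun p ↦ ψ p) (fun _ ↦ 0) (by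
    intro p hp
    have h0 : π p = 0 := (RingHom.mem_ker).1 (ht ▸ Ideal.subset_span hp)
    have := congr($hψ p)
    simp only [RingHom.comp_apply, AlgHom.toRingHom_eq_coe, RingHom.coe_coe, h0, map_zero] at this
    simpa using this)
  obtain ⟨V, hV, hxV, hVW⟩ := exists_isAffineOpen_mem_and_subset (x := x) (U := W₁) hx₁
  have hVW : V ≤ W₁ := hVW
  have hVW₀ : V ≤ W₀ := le_trans hVW j₁
  let ψV : MvPolynomial (Fin n) R →+* Γ(X, V) := (X.presheaf.map (homOfLE hVW₀).op).hom.comp ψ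
  have hk : RingHom.ker π.toRingHom ≤ RingHom.ker ψV := by
    rw [← ht]
    refine Ideal.span_le.2 fun p hp ↦ ?_
    have := congrArg (X.presheaf.map (homOfLE hVW).op) (h₁ p hp)
    rw [map_zero, map_zero, ← CommRingCat.comp_apply, ← Functor.map_comp] at this
    exact this
  let φ' : A →+* Γ(X, V) := RingHom.liftOfSurjective π.toRingHom hπ ⟨ψV, hk⟩
  have hφ' : ∀ p, φ' (π p) = ψV p := fun p ↦
    RingHom.liftOfRightInverse_comp_apply _ _ _ _ _
  refine ⟨V, hxV, CommRingCat.ofHom φ', hVW₀.trans inf_le_left, hV, ?_, ?_⟩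
  · ext a
    obtain ⟨p, rfl⟩ := hπ a
    change φ (π p) = X.presheaf.germ V x hxV (φ' (π p))
    rw [hφ']
    change _ = X.presheaf.germ V x hxV (X.presheaf.map _ (ψ p))
    rw [TopCat.Presheaf.germ_res_apply]
    exact congr($hψ.symm p)
  · ext r
    have h2 : φRA r = π (MvPolynomial.C r) := (π.commutes r).symm
    change X.presheaf.map _ (φRX r) = φ' (φRA r)
    rw [h2, hφ']
    change _ = X.presheaf.map _ (ψ (MvPolynomial.C r))
    simp only [ψ, MvPolynomial.eval₂Hom_C]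
    change _ = X.presheaf.map _ (X.presheaf.map _ (φRX r))
    rw [← CommRingCat.comp_apply (X.presheaf.map _) (X.presheaf.map _),
      ← Functor.map_comp]
    rfl

set_option backward.isDefEq.respectTransparency.types false in
/-- Spreading out along a morphism locally of finite presentation; no condition on the source. -/
theorem spread_out (sX : X ⟶ S) (sY : Y ⟶ S) [LocallyOfFinitePresentation sY]
    {x : X} {y : Y} (e : sX x = sY y)
    (φ : Y.presheaf.stalk y ⟶ X.presheaf.stalk x)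
    (h : sY.stalkMap y ≫ φ =
      S.presheaf.stalkSpecializes (Inseparable.of_eq e).specializes ≫ sX.stalkMap x) :
    ∃ (U : X.Opens) (hxU : x ∈ U) (f : U.toScheme ⟶ Y),
      Spec.map φ ≫ Y.fromSpecStalk y = U.fromSpecStalkOfMem x hxU ≫ f ∧
        f ≫ sY = U.ι ≫ sX := by
  obtain ⟨U, hU, hxU, -⟩ := exists_isAffineOpen_mem_and_subset (x := sX x) (U := ⊤) trivial
  have hyU : sY y ∈ U := e ▸ hxU
  obtain ⟨V, hV, hyV, hVU⟩ := exists_isAffineOpen_mem_and_subset (x := y) (U := sY ⁻¹ᵁ U) hyU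
  have iVU : V ≤ sY ⁻¹ᵁ U := hVU
  have : sY.appLE U V iVU ≫ Y.presheaf.germ V y hyV ≫ φ =
      sX.app U ≫ X.presheaf.germ (sX ⁻¹ᵁ U) x hxU := by
    rw [Scheme.Hom.appLE, Category.assoc, Y.presheaf.germ_res_assoc,
      ← Scheme.Hom.germ_stalkMap_assoc sY U y hyU, h]
    simp
  obtain ⟨W, hxW, φ', i, hW, h₁, h₂⟩ :=
    exists_lift_of_finitePresentation (R := Γ(S, U)) (A := Γ(Y, V)) (U := sX ⁻¹ᵁ U) (x := x) hxU
    (Y.presheaf.germ _ y hyV ≫ φ) (sY.appLE U V iVU) (sX.app U)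
    (sY.finitePresentation_appLE hU hV _) this
  refine ⟨W, hxW, W.toSpecΓ ≫ Spec.map φ' ≫ hV.fromSpec, ?_, ?_⟩
  · rw [W.fromSpecStalkOfMem_toSpecΓ_assoc x hxW, ← Spec.map_comp_assoc, ← h₁,
      Spec.map_comp, Category.assoc, ← IsAffineOpen.fromSpecStalk,
      IsAffineOpen.fromSpecStalk_eq_fromSpecStalk]
  · simp only [Category.assoc]
    rw [← IsAffineOpen.SpecMap_appLE_fromSpec sY hU hV iVU, ← Spec.map_comp_assoc, ← h₂,
      ← Scheme.Hom.appLE, ← hW.isoSpec_hom, IsAffineOpen.SpecMap_appLE_fromSpec sX hU hW i,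
      ← Iso.eq_inv_comp, IsAffineOpen.isoSpec_inv_ι_assoc]

set_option backward.isDefEq.respectTransparency.types false in
/-- Variant of `spread_out_unique` with an equality of morphisms on the local scheme at the point. -/
theorem spread_out_unique' (sX : X ⟶ S) (sY : Y ⟶ S) [LocallyOfFiniteType sY]
    (f g : X ⟶ Y) (hf : f ≫ sY = sX) (hg : g ≫ sY = sX) {x : X}
    (e : X.fromSpecStalk x ≫ f = X.fromSpecStalk x ≫ g) :
    ∃ U : X.Opens, x ∈ U ∧ U.ι ≫ f = U.ι ≫ g := by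
  fapply spread_out_unique sX sY f g hf hg
  · simpa using congr($e (IsLocalRing.closedPoint _))
  · apply Spec.map_injective
    rw [← cancel_mono (Y.fromSpecStalk _)]
    simpa [Scheme.SpecMap_stalkSpecializes_fromSpecStalk]

lemma range_homOfLE_comp_subset {U W : X.Opens} {V : Y.Opens} (f : U.toScheme ⟶ Y) (h : W ≤ U)
    (hW : W ≤ U.ι ''ᵁ (f ⁻¹ᵁ V)) : Set.range (X.homOfLE h ≫ f) ⊆ Set.range V.ι := by
  rintro _ ⟨z, rfl⟩
  obtain ⟨z', hz', hzz'⟩ := hW z.2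
  have hz : X.homOfLE h z = z' := Subtype.ext ((X.homOfLE_apply _ _).trans hzz'.symm)
  rw [Scheme.Opens.range_ι, Scheme.Hom.comp_apply, hz]
  exact hz'

lemma fromSpecStalkOfMem_homOfLE {U W : X.Opens} (h : W ≤ U) {x : X} (hx : x ∈ W) :
    W.fromSpecStalkOfMem x hx ≫ X.homOfLE h = U.fromSpecStalkOfMem x (h hx) := by
  rw [← cancel_mono U.ι, Category.assoc, Scheme.homOfLE_ι]
  simp

set_option backward.isDefEq.respectTransparency.types false in
lemma exists_le_of_fromSpecStalkOfMem_eq (sY : Y ⟶ S) [LocallyOfFiniteType sY] {U : X.Opens}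
    {x : X} (hxU : x ∈ U) (a b : U.toScheme ⟶ Y) (hab : a ≫ sY = b ≫ sY)
    (e : U.fromSpecStalkOfMem x hxU ≫ a = U.fromSpecStalkOfMem x hxU ≫ b) :
    ∃ (W : X.Opens) (h : W ≤ U), x ∈ W ∧ X.homOfLE h ≫ a = X.homOfLE h ≫ b := by
  simp only [Scheme.Opens.fromSpecStalkOfMem, Category.assoc, cancel_epi] at e
  obtain ⟨W', hxW', hW'⟩ := spread_out_unique' (b ≫ sY) sY a b hab rfl e
  refine ⟨U.ι ''ᵁ W', U.ι_image_le W', ⟨⟨x, hxU⟩, hxW', rfl⟩, ?_⟩
  have hrange : Set.range (X.homOfLE (U.ι_image_le W')) ⊆ Set.range W'.ι := by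
    rintro _ ⟨z, rfl⟩
    obtain ⟨z', hz', hzz'⟩ := z.2
    rw [Scheme.Opens.range_ι, show X.homOfLE (U.ι_image_le W') z = z' from
      Subtype.ext ((X.homOfLE_apply _ _).trans hzz'.symm)]
    exact hz'
  rw [← IsOpenImmersion.lift_fac W'.ι _ hrange, Category.assoc, Category.assoc, hW']

lemma exists_homOfLE_eq_of_mem_image {Z : Scheme.{u}} {U W : Z.Opens} (hWU : W ≤ U)
    (O : W.toScheme.Opens) (h : W.ι ''ᵁ O ≤ U) (z : (W.ι ''ᵁ O).toScheme) :
    ∃ w ∈ O, Z.homOfLE h z = Z.homOfLE hWU w := by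
  obtain ⟨w, hw, hwz⟩ := z.2
  exact ⟨w, hw, Subtype.ext ((Z.homOfLE_apply h z).trans (hwz.symm.trans (Z.homOfLE_apply hWU w).symm))⟩

/-- The pointwise content of: `a ≫ g = W₁.ι`. -/
lemma exists_image_eq {U W₁ U₁ : X.Opens} {V W₂ : Y.Opens} (hW₁U : W₁ ≤ U) (hW₂V : W₂ ≤ V)
    (hU₁ : U₁ ≤ W₁) (f : U.toScheme ⟶ Y) (g : V.toScheme ⟶ X) (a : W₁.toScheme ⟶ V.toScheme)
    (ha : a ≫ V.ι = X.homOfLE hW₁U ≫ f) (hag : a ≫ g = W₁.ι) (z : U₁.toScheme)
    (hz : f (X.homOfLE (hU₁.trans hW₁U) z) ∈ W₂) :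
    f (X.homOfLE (hU₁.trans hW₁U) z) ∈ W₂.ι ''ᵁ ((Y.homOfLE hW₂V ≫ g) ⁻¹ᵁ U₁) := by
  refine ⟨⟨_, hz⟩, ?_, rfl⟩
  show g (Y.homOfLE hW₂V ⟨_, hz⟩) ∈ U₁
  have h1 : Y.homOfLE hW₂V ⟨_, hz⟩ = a (X.homOfLE hU₁ z) := by
    refine Subtype.ext ((Y.homOfLE_apply hW₂V _).trans ?_)
    have h2 : (a (X.homOfLE hU₁ z)).1 = f (X.homOfLE hW₁U (X.homOfLE hU₁ z)) :=
      congr($ha (X.homOfLE hU₁ z))
    rw [h2, ← Scheme.Hom.comp_apply (X.homOfLE hU₁) (X.homOfLE hW₁U), Scheme.homOfLE_homOfLE]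
  rw [h1]
  have h3 : g (a (X.homOfLE hU₁ z)) = W₁.ι (X.homOfLE hU₁ z) := congr($hag (X.homOfLE hU₁ z))
  rw [h3]
  show (X.homOfLE hU₁ z).1 ∈ U₁
  rw [X.homOfLE_apply hU₁ z]
  exact z.2

set_option backward.isDefEq.respectTransparency.types false in
/-- An isomorphism of local rings spreads out to an isomorphism of neighbourhoods. -/
theorem spread_out_isIso (sX : X ⟶ S) (sY : Y ⟶ S) [LocallyOfFinitePresentation sX]
    [LocallyOfFinitePresentation sY] {x : X} {y : Y} (e : sX x = sY y)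
    (φ : Y.presheaf.stalk y ⟶ X.presheaf.stalk x) [IsIso φ]
    (h : sY.stalkMap y ≫ φ =
      S.presheaf.stalkSpecializes (Inseparable.of_eq e).specializes ≫ sX.stalkMap x) :
    ∃ (U : X.Opens) (hxU : x ∈ U) (V : Y.Opens) (f : U.toScheme ⟶ V.toScheme), IsIso f ∧
      Spec.map φ ≫ Y.fromSpecStalk y = U.fromSpecStalkOfMem x hxU ≫ f ≫ V.ι ∧
        f ≫ V.ι ≫ sY = U.ι ≫ sX := by
  obtain ⟨U, hxU, f, hf1, hf2⟩ := spread_out sX sY e φ h
  have h' : sX.stalkMap x ≫ inv φ =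
      S.presheaf.stalkSpecializes (Inseparable.of_eq e.symm).specializes ≫ sY.stalkMap y := by
    rw [IsIso.comp_inv_eq, Category.assoc, h, TopCat.Presheaf.stalkSpecializes_comp_assoc]
    simp
  obtain ⟨V, hyV, g, hg1, hg2⟩ := spread_out sY sX e.symm (inv φ) h'
  have hfx : f ⟨x, hxU⟩ = y := by
    have hh := congr($hf1 (IsLocalRing.closedPoint _))
    simp only [Scheme.Hom.comp_apply, Spec_closedPoint, Scheme.fromSpecStalk_closedPoint] at hh
    refine Eq.trans ?_ hh.symm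
    congr 1
    refine Subtype.ext (Eq.symm ?_)
    exact (congr($(U.fromSpecStalkOfMem_ι x hxU) (IsLocalRing.closedPoint _))).trans
      Scheme.fromSpecStalk_closedPoint
  have hgy : g ⟨y, hyV⟩ = x := by
    have hh := congr($hg1 (IsLocalRing.closedPoint _))
    simp only [Scheme.Hom.comp_apply, Spec_closedPoint, Scheme.fromSpecStalk_closedPoint] at hh
    refine Eq.trans ?_ hh.symm
    congr 1
    refine Subtype.ext (Eq.symm ?_)
    exact (congr($(V.fromSpecStalkOfMem_ι y hyV) (IsLocalRing.closedPoint _))).trans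
      Scheme.fromSpecStalk_closedPoint
  -- `g ∘ f = id` near `x`
  let U₂ : X.Opens := U.ι ''ᵁ (f ⁻¹ᵁ V)
  have hxU₂ : x ∈ U₂ := ⟨⟨x, hxU⟩, show f ⟨x, hxU⟩ ∈ V from hfx ▸ hyV, rfl⟩
  let f' : U₂.toScheme ⟶ V.toScheme := IsOpenImmersion.lift V.ι
    (X.homOfLE (U.ι_image_le _) ≫ f) (range_homOfLE_comp_subset f _ le_rfl)
  have hf' : f' ≫ V.ι = X.homOfLE (U.ι_image_le _) ≫ f := IsOpenImmersion.lift_fac _ _ _
  obtain ⟨W₁, hW₁, hxW₁, hgf⟩ := exists_le_of_fromSpecStalkOfMem_eq sX hxU₂ (f' ≫ g) U₂.ι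
    (by rw [Category.assoc, hg2, reassoc_of% hf', hf2, Scheme.homOfLE_ι_assoc])
    (by
      have : U₂.fromSpecStalkOfMem x hxU₂ ≫ f' = Spec.map φ ≫ V.fromSpecStalkOfMem y hyV := by
        rw [← cancel_mono V.ι, Category.assoc, hf', ← Category.assoc, fromSpecStalkOfMem_homOfLE,
          ← hf1, Category.assoc, Scheme.Opens.fromSpecStalkOfMem_ι]
      rw [reassoc_of% this, ← hg1, ← Spec.map_comp_assoc, IsIso.inv_hom_id, Spec.map_id,
        Category.id_comp, Scheme.Opens.fromSpecStalkOfMem_ι])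
  -- `f ∘ g = id` near `y`
  let V₂ : Y.Opens := V.ι ''ᵁ (g ⁻¹ᵁ U)
  have hyV₂ : y ∈ V₂ := ⟨⟨y, hyV⟩, show g ⟨y, hyV⟩ ∈ U from hgy ▸ hxU, rfl⟩
  let g' : V₂.toScheme ⟶ U.toScheme := IsOpenImmersion.lift U.ι
    (Y.homOfLE (V.ι_image_le _) ≫ g) (range_homOfLE_comp_subset g _ le_rfl)
  have hg' : g' ≫ U.ι = Y.homOfLE (V.ι_image_le _) ≫ g := IsOpenImmersion.lift_fac _ _ _
  obtain ⟨W₂, hW₂, hyW₂, hfg⟩ := exists_le_of_fromSpecStalkOfMem_eq sY hyV₂ (g' ≫ f) V₂.ι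
    (by rw [Category.assoc, hf2, reassoc_of% hg', hg2, Scheme.homOfLE_ι_assoc])
    (by
      have : V₂.fromSpecStalkOfMem y hyV₂ ≫ g' = Spec.map (inv φ) ≫ U.fromSpecStalkOfMem x hxU := by
        rw [← cancel_mono U.ι, Category.assoc, hg', ← Category.assoc, fromSpecStalkOfMem_homOfLE,
          ← hg1, Category.assoc, Scheme.Opens.fromSpecStalkOfMem_ι]
      rw [reassoc_of% this, ← hf1, ← Spec.map_comp_assoc, IsIso.hom_inv_id, Spec.map_id,
        Category.id_comp, Scheme.Opens.fromSpecStalkOfMem_ι])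
  -- the two neighbourhoods
  have hWU : W₁ ≤ U := hW₁.trans (U.ι_image_le _)
  let U₁ : X.Opens := W₁.ι ''ᵁ ((X.homOfLE hWU ≫ f) ⁻¹ᵁ W₂)
  have hxU₁ : x ∈ U₁ := by
    refine ⟨⟨x, hxW₁⟩, ?_, rfl⟩
    change f (X.homOfLE hWU ⟨x, hxW₁⟩) ∈ W₂
    rw [show X.homOfLE hWU ⟨x, hxW₁⟩ = (⟨x, hxU⟩ : U.toScheme) from
      Subtype.ext (X.homOfLE_apply _ _), hfx]
    exact hyW₂
  have hWV : W₂ ≤ V := hW₂.trans (V.ι_image_le _)
  let V₁ : Y.Opens := W₂.ι ''ᵁ ((Y.homOfLE hWV ≫ g) ⁻¹ᵁ U₁)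
  have hU₁W : U₁ ≤ W₁ := W₁.ι_image_le _
  have hV₁W : V₁ ≤ W₂ := W₂.ι_image_le _
  have hF : Set.range (X.homOfLE (hU₁W.trans hWU) ≫ f) ⊆ Set.range V₁.ι := by
    rintro _ ⟨⟨z, hz⟩, rfl⟩
    rw [Scheme.Opens.range_ι]
    refine exists_image_eq hWU hWV hU₁W f g (X.homOfLE hW₁ ≫ f') ?_ ?_ ⟨z, hz⟩ ?_
    · rw [Category.assoc, hf', Scheme.homOfLE_homOfLE_assoc]
    · rw [Category.assoc, hgf, Scheme.homOfLE_ι]
    · obtain ⟨w, hw, hwz⟩ := exists_homOfLE_eq_of_mem_image hWU _ (hU₁W.trans hWU) ⟨z, hz⟩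
      rw [hwz]
      exact hw
  have hG : Set.range (Y.homOfLE (hV₁W.trans hWV) ≫ g) ⊆ Set.range U₁.ι := by
    rintro _ ⟨b, rfl⟩
    rw [Scheme.Opens.range_ι]
    obtain ⟨w, hw, hwz⟩ := exists_homOfLE_eq_of_mem_image hWV _ (hV₁W.trans hWV) b
    rw [Scheme.Hom.comp_apply, hwz]
    exact hw
  let F := IsOpenImmersion.lift V₁.ι _ hF
  let G := IsOpenImmersion.lift U₁.ι _ hG
  have hFι : F ≫ V₁.ι = X.homOfLE (hU₁W.trans hWU) ≫ f := IsOpenImmersion.lift_fac _ _ _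
  have hGι : G ≫ U₁.ι = Y.homOfLE (hV₁W.trans hWV) ≫ g := IsOpenImmersion.lift_fac _ _ _
  have hFG : F ≫ G = 𝟙 _ := by
    have h1 : F ≫ Y.homOfLE (hV₁W.trans hWV) = X.homOfLE (hU₁W.trans hW₁) ≫ f' := by
      rw [← cancel_mono V.ι, Category.assoc, Category.assoc, Scheme.homOfLE_ι, hFι, hf',
        Scheme.homOfLE_homOfLE_assoc]
    rw [← cancel_mono U₁.ι, Category.assoc, hGι, reassoc_of% h1, Category.id_comp,
      ← X.homOfLE_homOfLE hU₁W hW₁, Category.assoc, hgf, Scheme.homOfLE_ι, Scheme.homOfLE_ι]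
  have hGF : G ≫ F = 𝟙 _ := by
    have h1 : G ≫ X.homOfLE (hU₁W.trans hWU) = Y.homOfLE (hV₁W.trans hW₂) ≫ g' := by
      rw [← cancel_mono U.ι, Category.assoc, Category.assoc, Scheme.homOfLE_ι, hGι, hg',
        Scheme.homOfLE_homOfLE_assoc]
    rw [← cancel_mono V₁.ι, Category.assoc, hFι, reassoc_of% h1, Category.id_comp,
      ← Y.homOfLE_homOfLE hV₁W hW₂, Category.assoc, hfg, Scheme.homOfLE_ι, Scheme.homOfLE_ι]
  refine ⟨U₁, hxU₁, V₁, F, ⟨G, hFG, hGF⟩, ?_, ?_⟩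
  · rw [hFι, ← Category.assoc, fromSpecStalkOfMem_homOfLE, hf1]
  · rw [reassoc_of% hFι, hf2, Scheme.homOfLE_ι_assoc]

end Groth.Agent.H8Lim
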