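import Groth.Agent.H8Lim.ModHomDescent
import Groth.Agent.AmpleLib.Ample
import Groth.Agent.EGA43.FibDepth.Unit
import Groth.Agent.EGA43.FibDepth.LociScheme

/-!
# Sections and ampleness descend along limits (EGA IV 8.10.5.2, Stacks 09MT)
-/

set_option autoImplicit false
set_option maxHeartbeats 800000
set_option backward.isDefEq.respectTransparency.types false
set_option linter.style.haveILetI false

universe u

open CategoryTheory CategoryTheory.Limits AlgebraicGeometry Opposite TopologicalSpace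
open Groth.Agent.Coherent Groth.Agent.PicLib Groth.Agent.EGA43.InjFibre Groth.Agent.AmpleLib

namespace Groth.Agent.H8Lim

variable {I : Type u} [SmallCategory I] [IsCofiltered I] {D : I ⥤ Scheme.{u}} {c : Cone D}
  [∀ {i j : I} (f : i ⟶ j), IsAffineHom (D.map f)] (hc : IsLimit c)

theorem pullSec_congr {X Y : Scheme.{u}} {p q : Y ⟶ X} (e : p = q) (G : X.Modules) (m : Γ(G, ⊤)) :
    ((Scheme.Modules.pullbackCongr e).app G).hom.app ⊤ (pullSec p m) = pullSec q m := by
  subst e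
  simp [Scheme.Modules.pullbackCongr]

theorem pullStageIso_hom_app_pullSec {i j : I} (φ : j ⟶ i) (G : (D.obj i).Modules) (m : Γ(G, ⊤)) :
    ((pullStageIso c φ).app G).hom.app ⊤ (pullSec (c.π.app j) (pullSec (D.map φ) m)) =
      pullSec (c.π.app i) m := by
  have h := pullbackComp_hom_app_pullSec (c.π.app j) (D.map φ) G m
  exact (congrArg (((Scheme.Modules.pullbackCongr (c.w φ)).app G).hom.app ⊤) h).trans
    (pullSec_congr (c.w φ) G m)

include hc in
/-- Global sections of a quasi-coherent module on the limit come from a stage. -/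
theorem exists_stage_section {i : I} [CompactSpace (D.obj i)] [QuasiSeparatedSpace (D.obj i)]
    (G : (D.obj i).Modules) [Coh.IsQCoh G]
    (b' : Γ((Scheme.Modules.pullback (c.π.app i)).obj G, ⊤)) :
    ∃ (j : I) (φ : j ⟶ i) (b : Γ((Scheme.Modules.pullback (D.map φ)).obj G, ⊤)),
      ((pullStageIso c φ).app G).hom.app ⊤ (pullSec (c.π.app j) b) = b' := by
  have hO := EGA43.FibDepth.isFP_structureModule (D.obj i)
  have : Coh.IsQCoh (Coh.structureModule (D.obj i)) := EGA43.FibDepth.isQCoh_of_isFP _ hO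
  let Φ : Coh.structureModule (D.obj i) ⟶
      (Scheme.Modules.pushforward (c.π.app i)).obj ((Scheme.Modules.pullback (c.π.app i)).obj G) :=
    unitDesc _ b'
  let h := ((Scheme.Modules.pullbackPushforwardAdjunction (c.π.app i)).homEquiv _ _).symm Φ
  obtain ⟨j, φ, hj, e⟩ := exists_stage_modHom hc (Coh.structureModule (D.obj i)) G hO h
  let one : Γ(Coh.structureModule (D.obj i), ⊤) := (1 : Γ(D.obj i, ⊤))
  refine ⟨j, φ, hj.app ⊤ (pullSec (D.map φ) one), ?_⟩
  have h1 : h.app ⊤ (pullSec (c.π.app i) one) = b' := by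
    refine (homEquiv_symm_app_pullSec (c.π.app i) Φ (U := ⊤) one).trans ?_
    refine (unitVal_unitDesc ((Scheme.Modules.pushforward (c.π.app i)).obj
      ((Scheme.Modules.pullback (c.π.app i)).obj G)) b' ⊤).trans ?_
    exact resM_self _ _ b'
  rw [← h1]
  refine Eq.trans ?_ (congr(($e).app ⊤ (pullSec (c.π.app i) one)))
  refine (congrArg (((pullStageIso c φ).app G).hom.app ⊤)
    (AmpleLib.pullback_map_app_pullSec (c.π.app j) (U := ⊤) hj (pullSec (D.map φ) one)).symm).trans ?_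
  refine congrArg (fun z => ((pullStageIso c φ).app G).hom.app ⊤
    (((Scheme.Modules.pullback (c.π.app j)).map hj).app ⊤ z)) ?_
  refine (congr(($(((pullStageIso c φ).app (Coh.structureModule (D.obj i))).hom_inv_id)).app ⊤
    (pullSec (c.π.app j) (pullSec (D.map φ) one)))).symm.trans ?_
  exact congrArg (((pullStageIso c φ).app (Coh.structureModule (D.obj i))).inv.app ⊤)
    (pullStageIso_hom_app_pullSec φ (Coh.structureModule (D.obj i)) one)

theorem glocus_pullback_iso {X Y : Scheme.{u}} (σ : Y ⟶ X) {M : X.Modules} (hM : PicF.IsInvertible M)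
    {N : Y.Modules} (e : (Scheme.Modules.pullback σ).obj M ≅ N) (b : Γ(M, ⊤)) :
    glocus N (e.hom.app ⊤ (pullSec σ b)) = σ ⁻¹ᵁ glocus M b := by
  rw [glocus_map_iso, glocus_pullSec σ hM]

theorem isCompact_glocus {X : Scheme.{u}} [CompactSpace X] {M : X.Modules} (hM : PicF.IsInvertible M)
    (b : Γ(M, ⊤)) : IsCompact (glocus M b : Set X) := by
  have := isAffineHom_glocus_ι hM b
  have : CompactSpace (glocus M b : Scheme.{u}) :=
    QuasiCompact.compactSpace_of_compactSpace (glocus M b).ι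
  exact isCompact_iff_compactSpace.2 this

include hc in
/-- An affine section locus on the limit comes from an affine section locus at a stage. -/
theorem exists_stage_affine_glocus [∀ i, CompactSpace (D.obj i)] [∀ i, QuasiSeparatedSpace (D.obj i)]
    {i : I} (G : (D.obj i).Modules) (hG : PicF.IsInvertible G)
    (b' : Γ((Scheme.Modules.pullback (c.π.app i)).obj G, ⊤)) (ha : IsAffineOpen (glocus _ b')) :
    ∃ (j : I) (φ : j ⟶ i) (b : Γ((Scheme.Modules.pullback (D.map φ)).obj G, ⊤)),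
      IsAffineOpen (glocus _ b) ∧ c.π.app j ⁻¹ᵁ glocus _ b = glocus _ b' := by
  have := isQCoh_of_isInvertible hG
  obtain ⟨j, φ, b, hb⟩ := exists_stage_section hc G b'
  have hG' := PicLoc.isInvertible_pullback (D.map φ) hG
  have hpre : c.π.app j ⁻¹ᵁ glocus _ b = glocus _ b' := by
    rw [← hb, glocus_pullback_iso (c.π.app j) hG']
  obtain ⟨l, V, hV, hVe⟩ := exists_isAffineOpen_preimage_eq D c hc (glocus _ b') ha
  obtain ⟨m, hmj, hml, -⟩ := IsCofilteredOrEmpty.cone_objs j l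
  obtain ⟨n, hnm, hn⟩ := exists_map_preimage_eq_map_preimage D c hc
    (U := D.map hmj ⁻¹ᵁ glocus _ b) (V := D.map hml ⁻¹ᵁ V)
    (QuasiCompact.isCompact_preimage (f := D.map hmj) _ (glocus _ b).2 (isCompact_glocus hG' b))
    (hV.preimage _).isCompact
    (by rw [← Scheme.Hom.comp_preimage, ← Scheme.Hom.comp_preimage, c.w, c.w, hpre, hVe])
  refine ⟨n, hnm ≫ hmj ≫ φ, (((pullCompIso φ (hnm ≫ hmj)).app G ≪≫
      (Scheme.Modules.pullbackCongr (congrArg D.map (Category.assoc hnm hmj φ))).app G)).hom.app ⊤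
        (pullSec (D.map (hnm ≫ hmj)) b), ?_, ?_⟩
  · rw [glocus_pullback_iso (D.map (hnm ≫ hmj)) hG', D.map_comp, Scheme.Hom.comp_preimage, hn]
    exact (hV.preimage _).preimage _
  · rw [glocus_pullback_iso (D.map (hnm ≫ hmj)) hG', ← Scheme.Hom.comp_preimage, c.w, hpre]

include hc in
/-- Ampleness descends to a stage. -/
theorem exists_stage_isAmple [∀ i, CompactSpace (D.obj i)] [∀ i, QuasiSeparatedSpace (D.obj i)]
    {i : I} (L₀ : (D.obj i).Modules) (hL₀ : PicF.IsInvertible L₀)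
    (h : CohB1.IsAmple ((Scheme.Modules.pullback (c.π.app i)).obj L₀)) :
    ∃ (j : I) (φ : j ⟶ i), CohB1.IsAmple ((Scheme.Modules.pullback (D.map φ)).obj L₀) := by
  obtain ⟨hL, hcpt, hA⟩ := isAmple_iff_affGlocus.1 h
  have key : ∀ x : c.pt, ∃ (m : ℕ) (_ : 0 < m) (j : I) (φ : j ⟶ i)
      (b : Γ((Scheme.Modules.pullback (D.map φ)).obj (CohB1.tensorPow L₀ m), ⊤)),
      IsAffineOpen (glocus _ b) ∧ x ∈ c.π.app j ⁻¹ᵁ glocus _ b := fun x => by
    obtain ⟨m, hm, b, hx, -, ha⟩ := hA x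
    obtain ⟨e, -⟩ := exists_pullPowIso (c.π.app i) hL₀ m
    obtain ⟨j, φ, b₁, hb₁, hpre⟩ := exists_stage_affine_glocus hc (CohB1.tensorPow L₀ m)
      (isInvertible_tensorPow hL₀ m) (e.inv.app ⊤ b)
      (by rw [show e.inv.app ⊤ b = e.symm.hom.app ⊤ b from rfl, glocus_map_iso]; exact ha)
    exact ⟨m, hm, j, φ, b₁, hb₁, by
      rw [hpre, show e.inv.app ⊤ b = e.symm.hom.app ⊤ b from rfl, glocus_map_iso]; exact hx⟩
  choose m hm j φ b hb hxb using key
  obtain ⟨t, ht⟩ := hcpt.1.elim_finite_subcover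
    (fun x => ((c.π.app (j x) ⁻¹ᵁ glocus _ (b x) : c.pt.Opens) : Set c.pt))
    (fun x => (c.π.app (j x) ⁻¹ᵁ glocus _ (b x)).2) fun x _ => Set.mem_iUnion.2 ⟨x, hxb x⟩
  obtain ⟨J, g, gk, hg⟩ := IsCofiltered.wideCospan fun x : t => φ x.1
  obtain ⟨K, ψ, hK⟩ := exists_map_eq_top D c hc (⨆ x : t, D.map (gk x) ⁻¹ᵁ glocus _ (b x.1)) (by
    refine eq_top_iff.2 fun p _ => ?_
    obtain ⟨x, hx, hp⟩ := Set.mem_iUnion₂.1 (ht (Set.mem_univ p))
    simp only [Scheme.Hom.preimage_iSup, ← Scheme.Hom.comp_preimage, c.w]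
    exact Opens.mem_iSup.2 ⟨⟨x, hx⟩, hp⟩)
  refine ⟨K, ψ ≫ g, isAmple_iff_affGlocus.2 ⟨PicLoc.isInvertible_pullback _ hL₀, inferInstance,
    fun y => ?_⟩⟩
  have hy : y ∈ D.map ψ ⁻¹ᵁ (⨆ x : t, D.map (gk x) ⁻¹ᵁ glocus _ (b x.1)) := by
    rw [hK]; trivial
  obtain ⟨x, hx⟩ := Opens.mem_iSup.1 hy
  obtain ⟨e, -⟩ := exists_pullPowIso (D.map (ψ ≫ g)) hL₀ (m x.1)
  have e' : ψ ≫ gk x ≫ φ x.1 = ψ ≫ g := by rw [hg]
  let E := (pullCompIso (φ x.1) (ψ ≫ gk x)).app (CohB1.tensorPow L₀ (m x.1)) ≪≫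
    (Scheme.Modules.pullbackCongr (congrArg D.map ((Category.assoc _ _ _).trans e'))).app _ ≪≫ e
  refine ⟨m x.1, hm x.1, E.hom.app ⊤ (pullSec (D.map (ψ ≫ gk x)) (b x.1)), ?_, le_top, ?_⟩
  · rw [glocus_pullback_iso _ (PicLoc.isInvertible_pullback _ (isInvertible_tensorPow hL₀ _)),
      D.map_comp, Scheme.Hom.comp_preimage]
    exact hx
  · rw [glocus_pullback_iso _ (PicLoc.isInvertible_pullback _ (isInvertible_tensorPow hL₀ _))]
    exact (hb x.1).preimage _

end Groth.Agent.H8Lim
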