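import Groth.Agent.H8Lim.ApproxClosed
import Groth.Agent.H8Lim.Absolute

/-!
# Finite morphisms are limits of finite morphisms of finite presentation

Stacks 09YQ / EGA IV 8.10.5 (x).
-/

set_option autoImplicit false
set_option backward.isDefEq.respectTransparency.types false

universe u

open CategoryTheory Limits AlgebraicGeometry TopologicalSpace Opposite

namespace Groth.Agent.H8Lim

/-- A limit over a directed order restricts to any final segment. -/
theorem isLimit_restrict_Ici {C : Type*} [Category C] {I : Type u} [Preorder I]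
    [IsDirected I (fun a b => a ≤ b)] (i₀ : I) {D : Iᵒᵖ ⥤ C} {c : Cone D} (hc : IsLimit c) :
    ∃ (J : Type u) (_ : Preorder J) (_ : IsDirected J (fun a b => a ≤ b)) (_ : Nonempty J)
      (φ : Jᵒᵖ ⥤ Iᵒᵖ), Nonempty (IsLimit (c.whisker φ)) ∧ ∀ j, (φ.obj j).unop ≥ i₀ := by
  let g : {j : I // i₀ ≤ j} → I := Subtype.val
  have hg : Monotone g := fun _ _ h ↦ h
  have hdir : IsDirected {j : I // i₀ ≤ j} (fun a b => a ≤ b) := ⟨fun a b ↦ by
    obtain ⟨k, hak, hbk⟩ := exists_ge_ge a.1 b.1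
    exact ⟨⟨k, a.2.trans hak⟩, hak, hbk⟩⟩
  have : hg.functor.Final := (Monotone.final_functor_iff hg).mpr fun j ↦ by
    obtain ⟨k, hik, hjk⟩ := exists_ge_ge i₀ j
    exact ⟨⟨k, hik⟩, hjk⟩
  exact ⟨_, inferInstance, hdir, ⟨⟨i₀, le_rfl⟩⟩, hg.functor.op,
    ⟨(Functor.Initial.isLimitWhiskerEquiv _ _).symm hc⟩, fun j ↦ j.unop.2⟩

variable {X S : Scheme.{u}} (f : X ⟶ S) [IsFinite f] [CompactSpace S] [QuasiSeparatedSpace S]

/-- A finite morphism is a limit of finite morphisms of finite presentation with closed immersions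
as transition maps. -/
theorem exists_limit_finite_finitePresentation :
    ∃ (I : Type u) (_ : Preorder I) (_ : IsDirected I (fun a b => a ≤ b)) (_ : Nonempty I)
      (D : Iᵒᵖ ⥤ Over S) (c : Cone D) (_ : IsLimit c),
      (∀ i, IsFinite (D.obj i).hom ∧ LocallyOfFinitePresentation (D.obj i).hom) ∧
      (∀ (i j : Iᵒᵖ) (a : i ⟶ j), IsClosedImmersion (D.map a).left) ∧
      (∀ i, IsClosedImmersion (c.π.app i).left) ∧
      Nonempty (c.pt ≅ Over.mk f) := by
  have : CompactSpace X := QuasiCompact.compactSpace_of_compactSpace f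
  have : QuasiSeparatedSpace X := quasiSeparatedSpace_of_quasiSeparated f
  obtain ⟨I, _, _, _, D, c, hc, hD, htr, -, hcl, ⟨e⟩⟩ := exists_limit_closedImmersion_transitions f
  let E := D ⋙ Over.forget S
  have : IsConnected Iᵒᵖ := IsCofiltered.isConnected _
  let cE : Cone E := (Over.forget S).mapCone c
  have hE : IsLimit cE := isLimitOfPreserves (Over.forget S) hc
  have htrE : ∀ {i j : Iᵒᵖ} (g : i ⟶ j), IsClosedImmersion (E.map g) := fun g ↦ htr _ _ g
  have : ∀ {i j : Iᵒᵖ} (g : i ⟶ j), IsAffineHom (E.map g) := fun g ↦ haveI := htrE g; inferInstance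
  have : ∀ i, CompactSpace (E.obj i) := fun i ↦ (hD i).2.2.2.1
  have : ∀ i, QuasiSeparatedSpace (E.obj i) := fun i ↦ (hD i).2.2.2.2
  let t : E ⟶ (Functor.const _).obj S :=
    { app := fun i ↦ (D.obj i).hom
      naturality := fun i j g ↦ (Over.w (D.map g)).trans (Category.comp_id _).symm }
  let s : cE.pt ⟶ S := c.pt.hom
  have hs : ∀ i, cE.π.app i ≫ t.app i = s := fun i ↦ Over.w (c.π.app i)
  have : IsIntegralHom s := by
    let e' : cE.pt ≅ X := (Over.forget S).mapIso e
    have he : e'.hom ≫ f = s := Over.w e.hom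
    rw [← he]
    exact MorphismProperty.comp_mem @IsIntegralHom _ _ (inferInstanceAs (IsIntegralHom e'.hom))
      inferInstance
  obtain ⟨i₀, hi₀⟩ := exists_forall_isFinite t hE hs
    (fun g ↦ haveI := htrE g; inferInstance)
    (fun i ↦ haveI : LocallyOfFinitePresentation (t.app i) := (hD i).1; inferInstance)
  obtain ⟨J, _, _, _, φ, ⟨hφ⟩, hge⟩ := isLimit_restrict_Ici i₀.unop hc
  exact ⟨J, inferInstance, inferInstance, inferInstance, φ ⋙ D, c.whisker φ, hφ,
    fun j ↦ ⟨hi₀ _ (homOfLE (hge j)).op, (hD _).1⟩, fun i j a ↦ htr _ _ _, fun j ↦ hcl _, ⟨e⟩⟩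

end Groth.Agent.H8Lim
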