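import Mathlib
import Groth.Prelude.Def_RelSpec
import Groth.Agent.RelSpecLib.Basic

/-!
# Morphisms into a relative spectrum from an algebra map to a direct image
-/

set_option autoImplicit false
set_option backward.isDefEq.respectTransparency.types false

universe u

open CategoryTheory Limits AlgebraicGeometry TopologicalSpace Opposite

namespace Groth.Agent.H8Lim

variable {X S : Scheme.{u}} (h : X ⟶ S) {A : RelSpec.QCAlg S}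
  (φ : A.presheaf ⟶ h.base _* X.presheaf)

/-- The component of `φ`. -/
noncomputable abbrev algComp (U : S.Opens) : A.presheaf.obj (op U) ⟶ Γ(X, h ⁻¹ᵁ U) := φ.app (op U)

/-- The chart of `toSpec`. -/
noncomputable def toSpecChart (U : S.affineOpens) : (h ⁻¹ᵁ U.1).toScheme ⟶ A.spec :=
  (h ⁻¹ᵁ U.1).toSpecΓ ≫ Spec.map (algComp h φ U.1) ≫ A.ι U.1 U.2

lemma homOfLE_toSpecChart {U V : S.affineOpens} (e : V.1 ≤ U.1) :
    X.homOfLE (h.preimage_mono e) ≫ toSpecChart h φ U = toSpecChart h φ V := by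
  rw [toSpecChart, toSpecChart, ← Scheme.Opens.toSpecΓ_SpecMap_presheaf_map_assoc, ← RelSpecLib.ι_res' A U.2 V.2 e,
    ← Spec.map_comp_assoc, ← Spec.map_comp_assoc]
  congr 3
  exact (φ.naturality (homOfLE e).op).symm

lemma toSpecChart_compat (U V : S.affineOpens) :
    pullback.fst (h ⁻¹ᵁ U.1).ι (h ⁻¹ᵁ V.1).ι ≫ toSpecChart h φ U =
      pullback.snd (h ⁻¹ᵁ U.1).ι (h ⁻¹ᵁ V.1).ι ≫ toSpecChart h φ V := by
  refine Scheme.hom_ext_of_forall _ _ fun t ↦ ?_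
  let a := pullback.fst (h ⁻¹ᵁ U.1).ι (h ⁻¹ᵁ V.1).ι
  let b := pullback.snd (h ⁻¹ᵁ U.1).ι (h ⁻¹ᵁ V.1).ι
  have hU : h ((a ≫ (h ⁻¹ᵁ U.1).ι) t) ∈ U.1 := (a t).2
  have hV : h ((a ≫ (h ⁻¹ᵁ U.1).ι) t) ∈ V.1 := by
    have : (a ≫ (h ⁻¹ᵁ U.1).ι) t = (b ≫ (h ⁻¹ᵁ V.1).ι) t := by rw [pullback.condition]
    rw [this]
    exact (b t).2
  obtain ⟨W, hW, hzW, hle⟩ := exists_isAffineOpen_mem_and_subset (X := S)
    (x := h ((a ≫ (h ⁻¹ᵁ U.1).ι) t)) (U := U.1 ⊓ V.1) ⟨hU, hV⟩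
  let O := (a ≫ (h ⁻¹ᵁ U.1).ι) ⁻¹ᵁ (h ⁻¹ᵁ W)
  have i₁ : W ≤ U.1 := fun x hx ↦ (hle hx).1
  have i₂ : W ≤ V.1 := fun x hx ↦ (hle hx).2
  let c : O.toScheme ⟶ (h ⁻¹ᵁ W).toScheme :=
    IsOpenImmersion.lift (h ⁻¹ᵁ W).ι (O.ι ≫ a ≫ (h ⁻¹ᵁ U.1).ι) (by
      rw [Scheme.Opens.range_ι]
      rintro _ ⟨x, rfl⟩
      exact x.2)
  have hc : c ≫ (h ⁻¹ᵁ W).ι = O.ι ≫ a ≫ (h ⁻¹ᵁ U.1).ι := IsOpenImmersion.lift_fac _ _ _
  refine ⟨O, hzW, ?_⟩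
  have ha : O.ι ≫ a = c ≫ X.homOfLE (h.preimage_mono i₁) := by
    rw [← cancel_mono (h ⁻¹ᵁ U.1).ι, Category.assoc, Category.assoc, Scheme.homOfLE_ι, hc]
  have hb : O.ι ≫ b = c ≫ X.homOfLE (h.preimage_mono i₂) := by
    rw [← cancel_mono (h ⁻¹ᵁ V.1).ι, Category.assoc, Category.assoc, Scheme.homOfLE_ι, hc,
      pullback.condition]
  rw [reassoc_of% ha, reassoc_of% hb, homOfLE_toSpecChart h φ (U := U) (V := ⟨W, hW⟩) i₁,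
    homOfLE_toSpecChart h φ (U := V) (V := ⟨W, hW⟩) i₂]

/-- The cover of `X` by preimages of affine opens. -/
noncomputable def preCover : X.OpenCover :=
  X.openCoverOfIsOpenCover (fun U : S.affineOpens ↦ h ⁻¹ᵁ U.1) (by
    rw [IsOpenCover, ← Scheme.Hom.preimage_iSup, iSup_affineOpens_eq_top, Scheme.Hom.preimage_top])

/-- The morphism into the relative spectrum. -/
noncomputable def toSpec : X ⟶ A.spec :=
  (preCover h).glueMorphisms (toSpecChart h φ) (toSpecChart_compat h φ)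

lemma ι_toSpec (U : S.affineOpens) : (h ⁻¹ᵁ U.1).ι ≫ toSpec h φ = toSpecChart h φ U :=
  (preCover h).ι_glueMorphisms _ _ U

lemma toSpec_π (hφ : A.str ≫ φ = h.c) : toSpec h φ ≫ A.π = h := by
  refine (preCover h).hom_ext _ _ fun U ↦ ?_
  change (h ⁻¹ᵁ U.1).ι ≫ toSpec h φ ≫ A.π = (h ⁻¹ᵁ U.1).ι ≫ h
  rw [reassoc_of% (ι_toSpec h φ U), toSpecChart, Category.assoc, Category.assoc, A.ι_π,
    ← Spec.map_comp_assoc]
  have : A.str.app (op U.1) ≫ algComp h φ U.1 = h.app U.1 := NatTrans.congr_app hφ (op U.1)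
  rw [this]
  simp

lemma specMap_toSpec {A' : RelSpec.QCAlg S} (φ' : A'.presheaf ⟶ h.base _* X.presheaf) (ψ : A ⟶ A')
    (hψ : ψ.hom ≫ φ' = φ) : toSpec h φ' ≫ RelSpec.QCAlg.specMap ψ = toSpec h φ := by
  refine (preCover h).hom_ext _ _ fun U ↦ ?_
  change (h ⁻¹ᵁ U.1).ι ≫ toSpec h φ' ≫ _ = (h ⁻¹ᵁ U.1).ι ≫ toSpec h φ
  rw [reassoc_of% (ι_toSpec h φ' U), ι_toSpec, toSpecChart, toSpecChart, Category.assoc, Category.assoc,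
    RelSpec.QCAlg.ι_specMap, ← Spec.map_comp_assoc, ← hψ]
  rfl

/-- On sections over an affine open, `toSpec` is `φ`. -/
lemma toSpec_appLE (U : S.affineOpens) (e : h ⁻¹ᵁ U.1 ≤ toSpec h φ ⁻¹ᵁ (A.π ⁻¹ᵁ U.1)) :
    (toSpec h φ).appLE (A.π ⁻¹ᵁ U.1) (h ⁻¹ᵁ U.1) e = A.gammaAff U.1 U.2 ≫ algComp h φ U.1 := by
  rw [← cancel_mono (h ⁻¹ᵁ U.1).topIso.inv]
  have e₀ : (h ⁻¹ᵁ U.1).ι.appLE (h ⁻¹ᵁ U.1) ⊤ (by simp) = (h ⁻¹ᵁ U.1).topIso.inv := by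
    simp only [Scheme.Hom.appLE, Scheme.Opens.topIso, Scheme.Opens.ι_app, Functor.mapIso_inv]
    exact (X.presheaf.map_comp _ _).symm.trans (congrArg X.presheaf.map (Subsingleton.elim _ _))
  have e₁ : (toSpec h φ).appLE (A.π ⁻¹ᵁ U.1) (h ⁻¹ᵁ U.1) e ≫ (h ⁻¹ᵁ U.1).topIso.inv =
      ((h ⁻¹ᵁ U.1).ι ≫ toSpec h φ).appLE (A.π ⁻¹ᵁ U.1) ⊤
        (by rw [Scheme.Hom.comp_preimage]; exact le_trans (by simp) ((h ⁻¹ᵁ U.1).ι.preimage_mono e)) := by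
    rw [← e₀, Scheme.Hom.appLE_comp_appLE]
  rw [e₁]
  simp only [ι_toSpec, toSpecChart]
  rw [← Scheme.Hom.appLE_comp_appLE ((h ⁻¹ᵁ U.1).toSpecΓ) (Spec.map (algComp h φ U.1) ≫ A.ι U.1 U.2)
      (A.π ⁻¹ᵁ U.1) ⊤ ⊤ (le_trans (Scheme.Hom.preimage_top _).ge
        ((Spec.map (algComp h φ U.1)).preimage_mono (A.top_le_preimage U.1 U.2))) le_top,
    ← Scheme.Hom.appLE_comp_appLE (Spec.map (algComp h φ U.1)) (A.ι U.1 U.2) (A.π ⁻¹ᵁ U.1) ⊤ ⊤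
      (A.top_le_preimage U.1 U.2) le_top]
  have t : ∀ {P Q : Scheme.{u}} (f : P ⟶ Q) (e : ⊤ ≤ f ⁻¹ᵁ ⊤), f.appLE ⊤ ⊤ e = f.appTop := fun f e ↦
    f.appLE_eq_app
  rw [t, t, Scheme.Opens.toSpecΓ_appTop, RelSpec.QCAlg.gammaAff]
  simp only [Category.assoc]
  rw [reassoc_of% (Scheme.ΓSpecIso_naturality (algComp h φ U.1))]

end Groth.Agent.H8Lim
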