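import Groth.Agent.H8Lim.SubalgebraFamily
import Groth.Agent.H8Lim.RelSpecMap
import Groth.Agent.H8Lim.Limit
import Groth.Agent.H8Lim.ClosedIntoStage
import Groth.Agent.ProjLib.AffAlgLemmas

/-!
# An affine morphism is a limit of affine morphisms of finite type

For an affine morphism `h : S ⟶ B` to a quasi-compact quasi-separated scheme, `S` is the limit of
the directed system of the relative spectra of the finite type quasi-coherent subalgebras of
`h_* 𝒪` (EGA I 9.4.9, EGA IV 8.3.4).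
-/

set_option autoImplicit false
set_option backward.isDefEq.respectTransparency.types false

universe u

open CategoryTheory Limits AlgebraicGeometry TopologicalSpace Opposite

namespace Groth.Agent.H8Lim

variable {S B : Scheme.{u}} (h : S ⟶ B)

/-- A compatible family of finitely generated subalgebras on the members of a finite affine
cover. -/
structure Family where
  /-- the charts -/
  l : List (Chart h)
  good : Good h l
  cover : ∀ b : B, ∃ i ∈ l, b ∈ i.U

variable {h}

namespace Family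

/-- The subalgebra on an open. -/
abbrev A (F : Family h) (U : B.Opens) : Subring Γ(S, h ⁻¹ᵁ U) := partialA h F.l U

variable (F : Family h)

lemma exists_common_basicOpen (U : B.Opens) (hU : IsAffineOpen U) {b : B} (hb : b ∈ U) :
    ∃ i ∈ F.l, ∃ (g : Γ(B, U)) (g' : Γ(B, i.U)),
      B.basicOpen g = B.basicOpen g' ∧ b ∈ B.basicOpen g := by
  obtain ⟨i, hi, hbi⟩ := F.cover b
  obtain ⟨g, g', e, hg⟩ := exists_basicOpen_le_affine_inter hU i.isAffineOpen b ⟨hb, hbi⟩
  exact ⟨i, hi, g, g', e, hg⟩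

/-- Membership in the family is local. -/
lemma mem_of_locally [IsAffineHom h] {U : B.Opens} (x : Γ(S, h ⁻¹ᵁ U))
    (H : ∀ b ∈ U, ∃ (W : B.Opens) (e : W ≤ U), b ∈ W ∧ resF h e x ∈ F.A W) : x ∈ F.A U := by
  intro i hi g e
  have hloc : ∀ b : (B.basicOpen g : Set B), ∃ g' : Γ(B, i.U), b.1 ∈ B.basicOpen g' ∧
      ∃ e' : B.basicOpen g' ≤ B.basicOpen g,
        resF h e' (resF h e x) ∈ locSubring h i.K i.appF_mem g' := by
    rintro ⟨b, hb⟩
    obtain ⟨W, eW, hbW, hW⟩ := H b (e hb)
    obtain ⟨g', hle, hbg'⟩ := i.isAffineOpen.exists_basicOpen_le (V := B.basicOpen g ⊓ W)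
      ⟨b, hb, hbW⟩ (B.basicOpen_le g hb)
    refine ⟨g', hbg', hle.trans inf_le_left, ?_⟩
    have := hW i hi g' (hle.trans inf_le_right)
    rw [resF_resF] at this ⊢
    exact this
  choose g' hg' e' he' using hloc
  exact mem_locSubring_of_cover h i.appF_mem i.isAffineOpen g g' e'
    (fun b hb ↦ Opens.mem_iSup.mpr ⟨⟨b, hb⟩, hg' ⟨b, hb⟩⟩) _ he'

/-- On every affine open the family is finitely generated. -/
lemma exists_generators [IsAffineHom h] [QuasiSeparatedSpace B] {U : B.Opens}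
    (hU : IsAffineOpen U) : ∃ G : Finset Γ(S, h ⁻¹ᵁ U), (∀ y ∈ G, y ∈ F.A U) ∧
      ∀ x ∈ F.A U, x ∈ Subring.closure (Set.range (appF h U) ∪ (G : Set _)) := by
  classical
  have hex : ∀ b : (U : Set B), ∃ i, i ∈ F.l ∧ ∃ (g : Γ(B, U)) (g' : Γ(B, i.U)),
      B.basicOpen g = B.basicOpen g' ∧ b.1 ∈ B.basicOpen g := fun b ↦
    F.exists_common_basicOpen U hU b.2
  choose i hi g g' he hb using hex
  obtain ⟨t, ht⟩ := hU.isCompact.elim_finite_subcover (fun b ↦ (B.basicOpen (g b) : Set B))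
    (fun b ↦ (B.basicOpen (g b)).2) fun b hbU ↦ Set.mem_iUnion.mpr ⟨⟨b, hbU⟩, hb _⟩
  have hgU : ∀ b, B.basicOpen (g b) ≤ (i b).U := fun b ↦ (he b).le.trans (B.basicOpen_le _)
  have hgen : ∀ b, ∀ y ∈ (i b).F, ∃ (n : ℕ), ∃ a ∈ F.A U,
      resF h (B.basicOpen_le (g b)) a = resF h (hgU b) y *
        resF h (B.basicOpen_le (g b)) (appF h U (g b)) ^ n := fun b y hy ↦
    exists_mem_partialA h F.l hU (g b) (resF_mem_partialA h F.l (hgU b)
      (F.good (i b) (hi b) (Subring.subset_closure (Or.inr hy))))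
  choose n a ha hax using hgen
  let G : Finset Γ(S, h ⁻¹ᵁ U) :=
    t.biUnion fun b ↦ (i b).F.attach.image fun y ↦ a b y.1 y.2
  refine ⟨G, fun z hz ↦ ?_, fun x hx ↦ ?_⟩
  · obtain ⟨b, -, hz⟩ := Finset.mem_biUnion.mp hz
    obtain ⟨y, -, rfl⟩ := Finset.mem_image.mp hz
    exact ha _ _ _
  let C := Subring.closure (Set.range (appF h U) ∪ (G : Set Γ(S, h ⁻¹ᵁ U)))
  have hC : ∀ r, appF h U r ∈ C := fun r ↦ Subring.subset_closure (Or.inl ⟨r, rfl⟩)
  have hK : ∀ b ∈ t, ∀ z ∈ (i b).K, resF h (hgU b) z ∈ locSubring h C hC (g b) := by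
    intro b hbt z hz
    induction hz using Subring.closure_induction with
    | mem w hw =>
      rcases hw with ⟨r, rfl⟩ | hw
      · rw [resF_appF]
        exact appF_mem_locSubring h hC hU _ _
      · exact ⟨n b w hw, a b w hw, Subring.subset_closure (Or.inr (Finset.mem_biUnion.mpr
          ⟨b, hbt, Finset.mem_image.mpr ⟨⟨w, hw⟩, Finset.mem_attach _ _, rfl⟩⟩)), hax b w hw⟩
    | zero => rw [map_zero]; exact Subring.zero_mem _
    | one => rw [map_one]; exact Subring.one_mem _
    | add y z _ _ hy hz => rw [map_add]; exact Subring.add_mem _ hy hz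
    | neg y _ hy => rw [map_neg]; exact Subring.neg_mem _ hy
    | mul y z _ _ hy hz => rw [map_mul]; exact Subring.mul_mem _ hy hz
  have h1 : B.basicOpen (1 : Γ(B, U)) = U := Scheme.basicOpen_of_isUnit _ isUnit_one
  have key : resF h (B.basicOpen_le 1) x ∈ locSubring h C hC (1 : Γ(B, U)) := by
    refine mem_locSubring_of_cover h hC hU 1 (fun b : t ↦ g b.1)
      (fun b ↦ (B.basicOpen_le _).trans h1.ge) (fun z hz ↦ ?_) _ fun b ↦ ?_
    · obtain ⟨b, hbt, hzb⟩ := Set.mem_iUnion₂.mp (ht (h1.le hz))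
      exact Opens.mem_iSup.mpr ⟨⟨b, hbt⟩, hzb⟩
    obtain ⟨m, c, hc, hxc⟩ := hx (i b) (hi b) (g' b) ((he b).ge.trans (B.basicOpen_le _))
    have h2 := congr(resF h (he b.1).le $hxc)
    rw [map_mul, map_pow, resF_resF, resF_resF, resF_resF] at h2
    have hu0 : IsUnit (B.presheaf.map (homOfLE (hgU b.1)).op (g' b.1)) := by
      have h0 : IsUnit (B.presheaf.map (homOfLE (B.basicOpen_le (g' b.1))).op (g' b.1)) :=
        RingedSpace.isUnit_res_basicOpen B.toRingedSpace (g' b.1)
      have h0' := h0.map (B.presheaf.map (homOfLE (he b.1).le).op).hom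
      rw [show (homOfLE (hgU b.1)).op = (homOfLE (B.basicOpen_le (g' b.1))).op ≫
        (homOfLE (he b.1).le).op from rfl, Functor.map_comp, CommRingCat.comp_apply]
      exact h0'
    obtain ⟨v, hv⟩ := isUnit_iff_exists_inv.mp (hu0.pow m)
    have hu : resF h (hgU b) (appF h (i b).U (g' b)) ^ m * appF h (B.basicOpen (g b)) v = 1 := by
      rw [resF_appF, ← map_pow, ← map_mul, hv, map_one]
    rw [resF_resF]
    have h3 : resF h (B.basicOpen_le (g b.1)) x = resF h (hgU b) c *
        appF h (B.basicOpen (g b)) v := by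
      rw [h2, mul_assoc, hu, mul_one]
    rw [h3]
    exact Subring.mul_mem _ (hK b b.2 c hc) (appF_mem_locSubring h hC hU _ _)
  obtain ⟨m, c, hc, hxc⟩ := key
  rw [map_one, map_one, one_pow, mul_one] at hxc
  exact resF_injective h (B.basicOpen_le _) h1.ge hxc ▸ hc

lemma le_iff_subset {F G : Family h} : (∀ U, F.A U ≤ G.A U) ↔ ∀ U, ∀ x ∈ F.A U, x ∈ G.A U := Iff.rfl

instance : Preorder (Family h) where
  le F G := ∀ U, F.A U ≤ G.A U
  le_refl _ _ := le_rfl
  le_trans _ _ _ h₁ h₂ U := (h₁ U).trans (h₂ U)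

/-- A family is contained in another as soon as it is on the charts of the latter. -/
lemma le_of_forall [IsAffineHom h] [QuasiSeparatedSpace B] {F G : Family h}
    (H : ∀ i ∈ G.l, F.A i.U ≤ i.K) : F ≤ G := by
  intro U x hx i hi g e
  obtain ⟨n, a, ha, hxa⟩ := exists_mem_partialA h F.l i.isAffineOpen g
    (resF_mem_partialA h F.l e hx)
  exact ⟨n, a, H i hi ha, hxa⟩

lemma exists_le_le_gen [IsAffineHom h] [QuasiSeparatedSpace B] (F G : Family h) :
    ∃ E : Family h, F ≤ E ∧ G ≤ E ∧ ∀ i ∈ E.l,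
      (∃ k ∈ F.l, k.U = i.U) ∧ ∀ y ∈ i.F, y ∈ F.A i.U ∨ y ∈ G.A i.U := by
  classical
  choose GF hGF₁ hGF₂ using fun i : Chart h ↦ F.exists_generators i.isAffineOpen
  choose GG hGG₁ hGG₂ using fun i : Chart h ↦ G.exists_generators i.isAffineOpen
  let c : Chart h → Chart h := fun i ↦ ⟨i.U, GF i ∪ GG i, i.isAffineOpen⟩
  have hF : ∀ i, F.A i.U ≤ (c i).K := fun i x hx ↦
    Subring.closure_mono (Set.union_subset_union_right _ (by simp [c])) (hGF₂ i x hx)
  have hG : ∀ i, G.A i.U ≤ (c i).K := fun i x hx ↦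
    Subring.closure_mono (Set.union_subset_union_right _ (by simp [c])) (hGG₂ i x hx)
  have hgood : Good h (F.l.map c) := by
    intro i' hi' x hx k' hk' g e
    obtain ⟨i, -, rfl⟩ := List.mem_map.mp hi'
    obtain ⟨k, -, rfl⟩ := List.mem_map.mp hk'
    induction hx using Subring.closure_induction with
    | mem y hy =>
      rcases hy with ⟨r, rfl⟩ | hy
      · rw [resF_appF]
        exact appF_mem_locSubring h (c k).appF_mem (c k).isAffineOpen g _
      · rcases Finset.mem_union.mp hy with hy | hy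
        · obtain ⟨n, a, ha, hya⟩ := exists_mem_partialA h F.l k.isAffineOpen g
            (resF_mem_partialA h F.l e (hGF₁ i y hy))
          exact ⟨n, a, hF k ha, hya⟩
        · obtain ⟨n, a, ha, hya⟩ := exists_mem_partialA h G.l k.isAffineOpen g
            (resF_mem_partialA h G.l e (hGG₁ i y hy))
          exact ⟨n, a, hG k ha, hya⟩
    | zero => rw [map_zero]; exact Subring.zero_mem _
    | one => rw [map_one]; exact Subring.one_mem _
    | add y z _ _ hy hz => rw [map_add]; exact Subring.add_mem _ hy hz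
    | neg y _ hy => rw [map_neg]; exact Subring.neg_mem _ hy
    | mul y z _ _ hy hz => rw [map_mul]; exact Subring.mul_mem _ hy hz
  let E : Family h := ⟨F.l.map c, hgood, fun b ↦ by
    obtain ⟨i, hi, hb⟩ := F.cover b
    exact ⟨c i, List.mem_map_of_mem hi, hb⟩⟩
  refine ⟨E, le_of_forall ?_, le_of_forall ?_, ?_⟩
  · intro i' hi'
    obtain ⟨i, -, rfl⟩ := List.mem_map.mp hi'
    exact hF i
  · intro i' hi'
    obtain ⟨i, -, rfl⟩ := List.mem_map.mp hi'
    exact hG i
  · intro i' hi'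
    obtain ⟨i, hi, rfl⟩ := List.mem_map.mp hi'
    refine ⟨⟨i, hi, rfl⟩, fun y hy ↦ ?_⟩
    exact (Finset.mem_union.mp hy).imp (hGF₁ i y) (hGG₁ i y)

lemma exists_le_le [IsAffineHom h] [QuasiSeparatedSpace B] (F G : Family h) :
    ∃ E : Family h, F ≤ E ∧ G ≤ E :=
  let ⟨E, h₁, h₂, _⟩ := exists_le_le_gen F G
  ⟨E, h₁, h₂⟩

lemma exists_good_of_list [IsAffineHom h] [QuasiSeparatedSpace B] (i₀ : Chart h)
    (L : List B.affineOpens) : ∃ l, Good h l ∧ i₀ ∈ l ∧ ∀ V ∈ L, ∃ i ∈ l, i.U = V.1 := by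
  induction L with
  | nil => exact ⟨[i₀], good_singleton h i₀, List.mem_singleton_self _, fun V hV ↦ by simp at hV⟩
  | cons V L ih =>
    obtain ⟨l, hl, hi₀, hL⟩ := ih
    obtain ⟨i, hi, hgood⟩ := exists_good_cons h hl V.2
    refine ⟨i :: l, hgood, List.mem_cons_of_mem _ hi₀, fun W hW ↦ ?_⟩
    rcases List.mem_cons.mp hW with rfl | hW
    · exact ⟨i, List.mem_cons_self, hi⟩
    · obtain ⟨j, hj, hjW⟩ := hL W hW
      exact ⟨j, List.mem_cons_of_mem _ hj, hjW⟩

/-- Every finite set of sections on an affine open is contained in some family. -/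
lemma exists_mem [IsAffineHom h] [CompactSpace B] [QuasiSeparatedSpace B] {U : B.Opens}
    (hU : IsAffineOpen U) (s : Finset Γ(S, h ⁻¹ᵁ U)) : ∃ F : Family h, ∀ y ∈ s, y ∈ F.A U := by
  classical
  obtain ⟨t, ht⟩ := isCompact_univ.elim_finite_subcover (fun V : B.affineOpens ↦ (V.1 : Set B))
    (fun V ↦ V.1.2) fun b _ ↦ by
      obtain ⟨V, hV, hb, -⟩ := exists_isAffineOpen_mem_and_subset (X := B) (x := b) (U := ⊤) trivial
      exact Set.mem_iUnion.mpr ⟨⟨V, hV⟩, hb⟩
  obtain ⟨l, hl, hi₀, hL⟩ := exists_good_of_list (⟨U, s, hU⟩ : Chart h) t.toList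
  refine ⟨⟨l, hl, fun b ↦ ?_⟩, fun x hx ↦ hl _ hi₀ (Subring.subset_closure (Or.inr hx))⟩
  obtain ⟨V, hV, hb⟩ := Set.mem_iUnion₂.mp (ht (Set.mem_univ b))
  obtain ⟨i, hi, hiV⟩ := hL V (Finset.mem_toList.mpr hV)
  exact ⟨i, hi, hiV ▸ hb⟩

section alg

variable [IsAffineHom h] [QuasiSeparatedSpace B]

/-- The presheaf of subrings. -/
noncomputable def presheaf : TopCat.Presheaf CommRingCat.{u} B.carrier where
  obj U := CommRingCat.of (F.A U.unop)
  map {U V} i := CommRingCat.ofHom ((resF h i.unop.le).restrict _ _ fun _ hx ↦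
    resF_mem_partialA h F.l _ hx)
  map_id U := by ext x; exact resF_self h _ _
  map_comp i j := by ext x; exact (resF_resF h _ _ _).symm

/-- The inclusion into the direct image. -/
noncomputable def incl : F.presheaf ⟶ h.base _* S.presheaf where
  app U := CommRingCat.ofHom (F.A U.unop).subtype
  naturality U V i := by ext x; rfl

/-- The structure map. -/
noncomputable def str : B.presheaf ⟶ F.presheaf where
  app U := CommRingCat.ofHom ((appF h U.unop).codRestrict _ (appF_mem_partialA h F.l U.unop))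
  naturality U V i := by
    ext b
    exact Subtype.ext (congr($(h.naturality i).hom b))

omit [QuasiSeparatedSpace B] in
lemma isSheaf_presheaf : F.presheaf.IsSheaf := by
  rw [TopCat.Presheaf.isSheaf_iff_isSheafUniqueGluing]
  intro ι U sf hsf
  have hsh := TopCat.Sheaf.pushforward_sheaf_of_sheaf h.base S.sheaf.property
  have hcompat : TopCat.Presheaf.IsCompatible (h.base _* S.presheaf) U fun i ↦ (sf i).1 :=
    fun i j ↦ congrArg Subtype.val (hsf i j)
  obtain ⟨s, hs, huniq⟩ := TopCat.Presheaf.IsSheaf.isSheafUniqueGluing hsh U _ hcompat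
  have hsA : s ∈ F.A (iSup U) := F.mem_of_locally _ fun b hb ↦ by
    obtain ⟨i, hi⟩ := Opens.mem_iSup.mp hb
    refine ⟨U i, le_iSup U i, hi, ?_⟩
    have : resF h (le_iSup U i) s = (sf i).1 := hs i
    rw [this]
    exact (sf i).2
  refine ⟨⟨s, hsA⟩, fun i ↦ Subtype.ext (hs i), fun y hy ↦ Subtype.ext (huniq y.1 fun i ↦ ?_)⟩
  exact congrArg Subtype.val (hy i)

lemma isQC : RelSpec.IsQC F.presheaf F.str := by
  intro U hU r
  let := (F.presheaf.map (homOfLE (B.basicOpen_le r)).op).hom.toAlgebra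
  refine IsLocalization.Away.mk _ ?_ ?_ ?_
  · have h0 : IsUnit (B.presheaf.map (homOfLE (B.basicOpen_le r)).op r) :=
      RingedSpace.isUnit_res_basicOpen B.toRingedSpace r
    exact (congr($(F.str.naturality (homOfLE (B.basicOpen_le r)).op).hom r)) ▸
      h0.map (F.str.app (op (B.basicOpen r))).hom
  · intro x
    obtain ⟨n, a, ha, hax⟩ := exists_mem_partialA h F.l hU r x.2
    exact ⟨n, ⟨a, ha⟩, Subtype.ext hax.symm⟩
  · intro a b hab
    obtain ⟨n, hn⟩ := exists_pow_mul_eq h hU r (congrArg Subtype.val hab)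
    exact ⟨n, Subtype.ext hn⟩

/-- The quasi-coherent algebra of a family. -/
noncomputable def alg : RelSpec.QCAlg B := ⟨F.presheaf, F.isSheaf_presheaf, F.str, F.isQC⟩

/-- The morphism `S ⟶ Spec A`. -/
noncomputable def toModel : S ⟶ F.alg.spec := toSpec h (A := F.alg) F.incl

@[reassoc]
lemma toModel_π : F.toModel ≫ F.alg.π = h := toSpec_π h (A := F.alg) F.incl rfl

instance locallyOfFiniteType_π : LocallyOfFiniteType F.alg.π := by
  refine IsZariskiLocalAtSource.of_openCover (P := @LocallyOfFiniteType) F.alg.glueData.cover ?_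
  intro U
  obtain ⟨U, hU⟩ := U
  change LocallyOfFiniteType (F.alg.ι U hU ≫ F.alg.π)
  rw [F.alg.ι_π]
  have : LocallyOfFiniteType (Spec.map (F.alg.str.app (op U))) := by
    rw [HasRingHomProperty.Spec_iff (P := @LocallyOfFiniteType)]
    change ((appF h U).codRestrict (F.A U) (appF_mem_partialA h F.l U)).FiniteType
    obtain ⟨G, hG₁, hG₂⟩ := F.exists_generators hU
    classical
    let ψ := (appF h U).codRestrict (F.A U) (appF_mem_partialA h F.l U)
    let : Algebra Γ(B, U) (F.A U) := ψ.toAlgebra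
    change Algebra.FiniteType Γ(B, U) (F.A U)
    refine ⟨⟨G.attach.image fun y ↦ (⟨y.1, hG₁ y.1 y.2⟩ : F.A U), eq_top_iff.mpr fun z _ ↦ ?_⟩⟩
    let T := Algebra.adjoin Γ(B, U) (SetLike.coe (G.attach.image fun y ↦ (⟨y.1, hG₁ y.1 y.2⟩ : F.A U)))
    have hle : Subring.closure (Set.range (appF h U) ∪ (G : Set _)) ≤
        T.toSubring.map (F.A U).subtype := by
      refine Subring.closure_le.mpr (Set.union_subset ?_ ?_)
      · rintro _ ⟨r, rfl⟩
        exact ⟨ψ r, T.algebraMap_mem r, rfl⟩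
      · intro y hy
        exact ⟨⟨y, hG₁ y hy⟩, Algebra.subset_adjoin (Finset.mem_image.mpr
          ⟨⟨y, hy⟩, Finset.mem_attach _ _, rfl⟩), rfl⟩
    obtain ⟨w, hw, hwz⟩ := hle (hG₂ z.1 z.2)
    exact (Subtype.ext hwz : w = z) ▸ hw
  infer_instance

variable {F}

/-- The algebra map of an inclusion of families. -/
noncomputable def algMap {G : Family h} (hle : F ≤ G) : F.alg ⟶ G.alg where
  hom := { app := fun U ↦ CommRingCat.ofHom (Subring.inclusion (hle U.unop))
           naturality := fun U V i ↦ by ext x; rfl }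
  comm := by ext U b; rfl

variable (h) in
/-- The diagram of models. -/
noncomputable def diagram : (Family h)ᵒᵖ ⥤ Scheme.{u} where
  obj F := F.unop.alg.spec
  map f := RelSpec.QCAlg.specMap (algMap f.unop.le)
  map_id F := by
    refine RelSpecLib.hom_ext_charts F.unop.alg (fun U : B.affineOpens ↦ U.1) (fun U ↦ U.2)
      RelSpecLib.affineOpens_cover fun U ↦ ?_
    rw [RelSpec.QCAlg.ι_specMap]
    erw [Category.comp_id]
    rw [show (algMap (F := F.unop) (le_refl F.unop)).hom.app (op U.1) = 𝟙 _ from rfl, Spec.map_id,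
      Category.id_comp]
  map_comp {F G E} f g := by
    refine RelSpecLib.hom_ext_charts F.unop.alg (fun U : B.affineOpens ↦ U.1) (fun U ↦ U.2)
      RelSpecLib.affineOpens_cover fun U ↦ ?_
    rw [RelSpec.QCAlg.ι_specMap, ← Category.assoc, RelSpec.QCAlg.ι_specMap, Category.assoc,
      RelSpec.QCAlg.ι_specMap, ← Spec.map_comp_assoc]
    rfl

variable (h) in
/-- The structure maps to the base. -/
noncomputable def diagramπ : diagram h ⟶ (Functor.const _).obj B where
  app F := F.unop.alg.π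
  naturality F G f := by
    simp only [diagram, Functor.const_obj_map]
    exact RelSpec.QCAlg.specMap_π _

variable (h) in
/-- The cone over the models. -/
noncomputable def cone : Cone (diagram h) where
  pt := S
  π := { app := fun F ↦ F.unop.toModel
         naturality := fun F G f ↦ by
           simp only [Functor.const_obj_map]
           exact (specMap_toSpec h (A := G.unop.alg) (A' := F.unop.alg) G.unop.incl F.unop.incl
            (algMap f.unop.le) rfl).symm }

instance isAffineHom_map {F G : (Family h)ᵒᵖ} (f : F ⟶ G) : IsAffineHom ((diagram h).map f) :=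
  ProjLib.isAffineHom_over G.unop.alg.π F.unop.alg.π _ (RelSpec.QCAlg.specMap_π _)

instance isAffineHom_toModel (F : Family h) : IsAffineHom F.toModel :=
  ProjLib.isAffineHom_over F.alg.π h _ F.toModel_π

instance : IsDirected (Family h) (· ≤ ·) := ⟨exists_le_le⟩

variable [CompactSpace B]

variable (h) in
instance : Nonempty (Family h) := by
  obtain ⟨F, -⟩ := exists_mem (h := h) (isAffineOpen_bot B) ∅
  exact ⟨F⟩

variable (h) in
/-- `S` is the limit of its affine models of finite type. -/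
theorem isLimit_cone : Nonempty (IsLimit (cone h)) := by
  classical
  obtain ⟨c, hc, haff⟩ := exists_limit_cone (diagram h)
  let φ : S ⟶ c.pt := hc.lift (cone h)
  have hφ : ∀ F, φ ≫ c.π.app F = (F.unop).toModel := hc.fac (cone h)
  obtain ⟨F₀⟩ : Nonempty (Family h)ᵒᵖ := inferInstance
  let p : c.pt ⟶ B := c.π.app F₀ ≫ (diagramπ h).app F₀
  have hp : ∀ F, c.π.app F ≫ (diagramπ h).app F = p :=
    fun F ↦ comp_str_eq (diagram h) (diagramπ h) (fun j ↦ c.π.app j) (fun g ↦ c.w g) F F₀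
  have : IsAffineHom ((diagramπ h).app F₀) := inferInstanceAs (IsAffineHom F₀.unop.alg.π)
  have w : φ ≫ p = h := by
    simp only [p]
    rw [reassoc_of% (hφ F₀)]
    exact F₀.unop.toModel_π
  have key : IsIso φ := ProjLib.isIso_of_app_bijective p h φ w fun U ↦ by
    have hpre : φ ⁻¹ᵁ (p ⁻¹ᵁ U.1) = h ⁻¹ᵁ U.1 := by rw [← Scheme.Hom.comp_preimage, w]
    suffices H : Function.Bijective (φ.appLE (p ⁻¹ᵁ U.1) (h ⁻¹ᵁ U.1) hpre.ge) by
      rw [Scheme.Hom.app_eq_appLE]
      exact (φ.appLE_congr hpre.ge rfl hpre.symm fun g ↦ Function.Bijective g.hom).mp H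
    have hle : ∀ F : (Family h)ᵒᵖ, p ⁻¹ᵁ U.1 ≤ c.π.app F ⁻¹ᵁ ((diagramπ h).app F ⁻¹ᵁ U.1) :=
      fun F ↦ le_of_eq (by rw [← Scheme.Hom.comp_preimage, hp])
    have hmap : ∀ (F : (Family h)ᵒᵖ) a, φ.appLE (p ⁻¹ᵁ U.1) (h ⁻¹ᵁ U.1) hpre.ge
        ((c.π.app F).appLE ((diagramπ h).app F ⁻¹ᵁ U.1) _ (hle F) a) =
        algComp h (A := F.unop.alg) F.unop.incl U.1 (F.unop.alg.gammaAff U.1 U.2 a) := by
      intro F a
      rw [← CommRingCat.comp_apply, Scheme.Hom.appLE_comp_appLE]
      simp only [hφ]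
      rw [← CommRingCat.comp_apply]
      exact congr($(toSpec_appLE h (A := F.unop.alg) F.unop.incl U _).hom a)
    have hiso : ∀ F : (Family h)ᵒᵖ, Function.Bijective (F.unop.alg.gammaAff U.1 U.2) := fun F ↦ by
      rw [← F.unop.alg.gammaMap_app U.1 U.2]
      have := RelSpecLib.isIso_gammaMap F.unop.alg
      exact ConcreteCategory.bijective_of_isIso _
    constructor
    · rw [injective_iff_map_eq_zero]
      intro y hy
      have hV : IsAffineOpen ((diagramπ h).app F₀ ⁻¹ᵁ U.1) := U.2.preimage _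
      obtain ⟨F, g, a, ha⟩ := exists_appLE_π_eq hc hV y
      have e : (diagram h).map g ⁻¹ᵁ ((diagramπ h).app F₀ ⁻¹ᵁ U.1) = (diagramπ h).app F ⁻¹ᵁ U.1 := by
        rw [← Scheme.Hom.comp_preimage]
        exact congrArg (· ⁻¹ᵁ U.1) ((diagramπ h).naturality g |>.trans (Category.comp_id _))
      let a' := ((diagram h).obj F).presheaf.map (eqToHom e.symm).op a
      have ha' : (c.π.app F).appLE _ _ (hle F) a' = y := by
        rw [← ha, ← CommRingCat.comp_apply, Scheme.Hom.map_appLE]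
        rfl
      rw [← ha', hmap] at hy
      have : F.unop.alg.gammaAff U.1 U.2 a' = 0 := Subtype.ext hy
      rw [← ha', (injective_iff_map_eq_zero _).mp (hiso F).1 a' this]
      exact map_zero _
    · intro x
      obtain ⟨F, hF⟩ := exists_mem (h := h) U.2 {x}
      obtain ⟨a, ha⟩ := (hiso (op F)).2 ⟨x, hF x (Finset.mem_singleton_self x)⟩
      refine ⟨(c.π.app (op F)).appLE _ _ (hle (op F)) a, ?_⟩
      rw [hmap, ha]
      rfl
  exact ⟨@IsLimit.ofPointIso _ _ _ _ _ _ (cone h) hc key⟩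

end alg

end Family

end Groth.Agent.H8Lim
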