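import Groth.Agent.H8Lim.ImmersionStage
import Groth.Agent.H8Lim.AffineModel

/-!
An immersion into an integral scheme over a qcqs base is an immersion into a finite stage.
-/

set_option autoImplicit false
set_option backward.isDefEq.respectTransparency.types false
set_option backward.isDefEq.respectTransparency false

universe u

open CategoryTheory Limits AlgebraicGeometry TopologicalSpace Opposite

namespace Groth.Agent.H8Lim

variable {S B : Scheme.{u}} {h : S ⟶ B} [IsIntegralHom h] [QuasiSeparatedSpace B]

/-- The models of an integral morphism are finite. -/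
theorem Family.isFinite_π_of_isIntegralHom (F : Family h) : IsFinite F.alg.π := by
  have : IsAffineHom F.alg.π := F.alg.isAffineHom_π
  rw [IsFinite.iff_isIntegralHom_and_locallyOfFiniteType]
  refine ⟨⟨fun U hU => ?_⟩, inferInstance⟩
  have hg : Function.Bijective (F.alg.gammaAff U hU) := by
    have := RelSpecLib.isIso_gammaMap F.alg
    rw [← F.alg.gammaMap_app U hU]
    exact ConcreteCategory.bijective_of_isIso _
  intro z
  obtain ⟨p, hp, hpz⟩ := h.isIntegral_app U hU
    (((F.A U).subtype.comp (F.alg.gammaAff U hU).hom) z)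
  refine ⟨p, hp, (Subtype.val_injective.comp hg.1) ?_⟩
  show ((F.A U).subtype.comp (F.alg.gammaAff U hU).hom) _ = ((F.A U).subtype.comp (F.alg.gammaAff U hU).hom) 0
  rw [map_zero, Polynomial.hom_eval₂]
  refine Eq.trans ?_ hpz
  congr 1
  have e := F.alg.π_app_gammaAff U hU
  ext b
  exact congrArg (F.A U).subtype (ConcreteCategory.congr_hom e b)

/-- An immersion into an integral scheme over a qcqs base is an immersion into a finite stage. -/
theorem exists_immersion_finite_of_integral [CompactSpace B] {X : Scheme.{u}} [CompactSpace X]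
    (g : X ⟶ S) [IsImmersion g] [LocallyOfFiniteType (g ≫ h)] :
    ∃ (Y' : Scheme.{u}) (f' : X ⟶ Y') (u : Y' ⟶ B), IsImmersion f' ∧ IsFinite u ∧
      f' ≫ u = g ≫ h := by
  obtain ⟨hc⟩ := Family.isLimit_cone h
  have : ∀ {i j : (Family h)ᵒᵖ} (f : i ⟶ j), IsAffineHom ((Family.diagram h).map f) :=
    fun f => Family.isAffineHom_map f
  obtain ⟨i, hi⟩ := exists_isImmersion_comp_π hc (Family.diagramπ h) h
    (fun i => i.unop.toModel_π) g
  refine ⟨_, g ≫ i.unop.toModel, i.unop.alg.π, hi, i.unop.isFinite_π_of_isIntegralHom, ?_⟩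
  rw [Category.assoc, i.unop.toModel_π]

end Groth.Agent.H8Lim
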