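import Groth.Agent.H8Lim.ClosedIntoStage

/-!
# Limits of closed immersions
-/

set_option autoImplicit false
set_option backward.isDefEq.respectTransparency.types false

universe u

open CategoryTheory Limits AlgebraicGeometry

namespace Groth.Agent.H8Lim

/-- The projection from a limit of closed immersions is a closed immersion. -/
theorem isClosedImmersion_π_app {I : Type u} [SmallCategory I] [IsCofiltered I] {D : I ⥤ Scheme.{u}}
    {c : Cone D} (hc : IsLimit c) [∀ {i j : I} (f : i ⟶ j), IsClosedImmersion (D.map f)] (i : I) :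
    IsClosedImmersion (c.π.app i) := by
  have : ∀ {i j : I} (f : i ⟶ j), IsAffineHom (D.map f) := fun f => inferInstance
  have := isAffineHom_π_app D c hc i
  rw [isClosedImmersion_iff_isAffineHom]
  refine ⟨inferInstance, fun U hU z => ?_⟩
  obtain ⟨j, φ, x, hx⟩ := exists_appLE_π_eq hc hU z
  obtain ⟨y, rfl⟩ := (D.map φ).app_surjective U hU x
  refine ⟨y, ?_⟩
  rw [← hx, Scheme.Hom.app_eq_appLE, Scheme.Hom.app_eq_appLE, ← CommRingCat.comp_apply,
    Scheme.Hom.appLE_comp_appLE]
  simp only [c.w]

end Groth.Agent.H8Lim
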