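import Groth.Agent.H8Coh.ComponentDims
import Groth.Agent.H8Lim.BaseChange
import Groth.Agent.H8Lim.ClosedLimit
import Groth.Agent.H8Lim.ProConsLimit
import Groth.Agent.H8Lim.Topology
import Groth.Agent.H8ProCons.Global
import Groth.Agent.AlgSpLib.RelDimLocus
import Groth.Agent.FlatMor12.EquidimBC
import Groth.Agent.ConsPropLib.Locus
import Mathlib.Topology.Spectral.ConstructibleTopology

/-!
# Fibre dimensions along limits (EGA IV 8.10.5, Stacks 0A0L)
-/

set_option autoImplicit false
set_option maxHeartbeats 1600000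
set_option backward.isDefEq.respectTransparency.types false
set_option linter.style.haveILetI false

universe u

open CategoryTheory CategoryTheory.Limits AlgebraicGeometry TopologicalSpace Topology
open Groth.Agent.H8Coh.ComponentDims

namespace Groth.Agent.H8Lim

variable {I : Type u} [SmallCategory I] [IsCofiltered I] {D : I ⥤ Scheme.{u}} {c : Cone D}
  [∀ {i j : I} (f : i ⟶ j), IsAffineHom (D.map f)] (hc : IsLimit c)

include hc in
/-- A locally constructible set containing the image of the limit contains that of a stage. -/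
theorem exists_stage_baseChange_subset {i₀ : I} {P : Scheme.{u}} [CompactSpace P]
    [QuasiSeparatedSpace P] (p : P ⟶ D.obj i₀) {E : Set P}
    {X : Scheme.{u}} {q : X ⟶ P} {f : X ⟶ c.pt} (sq : IsPullback q f p (c.π.app i₀))
    (hE : IsLocallyConstructible E ∨ IsOpen E) (h : ∀ x, q x ∈ E) :
    ∃ o : Over i₀, ∀ x, stageFst D p o x ∈ E := by
  have := fun {j k : Over i₀} (g : j ⟶ k) =>
    (inferInstance : IsAffineHom ((stage D p).map g))
  have : ∀ o : Over i₀, IsAffineHom (stageFst D p o) := fun o => inferInstance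
  have : ∀ o : Over i₀, CompactSpace ((stage D p).obj o) := fun o =>
    QuasiCompact.compactSpace_of_compactSpace (stageFst D p o)
  have : ∀ o : Over i₀, QuasiSeparatedSpace ((stage D p).obj o) := fun o =>
    quasiSeparatedSpace_of_quasiSeparated (stageFst D p o)
  let top : Over i₀ := Over.mk (𝟙 i₀)
  have hlim := isLimitStageCone p q f sq hc
  have htop : ∀ x, stageFst D p top ((stageCone p c q f sq).π.app top x) ∈ E := fun x => by
    rw [← Scheme.Hom.comp_apply, show (stageCone p c q f sq).π.app top ≫ stageFst D p top = q from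
      stageProj_fst p c q f sq top]
    exact h x
  rcases hE with hE | hE
  · obtain ⟨o, g, ho⟩ := exists_preimage_eq hlim (i := top) (Z := stageFst D p top ⁻¹' E)
      (Z' := Set.univ) (isLocallyConstructible_preimage (stageFst D p top) hE).isConstructible
      IsConstructible.univ (Set.eq_univ_of_forall htop)
    refine ⟨o, fun x => ?_⟩
    rw [← stageMap_fst D p g]
    exact ho.ge (Set.mem_univ x)
  · obtain ⟨o, g, ho⟩ := exists_map_eq_top (stage D p) _ hlim (i := top)
      ⟨stageFst D p top ⁻¹' E, hE.preimage (stageFst D p top).continuous⟩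
      (eq_top_iff.2 fun x _ => htop x)
    refine ⟨o, fun x => ?_⟩
    rw [← stageMap_fst D p g]
    exact ho.ge (Opens.mem_top x)

include hc in
/-- Relative dimension at most `d` descends. -/
theorem exists_stage_fibreDimAt_le {i₀ : I} {X₀ Y₀ : Scheme.{u}} [CompactSpace X₀]
    [QuasiSeparatedSpace X₀] (f₀ : X₀ ⟶ Y₀) (g₀ : Y₀ ⟶ D.obj i₀) [LocallyOfFiniteType f₀] (d : ℕ)
    {X Y : Scheme.{u}} (f : X ⟶ Y) (g : Y ⟶ c.pt) (qY : Y ⟶ Y₀) (qX : X ⟶ X₀)
    (hY : IsPullback qY g g₀ (c.π.app i₀)) (hX : IsPullback qX f f₀ qY)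
    (hd : ∀ x : X, FlatMor.fibreDimAt f x ≤ (d : WithBot ℕ∞)) :
    ∃ (i : I) (φ : i ⟶ i₀), ∀ {Xi Yi : Scheme.{u}} (fi : Xi ⟶ Yi) (gi : Yi ⟶ D.obj i)
      (pY : Yi ⟶ Y₀) (pX : Xi ⟶ X₀), IsPullback pY gi g₀ (D.map φ) → IsPullback pX fi f₀ pY →
        ∀ x : Xi, FlatMor.fibreDimAt fi x ≤ (d : WithBot ℕ∞) := by
  obtain ⟨o, ho⟩ := exists_stage_baseChange_subset hc (f₀ ≫ g₀)
    (E := {x | FlatMor.fibreDimAt f₀ x ≤ (d : WithBot ℕ∞)}) (hX.paste_vert hY)
    (Or.inr (FlatMorDim.isOpen_fibreDimAt_le f₀ d))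
    (fun x => by
      show FlatMor.fibreDimAt f₀ (qX x) ≤ _
      rw [← AlgSpLib.fibreDimAt_baseChange hX]; exact hd x)
  refine ⟨o.left, o.hom, fun fi gi pY pX h1 h2 x => ?_⟩
  rw [AlgSpLib.fibreDimAt_baseChange h2]
  let e := (h2.paste_vert h1).isoIsPullback _ _ (isPullback_stage D (f₀ ≫ g₀) o)
  have he : stageFst D (f₀ ≫ g₀) o (e.hom x) = pX x := by
    rw [← Scheme.Hom.comp_apply]
    exact congrArg (fun k => k x) ((h2.paste_vert h1).isoIsPullback_hom_fst _ _ _)
  exact he ▸ ho (e.hom x)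

/-- All components of the fibre at `y` have dimension `d`. -/
def AllDim {X Y : Scheme.{u}} (f : X ⟶ Y) (d : ℕ) (y : Y) : Prop :=
  ∀ z : f.fiber y, (∀ w, w ⤳ z → z = w) → dimPt f y z = d

theorem hasRelDim_iff_allDim {X Y : Scheme.{u}} (f : X ⟶ Y) [LocallyOfFiniteType f] (d : ℕ) :
    Cyc.HasRelDim f d ↔ ∀ y, AllDim f d y := by
  refine forall_congr' fun y => ?_
  have : LocallyOfFiniteType (f.fiberToSpecResidueField y) :=
    inferInstanceAs (LocallyOfFiniteType (pullback.snd f (Y.fromSpecResidueField y)))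
  rw [DimLib.forall_components_iff (k := Y.residueField y) (f.fiberToSpecResidueField y)
    (fun m => m = (d : WithBot ℕ∞))]
  exact forall_congr' fun z => imp_congr_right fun _ =>
    ⟨fun h => Nat.cast_injective h, fun h => by rw [← h]; rfl⟩

theorem isLocallyConstructible_setOf_allDim {X Y : Scheme.{u}} (f : X ⟶ Y)
    [LocallyOfFinitePresentation f] [QuasiCompact f] (d : ℕ) :
    IsLocallyConstructible {y | AllDim f d y} := by
  have he : {y | AllDim f d y} = {y | ∀ z, MaxP f Set.univ d y z} := by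
    ext y
    constructor
    · intro h z
      obtain ⟨η, hη, -, hmax⟩ := exists_maxP f Set.univ y z trivial
      refine ⟨trivial, ⟨η, hη, trivial, (h η fun w hw => hmax w trivial hw).ge⟩, ?_⟩
      rintro ⟨w, -, -, hd⟩
      obtain ⟨η', hη', -, hmax'⟩ := exists_maxP f Set.univ y w trivial
      have := hd.trans (dimPt_le f hη')
      rw [h η' fun v hv => hmax' v trivial hv] at this
      omega
    · intro h z hz
      obtain ⟨-, ⟨w, hw, -, hd⟩, hno⟩ := h z
      obtain rfl := hz w hw
      refine le_antisymm ?_ hd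
      by_contra hlt
      exact hno ⟨z, specializes_rfl, trivial, by omega⟩
  rw [he]
  exact H8Coh.FibreAss.isLocallyConstructible_forall f _
    (isLocallyConstructible_maxP f Set.univ IsLocallyConstructible.univ d)

theorem allDim_baseChange {X X' Y Y' : Scheme.{u}} {q : X' ⟶ X} {f' : X' ⟶ Y'} {f : X ⟶ Y}
    {r : Y' ⟶ Y} (sq : IsPullback q f' f r) [LocallyOfFiniteType f] (d : ℕ) (y' : Y') :
    AllDim f' d y' ↔ AllDim f d (r y') := by
  have : LocallyOfFiniteType (f.fiberToSpecResidueField (r y')) :=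
    inferInstanceAs (LocallyOfFiniteType (pullback.snd f (Y.fromSpecResidueField (r y'))))
  have : LocallyOfFiniteType f' := MorphismProperty.of_isPullback sq ‹LocallyOfFiniteType f›
  have : LocallyOfFiniteType (f'.fiberToSpecResidueField y') :=
    inferInstanceAs (LocallyOfFiniteType (pullback.snd f' (Y'.fromSpecResidueField y')))
  obtain ⟨l, hl, -⟩ := ConsPropLib.exists_fibre_square sq y'
  have key := fun (z : f'.fiber y') (hz : ∀ w, w ⤳ z → z = w) =>
    FlatMor12.ptDim_maximal_of_isPullback (k := Y.residueField (r y')) (K := Y'.residueField y')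
      (f.fiberToSpecResidueField (r y')) (r.residueFieldMap y').hom (f'.fiberToSpecResidueField y')
      l hl hz
  constructor
  · intro h a ha
    obtain ⟨z₀, hz₀, -⟩ := Scheme.Pullback.exists_preimage_pullback (f := f.fiberToSpecResidueField (r y'))
      (g := Spec.map (r.residueFieldMap y')) a (IsLocalRing.closedPoint (Y'.residueField y'))
      (Subsingleton.elim (α := PrimeSpectrum (Y.residueField (r y'))) _ _)
    have hl₀ : l (hl.isoPullback.inv z₀) = a := by
      rw [← Scheme.Hom.comp_apply, hl.isoPullback_inv_fst]; exact hz₀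
    obtain ⟨z, hz, hmax⟩ := DimLib.exists_maximal_specializes (hl.isoPullback.inv z₀)
    obtain ⟨hd, -⟩ := key z hmax
    have : a = l z := ha _ (hl₀ ▸ hz.map l.continuous)
    exact this ▸ hd.symm.trans (h z hmax)
  · intro h z hz
    obtain ⟨hd, hmax⟩ := key z hz
    exact hd.trans (h (l z) hmax)

include hc in
/-- Pure relative dimension descends. -/
theorem exists_stage_hasRelDim {i₀ : I} {X₀ Y₀ : Scheme.{u}} [CompactSpace Y₀]
    [QuasiSeparatedSpace Y₀] (f₀ : X₀ ⟶ Y₀) (g₀ : Y₀ ⟶ D.obj i₀)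
    [LocallyOfFinitePresentation f₀] [QuasiCompact f₀] (d : ℕ)
    {X Y : Scheme.{u}} (f : X ⟶ Y) (g : Y ⟶ c.pt) (qY : Y ⟶ Y₀) (qX : X ⟶ X₀)
    (hY : IsPullback qY g g₀ (c.π.app i₀)) (hX : IsPullback qX f f₀ qY) (hd : Cyc.HasRelDim f d) :
    ∃ (i : I) (φ : i ⟶ i₀), ∀ {Xi Yi : Scheme.{u}} (fi : Xi ⟶ Yi) (gi : Yi ⟶ D.obj i)
      (pY : Yi ⟶ Y₀) (pX : Xi ⟶ X₀), IsPullback pY gi g₀ (D.map φ) → IsPullback pX fi f₀ pY →
        Cyc.HasRelDim fi d := by
  have : LocallyOfFiniteType f := MorphismProperty.of_isPullback hX inferInstance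
  obtain ⟨o, ho⟩ := exists_stage_baseChange_subset hc g₀ (E := {y | AllDim f₀ d y}) hY
    (Or.inl (isLocallyConstructible_setOf_allDim f₀ d))
    (fun y => (allDim_baseChange hX d y).1 ((hasRelDim_iff_allDim f d).1 hd y))
  refine ⟨o.left, o.hom, fun fi gi pY pX h1 h2 => ?_⟩
  have : LocallyOfFiniteType fi := MorphismProperty.of_isPullback h2 inferInstance
  refine (hasRelDim_iff_allDim fi d).2 fun y => (allDim_baseChange h2 d y).2 ?_
  let e := h1.isoIsPullback _ _ (isPullback_stage D g₀ o)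
  have he : stageFst D g₀ o (e.hom y) = pY y := by
    rw [← Scheme.Hom.comp_apply]
    exact congrArg (fun k => k y) (h1.isoIsPullback_hom_fst _ _ _)
  exact he ▸ ho (e.hom y)

end Groth.Agent.H8Lim
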