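import Mathlib.AlgebraicGeometry.Morphisms.Finite
import Mathlib.AlgebraicGeometry.Morphisms.ClosedImmersion
import Mathlib.AlgebraicGeometry.AffineTransitionLimit

/-!
# Finiteness along a system of closed subschemes

If the limit of a system of closed immersions over `T` is finite over `T`, so is a stage.
-/

set_option autoImplicit false
set_option backward.isDefEq.respectTransparency.types false

universe u

open CategoryTheory Limits AlgebraicGeometry

namespace Groth.Agent.H8Lim

/-- The affine case. -/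
lemma exists_isFinite_stage_of_isAffine {J : Type u} [SmallCategory J] [IsCofiltered J]
    {W : J ⥤ Scheme.{u}} {cW : Cone W} (hW : IsLimit cW)
    [∀ {i j} (φ : i ⟶ j), IsClosedImmersion (W.map φ)] [∀ j, IsAffine (W.obj j)]
    {T : Scheme.{u}} [IsAffine T] (t : W ⟶ (Functor.const J).obj T) (s : cW.pt ⟶ T)
    (hs : ∀ j, cW.π.app j ≫ t.app j = s) [IsFinite s] (i : J)
    (hlft : LocallyOfFiniteType (t.app i)) :
    ∃ (j : J) (_ : j ⟶ i), IsFinite (t.app j) := by
  classical
  let f := fun j => (show W.obj j ⟶ T from t.app j).appTop.hom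
  have : IsAffine cW.pt := Scheme.isAffine_of_isLimit cW hW
  have hf : (f i).FiniteType :=
    (HasRingHomProperty.iff_of_isAffine (P := @LocallyOfFiniteType)).mp
      (show LocallyOfFiniteType (show W.obj i ⟶ T from t.app i) from hlft)
  let _ : Algebra Γ(T, ⊤) Γ(W.obj i, ⊤) := (f i).toAlgebra
  obtain ⟨S, hS⟩ := (hf : Algebra.FiniteType Γ(T, ⊤) Γ(W.obj i, ⊤)).out
  have hfin : s.appTop.hom.Finite :=
    ((HasAffineProperty.iff_of_isAffine (P := @IsFinite)).mp ‹IsFinite s›).2
  have hcomp : ∀ j, (cW.π.app j).appTop.hom.comp (f j) = s.appTop.hom := fun j => by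
    rw [← hs j, Scheme.Hom.comp_appTop]
    rfl
  have htr : ∀ {j k} (φ : j ⟶ k), (W.map φ).appTop.hom.comp (f k) = f j := fun {j k} φ => by
    have h : W.map φ ≫ t.app k = t.app j := by simpa using t.naturality φ
    show _ = (show W.obj j ⟶ T from t.app j).appTop.hom
    rw [← h]
    exact congrArg CommRingCat.Hom.hom (Scheme.Hom.comp_appTop (W.map φ) (t.app k)).symm
  have key : ∀ x : S, ∃ (k : J) (φ : k ⟶ i), (f k).IsIntegralElem ((W.map φ).appTop x.1) := by
    intro x
    obtain ⟨p, hp, hp0⟩ := RingHom.IsIntegral.of_finite hfin ((cW.π.app i).appTop x.1)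
    obtain ⟨k, φ, hk⟩ := exists_appTop_map_eq_zero_of_isAffine_of_isLimit W cW hW i
      (p.eval₂ (f i) x.1) (by
        show (cW.π.app i).appTop.hom (p.eval₂ (f i) x.1) = 0
        rw [Polynomial.hom_eval₂, hcomp]
        exact hp0)
    refine ⟨k, φ, p, hp, ?_⟩
    rw [← htr φ, ← Polynomial.hom_eval₂]
    exact hk
  choose k φ hk using key
  obtain ⟨l, g, gk, hg⟩ := IsCofiltered.wideCospan φ
  refine ⟨l, g, ?_⟩
  have hq : Function.Surjective (W.map g).appTop :=
    (W.map g).app_surjective _ (isAffineOpen_top _)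
  have hint : (f l).IsIntegral := by
    intro y
    obtain ⟨x, rfl⟩ := hq y
    have hx : x ∈ Algebra.adjoin Γ(T, ⊤) (S : Set Γ(W.obj i, ⊤)) := hS ▸ trivial
    induction hx using Algebra.adjoin_induction with
    | mem z hz =>
      obtain ⟨p, hp, hp0⟩ := hk ⟨z, hz⟩
      refine ⟨p, hp, ?_⟩
      rw [← hg ⟨z, hz⟩, Functor.map_comp, Scheme.Hom.comp_appTop, ← htr (gk ⟨z, hz⟩)]
      refine (Polynomial.hom_eval₂ p (f (k ⟨z, hz⟩)) (W.map (gk ⟨z, hz⟩)).appTop.hom _).symm.trans ?_
      exact (congrArg _ hp0).trans (map_zero _)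
    | algebraMap r =>
      have : (W.map g).appTop (f i r) = f l r := RingHom.congr_fun (htr g) r
      exact this ▸ RingHom.isIntegralElem_map _
    | add a b _ _ ha hb => rw [map_add]; exact RingHom.IsIntegralElem.add _ ha hb
    | mul a b _ _ ha hb => rw [map_mul]; exact RingHom.IsIntegralElem.mul _ ha hb
  show IsFinite (show W.obj l ⟶ T from t.app l)
  refine (HasAffineProperty.iff_of_isAffine (P := @IsFinite)).mpr ⟨inferInstance, ?_⟩
  refine RingHom.IsIntegral.to_finite hint ?_
  show (f l).FiniteType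
  rw [← htr g]
  exact (RingHom.FiniteType.of_surjective _ hq).comp hf

/-- Restriction maps of a system of closed immersions are closed immersions. -/
lemma isClosedImmersion_opensDiagram_map {J : Type u} [SmallCategory J] (W : J ⥤ Scheme.{u})
    [∀ {i j} (φ : i ⟶ j), IsClosedImmersion (W.map φ)] (i : J) (U : (W.obj i).Opens) {j k : Over i}
    (g : j ⟶ k) : IsClosedImmersion ((opensDiagram W i U).map g) := by
  have e : W.map g.left ⁻¹ᵁ (W.map k.hom ⁻¹ᵁ U) = W.map j.hom ⁻¹ᵁ U := by
    rw [← Scheme.Hom.comp_preimage, ← W.map_comp, Over.w]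
  have sq : IsPullback ((W.map g.left).resLE (W.map k.hom ⁻¹ᵁ U) (W.map j.hom ⁻¹ᵁ U) e.ge)
      (W.map j.hom ⁻¹ᵁ U).ι (W.map k.hom ⁻¹ᵁ U).ι (W.map g.left) :=
    IsOpenImmersion.isPullback _ _ _ _ (Scheme.Hom.resLE_comp_ι _ _).symm
      (by simpa using e)
  exact MorphismProperty.of_isPullback (P := @IsClosedImmersion) sq.flip inferInstance

lemma isFinite_morphismRestrict_of_resLE {X Y : Scheme.{u}} (f : X ⟶ Y) (V : Y.Opens) (U : X.Opens)
    (hU : U = f ⁻¹ᵁ V) (e : U ≤ f ⁻¹ᵁ V) (h : IsFinite (f.resLE V U e)) : IsFinite (f ∣_ V) := by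
  subst hU
  rwa [Scheme.Hom.resLE_eq_morphismRestrict] at h

/-- If the limit of a system of closed immersions over `T` is finite over `T`, so is a stage. -/
theorem exists_isFinite_stage {J : Type u} [SmallCategory J] [IsCofiltered J]
    {W : J ⥤ Scheme.{u}} {cW : Cone W} (hW : IsLimit cW)
    [∀ {i j} (φ : i ⟶ j), IsClosedImmersion (W.map φ)]
    {T : Scheme.{u}} [CompactSpace T] (t : W ⟶ (Functor.const J).obj T) (s : cW.pt ⟶ T)
    (hs : ∀ j, cW.π.app j ≫ t.app j = s) [IsFinite s] (i : J) [QuasiSeparatedSpace (W.obj i)]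
    (hlft : LocallyOfFiniteType (t.app i)) (hqc : QuasiCompact (t.app i)) :
    ∃ (j : J) (_ : j ⟶ i), IsFinite (t.app j) := by
  classical
  have : QuasiCompact (show W.obj i ⟶ T from t.app i) := hqc
  let 𝒰 := T.affineCover.finiteSubcover
  let V := fun k => (𝒰.f k).opensRange
  have hVa : ∀ k, IsAffineOpen (V k) := fun k ↦
    have : IsAffine (𝒰.X k) := inferInstanceAs (IsAffine (Spec _))
    isAffineOpen_opensRange _
  have hVtop : ⨆ k, V k = ⊤ := 𝒰.isOpenCover_opensRange.iSup_eq_top
  let ti : W.obj i ⟶ T := t.app i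
  have hti : ∀ j (φ : j ⟶ i), W.map φ ≫ ti = t.app j := fun j φ => (t.naturality φ).trans (Category.comp_id _)
  have key : ∀ k, ∃ (j : J) (φ : j ⟶ i),
      IsFinite ((show W.obj j ⟶ T from t.app j) ∣_ V k) := by
    intro k
    let U := ti ⁻¹ᵁ V k
    have hpre : ∀ a : Over i, W.map a.hom ⁻¹ᵁ U = (show W.obj a.left ⟶ T from t.app a.left) ⁻¹ᵁ V k :=
      fun a => by rw [← Scheme.Hom.comp_preimage, hti]
    have hUc : IsCompact (U : Set (W.obj i)) :=
      QuasiCompact.isCompact_preimage (f := ti) _ (V k).2 (hVa k).isCompact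
    let E := opensDiagram W i U
    have : ∀ {a b : Over i} (g : a ⟶ b), IsClosedImmersion (E.map g) := fun g =>
      isClosedImmersion_opensDiagram_map W i U g
    have : ∀ a : Over i, CompactSpace (E.obj a) := fun a =>
      isCompact_iff_compactSpace.mp (QuasiCompact.isCompact_preimage _ U.2 hUc)
    have : ∀ a : Over i, QuasiSeparatedSpace (E.obj a) := fun a =>
      have : QuasiSeparatedSpace (W.obj a.left) := quasiSeparatedSpace_of_quasiSeparated (W.map a.hom)
      QuasiSeparatedSpace.of_isOpenEmbedding (W.map a.hom ⁻¹ᵁ U).ι.isOpenEmbedding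
    have hE := isLimitOpensCone W cW hW i U
    have : IsAffine (V k).toScheme := hVa k
    let t' : E ⟶ (Functor.const (Over i)).obj (V k).toScheme :=
      { app := fun a => (show W.obj a.left ⟶ T from t.app a.left).resLE (V k) _ (hpre a).le
        naturality := fun a b g => by
          rw [← cancel_mono (V k).ι]
          simp [E, opensDiagram, Scheme.Hom.resLE_comp_ι] }
    let s' : (opensCone W cW i U).pt ⟶ (V k).toScheme :=
      s.resLE (V k) _ (by rw [← hs i]; exact (Scheme.Hom.comp_preimage _ _ _).ge)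
    have hs' : ∀ a, (opensCone W cW i U).π.app a ≫ t'.app a = s' := fun a => by
      rw [← cancel_mono (V k).ι, Category.assoc]
      show (cW.π.app a.left).resLE (W.map a.hom ⁻¹ᵁ U) (cW.π.app i ⁻¹ᵁ U) _ ≫
        (show W.obj a.left ⟶ T from t.app a.left).resLE (V k) _ _ ≫ (V k).ι =
          s.resLE (V k) (cW.π.app i ⁻¹ᵁ U) _ ≫ (V k).ι
      rw [Scheme.Hom.resLE_comp_ι, Scheme.Hom.resLE_comp_ι_assoc, Scheme.Hom.resLE_comp_ι]
      exact congrArg _ (hs a.left)
    have : IsFinite s' := by
      have e : (cW.π.app i ⁻¹ᵁ U) = s ⁻¹ᵁ V k := by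
        rw [← hs i]
        exact (Scheme.Hom.comp_preimage _ _ _).symm
      have h1 : IsPullback (s.resLE (V k) (cW.π.app i ⁻¹ᵁ U) e.le) (cW.π.app i ⁻¹ᵁ U).ι (V k).ι s :=
        IsOpenImmersion.isPullback _ _ _ _
          (Scheme.Hom.resLE_comp_ι _ _).symm (by rw [Scheme.Opens.opensRange_ι, Scheme.Opens.opensRange_ι, e])
      exact MorphismProperty.of_isPullback (P := @IsFinite) h1.flip inferInstance
    have : IsAffine (opensCone W cW i U).pt := isAffine_of_isAffineHom s'
    obtain ⟨a₀, ha₀⟩ := Scheme.exists_isAffine_of_isLimit E _ hE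
    let E' := Over.forget a₀ ⋙ E
    have : ∀ b : Over a₀, IsAffine (E'.obj b) := fun b => isAffine_of_isAffineHom (E.map b.hom)
    have hE' : IsLimit ((opensCone W cW i U).whisker (Over.forget a₀)) :=
      (Functor.Initial.isLimitWhiskerEquiv (Over.forget a₀) _).symm hE
    have : ∀ {b b' : Over a₀} (g : b ⟶ b'), IsClosedImmersion (E'.map g) := fun g =>
      inferInstanceAs (IsClosedImmersion (E.map g.left))
    have hlft' : LocallyOfFiniteType (t'.app a₀) := by
      have : LocallyOfFiniteType (show W.obj a₀.left ⟶ T from t.app a₀.left) := by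
        rw [← hti a₀.left a₀.hom]
        have : LocallyOfFiniteType ti := hlft
        infer_instance
      show LocallyOfFiniteType ((show W.obj a₀.left ⟶ T from t.app a₀.left).resLE (V k) _ _)
      infer_instance
    obtain ⟨b, -, hb⟩ := exists_isFinite_stage_of_isAffine (W := E') hE'
      { app := fun b => t'.app b.left
        naturality := fun b b' g => t'.naturality g.left }
      s' (fun b => hs' b.left) (Over.mk (𝟙 a₀)) hlft'
    refine ⟨b.left.left, b.left.hom, ?_⟩
    exact isFinite_morphismRestrict_of_resLE _ (V k) _ (hpre b.left) _ hb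
  choose j φ hj using key
  obtain ⟨l, g, gk, hg⟩ := IsCofiltered.wideCospan φ
  refine ⟨l, g, IsZariskiLocalAtTarget.of_iSup_eq_top (P := @IsFinite) V hVtop fun k => ?_⟩
  have := hj k
  have e : (show W.obj l ⟶ T from t.app l) = W.map (gk k) ≫ (show W.obj (j k) ⟶ T from t.app (j k)) := by
    simpa using (t.naturality (gk k)).symm
  show IsFinite ((show W.obj l ⟶ T from t.app l) ∣_ V k)
  rw [e, morphismRestrict_comp]
  have : IsClosedImmersion
      (W.map (gk k) ∣_ (show W.obj (j k) ⟶ T from t.app (j k)) ⁻¹ᵁ V k) :=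
    IsZariskiLocalAtTarget.restrict (P := @IsClosedImmersion) inferInstance _
  exact MorphismProperty.comp_mem @IsFinite _ _
    ((IsClosedImmersion.iff_isFinite_and_mono _).mp this).1 (hj k)

end Groth.Agent.H8Lim
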