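import Groth.Agent.H8Lim.DescentProper
import Groth.Agent.H8Lim.FiniteStage

/-!
# Properness along a system of closed subschemes

If the limit of a system of closed immersions over `S` is proper, so is a stage.
-/

set_option autoImplicit false
set_option backward.isDefEq.respectTransparency.types false
set_option maxHeartbeats 1000000
set_option synthInstance.maxHeartbeats 100000

universe u

open CategoryTheory Limits AlgebraicGeometry

namespace Groth.Agent.H8Lim

open Groth.Agent.Et18.ProperClopen

lemma isClosedImmersion_resLE {X Y : Scheme.{u}} (f : X ⟶ Y) [IsClosedImmersion f] (V : Y.Opens)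
    (U : X.Opens) (hU : U = f ⁻¹ᵁ V) (e : U ≤ f ⁻¹ᵁ V) : IsClosedImmersion (f.resLE V U e) := by
  subst hU
  rw [Scheme.Hom.resLE_eq_morphismRestrict]
  exact IsZariskiLocalAtTarget.restrict (P := @IsClosedImmersion) ‹_› _

lemma isProper_resLE {X Y : Scheme.{u}} (f : X ⟶ Y) [IsProper f] (V : Y.Opens)
    (U : X.Opens) (hU : U = f ⁻¹ᵁ V) (e : U ≤ f ⁻¹ᵁ V) : IsProper (f.resLE V U e) := by
  subst hU
  rw [Scheme.Hom.resLE_eq_morphismRestrict]
  exact IsZariskiLocalAtTarget.restrict (P := @IsProper) ‹_› _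

lemma isProper_morphismRestrict_of_resLE {X Y : Scheme.{u}} (f : X ⟶ Y) (V : Y.Opens) (U : X.Opens)
    (hU : U = f ⁻¹ᵁ V) (e : U ≤ f ⁻¹ᵁ V) (h : IsProper (f.resLE V U e)) : IsProper (f ∣_ V) := by
  subst hU
  rwa [Scheme.Hom.resLE_eq_morphismRestrict] at h

/-- The affine case. -/
lemma exists_isProper_stage_of_isAffine {J : Type u} [SmallCategory J] [IsCofiltered J]
    {W : J ⥤ Scheme.{u}} {cW : Cone W} (hW : IsLimit cW)
    [∀ {i j} (φ : i ⟶ j), IsClosedImmersion (W.map φ)]
    [∀ j, IsClosedImmersion (cW.π.app j)]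
    {S : Scheme.{u}} [IsAffine S] (t : W ⟶ (Functor.const J).obj S) (s : cW.pt ⟶ S)
    (hs : ∀ j, cW.π.app j ≫ t.app j = s) [IsProper s] (i : J)
    (ti : W.obj i ⟶ S) (hti : ti = t.app i) [IsSeparated ti] [LocallyOfFiniteType ti]
    [QuasiCompact ti] :
    ∃ (j : J) (_ : j ⟶ i), IsProper (t.app j) := by
  classical
  have hW' : ∀ j (φ : j ⟶ i), W.map φ ≫ ti = t.app j := fun j φ =>
    hti ▸ (t.naturality φ).trans (Category.comp_id _)
  let f := ti ≫ S.isoSpec.hom
  have : CompactSpace (W.obj i) := QuasiCompact.compactSpace_of_compactSpace ti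
  obtain ⟨κ, _, M, hM, Es, hcl, hinj, hcov⟩ := exists_chow_cover f
  let g : ∀ k, MA Γ(S, ⊤) (M k) ⟶ Spec (CommRingCat.of Γ(S, ⊤)) := fun k ↦ gA Γ(S, ⊤) (M k)
  let Z : κ → Scheme.{u} := fun k ↦ (Scheme.IdealSheafData.vanishingIdeal ⟨Es k, hcl k⟩).subscheme
  let ι : ∀ k, Z k ⟶ pullback f (g k) := fun k ↦
    (Scheme.IdealSheafData.vanishingIdeal ⟨Es k, hcl k⟩).subschemeι
  have hι : ∀ k, Set.range (ι k) = Es k := fun k ↦ by
    rw [Scheme.IdealSheafData.range_subschemeι, Scheme.IdealSheafData.coe_support_vanishingIdeal]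
    rfl
  let x : ∀ k, Z k ⟶ W.obj i := fun k ↦ ι k ≫ pullback.fst f (g k)
  let h : ∀ k, Z k ⟶ MA Γ(S, ⊤) (M k) := fun k ↦ ι k ≫ pullback.snd f (g k)
  have hg : ∀ k, IsProper (g k) := fun k ↦
    MorphismProperty.pullback_snd (P := @IsProper) _ _ (hM k)
  have key : ∀ k, ∃ (j : Over i),
      IsProper ((stageFst W (x k) j ≫ h k) ≫ g k) := by
    intro k
    have := hg k
    have : CompactSpace (MA Γ(S, ⊤) (M k)) := QuasiCompact.compactSpace_of_compactSpace (g k)
    let X' := pullback (x k) (cW.π.app i)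
    have hlim := isLimitStageCone (x k) _ (pullback.snd (x k) (cW.π.app i))
      (IsPullback.of_hasPullback _ _) hW
    have : ∀ {a b : Over i} (φ : a ⟶ b), IsClosedImmersion ((stage W (x k)).map φ) := fun φ =>
      MorphismProperty.of_isPullback (P := @IsClosedImmersion) (isPullback_stageMap W (x k) φ).flip
        inferInstance
    let t' : stage W (x k) ⟶ (Functor.const (Over i)).obj (MA Γ(S, ⊤) (M k)) :=
      { app := fun a => stageFst W (x k) a ≫ h k
        naturality := fun a b φ => by simp }
    have hfin : IsFinite (pullback.fst (x k) (cW.π.app i) ≫ h k) := by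
      have : IsProper (pullback.fst (ι k ≫ pullback.fst f (g k)) (cW.π.app i) ≫ h k) := by
        let p := pullback.snd (x k) (cW.π.app i)
        have hp : IsProper (p ≫ s ≫ S.isoSpec.hom) := by
          have : IsProper (pullback.fst f (g k)) :=
            MorphismProperty.pullback_fst (P := @IsProper) _ _ (hg k)
          have : IsProper (x k) := inferInstanceAs (IsProper (ι k ≫ pullback.fst f (g k)))
          have : IsProper p := MorphismProperty.pullback_snd (P := @IsProper) _ _ ‹IsProper (x k)›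
          infer_instance
        have e2 : (pullback.fst (x k) (cW.π.app i) ≫ h k) ≫ g k = p ≫ s ≫ S.isoSpec.hom := by
          simp only [h, Category.assoc]
          rw [← pullback.condition]
          show pullback.fst (x k) (cW.π.app i) ≫ x k ≫ ti ≫ S.isoSpec.hom = _
          rw [pullback.condition_assoc, ← hs i, hti]
          simp [p]
        have : IsProper ((pullback.fst (x k) (cW.π.app i) ≫ h k) ≫ g k) := e2 ▸ hp
        exact IsProper.of_comp _ (g k)
      have : LocallyQuasiFinite (h k) := by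
        refine LocallyQuasiFinite.of_injective fun a b hab ↦ ?_
        have ha : ι k a ∈ Es k := hι k ▸ Set.mem_range_self a
        have hb : ι k b ∈ Es k := hι k ▸ Set.mem_range_self b
        exact (ι k).isEmbedding.injective (hinj k ha hb hab)
      have : IsClosedImmersion (pullback.fst (x k) (cW.π.app i)) :=
        MorphismProperty.pullback_fst (P := @IsClosedImmersion) _ _ inferInstance
      exact IsFinite.of_isProper_of_locallyQuasiFinite _
    have := hfin
    have : QuasiSeparatedSpace (MA Γ(S, ⊤) (M k)) := quasiSeparatedSpace_of_quasiSeparated (g k)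
    have : IsClosedImmersion (stageFst W (x k) (Over.mk (𝟙 i))) :=
      MorphismProperty.of_isPullback (P := @IsClosedImmersion)
        (isPullback_stage W (x k) (Over.mk (𝟙 i))).flip inferInstance
    have : LocallyOfFiniteType (h k) := by
      show LocallyOfFiniteType (ι k ≫ pullback.snd f (g k))
      have : LocallyOfFiniteType (pullback.snd f (g k)) :=
        MorphismProperty.pullback_snd (P := @LocallyOfFiniteType) _ _ inferInstance
      infer_instance
    have : IsSeparated (stageFst W (x k) (Over.mk (𝟙 i)) ≫ h k) := inferInstance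
    have : QuasiSeparatedSpace ((stage W (x k)).obj (Over.mk (𝟙 i))) :=
      quasiSeparatedSpace_of_quasiSeparated (stageFst W (x k) (Over.mk (𝟙 i)) ≫ h k)
    let s0 : (stageCone (x k) cW (pullback.fst (x k) (cW.π.app i)) (pullback.snd (x k) (cW.π.app i))
        (IsPullback.of_hasPullback _ _)).pt ⟶ MA Γ(S, ⊤) (M k) :=
      pullback.fst (x k) (cW.π.app i) ≫ h k
    have : IsFinite s0 := hfin
    obtain ⟨j, -, hj⟩ := exists_isFinite_stage hlim t' s0
      (fun a => (Category.assoc _ _ _).symm.trans (congrArg (· ≫ h k) (stageProj_fst (x k) cW _ _ (IsPullback.of_hasPullback _ _) a)))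
      (Over.mk (𝟙 i))
      (inferInstanceAs (LocallyOfFiniteType (stageFst W (x k) (Over.mk (𝟙 i)) ≫ h k)))
      (inferInstanceAs (QuasiCompact (stageFst W (x k) (Over.mk (𝟙 i)) ≫ h k)))
    have : IsFinite (stageFst W (x k) j ≫ h k) := hj
    exact ⟨j, inferInstance⟩
  choose j hj using key
  obtain ⟨l, φ, gk, hgk⟩ := IsCofiltered.wideCospan fun k => (j k).hom
  refine ⟨l, φ, ?_⟩
  let tl : W.obj l ⟶ S := t.app l
  have hl : W.map φ ≫ ti = tl := hW' l φ
  have : IsSeparated tl := hl ▸ inferInstance
  have : LocallyOfFiniteType tl := hl ▸ inferInstance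
  have hp : ∀ k, UniversallyClosed (pullback.snd (x k) (W.map φ) ≫ tl) := fun k => by
    have := hg k
    have := hj k
    let a : Over.mk φ ⟶ j k := Over.homMk (gk k) (hgk k)
    have : IsClosedImmersion ((stage W (x k)).map a) :=
      MorphismProperty.of_isPullback (P := @IsClosedImmersion) (isPullback_stageMap W (x k) a).flip
        inferInstance
    have e : pullback.snd (x k) (W.map φ) ≫ tl =
        ((stage W (x k)).map a ≫ (stageFst W (x k) (j k) ≫ h k) ≫ g k) ≫ S.isoSpec.inv := by
      rw [Category.assoc (stageFst _ _ _), stageMap_fst_assoc]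
      show _ = (pullback.fst (x k) (W.map φ) ≫ (ι k ≫ pullback.snd f (g k)) ≫ g k) ≫ _
      rw [← hl, ← pullback.condition_assoc (f := x k)]
      simp only [x, Category.assoc]
      rw [← pullback.condition_assoc]
      simp [f]
    rw [e]
    have : IsProper ((stage W (x k)).map a) := inferInstance
    have : IsProper ((stage W (x k)).map a ≫ (stageFst W (x k) (j k) ≫ h k) ≫ g k) :=
      MorphismProperty.comp_mem @IsProper _ _ this (hj k)
    exact MorphismProperty.comp_mem @UniversallyClosed _ _ this.toUniversallyClosed inferInstance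
  have : UniversallyClosed tl := by
    refine universallyClosed_of_finite_cover tl _ (fun k => pullback.snd (x k) (W.map φ)) fun w ↦ ?_
    obtain ⟨k, y, hy, hyw⟩ := hcov (W.map φ w)
    obtain ⟨z, rfl⟩ := hι k ▸ hy
    obtain ⟨v, -, hv⟩ := Scheme.Pullback.exists_preimage_pullback (f := x k) (g := W.map φ) z w
      (by simpa [x] using hyw)
    exact ⟨k, v, hv⟩
  show IsProper tl
  exact {}

/-- If the limit of a system of closed immersions over `S` is proper, so is a stage. -/
theorem exists_isProper_stage {J : Type u} [SmallCategory J] [IsCofiltered J]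
    {W : J ⥤ Scheme.{u}} {cW : Cone W} (hW : IsLimit cW)
    [∀ {i j} (φ : i ⟶ j), IsClosedImmersion (W.map φ)]
    [∀ j, IsClosedImmersion (cW.π.app j)]
    {S : Scheme.{u}} [CompactSpace S] (t : W ⟶ (Functor.const J).obj S) (s : cW.pt ⟶ S)
    (hs : ∀ j, cW.π.app j ≫ t.app j = s) [IsProper s] (i : J)
    (ti : W.obj i ⟶ S) (hti : ti = t.app i) [IsSeparated ti] [LocallyOfFiniteType ti]
    [QuasiCompact ti] :
    ∃ (j : J) (_ : j ⟶ i), IsProper (t.app j) := by
  classical
  let 𝒰 := S.affineCover.finiteSubcover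
  let V := fun k => (𝒰.f k).opensRange
  have hVa : ∀ k, IsAffineOpen (V k) := fun k ↦
    have : IsAffine (𝒰.X k) := inferInstanceAs (IsAffine (Spec _))
    isAffineOpen_opensRange _
  have hVtop : ⨆ k, V k = ⊤ := 𝒰.isOpenCover_opensRange.iSup_eq_top
  have hW' : ∀ j (φ : j ⟶ i), W.map φ ≫ ti = t.app j := fun j φ =>
    hti ▸ (t.naturality φ).trans (Category.comp_id _)
  have key : ∀ k, ∃ (j : J) (φ : j ⟶ i),
      IsProper ((show W.obj j ⟶ S from t.app j) ∣_ V k) := by
    intro k
    let U := ti ⁻¹ᵁ V k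
    have hpre : ∀ a : Over i, W.map a.hom ⁻¹ᵁ U = (show W.obj a.left ⟶ S from t.app a.left) ⁻¹ᵁ V k :=
      fun a => by rw [← Scheme.Hom.comp_preimage, hW']
    let E := opensDiagram W i U
    have : ∀ {a b : Over i} (φ : a ⟶ b), IsClosedImmersion (E.map φ) := fun {a b} φ =>
      isClosedImmersion_resLE (W.map φ.left) _ _
        (by rw [← Scheme.Hom.comp_preimage (W.map φ.left), ← W.map_comp, Over.w]) _
    have : ∀ a : Over i, IsClosedImmersion ((opensCone W cW i U).π.app a) := fun a =>
      isClosedImmersion_resLE (cW.π.app a.left) _ _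
        (by rw [← Scheme.Hom.comp_preimage (cW.π.app a.left), cW.w]) _
    have : IsAffine (V k).toScheme := hVa k
    let t' : E ⟶ (Functor.const (Over i)).obj (V k).toScheme :=
      { app := fun a => (show W.obj a.left ⟶ S from t.app a.left).resLE (V k) _ (hpre a).le
        naturality := fun a b g => by
          rw [← cancel_mono (V k).ι]
          simp [E, opensDiagram, Scheme.Hom.resLE_comp_ι] }
    let s' : (opensCone W cW i U).pt ⟶ (V k).toScheme :=
      s.resLE (V k) (cW.π.app i ⁻¹ᵁ U) (by rw [← hs i, ← hti]; exact (Scheme.Hom.comp_preimage _ _ _).ge)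
    have hs' : ∀ a, (opensCone W cW i U).π.app a ≫ t'.app a = s' := fun a => by
      rw [← cancel_mono (V k).ι, Category.assoc]
      show (cW.π.app a.left).resLE (W.map a.hom ⁻¹ᵁ U) (cW.π.app i ⁻¹ᵁ U) _ ≫
        (show W.obj a.left ⟶ S from t.app a.left).resLE (V k) _ _ ≫ (V k).ι =
          s.resLE (V k) (cW.π.app i ⁻¹ᵁ U) _ ≫ (V k).ι
      rw [Scheme.Hom.resLE_comp_ι, Scheme.Hom.resLE_comp_ι_assoc, Scheme.Hom.resLE_comp_ι]
      exact congrArg _ (hs a.left)
    have : IsProper s' := isProper_resLE s _ _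
      (by rw [← hs i, ← hti]; exact (Scheme.Hom.comp_preimage _ _ _).symm) _
    let a₀ : Over i := Over.mk (𝟙 i)
    let ta : E.obj a₀ ⟶ (V k).toScheme := t'.app a₀
    have h0 : (show W.obj i ⟶ S from t.app i) = ti := hti.symm
    have : IsSeparated (ta ≫ (V k).ι) := by
      show IsSeparated ((show W.obj i ⟶ S from t.app i).resLE (V k) (W.map (𝟙 i) ⁻¹ᵁ U) _ ≫ _)
      rw [Scheme.Hom.resLE_comp_ι, h0]
      infer_instance
    have : IsSeparated ta := IsSeparated.of_comp ta (V k).ι
    have : LocallyOfFiniteType (ta ≫ (V k).ι) := by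
      show LocallyOfFiniteType ((show W.obj i ⟶ S from t.app i).resLE (V k) (W.map (𝟙 i) ⁻¹ᵁ U) _ ≫ _)
      rw [Scheme.Hom.resLE_comp_ι, h0]
      infer_instance
    have : LocallyOfFiniteType ta := locallyOfFiniteType_of_comp ta (V k).ι
    have : QuasiCompact ta := by
      have hc : IsCompact (U : Set (W.obj i)) :=
        QuasiCompact.isCompact_preimage (f := ti) _ (V k).2 (hVa k).isCompact
      have : CompactSpace (W.map a₀.hom ⁻¹ᵁ U).toScheme := by
        refine isCompact_iff_compactSpace.mp ?_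
        simpa [a₀] using hc
      have : CompactSpace (E.obj a₀) := this
      infer_instance
    obtain ⟨b, -, hb⟩ := exists_isProper_stage_of_isAffine (isLimitOpensCone W cW hW i U) t' s' hs'
      a₀ ta rfl
    exact ⟨b.left, b.hom, isProper_morphismRestrict_of_resLE _ (V k) _ (hpre b) _ hb⟩
  choose j φ hj using key
  obtain ⟨l, g, gk, hg⟩ := IsCofiltered.wideCospan φ
  refine ⟨l, g, IsZariskiLocalAtTarget.of_iSup_eq_top (P := @IsProper) V hVtop fun k => ?_⟩
  have e : (show W.obj l ⟶ S from t.app l) = W.map (gk k) ≫ (show W.obj (j k) ⟶ S from t.app (j k)) := by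
    simpa using (t.naturality (gk k)).symm
  show IsProper ((show W.obj l ⟶ S from t.app l) ∣_ V k)
  rw [e, morphismRestrict_comp]
  have : IsClosedImmersion
      (W.map (gk k) ∣_ (show W.obj (j k) ⟶ S from t.app (j k)) ⁻¹ᵁ V k) :=
    IsZariskiLocalAtTarget.restrict (P := @IsClosedImmersion) inferInstance _
  refine MorphismProperty.comp_mem @IsProper _ _ ?_ (hj k)
  exact IsZariskiLocalAtTarget.restrict (P := @IsProper) inferInstance _

end Groth.Agent.H8Lim
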