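import Groth.Agent.H8Lim.SchemeDescent
import Groth.Agent.H8Lim.Descent
import Groth.Agent.H8Lim.BaseChange

/-!
# Ideal sheaves of finite type descend to a stage
-/

set_option autoImplicit false
set_option backward.isDefEq.respectTransparency.types false

universe u

open CategoryTheory Limits AlgebraicGeometry TopologicalSpace

namespace Groth.Agent.H8Lim

/-- A closed immersion with ideal of finite type is locally of finite presentation. -/
theorem locallyOfFinitePresentation_of_ker_fg {X Y : Scheme.{u}} (f : X ⟶ Y) [IsClosedImmersion f]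
    (h : ∀ U : Y.affineOpens, (f.ker.ideal U).FG) : LocallyOfFinitePresentation f := by
  refine (IsZariskiLocalAtTarget.iff_of_iSup_eq_top (P := @LocallyOfFinitePresentation) (fun U : Y.affineOpens => U.1)
    (iSup_affineOpens_eq_top Y)).mpr fun U => ?_
  have : IsAffine U.1.toScheme := U.2
  have : IsAffine (f ⁻¹ᵁ U.1).toScheme := U.2.preimage f
  rw [HasRingHomProperty.iff_of_isAffine (P := @LocallyOfFinitePresentation), morphismRestrict_appTop]
  have key : ∀ V : Y.Opens, V = U.1 → (f.app V).hom.FinitePresentation := by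
    rintro V rfl
    refine RingHom.FinitePresentation.of_surjective _ (f.app_surjective _ U.2) ?_
    rw [← Scheme.Hom.ker_apply f U]
    exact h U
  exact (RingHom.FinitePresentation.of_bijective
    (ConcreteCategory.bijective_of_isIso _)).comp (key _ U.1.ι_image_top)

/-- A finitely presented closed immersion has an ideal of finite type. -/
theorem ker_fg_of_locallyOfFinitePresentation {X Y : Scheme.{u}} (f : X ⟶ Y) [IsClosedImmersion f]
    [LocallyOfFinitePresentation f] (U : Y.affineOpens) : (f.ker.ideal U).FG := by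
  rw [Scheme.Hom.ker_apply f U]
  have h := f.finitePresentation_appLE U.2 (U.2.preimage f) le_rfl
  rw [← Scheme.Hom.app_eq_appLE] at h
  let _ := (f.app U.1).hom.toAlgebra
  have : Algebra.FinitePresentation Γ(Y, U.1) Γ(X, f ⁻¹ᵁ U.1) := h
  exact Algebra.FinitePresentation.ker_fG_of_surjective (Algebra.ofId Γ(Y, U.1) Γ(X, f ⁻¹ᵁ U.1))
    (f.app_surjective _ U.2)

variable {I : Type u} [SmallCategory I] [IsCofiltered I] {D : I ⥤ Scheme.{u}} {c : Cone D}
  [∀ {i j : I} (f : i ⟶ j), IsAffineHom (D.map f)] [∀ i, CompactSpace (D.obj i)]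
  [∀ i, QuasiSeparatedSpace (D.obj i)] (hc : IsLimit c)

include hc in
/-- Ideal sheaves of finite type descend. -/
theorem exists_stage_idealSheaf (J : c.pt.IdealSheafData) (hJ : ∀ U, (J.ideal U).FG) :
    ∃ (i : I) (Ji : (D.obj i).IdealSheafData), (∀ U, (Ji.ideal U).FG) ∧
      Ji.comap (c.π.app i) = J := by
  have : LocallyOfFinitePresentation J.subschemeι :=
    locallyOfFinitePresentation_of_ker_fg _ fun U => by
      rw [Scheme.IdealSheafData.ker_subschemeι]; exact hJ U
  obtain ⟨j, Z, h, q, h1, h2, h3, sq⟩ := exists_stage_scheme hc J.subschemeι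
  have := h1; have := h2; have := h3
  obtain ⟨k, ψ, hψ⟩ := descends_isClosedImmersion D c hc (fun φ => inferInstance) j h
    (inferInstanceAs (LocallyOfFiniteType h)) J.subschemeι q sq
    (inferInstanceAs (IsClosedImmersion J.subschemeι))
  have := hψ
  refine ⟨k, (pullback.snd h (D.map ψ)).ker, ker_fg_of_locallyOfFinitePresentation _, ?_⟩
  let l := pullback.lift q (J.subschemeι ≫ c.π.app k) (by rw [sq.w, Category.assoc, c.w ψ])
  have sq' : IsPullback l J.subschemeι (pullback.snd h (D.map ψ)) (c.π.app k) := by
    refine IsPullback.of_right ?_ (pullback.lift_snd _ _ _) (IsPullback.of_hasPullback h (D.map ψ))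
    rw [pullback.lift_fst, c.w ψ]
    exact sq
  rw [← Scheme.IdealSheafData.ker_fst_of_isClosedImmersion, ← sq'.flip.isoPullback_inv_fst,
    Scheme.Hom.ker_comp_of_isIso, Scheme.IdealSheafData.ker_subschemeι]

end Groth.Agent.H8Lim
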