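import Mathlib.AlgebraicGeometry.Morphisms.Immersion
import Mathlib.CategoryTheory.Limits.Shapes.Diagonal
import Groth.Agent.H8Lim.Constructible

/-!
# Separatedness of the stages of a limit

EGA IV 8.10.5 (v), absolute form: if `lim X_i → S` is separated then so is `X_i → S` eventually.
-/

set_option backward.isDefEq.respectTransparency.types false

universe u

open CategoryTheory Limits AlgebraicGeometry Topology

namespace Groth.Agent.H8Lim

variable {I : Type u} [SmallCategory I] [IsCofiltered I] {D : I ⥤ Scheme.{u}} {S : Scheme.{u}}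
  (t : D ⟶ (Functor.const I).obj S)

omit [IsCofiltered I] in
lemma map_comp_t {i j : I} (f : i ⟶ j) : D.map f ≫ t.app j = t.app i := by simp [t.naturality f]

/-- The transition maps of `sqDiagram`. -/
noncomputable def sqTrans {i j : I} (f : i ⟶ j) :
    pullback (t.app i) (t.app i) ⟶ pullback (t.app j) (t.app j) :=
  pullback.map _ _ _ _ (D.map f) (D.map f) (𝟙 _)
    ((Category.comp_id _).trans (map_comp_t t f).symm)
    ((Category.comp_id _).trans (map_comp_t t f).symm)

omit [IsCofiltered I] in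
@[reassoc]
lemma sqTrans_fst {i j : I} (f : i ⟶ j) :
    sqTrans t f ≫ pullback.fst _ _ = pullback.fst _ _ ≫ D.map f :=
  pullback.lift_fst _ _ _

omit [IsCofiltered I] in
@[reassoc]
lemma sqTrans_snd {i j : I} (f : i ⟶ j) :
    sqTrans t f ≫ pullback.snd _ _ = pullback.snd _ _ ≫ D.map f :=
  pullback.lift_snd _ _ _

/-- The diagram `i ↦ X_i ×_S X_i`. -/
noncomputable def sqDiagram : I ⥤ Scheme.{u} where
  obj i := pullback (t.app i) (t.app i)
  map f := sqTrans t f
  map_id i := by apply pullback.hom_ext <;> simp [sqTrans_fst, sqTrans_snd]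
  map_comp f g := by
    apply pullback.hom_ext <;>
      simp [sqTrans_fst, sqTrans_snd, sqTrans_fst_assoc, sqTrans_snd_assoc]

omit [IsCofiltered I] in
lemma isAffineHom_sqTrans [∀ {i j} (f : i ⟶ j), IsAffineHom (D.map f)] {i j : I} (f : i ⟶ j) :
    IsAffineHom (sqTrans t f) :=
  MorphismProperty.pullbackMap (P := @IsAffineHom) inferInstance inferInstance
    (map_comp_t t f).symm (map_comp_t t f).symm

variable {c : Cone D} {s : c.pt ⟶ S} (hs : ∀ i, c.π.app i ≫ t.app i = s)

/-- The projection `X ×_S X → X_i ×_S X_i`. -/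
noncomputable def sqProj (i : I) : pullback s s ⟶ pullback (t.app i) (t.app i) :=
  pullback.map _ _ _ _ (c.π.app i) (c.π.app i) (𝟙 _)
    ((Category.comp_id _).trans (hs i).symm) ((Category.comp_id _).trans (hs i).symm)

omit [IsCofiltered I] in
@[reassoc]
lemma sqProj_fst (i : I) : sqProj t hs i ≫ pullback.fst _ _ = pullback.fst s s ≫ c.π.app i :=
  pullback.lift_fst _ _ _

omit [IsCofiltered I] in
@[reassoc]
lemma sqProj_snd (i : I) : sqProj t hs i ≫ pullback.snd _ _ = pullback.snd s s ≫ c.π.app i :=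
  pullback.lift_snd _ _ _

/-- The cone `X ×_S X`. -/
noncomputable def sqCone : Cone (sqDiagram t) where
  pt := pullback s s
  π :=
    { app := sqProj t hs
      naturality := fun i j f ↦ by
        dsimp [sqDiagram]
        rw [Category.id_comp]
        apply pullback.hom_ext <;>
          simp [sqTrans_fst, sqTrans_snd, sqProj_fst, sqProj_snd, sqProj_fst_assoc,
            sqProj_snd_assoc] }

variable (hc : IsLimit c)

include hc in
lemma exists_lift_sqCone (σ : Cone (sqDiagram t)) :
    ∃ l : σ.pt ⟶ pullback s s, (∀ i, l ≫ sqProj t hs i = σ.π.app i) ∧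
      ∀ m : σ.pt ⟶ pullback s s, (∀ i, m ≫ sqProj t hs i = σ.π.app i) → m = l := by
  let pr (i : I) : σ.pt ⟶ pullback (t.app i) (t.app i) := σ.π.app i
  have hpr : ∀ {i j : I} (f : i ⟶ j), pr i ≫ sqTrans t f = pr j := fun f ↦ σ.w f
  let c₁ : Cone D :=
    { pt := σ.pt
      π := { app := fun i ↦ pr i ≫ pullback.fst _ _
             naturality := fun i j f ↦ by
               dsimp
               rw [Category.id_comp, ← hpr f, Category.assoc, sqTrans_fst, Category.assoc] } }
  let c₂ : Cone D :=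
    { pt := σ.pt
      π := { app := fun i ↦ pr i ≫ pullback.snd _ _
             naturality := fun i j f ↦ by
               dsimp
               rw [Category.id_comp, ← hpr f, Category.assoc, sqTrans_snd, Category.assoc] } }
  have h₁ : ∀ i, hc.lift c₁ ≫ c.π.app i = pr i ≫ pullback.fst _ _ := hc.fac c₁
  have h₂ : ∀ i, hc.lift c₂ ≫ c.π.app i = pr i ≫ pullback.snd _ _ := hc.fac c₂
  obtain ⟨i⟩ := IsCofiltered.nonempty (C := I)
  refine ⟨pullback.lift (hc.lift c₁) (hc.lift c₂) ?_, fun j ↦ ?_, fun m hm ↦ ?_⟩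
  · rw [← hs i, reassoc_of% h₁ i, reassoc_of% h₂ i, pullback.condition]
  · apply pullback.hom_ext
    · rw [Category.assoc, sqProj_fst, pullback.lift_fst_assoc]
      exact h₁ j
    · rw [Category.assoc, sqProj_snd, pullback.lift_snd_assoc]
      exact h₂ j
  · apply pullback.hom_ext <;> refine hc.hom_ext fun j ↦ ?_
    · rw [pullback.lift_fst, h₁ j, Category.assoc, ← sqProj_fst t hs j, ← Category.assoc, hm j]
    · rw [pullback.lift_snd, h₂ j, Category.assoc, ← sqProj_snd t hs j, ← Category.assoc, hm j]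

/-- `X ×_S X` is the limit of the `X_i ×_S X_i`. -/
noncomputable def isLimitSqCone : IsLimit (sqCone t hs) where
  lift σ := (exists_lift_sqCone t hs hc σ).choose
  fac σ := (exists_lift_sqCone t hs hc σ).choose_spec.1
  uniq σ m hm := (exists_lift_sqCone t hs hc σ).choose_spec.2 m hm

omit [IsCofiltered I] in
/-- The map `X ×_Y X → X ×_S X`. -/
lemma isPullback_map_diagonal {X Y : Scheme.{u}} (f : X ⟶ Y) (g : Y ⟶ S) {u : X ⟶ S}
    (e : f ≫ g = u) :
    IsPullback (pullback.fst f f ≫ f)
      (pullback.map f f u u (𝟙 _) (𝟙 _) g (by simp [e]) (by simp [e])) (pullback.diagonal g)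
      (pullback.map u u g g f f (𝟙 _) (by simp [e]) (by simp [e])) := by
  subst e
  exact pullback_map_diagonal_isPullback f f g

include hs hc in
/-- EGA IV 8.10.5 (v), absolute form. -/
theorem exists_forall_isSeparated [∀ {i j} (f : i ⟶ j), IsAffineHom (D.map f)]
    [∀ i, CompactSpace (D.obj i)] [∀ i, QuasiSeparatedSpace (D.obj i)] [QuasiSeparatedSpace S]
    [IsSeparated s] : ∃ i₁ : I, ∀ i, (i ⟶ i₁) → IsSeparated (t.app i) := by
  obtain ⟨i₁⟩ := IsCofiltered.nonempty (C := I)
  suffices ∃ (i : I) (φ : i ⟶ i₁), IsSeparated (t.app i) by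
    obtain ⟨i, -, hi⟩ := this
    refine ⟨i, fun j f ↦ ?_⟩
    rw [← map_comp_t t f]
    exact MorphismProperty.comp_mem @IsSeparated _ _ inferInstance hi
  have hP : ∀ {i j : I} (f : i ⟶ j), IsAffineHom ((sqDiagram t).map f) :=
    fun f ↦ isAffineHom_sqTrans t f
  let Δ (i : I) : D.obj i ⟶ pullback (t.app i) (t.app i) := pullback.diagonal (t.app i)
  have hΔqc : ∀ i, QuasiCompact (Δ i) := fun i ↦
    inferInstanceAs (QuasiCompact (pullback.diagonal (t.app i)))
  have hΔim : ∀ i, IsImmersion (Δ i) := fun i ↦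
    inferInstanceAs (IsImmersion (pullback.diagonal (t.app i)))
  have hnat : ∀ {i j : I} (f : i ⟶ j), Δ i ≫ sqTrans t f = D.map f ≫ Δ j := fun {i j} f ↦ by
    apply pullback.hom_ext <;>
      simp [Δ, sqTrans_fst, sqTrans_snd]
  have hnat' : ∀ i, pullback.diagonal s ≫ sqProj t hs i = c.π.app i ≫ Δ i := fun i ↦ by
    apply pullback.hom_ext <;> simp [Δ, sqProj_fst, sqProj_snd]
  have hrange : ∀ {i j : I} (f : i ⟶ j) {x : (pullback (t.app i) (t.app i) : Scheme)},
      x ∈ closure (Set.range (Δ i)) → sqTrans t f x ∈ closure (Set.range (Δ j)) :=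
    fun {i j} f x hx ↦ map_mem_closure (sqTrans t f).continuous hx (by
      rintro _ ⟨y, rfl⟩
      exact ⟨D.map f y, by rw [← Scheme.Hom.comp_apply, ← hnat, Scheme.Hom.comp_apply]⟩)
  have hw : ∀ {i j : I} (f : i ⟶ j), sqProj t hs i ≫ sqTrans t f = sqProj t hs j :=
    fun f ↦ (sqCone t hs).w f
  let O : (pullback (t.app i₁) (t.app i₁) : Scheme).Opens := (Δ i₁).coborderRange
  let F (i : I) (f : i ⟶ i₁) : Set (pullback (t.app i) (t.app i) : Scheme) :=
    closure (Set.range (Δ i)) ∩ (sqTrans t f ⁻¹' O)ᶜ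
  by_cases hF : ∀ i f, (F i f).Nonempty
  · exfalso
    have : ∀ i, QuasiCompact (t.app i) := fun i ↦
      @quasiCompact_of_compactSpace (D.obj i) S (t.app i) _ ‹QuasiSeparatedSpace S›
    have hcpt : ∀ i, CompactSpace (pullback (t.app i) (t.app i) : Scheme) := fun i ↦
      QuasiCompact.compactSpace_of_compactSpace (pullback.fst (t.app i) (t.app i))
    have hFc : ∀ i f, IsClosed (F i f) := fun i f ↦
      isClosed_closure.inter (O.2.preimage (sqTrans t f).continuous).isClosed_compl
    have hstab : ∀ (i i' : I) (g : i' ⟶ i) (f : i ⟶ i₁),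
        Set.MapsTo (sqTrans t g) (F i' (g ≫ f)) (F i f) := by
      intro i i' g f x ⟨hx, hx'⟩
      refine ⟨hrange g hx, fun h ↦ hx' ?_⟩
      have e : sqTrans t (g ≫ f) = sqTrans t g ≫ sqTrans t f := (sqDiagram t).map_comp g f
      change sqTrans t (g ≫ f) x ∈ O
      rw [e, Scheme.Hom.comp_apply]
      exact h
    obtain ⟨q, hq⟩ : ∃ q : (pullback s s : Scheme), ∀ i f, sqProj t hs i q ∈ F i f :=
      exists_mem_of_isClosed_of_nonempty' (sqDiagram t) _ (isLimitSqCone t hs hc) (j := i₁) F
        hFc hF (fun i f ↦ haveI := hcpt i; (hFc i f).isCompact) hstab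
    have hmem : q ∈ closure (Set.range (pullback.diagonal s)) := by
      rw [mem_closure_iff]
      intro U hU hqU
      obtain ⟨k, V, hV, hqV, hVU⟩ : ∃ (k : I) (V : (pullback (t.app k) (t.app k) : Scheme).Opens),
          IsAffineOpen V ∧ sqProj t hs k q ∈ V ∧ sqProj t hs k ⁻¹' V ⊆ U := by
        obtain ⟨_, ⟨k, V, hV, rfl⟩, hqV, hVU⟩ := TopologicalSpace.Opens.isBasis_iff_nbhd.mp
          (isBasis_preimage_isAffineOpen (sqDiagram t) _ (isLimitSqCone t hs hc))
          (U := ⟨U, hU⟩) hqU
        exact ⟨k, V, hV, hqV, hVU⟩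
      by_contra hne
      have hW : IsCompact ((Δ k ⁻¹ᵁ V : (D.obj k).Opens) : Set (D.obj k)) :=
        (Δ k).isCompact_preimage hV.isCompact
      obtain ⟨j, g, hj⟩ := exists_map_preimage_le_map_preimage D c hc hW (V := ⊥) (fun x hx ↦ by
        refine absurd ⟨pullback.diagonal s x, hVU ?_, x, rfl⟩ hne
        rw [Set.mem_preimage, ← Scheme.Hom.comp_apply, hnat', Scheme.Hom.comp_apply]
        exact hx)
      have hcl := (hq _ (IsCofiltered.minToRight j i₁)).1
      rw [mem_closure_iff] at hcl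
      obtain ⟨_, hy, y, rfl⟩ := hcl _
        (sqTrans t (IsCofiltered.minToLeft j i₁ ≫ g) ⁻¹ᵁ V).2 (by
          change sqTrans t _ (sqProj t hs _ q) ∈ V
          rw [← Scheme.Hom.comp_apply, hw]
          exact hqV)
      have : D.map (IsCofiltered.minToLeft j i₁) y ∈ D.map g ⁻¹ᵁ (Δ k ⁻¹ᵁ V) := by
        rw [Scheme.Hom.mem_preimage, Scheme.Hom.mem_preimage, ← Scheme.Hom.comp_apply,
          ← Scheme.Hom.comp_apply, ← Category.assoc, ← D.map_comp, ← hnat, Scheme.Hom.comp_apply]
        exact hy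
      have h0 := hj this
      simp at h0
    rw [(pullback.diagonal s).isClosedEmbedding.isClosed_range.closure_eq] at hmem
    obtain ⟨x, rfl⟩ := hmem
    refine (hq i₁ (𝟙 i₁)).2 ?_
    have : sqProj t hs i₁ (pullback.diagonal s x) ∈ O := by
      rw [← Scheme.Hom.comp_apply, hnat', Scheme.Hom.comp_apply]
      exact subset_coborder ⟨_, rfl⟩
    change sqTrans t (𝟙 i₁) (sqProj t hs i₁ (pullback.diagonal s x)) ∈ O
    rw [← Scheme.Hom.comp_apply, hw]
    exact this
  · push Not at hF
    obtain ⟨i, f, hFi⟩ := hF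
    refine ⟨i, f, ⟨?_⟩⟩
    change IsClosedImmersion (Δ i)
    refine .of_isPreimmersion _ (isClosed_of_closure_subset fun p hp ↦ ?_)
    have hpO : sqTrans t f p ∈ O := by
      by_contra h
      exact Set.eq_empty_iff_forall_notMem.mp hFi p ⟨hp, h⟩
    have hp₁ : sqTrans t f p ∈ coborder (Set.range (Δ i₁)) ∩ closure (Set.range (Δ i₁)) :=
      ⟨hpO, hrange f hp⟩
    rw [coborder_inter_closure] at hp₁
    obtain ⟨z, hz⟩ := hp₁
    let ι : pullback (D.map f) (D.map f) ⟶ pullback (t.app i) (t.app i) :=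
      pullback.map _ _ _ _ (𝟙 _) (𝟙 _) (t.app i₁) (by simp) (by simp)
    have sq : IsPullback (pullback.fst (D.map f) (D.map f) ≫ D.map f) ι (Δ i₁) (sqTrans t f) :=
      isPullback_map_diagonal (D.map f) (t.app i₁) (map_comp_t t f)
    obtain ⟨w, -, hw'⟩ := Scheme.exists_preimage_of_isPullback sq z p hz
    have : IsImmersion ι := MorphismProperty.of_isPullback sq (hΔim i₁)
    have hcomp : Δ i = pullback.diagonal (D.map f) ≫ ι := by
      apply pullback.hom_ext <;>
        simp only [Δ, ι, pullback.map, Category.assoc, pullback.lift_fst, pullback.lift_snd,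
          Category.comp_id, pullback.diagonal_fst, pullback.diagonal_snd]
    subst hw'
    rw [hcomp, Scheme.Hom.comp_base, TopCat.coe_comp, Set.range_comp] at hp ⊢
    refine ⟨w, ?_, rfl⟩
    have := (pullback.diagonal (D.map f)).isClosedEmbedding.isClosed_range.closure_eq
    rw [← this, ι.isEmbedding.closure_eq_preimage_closure_image]
    exact hp

end Groth.Agent.H8Lim
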