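import Groth.Agent.H8Lim.ApproxFP
import Groth.Agent.H8Lim.ClosedIntoStage

/-!
# An immersion of finite type into a limit is an immersion into a stage

Stacks 01ZP, 01ZQ / EGA IV 8.10.5: if `Y → lim X_i` is an immersion, `Y` quasi-compact and locally
of finite type over the base, then `Y → X_i` is an immersion for some `i`.
-/

set_option autoImplicit false
set_option backward.isDefEq.respectTransparency.types false

universe u

open CategoryTheory Limits AlgebraicGeometry TopologicalSpace Topology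

namespace Groth.Agent.H8Lim

/-- An immersion is surjective on sections over affine opens inside the open in which it is
closed. -/
lemma immersion_app_surjective {Y Z : Scheme.{u}} (h : Y ⟶ Z) [IsImmersion h] {W : Z.Opens}
    (hW : IsAffineOpen W) (hle : W ≤ h.coborderRange) :
    IsAffineOpen (h ⁻¹ᵁ W) ∧ Function.Surjective (h.app W) := by
  let O := h.coborderRange
  have hW' : IsAffineOpen (O.ι ⁻¹ᵁ W) :=
    hW.preimage_of_isOpenImmersion O.ι (by rw [Scheme.Opens.opensRange_ι]; exact hle)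
  have e : h.liftCoborder ≫ O.ι = h := h.liftCoborder_ι
  have hsurj : Function.Surjective ((h.liftCoborder ≫ O.ι).app W) := by
    rw [Scheme.Hom.comp_app]
    refine (h.liftCoborder.app_surjective _ hW').comp ?_
    rw [Scheme.Opens.ι_app]
    have : IsIso (homOfLE (x := O.ι ''ᵁ O.ι ⁻¹ᵁ W) (y := W)
        (O.ι.image_preimage_eq_opensRange_inf W ▸ inf_le_right)) :=
      ⟨homOfLE (by rw [O.ι.image_preimage_eq_opensRange_inf, Scheme.Opens.opensRange_ι]
                   exact le_inf hle le_rfl), Subsingleton.elim _ _, Subsingleton.elim _ _⟩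
    exact (ConcreteCategory.bijective_of_isIso
      (Z.presheaf.map (homOfLE (x := O.ι ''ᵁ O.ι ⁻¹ᵁ W) (y := W)
        (O.ι.image_preimage_eq_opensRange_inf W ▸ inf_le_right)).op)).2
  refine ⟨?_, ?_⟩
  · have := hW'.preimage h.liftCoborder
    rwa [← Scheme.Hom.comp_preimage, e] at this
  · have key : ∀ g : Y ⟶ Z, g = h → Function.Surjective (g.app W) →
        Function.Surjective (h.app W) := by
      rintro g rfl H; exact H
    exact key _ e hsurj

variable {I : Type u} [SmallCategory I] [IsCofiltered I] {D : I ⥤ Scheme.{u}} {c : Cone D}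
  (hc : IsLimit c) [∀ {i j} (f : i ⟶ j), IsAffineHom (D.map f)]

include hc in
/-- An immersion into a limit is an immersion into a stage. -/
theorem exists_isImmersion_comp_π {S Y : Scheme.{u}} (t : D ⟶ (Functor.const I).obj S)
    (s : c.pt ⟶ S) (hs : ∀ i, c.π.app i ≫ t.app i = s) (h : Y ⟶ c.pt) [IsImmersion h]
    [CompactSpace Y] [LocallyOfFiniteType (h ≫ s)] : ∃ i, IsImmersion (h ≫ c.π.app i) := by
  have hlft : ∀ i, LocallyOfFiniteType (h ≫ c.π.app i) := fun i ↦ by
    have : LocallyOfFiniteType ((h ≫ c.π.app i) ≫ t.app i) := by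
      rw [Category.assoc, hs]; infer_instance
    exact locallyOfFiniteType_of_comp _ (t.app i)
  have := isAffineHom_π_app D c hc
  have hex : ∀ y : Y, ∃ (i : I) (V : (D.obj i).Opens), IsAffineOpen V ∧
      c.π.app i ⁻¹ᵁ V ≤ h.coborderRange ∧ h y ∈ c.π.app i ⁻¹ᵁ V := fun y ↦ by
    have hy0 : h y ∈ h.coborderRange := subset_coborder ⟨y, rfl⟩
    obtain ⟨_, ⟨i, V, hV, rfl⟩, hy, hle⟩ :=
      Opens.isBasis_iff_nbhd.mp (isBasis_preimage_isAffineOpen D c hc) hy0
    exact ⟨i, V, hV, hle, hy⟩
  choose i V hV hle hy using hex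
  have hl : ∀ y, ∃ (l : I) (g : l ⟶ i y), ∀ (m : I) (f : m ⟶ l),
      IsClosedImmersion ((h ≫ c.π.app m) ∣_ (D.map (f ≫ g) ⁻¹ᵁ V y)) := fun y ↦ by
    have := hlft (i y)
    obtain ⟨h1, h2⟩ := immersion_app_surjective h ((hV y).preimage _) (hle y)
    exact exists_forall_isClosedImmersion_restrict_of_surjective hc h (i y) (hV y) h1 h2
  choose l g hl using hl
  obtain ⟨t', ht'⟩ := isCompact_univ.elim_finite_subcover
    (fun y ↦ (h ⁻¹ᵁ (c.π.app (i y) ⁻¹ᵁ V y) : Set Y))
    (fun y ↦ (h ⁻¹ᵁ (c.π.app (i y) ⁻¹ᵁ V y)).2) fun y _ ↦ Set.mem_iUnion.mpr ⟨y, hy y⟩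
  classical
  obtain ⟨m, fm⟩ := IsCofiltered.inf_objs_exists (t'.image l)
  replace fm : ∀ y : t', m ⟶ l y.1 := fun y ↦ (fm (Finset.mem_image_of_mem l y.2)).some
  let W : t' → (D.obj m).Opens := fun y ↦ D.map (fm y ≫ g y.1) ⁻¹ᵁ V y.1
  let O : (D.obj m).Opens := iSup W
  have hO : Set.range (h ≫ c.π.app m) ⊆ O.ι.opensRange := by
    rintro _ ⟨y, rfl⟩
    rw [Scheme.Opens.opensRange_ι]
    obtain ⟨z, hz, hyz⟩ := Set.mem_iUnion₂.mp (ht' (Set.mem_univ y))
    refine Opens.mem_iSup.mpr ⟨⟨z, hz⟩, ?_⟩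
    change h y ∈ c.π.app m ⁻¹ᵁ D.map _ ⁻¹ᵁ V z
    rw [← Scheme.Hom.comp_preimage, c.w]
    exact hyz
  let k : Y ⟶ O.toScheme := IsOpenImmersion.lift O.ι (h ≫ c.π.app m) hO
  have hk : k ≫ O.ι = h ≫ c.π.app m := IsOpenImmersion.lift_fac _ _ _
  have : IsClosedImmersion k := by
    refine IsZariskiLocalAtTarget.of_iSup_eq_top (P := @IsClosedImmersion)
      (fun y ↦ O.ι ⁻¹ᵁ W y) ?_ fun y ↦ ?_
    · rw [← Scheme.Hom.preimage_iSup]
      exact Scheme.Opens.ι_preimage_self O
    · have hres : IsClosedImmersion ((k ≫ O.ι) ∣_ W y) := by rw [hk]; exact hl y.1 m (fm y)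
      rw [morphismRestrict_comp] at hres
      have hres' : IsClosedImmersion (k ∣_ O.ι ⁻¹ᵁ W y ≫ O.ι ∣_ W y) := hres
      have := @IsClosedImmersion.of_comp _ _ _ (k ∣_ O.ι ⁻¹ᵁ W y) (O.ι ∣_ W y) hres' inferInstance
      exact this
  exact ⟨m, hk ▸ inferInstance⟩

end Groth.Agent.H8Lim

namespace Groth.Agent.H8Lim

/-- Stacks 01ZQ / EGA IV 8.9: a qcqs scheme locally of finite type over any base is immersed in one
of finite presentation. -/
theorem exists_isImmersion_finitePresentation {X S : Scheme.{u}} (f : X ⟶ S) [LocallyOfFiniteType f]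
    [CompactSpace X] [QuasiSeparatedSpace X] :
    ∃ (X' : Scheme.{u}) (f' : X' ⟶ S) (j : X ⟶ X'), LocallyOfFinitePresentation f' ∧
      QuasiCompact f' ∧ QuasiSeparated f' ∧ IsImmersion j ∧ j ≫ f' = f := by
  obtain ⟨X₁, a, ha, hc₁, hqs₁, hN, hX₁⟩ := exists_int_model X
  obtain ⟨hc⟩ := Family.isLimit_cone a
  let B := Spec (CommRingCat.of (ULift.{u} ℤ))
  let fS : S ⟶ B := specULiftZIsTerminal.from S
  let DB : (Family a)ᵒᵖ ⥤ Over B :=
    { obj := fun i ↦ Over.mk (specULiftZIsTerminal.from ((Family.diagram a).obj i))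
      map := fun g ↦ Over.homMk ((Family.diagram a).map g) (specULiftZIsTerminal.hom_ext _ _)
      map_id := fun i ↦ by ext; exact (Family.diagram a).map_id i
      map_comp := fun g g' ↦ by ext; exact (Family.diagram a).map_comp g g' }
  let cB : Cone DB :=
    { pt := Over.mk (specULiftZIsTerminal.from X)
      π := { app := fun i ↦ Over.homMk ((Family.cone a).π.app i) (specULiftZIsTerminal.hom_ext _ _)
             naturality := fun i j g ↦ by ext; exact (Family.cone a).π.naturality g } }
  have : IsConnected (Family a)ᵒᵖ := IsCofiltered.isConnected _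
  have hcB : IsLimit cB := isLimitOfReflects (Over.forget B) hc
  let D := DB ⋙ Over.pullback fS ⋙ Over.forget S
  let cD : Cone D := (Over.pullback fS ⋙ Over.forget S).mapCone cB
  have hcD : IsLimit cD := isLimitOfPreserves (Over.pullback fS ⋙ Over.forget S) hcB
  have : ∀ {i j : (Family a)ᵒᵖ} (g : i ⟶ j), IsAffineHom (D.map g) := fun g ↦
    MorphismProperty.baseChange_map (P := @IsAffineHom) fS (DB.map g) (Family.isAffineHom_map g)
  let t : D ⟶ (Functor.const _).obj S :=
    { app := fun i ↦ ((Over.pullback fS).obj (DB.obj i)).hom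
      naturality := fun i j g ↦ (Over.w ((Over.pullback fS).map (DB.map g))).trans
        (Category.comp_id _).symm }
  let h : X ⟶ cD.pt := pullback.lift (𝟙 X) f (specULiftZIsTerminal.hom_ext _ _)
  have : IsImmersion h := by
    have : IsImmersion (h ≫ pullback.fst cB.pt.hom fS) := by
      rw [show h ≫ pullback.fst cB.pt.hom fS = 𝟙 X from pullback.lift_fst _ _ _]
      infer_instance
    exact IsImmersion.of_comp h (pullback.fst cB.pt.hom fS)
  have hs : h ≫ pullback.snd cB.pt.hom fS = f := pullback.lift_snd _ _ _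
  have : LocallyOfFiniteType (h ≫ pullback.snd cB.pt.hom fS) := by rw [hs]; infer_instance
  obtain ⟨i, hi⟩ := exists_isImmersion_comp_π hcD t (pullback.snd cB.pt.hom fS)
    (fun i ↦ Over.w ((Over.pullback fS).map (cB.π.app i))) h
  let p := i.unop.alg.π
  have : IsAffineHom p := i.unop.alg.isAffineHom_π
  have : CompactSpace i.unop.alg.spec := QuasiCompact.compactSpace_of_compactSpace p
  have : QuasiSeparatedSpace i.unop.alg.spec := quasiSeparatedSpace_of_quasiSeparated p
  let q : i.unop.alg.spec ⟶ B := specULiftZIsTerminal.from _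
  have : IsLocallyNoetherian B := isLocallyNoetherian_specULiftZ
  have : LocallyOfFiniteType q := by
    rw [show q = p ≫ specULiftZIsTerminal.from X₁ from specULiftZIsTerminal.hom_ext _ _]
    infer_instance
  have : LocallyOfFinitePresentation q := inferInstance
  have : QuasiCompact q := quasiCompact_of_compactSpace q
  have : QuasiSeparated q := inferInstance
  exact ⟨D.obj i, pullback.snd q fS, h ≫ cD.π.app i, MorphismProperty.pullback_snd _ _ inferInstance,
    MorphismProperty.pullback_snd _ _ inferInstance, MorphismProperty.pullback_snd _ _ inferInstance,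
    hi, by
      rw [Category.assoc]
      exact (congrArg (h ≫ ·) (Over.w ((Over.pullback fS).map (cB.π.app i)))).trans hs⟩

end Groth.Agent.H8Lim
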