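import Groth.Agent.H8Lim.AmpleStage
import Groth.Agent.H8Lim.BaseChange
import Groth.Agent.AmpleLib.Relative2

/-!
# Relative ampleness descends along limits (EGA IV 8.10.5.2)
-/

set_option autoImplicit false
set_option maxHeartbeats 800000
set_option backward.isDefEq.respectTransparency.types false
set_option linter.style.haveILetI false

universe u

open CategoryTheory CategoryTheory.Limits AlgebraicGeometry Opposite TopologicalSpace
open Groth.Agent.AmpleLib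

namespace Groth.Agent.H8Lim

variable {I : Type u} [SmallCategory I] [IsCofiltered I] {D : I ⥤ Scheme.{u}} {c : Cone D}
  [∀ {i j : I} (f : i ⟶ j), IsAffineHom (D.map f)] (hc : IsLimit c)

include hc in
/-- Ampleness on a base change to the limit holds on all base changes to late stages. -/
theorem exists_stage_isAmple_baseChange {i₀ : I} {P : Scheme.{u}} [CompactSpace P]
    [QuasiSeparatedSpace P] (p : P ⟶ D.obj i₀) (L : P.Modules) (hL : PicF.IsInvertible L)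
    {X : Scheme.{u}} {q : X ⟶ P} {f : X ⟶ c.pt} (sq : IsPullback q f p (c.π.app i₀))
    (h : CohB1.IsAmple ((Scheme.Modules.pullback q).obj L)) :
    ∃ (j : I) (φ : j ⟶ i₀), ∀ (k : I) (ψ : k ⟶ j) {W : Scheme.{u}} (a : W ⟶ P) (b : W ⟶ D.obj k),
      IsPullback a b p (D.map (ψ ≫ φ)) → CohB1.IsAmple ((Scheme.Modules.pullback a).obj L) := by
  have := fun {j k : Over i₀} (g : j ⟶ k) =>
    (inferInstance : IsAffineHom ((stage D p).map g))
  let top : Over i₀ := Over.mk (𝟙 i₀)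
  let L' := (Scheme.Modules.pullback (stageFst D p top)).obj L
  have h' : CohB1.IsAmple ((Scheme.Modules.pullback ((stageCone p c q f sq).π.app top)).obj L') := by
    rw [isAmple_pullback_comp_iff]
    exact isAmple_pullback_congr (stageProj_fst p c q f sq top).symm h
  obtain ⟨j, g, hj⟩ := exists_stage_isAmple (isLimitStageCone p q f sq hc) L'
    (PicLoc.isInvertible_pullback _ hL) h'
  rw [isAmple_pullback_comp_iff] at hj
  have hj' := isAmple_pullback_congr (stageMap_fst D p g) hj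
  refine ⟨j.left, j.hom, fun k ψ W a b hW => ?_⟩
  let k' : Over i₀ := Over.mk (ψ ≫ j.hom)
  let m : k' ⟶ j := Over.homMk ψ
  let e := hW.isoIsPullback _ _ (isPullback_stage D p k')
  have h1 := isAmple_pullback_of_isAffineHom ((stage D p).map m) hj'
  rw [isAmple_pullback_comp_iff] at h1
  have h2 := isAmple_pullback_of_isAffineHom e.hom (isAmple_pullback_congr (stageMap_fst D p m) h1)
  rw [isAmple_pullback_comp_iff] at h2
  exact isAmple_pullback_congr (hW.isoIsPullback_hom_fst _ _ _) h2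

include hc in
/-- Relative ampleness over the limit holds at every late stage. -/
theorem exists_stage_isRelAmple {i₀ : I} [CompactSpace (D.obj i₀)] {X₀ Y₀ : Scheme.{u}}
    (f₀ : X₀ ⟶ Y₀) (g₀ : Y₀ ⟶ D.obj i₀) [QuasiCompact g₀] [QuasiCompact f₀] [QuasiSeparated f₀]
    (L₀ : X₀.Modules) (hL₀ : PicF.IsInvertible L₀)
    {X Y : Scheme.{u}} (f : X ⟶ Y) (g : Y ⟶ c.pt) (qY : Y ⟶ Y₀) (qX : X ⟶ X₀)
    (hY : IsPullback qY g g₀ (c.π.app i₀)) (hX : IsPullback qX f f₀ qY)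
    (h : RelAmple.IsRelAmple f ((Scheme.Modules.pullback qX).obj L₀)) :
    ∃ (j : I) (φ : j ⟶ i₀), ∀ (k : I) (ψ : k ⟶ j) {Xk Yk : Scheme.{u}} (fk : Xk ⟶ Yk)
      (gk : Yk ⟶ D.obj k) (pY : Yk ⟶ Y₀) (pX : Xk ⟶ X₀),
      IsPullback pY gk g₀ (D.map (ψ ≫ φ)) → IsPullback pX fk f₀ pY →
        RelAmple.IsRelAmple fk ((Scheme.Modules.pullback pX).obj L₀) := by
  classical
  have : CompactSpace Y₀ := QuasiCompact.compactSpace_of_compactSpace g₀
  have hπ : IsAffineHom (c.π.app i₀) := isAffineHom_π_app D c hc i₀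
  have hqY : IsAffineHom qY := MorphismProperty.of_isPullback hY.flip hπ
  obtain ⟨t, ht⟩ := isCompact_univ.elim_finite_subcover
    (fun V : Y₀.affineOpens => (V.1 : Set Y₀)) (fun V => V.1.2) (fun y _ => by
      obtain ⟨V, hV, hy, -⟩ := exists_isAffineOpen_mem_and_subset (x := y) (U := ⊤) trivial
      exact Set.mem_iUnion.2 ⟨⟨V, hV⟩, hy⟩)
  rw [isRelAmple_iff] at h
  have key : ∀ V : t, ∃ (j : I) (φ : j ⟶ i₀), ∀ (k : I) (ψ : k ⟶ j) {W : Scheme.{u}}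
      (a : W ⟶ f₀ ⁻¹ᵁ V.1.1) (b : W ⟶ D.obj k),
      IsPullback a b ((f₀ ⁻¹ᵁ V.1.1).ι ≫ f₀ ≫ g₀) (D.map (ψ ≫ φ)) →
        CohB1.IsAmple ((Scheme.Modules.pullback a).obj
          ((Scheme.Modules.pullback (f₀ ⁻¹ᵁ V.1.1).ι).obj L₀)) := fun V => by
    have : IsAffine (V.1.1 : Scheme.{u}) := V.1.2
    have : CompactSpace (f₀ ⁻¹ᵁ V.1.1 : Scheme.{u}) :=
      QuasiCompact.compactSpace_of_compactSpace (f₀ ∣_ V.1.1)
    have : QuasiSeparatedSpace (f₀ ⁻¹ᵁ V.1.1 : Scheme.{u}) := by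
      have : QuasiSeparated (f₀ ∣_ V.1.1) := IsZariskiLocalAtTarget.restrict ‹_› _
      exact quasiSeparatedSpace_of_quasiSeparated (f₀ ∣_ V.1.1)
    refine exists_stage_isAmple_baseChange hc ((f₀ ⁻¹ᵁ V.1.1).ι ≫ f₀ ≫ g₀)
      ((Scheme.Modules.pullback (f₀ ⁻¹ᵁ V.1.1).ι).obj L₀) (PicLoc.isInvertible_pullback _ hL₀)
      ((isPullback_morphismRestrict qX (f₀ ⁻¹ᵁ V.1.1)).paste_vert (hX.paste_vert hY)) ?_
    have hle : qX ⁻¹ᵁ (f₀ ⁻¹ᵁ V.1.1) = f ⁻¹ᵁ (qY ⁻¹ᵁ V.1.1) := by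
      rw [← Scheme.Hom.comp_preimage, hX.w, Scheme.Hom.comp_preimage]
    rw [isAmple_pullback_comp_iff]
    refine isAmple_pullback_congr (morphismRestrict_ι qX (f₀ ⁻¹ᵁ V.1.1)).symm ?_
    rw [← isAmple_pullback_comp_iff, hle]
    exact h.2 ⟨_, V.1.2.preimage qY⟩
  choose j φ hj using key
  obtain ⟨J, g', gk, hg⟩ := IsCofiltered.wideCospan φ
  refine ⟨J, g', fun k ψ Xk Yk fk gkk pY pX hYk hXk => ?_⟩
  have : IsAffineHom pY := MorphismProperty.of_isPullback hYk.flip inferInstance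
  have : QuasiCompact fk := MorphismProperty.of_isPullback hXk ‹QuasiCompact f₀›
  refine isRelAmple_of_affine_cover fk (PicLoc.isInvertible_pullback _ hL₀) fun y => ?_
  obtain ⟨V, hV, hy⟩ := Set.mem_iUnion₂.1 (ht (Set.mem_univ (pY y)))
  refine ⟨⟨pY ⁻¹ᵁ V.1, V.2.preimage pY⟩, hy, ?_⟩
  have hsq := (isPullback_morphismRestrict pX (f₀ ⁻¹ᵁ V.1)).paste_vert (hXk.paste_vert hYk)
  have e : D.map ((ψ ≫ gk ⟨V, hV⟩) ≫ φ ⟨V, hV⟩) = D.map (ψ ≫ g') := by rw [Category.assoc, hg]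
  rw [← e] at hsq
  have hA := hj ⟨V, hV⟩ k (ψ ≫ gk ⟨V, hV⟩) _ _ hsq
  rw [isAmple_pullback_comp_iff] at hA
  have hA' := isAmple_pullback_congr (morphismRestrict_ι pX (f₀ ⁻¹ᵁ V.1)) hA
  rw [← isAmple_pullback_comp_iff] at hA'
  have hle : pX ⁻¹ᵁ (f₀ ⁻¹ᵁ V.1) = fk ⁻¹ᵁ (pY ⁻¹ᵁ V.1) := by
    rw [← Scheme.Hom.comp_preimage, hXk.w, Scheme.Hom.comp_preimage]
  rw [hle] at hA'
  exact hA'

end Groth.Agent.H8Lim
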