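import Groth.Agent.Coherent.FibreVanish
import Groth.Agent.EulerLib.SupportVanishing
import Groth.Agent.FlatMorStrat.Supported
import Mathlib

/-!
# Higher direct images vanish above the dimension of the fibre (Noetherian base)
-/

set_option autoImplicit false
set_option backward.isDefEq.respectTransparency.types false
set_option linter.style.haveILetI false

universe u

open CategoryTheory CategoryTheory.Limits AlgebraicGeometry Opposite TopologicalSpace
open Groth.Agent.Coherent

namespace Groth.Agent.H8Lim

variable {X S : Scheme.{u}}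

/-- Stalks vanish above the dimension of the fibre. -/
theorem isZero_stalk_rpushAb_of_fibre_dim (f : X ⟶ S) [IsProper f] [IsLocallyNoetherian S] {M : X.Modules}
    (hM : Coh.IsCoh M) (y : S) (d : ℕ) (hd : topologicalKrullDim ↥(f.fiber y) ≤ d) (p : ℕ) (hp : d < p) :
    IsZero (TopCat.Presheaf.stalk ((Coh.RpushAb f p).obj (Coh.toAb M)).obj y) := by
  haveI := hasInjectiveResolutions_modules X
  refine isZero_stalk_rpushAb_of_thickenings f hM p y fun X₁ _ g hsq n => ?_
  haveI := isProper_of_stalk f y g hsq
  let π := X₁ ↘ Spec (CommRingCat.of (S.presheaf.stalk y))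
  haveI : IsLocallyNoetherian X₁ := LocallyOfFiniteType.isLocallyNoetherian π
  haveI : CompactSpace X₁ := QuasiCompact.compactSpace_of_compactSpace π
  haveI : AlgebraicGeometry.IsNoetherian X₁ := {}
  haveI : X₁.IsSeparated := ⟨by
    rw [show terminal.from X₁ = π ≫ terminal.from _ from terminal.hom_ext _ _]; infer_instance⟩
  haveI : IsPreimmersion g :=
    MorphismProperty.of_isPullback (P := @IsPreimmersion) hsq.flip inferInstance
  let Z : Set X₁ := π ⁻¹' PrimeSpectrum.zeroLocus (IsLocalRing.maximalIdeal (S.presheaf.stalk y) : Set _)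
  have hZc : IsClosed Z := (PrimeSpectrum.isClosed_zeroLocus _).preimage π.continuous
  have hsub := preimage_closedPoint_subset f y g hsq
  let m : Z → (f ⁻¹' {y} : Set X) := fun z => ⟨g z.1, hsub z.2⟩
  have hm : Topology.IsInducing m :=
    Topology.IsInducing.of_comp (by fun_prop) continuous_subtype_val
      (g.isEmbedding.isInducing.comp Topology.IsInducing.subtypeVal)
  have hdim : topologicalKrullDim Z ≤ d := hm.topologicalKrullDim_le.trans
    (((f.fiberHomeo y).symm.isInducing.topologicalKrullDim_le).trans hd)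
  haveI := hM.1
  haveI : Coh.IsQCoh ((Scheme.Modules.pullback g).obj M) := EGA43.InjFibre.isQCoh_pullback g M
  have hq : Coh.IsQCoh (Formal.modPow (IsLocalRing.maximalIdeal (S.presheaf.stalk y))
      (n + 1) ((Scheme.Modules.pullback g).obj M)) :=
    (isCoh_modPow (IsLocalRing.maximalIdeal (S.presheaf.stalk y))
      (⟨inferInstance, isFT_pullback_qcoh g hM.1 hM.2⟩ : Coh.IsCoh ((Scheme.Modules.pullback g).obj M)) (n + 1)).1
  exact EulerLib.subsingleton_HH_of_support ⟨Z, hZc⟩ _ hq (support_modPow_subset _ _ _) p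
    (lt_of_le_of_lt hdim (by exact_mod_cast hp))

/-- Cohomology over an affine base vanishes when all stalks of the direct image do. -/
theorem subsingleton_HH_of_stalks [IsAffine S] (f : X ⟶ S) [CompactSpace X] [QuasiSeparatedSpace X]
    (M : X.Modules) [Coh.IsQCoh M] (p : ℕ)
    (h : ∀ y : S, IsZero (TopCat.Presheaf.stalk ((Coh.RpushAb f p).obj (Coh.toAb M)).obj y)) :
    Subsingleton (Coh.HH X M p) := by
  haveI := hasInjectiveResolutions_modules X
  let R := (Coh.Rpush f p).obj M
  have hs : ∀ y, Subsingleton (R.presheaf.stalk y) := fun y =>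
    AddCommGrpCat.subsingleton_of_isZero
      ((h y).of_iso ((TopCat.Presheaf.stalkFunctor AddCommGrpCat.{u} y).mapIso
        ((sheafToPresheaf _ _).mapIso ((toAbRpushNatIso f p).app M))) :
        IsZero (R.presheaf.stalk y))
  have hΓ : Subsingleton Γ(R, ⊤) := ⟨fun a b => TopCat.Presheaf.section_ext
    (Coh.toAb R) ⊤ a b fun y _ => @Subsingleton.elim _ (hs y) _ _⟩
  exact ⟨fun a b => (HHTopEquiv M p).injective ((toRpush_bijective f M p).injective (hΓ.elim _ _))⟩

/-- Cohomology vanishes above a bound on all fibre dimensions. -/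
theorem subsingleton_HH_of_fibre_dim [IsLocallyNoetherian S] [IsAffine S] (f : X ⟶ S) [IsProper f] (d : ℕ)
    (hd : ∀ y : S, topologicalKrullDim ↥(f.fiber y) ≤ d) (M : X.Modules) [Coh.IsQCoh M] (p : ℕ) (hp : d < p) :
    Subsingleton (Coh.HH X M p) := by
  haveI : IsLocallyNoetherian X := LocallyOfFiniteType.isLocallyNoetherian f
  haveI : CompactSpace X := QuasiCompact.compactSpace_of_compactSpace f
  haveI : QuasiSeparatedSpace X := quasiSeparatedSpace_of_quasiSeparated f
  refine subsingleton_of_forall_eq 0 fun x => ?_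
  obtain ⟨P, y, rfl⟩ := FlatMorStrat.exists_goodSub_preimage p x
  have hP : Coh.IsCoh P.1.toMod := ⟨SubM.isQCoh P.2, SubM.isFT P.2⟩
  haveI := hP.1
  haveI := subsingleton_HH_of_stalks f P.1.toMod p fun z =>
    isZero_stalk_rpushAb_of_fibre_dim f hP z d (hd z) p hp
  rw [Subsingleton.elim y 0]
  exact map_zero _

end Groth.Agent.H8Lim
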