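import Groth.Agent.S2079
import Groth.Agent.H8Lim.Topology
import Groth.Agent.H8Lim.NoetherianModel
import Groth.Agent.FlatMorDim.BaseChange
import Groth.Agent.FlatMorDim.Semicont
import Groth.Agent.AnLib.Pullback
import Mathlib

/-!
# Noetherian models with small fibres

Near a point whose fibre has dimension at most `d`, a proper morphism is a closed subscheme of the base
change of a proper morphism over a Noetherian ring all of whose fibres have dimension at most `d`.
-/

set_option autoImplicit false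
set_option backward.isDefEq.respectTransparency.types false
set_option linter.style.haveILetI false

universe u

open CategoryTheory CategoryTheory.Limits AlgebraicGeometry TopologicalSpace

namespace Groth.Agent.H8Lim

variable {X Y T T' X' X'' : Scheme.{u}}

/-- `p` is a closed subscheme of the base change of a proper morphism over a Noetherian ring with fibres
of dimension at most `d`. -/
def HasModel (p : X' ⟶ T) (d : ℕ) : Prop :=
  ∃ (A₀ : Type u) (_ : CommRing A₀) (_ : IsNoetherianRing A₀) (X₀ : Scheme.{u})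
    (g₀ : X₀ ⟶ Spec (CommRingCat.of A₀)) (q : T ⟶ Spec (CommRingCat.of A₀)) (j : X' ⟶ pullback g₀ q),
    IsProper g₀ ∧ (∀ z, topologicalKrullDim ↥(g₀.fiber z) ≤ d) ∧ IsClosedImmersion j ∧
      j ≫ pullback.snd g₀ q = p

/-- Base change of a closed immersion into a scheme over the base. -/
theorem exists_closedImmersion_lift {a : X'' ⟶ X'} {p' : X'' ⟶ T'} {p : X' ⟶ T} {t : T' ⟶ T}
    (h : IsPullback a p' p t) {P P' : Scheme.{u}} {π : P ⟶ T} {π' : P' ⟶ T'} {m : P' ⟶ P}
    (hP : IsPullback m π' π t) (j : X' ⟶ P) [IsClosedImmersion j] (hj : j ≫ π = p) :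
    ∃ j' : X'' ⟶ P', IsClosedImmersion j' ∧ j' ≫ π' = p' := by
  have e : (a ≫ j) ≫ π = p' ≫ t := by rw [Category.assoc, hj, h.w]
  refine ⟨hP.lift (a ≫ j) p' e, ?_, hP.lift_snd _ _ _⟩
  have hsq : IsPullback a (hP.lift (a ≫ j) p' e) j m :=
    IsPullback.of_bot (by simpa [hj] using h) (hP.lift_fst _ _ _).symm hP
  exact MorphismProperty.of_isPullback (P := @IsClosedImmersion) hsq ‹_›

/-- Models are stable under base change. -/
theorem HasModel.baseChange {p : X' ⟶ T} {d : ℕ} (hp : HasModel p d) {a : X'' ⟶ X'} {p' : X'' ⟶ T'}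
    {t : T' ⟶ T} (h : IsPullback a p' p t) : HasModel p' d := by
  obtain ⟨A₀, _, _, X₀, g₀, q, j, hg, hd, hj, hjp⟩ := hp
  have hP : IsPullback (pullback.lift (pullback.fst g₀ (t ≫ q)) (pullback.snd g₀ (t ≫ q) ≫ t)
      (by rw [pullback.condition, Category.assoc])) (pullback.snd g₀ (t ≫ q)) (pullback.snd g₀ q) t :=
    IsPullback.of_right (by rw [pullback.lift_fst]; exact IsPullback.of_hasPullback _ _)
      (pullback.lift_snd _ _ _) (IsPullback.of_hasPullback _ _)
  obtain ⟨j', hj', hjp'⟩ := exists_closedImmersion_lift h hP j hjp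
  exact ⟨A₀, inferInstance, inferInstance, X₀, g₀, t ≫ q, j', hg, hd, hj', hjp'⟩

/-- Among the stages of a limit with closed immersions as transition maps some stage has the same fibre
over a given point as the limit. -/
theorem exists_stage_fiber_dim_le {S : Scheme.{u}} {I : Type u} [SmallCategory I] [IsCofiltered I]
    (D : I ⥤ Over S) (c : Cone D) (hc : IsLimit c) (hD : ∀ (i j : I) (a : i ⟶ j), IsClosedImmersion (D.map a).left)
    (hπ : ∀ i, IsClosedImmersion (c.π.app i).left) (hp : ∀ i, IsProper (D.obj i).hom) (y : S) (d : ℕ)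
    (hd : topologicalKrullDim ↥(c.pt.hom.fiber y) ≤ d) :
    ∃ k, topologicalKrullDim ↥((D.obj k).hom.fiber y) ≤ d := by
  obtain ⟨i⟩ := IsCofiltered.nonempty (C := I)
  let g := (D.obj i).hom
  haveI : IsProper g := hp i
  haveI : LocallyOfFiniteType (g.fiberToSpecResidueField y) :=
    inferInstanceAs (LocallyOfFiniteType (pullback.snd g (S.fromSpecResidueField y)))
  haveI : QuasiCompact (g.fiberToSpecResidueField y) :=
    inferInstanceAs (QuasiCompact (pullback.snd g (S.fromSpecResidueField y)))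
  haveI : CompactSpace (g.fiber y) := QuasiCompact.compactSpace_of_compactSpace (g.fiberToSpecResidueField y)
  haveI : IsLocallyNoetherian (g.fiber y) :=
    LocallyOfFiniteType.isLocallyNoetherian (g.fiberToSpecResidueField y)
  haveI : AlgebraicGeometry.IsNoetherian (g.fiber y) := {}
  haveI : NoetherianSpace (g.fiber y) := inferInstance
  let C : Over i → Closeds (g.fiber y) := fun a =>
    ⟨(g.fiberι y) ⁻¹' Set.range (D.map a.hom).left,
      (hD _ _ a.hom).base_closed.isClosed_range.preimage (g.fiberι y).continuous⟩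
  obtain ⟨_, ⟨a₀, rfl⟩, hmin⟩ := (wellFounded_lt (α := Closeds (g.fiber y))).has_min (Set.range C)
    ⟨C (Over.mk (𝟙 i)), Set.mem_range_self _⟩
  let k := a₀.left
  refine ⟨k, ?_⟩
  let gk := (D.obj k).hom
  have hsurj : ∀ z : (D.obj k).left, gk z = y → z ∈ Set.range (c.π.app k).left := by
    intro z hz
    have hpre : ∀ b : Over k, ∃ w, (D.map b.hom).left w = z := by
      intro b
      let ab : Over i := Over.mk (b.hom ≫ a₀.hom)
      have hle : C ab ≤ C a₀ := by
        rintro w ⟨v, hv⟩
        refine ⟨(D.map b.hom).left v, ?_⟩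
        rw [← hv]
        show _ = (D.map (b.hom ≫ a₀.hom)).left v
        rw [D.map_comp, Over.comp_left, Scheme.Hom.comp_apply]
      have heq : C ab = C a₀ := hle.eq_of_not_lt (hmin _ (Set.mem_range_self ab))
      obtain ⟨w, hw⟩ : (D.map a₀.hom).left z ∈ Set.range (g.fiberι y) := by
        rw [g.range_fiberι]
        show g ((D.map a₀.hom).left z) = y
        rw [← Scheme.Hom.comp_apply, show (D.map a₀.hom).left ≫ g = gk from Over.w _, hz]
      have hwmem : w ∈ C a₀ := ⟨z, hw.symm⟩
      rw [← heq] at hwmem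
      obtain ⟨v, hv⟩ := hwmem
      refine ⟨v, (hD _ _ a₀.hom).base_closed.injective ?_⟩
      refine Eq.trans ?_ (hv.trans hw)
      show _ = (D.map (b.hom ≫ a₀.hom)).left v
      rw [D.map_comp, Over.comp_left, Scheme.Hom.comp_apply]
    choose w hw using hpre
    let E : Over k ⥤ Scheme.{u} := Over.forget k ⋙ D ⋙ Over.forget S
    haveI : IsConnected I := IsCofiltered.isConnected _
    let cE : Cone E := ((Over.forget S).mapCone c).whisker (Over.forget k)
    have hcE : IsLimit cE := (Functor.Initial.isLimitWhiskerEquiv (Over.forget k) _).symm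
      (isLimitOfPreserves (Over.forget S) hc)
    haveI : ∀ {a b : Over k} (φ : a ⟶ b), IsAffineHom (E.map φ) := fun {a b} φ =>
      haveI := hD _ _ φ.left
      inferInstanceAs (IsAffineHom (D.map φ.left).left)
    obtain ⟨p, hp'⟩ := exists_of_compatible hcE w fun {a b} φ => by
      refine (hD _ _ b.hom).base_closed.injective ?_
      rw [hw b]
      refine Eq.trans ?_ (hw a)
      show (D.map b.hom).left ((D.map φ.left).left (w a)) = (D.map a.hom).left (w a)
      rw [← Scheme.Hom.comp_apply, ← Over.comp_left, ← D.map_comp, Over.w φ]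
    refine ⟨p, ?_⟩
    have h1 := hw (Over.mk (𝟙 k))
    rw [← hp' (Over.mk (𝟙 k))] at h1
    rw [← h1]
    show _ = (D.map (𝟙 k)).left ((c.π.app k).left p)
    rw [D.map_id]
    rfl
  let Z := (gk ⁻¹' {y} : Set (D.obj k).left)
  choose m hm using fun z : Z => hsurj z.1 z.2
  have hmy : ∀ z : Z, c.pt.hom (m z) = y := fun z => by
    rw [show c.pt.hom = (c.π.app k).left ≫ gk from (Over.w _).symm, Scheme.Hom.comp_apply, hm]
    exact z.2
  let m' : Z → (c.pt.hom ⁻¹' {y} : Set c.pt.left) := fun z => ⟨m z, hmy z⟩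
  haveI := hπ k
  have hmc : Continuous m := ((c.π.app k).left.isEmbedding.isInducing.continuous_iff).2 (by
    rw [show (c.π.app k).left ∘ m = Subtype.val from funext hm]
    exact continuous_subtype_val)
  have hm' : Topology.IsInducing m' :=
    Topology.IsInducing.of_comp (g := fun v : (c.pt.hom ⁻¹' {y} : Set c.pt.left) => (c.π.app k).left v.1)
      (hmc.subtype_mk _)
      ((c.π.app k).left.continuous.comp continuous_subtype_val) (by
      rw [show (fun v => (c.π.app k).left v.1) ∘ m' = Subtype.val from funext hm]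
      exact Topology.IsInducing.subtypeVal)
  exact ((gk.fiberHomeo y).isInducing.topologicalKrullDim_le).trans (hm'.topologicalKrullDim_le.trans
    (((c.pt.hom.fiberHomeo y).symm.isInducing.topologicalKrullDim_le).trans hd))

/-- Near a point with fibre of dimension at most `d` there is a model. -/
theorem exists_model_of_isAffine [IsAffine Y] (f : X ⟶ Y) [IsProper f] (y : Y) (d : ℕ)
    (hd : topologicalKrullDim ↥(f.fiber y) ≤ d) :
    ∃ (T : Scheme.{u}) (_ : IsAffine T) (t : T ⟶ Y) (_ : IsOpenImmersion t) (X' : Scheme.{u}) (a : X' ⟶ X)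
      (p : X' ⟶ T), y ∈ Set.range t ∧ IsPullback a p f t ∧ HasModel p d := by
  obtain ⟨I, _, _, D, c, hc, e, hD, hDi⟩ := S2079.result f
  have hd' : topologicalKrullDim ↥(c.pt.hom.fiber y) ≤ d := by
    have hsq : IsPullback e.hom.left c.pt.hom f (𝟙 Y) := IsPullback.of_horiz_isIso
      ⟨by rw [Category.comp_id]; exact Over.w e.hom⟩
    haveI : LocallyOfFiniteType f := inferInstance
    exact (FlatMorDim.fiber_dim_baseChange hsq y).trans_le hd
  obtain ⟨k, hk⟩ := exists_stage_fiber_dim_le D c hc hD (fun i => (hDi i).1) (fun i => (hDi i).2.1) y d hd'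
  let R := Γ(Y, ⊤)
  let fk : (D.obj k).left ⟶ Spec (CommRingCat.of R) := (D.obj k).hom ≫ Y.isoSpec.hom
  haveI := (hDi k).2.1
  haveI := (hDi k).2.2
  haveI := (hDi k).1
  obtain ⟨s, X₁, f₁, g, h1, h2, hsq⟩ := exists_noetherian_model_proper (R := R) fk
  haveI := h2
  let A₁ := fgSub R s
  let q : Y ⟶ Spec (CommRingCat.of A₁) :=
    Y.isoSpec.hom ≫ Spec.map (CommRingCat.ofHom (fgSub R s).val.toRingHom)
  have hsq' : IsPullback g (D.obj k).hom f₁ q := by
    exact hsq.of_iso (Iso.refl _) (Iso.refl _) Y.isoSpec.symm (Iso.refl _) (by simp) (by simp [fk])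
      (by simp) (by simp [q])
  have hy0 : topologicalKrullDim ↥(f₁.fiber (q y)) ≤ d := by
    rw [← FlatMorDim.fiber_dim_baseChange hsq' y]; exact hk
  obtain ⟨V, hVa, hyV, hVU⟩ := exists_isAffineOpen_mem_and_subset (x := q y)
    (U := ⟨_, FlatMorDim.isOpen_fiber_dim_le f₁ (d : WithBot ℕ∞)⟩) hy0
  let A₀ := Γ(Spec (CommRingCat.of A₁), V)
  haveI : IsNoetherianRing A₀ := IsLocallyNoetherian.component_noetherian ⟨V, hVa⟩
  let u : Spec (CommRingCat.of A₀) ⟶ Spec (CommRingCat.of A₁) := hVa.fromSpec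
  let g₀ := pullback.snd f₁ u
  have hg₀ : ∀ z, topologicalKrullDim ↥(g₀.fiber z) ≤ d := fun z => by
    rw [FlatMorDim.fiber_dim_baseChange (IsPullback.of_hasPullback f₁ u) z]
    have hz : u z ∈ Set.range hVa.fromSpec := ⟨z, rfl⟩
    rw [hVa.range_fromSpec] at hz
    exact hVU hz
  haveI : IsOpenImmersion u := hVa.isOpenImmersion_fromSpec
  let t : pullback q u ⟶ Y := pullback.fst q u
  let qT : pullback q u ⟶ Spec (CommRingCat.of A₀) := pullback.snd q u
  haveI : IsAffine (pullback q u) := inferInstance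
  refine ⟨pullback q u, inferInstance, t, inferInstance, pullback f t, pullback.fst f t, pullback.snd f t,
    ?_, IsPullback.of_hasPullback f t, ?_⟩
  · have hy1 : q y ∈ Set.range hVa.fromSpec := by rw [hVa.range_fromSpec]; exact hyV
    obtain ⟨z, hz⟩ := hy1
    obtain ⟨w, hw, -⟩ := Scheme.Pullback.exists_preimage_pullback (f := q) (g := u) y z hz.symm
    exact ⟨w, hw⟩
  · have hP₁ : IsPullback (pullback.fst g₀ qT ≫ pullback.fst f₁ u) (pullback.snd g₀ qT) f₁ (t ≫ q) := by
      rw [show t ≫ q = qT ≫ u from pullback.condition]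
      exact (IsPullback.of_hasPullback g₀ qT).paste_horiz (IsPullback.of_hasPullback f₁ u)
    have hP : IsPullback (hsq'.lift (pullback.fst g₀ qT ≫ pullback.fst f₁ u) (pullback.snd g₀ qT ≫ t)
        (by rw [hP₁.w, Category.assoc])) (pullback.snd g₀ qT) (D.obj k).hom t :=
      IsPullback.of_right (by rw [IsPullback.lift_fst]; exact hP₁) (hsq'.lift_snd _ _ _) hsq'
    let j : X ⟶ (D.obj k).left := e.inv.left ≫ (c.π.app k).left
    haveI : IsIso e.inv.left := inferInstanceAs (IsIso ((Over.forget Y).map e.inv))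
    obtain ⟨j', hj', hjp'⟩ := exists_closedImmersion_lift (IsPullback.of_hasPullback f t) hP j (by
      simp only [j, Category.assoc]
      exact ((congrArg (e.inv.left ≫ ·) (Over.w (c.π.app k))).trans (Over.w e.inv)))
    exact ⟨A₀, inferInstance, inferInstance, _, g₀, qT, j', inferInstance, hg₀, hj', hjp'⟩

/-- Every point with fibre of dimension at most `d` has an affine neighbourhood with a model. -/
theorem exists_model_nhd (f : X ⟶ Y) [IsProper f] (y : Y) (d : ℕ)
    (hd : topologicalKrullDim ↥(f.fiber y) ≤ d) :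
    ∃ V : Y.Opens, y ∈ V ∧ IsAffineOpen V ∧ HasModel (f ∣_ V) d := by
  obtain ⟨U, hU, hyU, -⟩ := exists_isAffineOpen_mem_and_subset (x := y) (U := (⊤ : Y.Opens)) trivial
  haveI : IsAffine U.toScheme := hU
  have hsqU := (isPullback_morphismRestrict f U).flip
  obtain ⟨T, _, t, _, X', a, p, ⟨w, hw⟩, hsq, hm⟩ := exists_model_of_isAffine (f ∣_ U) ⟨y, hyU⟩ d (by
    haveI : LocallyOfFiniteType f := inferInstance
    rw [FlatMorDim.fiber_dim_baseChange hsqU ⟨y, hyU⟩]
    exact hd)
  let V : Y.Opens := (t ≫ U.ι).opensRange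
  refine ⟨V, ⟨w, by rw [Scheme.Hom.comp_apply, hw]; rfl⟩, isAffineOpen_opensRange _, ?_⟩
  have h1 : IsPullback (a ≫ (f ⁻¹ᵁ U).ι) p f (t ≫ U.ι) := hsq.paste_horiz hsqU
  let e := (t ≫ U.ι).isoOpensRange
  have h2 : IsPullback (a ≫ (f ⁻¹ᵁ U).ι) (p ≫ e.hom) f V.ι :=
    h1.of_iso (Iso.refl _) (Iso.refl _) e (Iso.refl _) (by simp) (by simp) (by simp) (by simp [e, V])
  have h3 := (isPullback_morphismRestrict f V).flip
  have h4 : IsPullback (h3.isoIsPullback _ _ h2).hom (f ∣_ V) p e.inv :=
    IsPullback.of_horiz_isIso ⟨by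
      rw [← cancel_mono e.hom, Category.assoc, Category.assoc, e.inv_hom_id, Category.comp_id]
      exact IsPullback.isoIsPullback_hom_snd _ _ h3 h2⟩
  exact hm.baseChange h4

end Groth.Agent.H8Lim
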