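import Groth.Agent.H8Lim.TopDegree
import Groth.Agent.H8Lim.FibreDimModel
import Groth.Agent.Coherent.RpushCoh
import Groth.Agent.Coherent.RpushVanish
import Groth.Agent.Coherent.RpushStalk
import Mathlib

/-!
# Top degree higher direct images over an arbitrary base
-/

set_option autoImplicit false
set_option backward.isDefEq.respectTransparency.types false
set_option linter.style.haveILetI false

universe u

open CategoryTheory CategoryTheory.Limits AlgebraicGeometry Opposite TopologicalSpace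
open Groth.Agent.Coherent

namespace Groth.Agent.H8Lim

variable {X Y T X' : Scheme.{u}}

/-- Functions on the preimage of an affine open in a fibre product of affine schemes are generated by
the functions of the factors. -/
theorem closure_range_app_eq_top [IsAffine T] {S X₀ P : Scheme.{u}} [IsAffine S] {pr : P ⟶ X₀} {π : P ⟶ T}
    {g₀ : X₀ ⟶ S} {q : T ⟶ S} (hP : IsPullback pr π g₀ q) [IsAffineHom pr] (W : X₀.Opens) (hW : IsAffineOpen W) :
    Subring.closure (Set.range (pr.app W) ∪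
      Set.range fun t : Γ(T, ⊤) => (P.presheaf.map (homOfLE (le_top (a := pr ⁻¹ᵁ W))).op (π.appTop t) :
        Γ(P, pr ⁻¹ᵁ W))) = ⊤ := by
  let U := pr ⁻¹ᵁ W
  haveI : IsAffine W.toScheme := hW
  haveI : IsAffine U.toScheme := hW.preimage pr
  have hsq : IsPullback (pr ∣_ W) (U.ι ≫ π) (W.ι ≫ g₀) q :=
    ((isPullback_morphismRestrict pr W).paste_vert hP)
  have key := AnLib.closure_range_appTop_eq_top hsq
  refine eq_top_iff.2 fun r _ => ?_
  have hr : U.topIso.inv r ∈ (⊤ : Subring Γ(U.toScheme, ⊤)) := trivial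
  rw [← key] at hr
  have h2 := (Subring.mem_map (f := U.topIso.hom.hom)).2 ⟨_, hr, rfl⟩
  rw [show U.topIso.hom.hom (U.topIso.inv r) = r from Iso.inv_hom_id_apply _ _, RingHom.map_closure] at h2
  refine Subring.closure_mono ?_ h2
  rintro x ⟨z, ⟨w, rfl⟩ | ⟨t, rfl⟩, rfl⟩
  · refine Or.inl ⟨W.topIso.hom w, ?_⟩
    refine Eq.symm ?_
    refine ConcreteCategory.congr_hom (?_ : (pr ∣_ W).appTop ≫ U.topIso.hom = W.topIso.hom ≫ pr.app W) w
    show (pr ∣_ W).app ⊤ ≫ _ = _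
    rw [morphismRestrict_app', Scheme.Opens.topIso_hom, Scheme.Opens.topIso_hom, Scheme.Hom.app_eq_appLE]
    erw [Scheme.Hom.map_appLE, Scheme.Hom.appLE_map]
  · refine Or.inr ⟨t, Eq.symm ?_⟩
    refine ConcreteCategory.congr_hom
      (?_ : (U.ι ≫ π).appTop ≫ U.topIso.hom = π.appTop ≫ P.presheaf.map (homOfLE (le_top (a := U))).op) t
    rw [Scheme.Hom.comp_appTop, Category.assoc, Scheme.Opens.topIso_hom]
    congr 1
    exact (P.presheaf.map_comp _ _).symm

/-- Generation passes to closed subschemes. -/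
theorem closure_range_app_eq_top_comp {X₀ P : Scheme.{u}} (j : X' ⟶ P) [IsClosedImmersion j] (pr : P ⟶ X₀)
    [IsAffineHom pr] (π : P ⟶ T) (W : X₀.Opens) (hW : IsAffineOpen W)
    (hgen : Subring.closure (Set.range (pr.app W) ∪
      Set.range fun t : Γ(T, ⊤) => (P.presheaf.map (homOfLE (le_top (a := pr ⁻¹ᵁ W))).op (π.appTop t) :
        Γ(P, pr ⁻¹ᵁ W))) = ⊤) :
    Subring.closure (Set.range ((j ≫ pr).app W) ∪
      Set.range fun t : Γ(T, ⊤) => (X'.presheaf.map (homOfLE (le_top (a := (j ≫ pr) ⁻¹ᵁ W))).op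
        ((j ≫ π).appTop t) : Γ(X', (j ≫ pr) ⁻¹ᵁ W))) = ⊤ := by
  refine eq_top_iff.2 fun r _ => ?_
  obtain ⟨z, hz⟩ := j.app_surjective (pr ⁻¹ᵁ W) (hW.preimage pr) r
  have hz' : z ∈ (⊤ : Subring _) := trivial
  rw [← hgen] at hz'
  have h2 := (Subring.mem_map (f := (j.app (pr ⁻¹ᵁ W)).hom)).2 ⟨_, hz', hz⟩
  rw [RingHom.map_closure] at h2
  refine Subring.closure_mono ?_ h2
  rintro x ⟨z, ⟨w, rfl⟩ | ⟨t, rfl⟩, rfl⟩
  · exact Or.inl ⟨w, rfl⟩
  · refine Or.inr ⟨t, ?_⟩
    show (X'.presheaf.map _) (j.appTop (π.appTop t)) = j.app (pr ⁻¹ᵁ W) (P.presheaf.map _ (π.appTop t))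
    exact (ConcreteCategory.congr_hom (j.naturality (homOfLE (le_top (a := pr ⁻¹ᵁ W))).op) _).symm

theorem isAffineHom_pullback_fst [IsAffine T] {A₀ : Type u} [CommRing A₀] {X₀ : Scheme.{u}}
    (g₀ : X₀ ⟶ Spec (CommRingCat.of A₀)) (q : T ⟶ Spec (CommRingCat.of A₀)) : IsAffineHom (pullback.fst g₀ q) :=
  MorphismProperty.pullback_fst (P := @IsAffineHom) _ _ inferInstance

variable {p : X' ⟶ T} {d : ℕ}

/-- A model gives vanishing above `d`. -/
theorem HasModel.subsingleton_HH [IsAffine T] (hp : HasModel p d) (M : X'.Modules) [Coh.IsQCoh M] (i : ℕ)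
    (hi : d < i) : Subsingleton (Coh.HH X' M i) := by
  obtain ⟨A₀, _, _, X₀, g₀, q, j, hg, hd, hj, hjp⟩ := hp
  haveI := isAffineHom_pullback_fst g₀ q
  exact TopDegree.subsingleton_HH (j ≫ pullback.fst g₀ q) g₀ d hd M i hi

/-- A model gives finiteness in degree `d`. -/
theorem HasModel.finite_HA [IsAffine T] (hp : HasModel p d) (M : X'.Modules) (hM : Coh.IsCoh M) :
    Module.Finite Γ(T, ⊤) (HA p.appTop.hom M (⊤ : X'.Opens) d) := by
  obtain ⟨A₀, _, _, X₀, g₀, q, j, hg, hd, hj, hjp⟩ := hp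
  subst hjp
  haveI := isAffineHom_pullback_fst g₀ q
  exact TopDegree.finite_HA (j ≫ pullback.fst g₀ q) M _ g₀ d hd hM
    ((Scheme.ΓSpecIso (CommRingCat.of A₀)).inv ≫ q.appTop).hom
    (fun c => by
      show (j ≫ pullback.snd g₀ q).appTop (q.appTop ((Scheme.ΓSpecIso (CommRingCat.of A₀)).inv c)) =
        (j ≫ pullback.fst g₀ q).appTop (g₀.appTop ((Scheme.ΓSpecIso (CommRingCat.of A₀)).inv c))
      exact congrArg (fun m : X' ⟶ Spec (CommRingCat.of A₀) =>
          m.appTop ((Scheme.ΓSpecIso (CommRingCat.of A₀)).inv c))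
        (show (j ≫ pullback.snd g₀ q) ≫ q = (j ≫ pullback.fst g₀ q) ≫ g₀ by
          rw [Category.assoc, Category.assoc, pullback.condition]))
    (fun W hW => closure_range_app_eq_top_comp j _ _ W hW
      (closure_range_app_eq_top (IsPullback.of_hasPullback g₀ q) W hW))

/-- A model gives vanishing of the higher direct images above `d`. -/
theorem HasModel.isZero_rpushAb (hp : HasModel p d) [IsAffine T] (M : X'.Modules) [Coh.IsQCoh M] (i : ℕ)
    (hi : d < i) : IsZero ((Coh.RpushAb p i).obj (Coh.toAb M)) := by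
  refine isZero_rpushAb_of_basis p {W : T.Opens | IsAffineOpen W} T.isBasis_affineOpens (Coh.toAb M) i
    fun W hW => ?_
  haveI : IsAffine W.toScheme := hW
  have := (hp.baseChange (isPullback_morphismRestrict p W).flip).subsingleton_HH (M.restrict (p ⁻¹ᵁ W).ι) i hi
  exact (HHonEquiv M (p ⁻¹ᵁ W) i).symm.toEquiv.subsingleton

/-- Top degree direct images of modules of finite type are of finite type. -/
theorem isCoh_rpush_top (f : X ⟶ Y) [IsProper f] [HasInjectiveResolutions X.Modules] (d : ℕ)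
    (hd : ∀ y : Y, topologicalKrullDim ↥(f.fiber y) ≤ d) (M : X.Modules) (hM : Coh.IsCoh M) :
    Coh.IsCoh ((Coh.Rpush f d).obj M) := by
  have := hM.1
  choose V hyV hV hm using fun y => exists_model_nhd f y d (hd y)
  refine isCoh_of_finite_sections_cover _ (isQCoh_rpush f M d) V hV (fun y => ⟨y, hyV y⟩) fun y => ?_
  haveI : IsAffine (V y).toScheme := hV y
  have := hasInjectiveResolutions_modules (f ⁻¹ᵁ V y : Scheme.{u})
  haveI : CompactSpace (f ⁻¹ᵁ V y : Scheme.{u}) :=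
    isCompact_iff_compactSpace.mp (f.isCompact_preimage (hV y).isCompact)
  haveI : QuasiSeparatedSpace (f ⁻¹ᵁ V y : Scheme.{u}) := quasiSeparatedSpace_of_quasiSeparated (f ∣_ V y)
  let N := (Coh.Rpush (f ∣_ V y) d).obj (M.restrict (f ⁻¹ᵁ V y).ι)
  let R := (Coh.Rpush f d).obj M
  have hH := (hm y).finite_HA (M.restrict (f ⁻¹ᵁ V y).ι) (isCoh_restrict _ hM)
  have hN : Module.Finite Γ((V y).toScheme, ⊤) Γ(N, ⊤) := by
    refine finite_of_semilinear (A := Γ((V y).toScheme, ⊤))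
      (M := HA (f ∣_ V y).appTop.hom (M.restrict (f ⁻¹ᵁ V y).ι) (⊤ : (f ⁻¹ᵁ V y).toScheme.Opens) d)
      (toRpush (f ∣_ V y) (M.restrict (f ⁻¹ᵁ V y).ι) d ⊤) (toRpush_bijective (f ∣_ V y) _ d).2
      fun a x => ⟨a, ?_⟩
    refine Eq.trans ?_ ((congrArg (fun z : Γ((V y).toScheme, ⊤) =>
      z • toRpush (f ∣_ V y) (M.restrict (f ⁻¹ᵁ V y).ι) d ⊤ x)
      (ConcreteCategory.congr_hom ((V y).toScheme.presheaf.map_id (op ⊤)) a)))
    exact (toRpush_smul (f ∣_ V y) _ d a ⊤ x).symm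
  let e : R.restrict (V y).ι ≅ N := rpushRestrictIso f (V y) M d
  have hR : Module.Finite Γ((V y).toScheme, ⊤) Γ(R.restrict (V y).ι, ⊤) :=
    Module.Finite.of_surjective (appLin e.inv ⊤) fun x =>
      ⟨e.hom.app ⊤ x, congrArg (fun ψ : R.restrict (V y).ι ⟶ R.restrict (V y).ι => ψ.app ⊤ x)
        e.hom_inv_id⟩
  refine finite_of_semilinear (A := Γ((V y).toScheme, ⊤)) (M := Γ(R.restrict (V y).ι, ⊤))
    (restrictSec R (V y)) (restrictSec_bijective R (V y)).2 fun a x => ⟨(V y).topIso.hom a, ?_⟩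
  have h := restrictSec_smul R (V y) ((V y).topIso.hom a) x
  rwa [Iso.hom_inv_id_apply] at h

/-- Stalks vanish when the direct images of the restriction to a neighbourhood vanish. -/
theorem isZero_stalk_rpushAb_of_restrict (f : X ⟶ Y) (V : Y.Opens) (M : X.Modules) (i : ℕ) (y : Y) (hy : y ∈ V)
    (h : IsZero ((Coh.RpushAb (f ∣_ V) i).obj (Coh.toAb (M.restrict (f ⁻¹ᵁ V).ι)))) :
    IsZero (TopCat.Presheaf.stalk ((Coh.RpushAb f i).obj (Coh.toAb M)).obj y) := by
  haveI := hasInjectiveResolutions_modules X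
  haveI := hasInjectiveResolutions_modules (f ⁻¹ᵁ V : Scheme.{u})
  let N := (Coh.Rpush (f ∣_ V) i).obj (M.restrict (f ⁻¹ᵁ V).ι)
  let R := (Coh.Rpush f i).obj M
  have hN : IsZero (Coh.toAb N) := h.of_iso ((toAbRpushNatIso (f ∣_ V) i).app (M.restrict (f ⁻¹ᵁ V).ι))
  have hNs : ∀ U : V.toScheme.Opens, Subsingleton Γ(N, U) := fun U =>
    AddCommGrpCat.subsingleton_of_isZero
      (((CategoryTheory.evaluation _ AddCommGrpCat.{u}).obj (op U)).map_isZero
        ((sheafToPresheaf _ _).map_isZero hN))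
  let e : R.restrict V.ι ≅ N := rpushRestrictIso f V M i
  have hRs : ∀ U : V.toScheme.Opens, Subsingleton Γ(R.restrict V.ι, U) := fun U => ⟨fun a b => by
    have h1 := congrArg (fun ψ : R.restrict V.ι ⟶ R.restrict V.ι => ψ.app U a) e.hom_inv_id
    have h2 := congrArg (fun ψ : R.restrict V.ι ⟶ R.restrict V.ι => ψ.app U b) e.hom_inv_id
    exact (h1.symm.trans ((congrArg (e.inv.app U) ((hNs U).elim _ (e.hom.app U b))).trans h2) : a = b)⟩
  refine IsZero.of_iso ?_ ((TopCat.Presheaf.stalkFunctor AddCommGrpCat.{u} y).mapIso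
    ((sheafToPresheaf _ _).mapIso ((toAbRpushNatIso f i).app M))).symm
  refine @AddCommGrpCat.isZero_of_subsingleton _ ⟨fun a b => ?_⟩
  obtain ⟨U, hU, s, rfl⟩ := TopCat.Presheaf.exists_germ_eq (Coh.toAb R).obj a
  obtain ⟨U', hU', s', rfl⟩ := TopCat.Presheaf.exists_germ_eq (Coh.toAb R).obj b
  let W : Y.Opens := U ⊓ U' ⊓ V
  have hW : V.ι ''ᵁ (V.ι ⁻¹ᵁ W) = W := by
    rw [Scheme.Hom.image_preimage_eq_opensRange_inf, Scheme.Opens.opensRange_ι]
    exact inf_eq_right.2 inf_le_right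
  have hsub : Subsingleton Γ(R, W) := hW ▸ hRs (V.ι ⁻¹ᵁ W)
  rw [← TopCat.Presheaf.germ_res_apply (Coh.toAb R).obj (homOfLE ((inf_le_left.trans inf_le_left) : W ≤ U)) y
      ⟨⟨hU, hU'⟩, hy⟩ s,
    ← TopCat.Presheaf.germ_res_apply (Coh.toAb R).obj (homOfLE ((inf_le_left.trans inf_le_right) : W ≤ U')) y
      ⟨⟨hU, hU'⟩, hy⟩ s']
  exact congrArg _ (hsub.elim _ _)

end Groth.Agent.H8Lim
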