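import Groth.Agent.H8Lim.ClosedModels
import Groth.Agent.H8Lim.FiniteApprox

/-!
# Integral morphisms are limits of finite morphisms of finite presentation

Stacks 09YZ / EGA IV 8.10.5: the models of an integral morphism whose generators are integral over
a model of the base are finite.
-/

set_option autoImplicit false
set_option backward.isDefEq.respectTransparency.types false

universe u

open CategoryTheory Limits AlgebraicGeometry TopologicalSpace Opposite

namespace Groth.Agent.H8Lim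

variable {X Y X₁ : Scheme.{u}} (f : Y ⟶ X) (a : X ⟶ X₁)

/-- The structure map of the sections of `Y` over a model of `X`. -/
noncomputable abbrev modelComp (G : Family a) (U : X₁.Opens) :
    G.A U →+* Γ(Y, (f ≫ a) ⁻¹ᵁ U) :=
  (imgComp f a U).hom.comp (G.A U).subtype

lemma isIntegralElem_of_mem_K {G : Family a} (i : Chart (f ≫ a))
    (H : ∀ y ∈ i.F, (modelComp f a G i.U).IsIntegralElem y) {y : Γ(Y, (f ≫ a) ⁻¹ᵁ i.U)}
    (hy : y ∈ i.K) : (modelComp f a G i.U).IsIntegralElem y := by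
  induction hy using Subring.closure_induction with
  | mem z hz =>
    rcases hz with ⟨r, rfl⟩ | hz
    · rw [← imgComp_appF]
      exact (modelComp f a G i.U).isIntegralElem_map (x := ⟨_, appF_mem_partialA a G.l i.U r⟩)
    · exact H z hz
  | zero => exact RingHom.isIntegralElem_zero _
  | one => exact RingHom.isIntegralElem_one _
  | add p q _ _ hp hq => exact RingHom.IsIntegralElem.add _ hp hq
  | neg p _ hp => exact RingHom.IsIntegralElem.neg _ hp
  | mul p q _ _ hp hq => exact RingHom.IsIntegralElem.mul _ hp hq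

variable [IsAffineHom a] [IsAffineHom f] [QuasiSeparatedSpace X₁]

/-- A compatible pair of models is finite if the generators are integral over the model of the
base. -/
theorem isFinite_hom_of_isIntegralElem {G : Family a} {F : Family (f ≫ a)}
    (hc : Compat a (f ≫ a) f (𝟙 X₁) (imgW f a) G F)
    (H : ∀ i ∈ F.l, ∀ y ∈ i.F, (modelComp f a G i.U).IsIntegralElem y) : IsFinite hc.hom := by
  have : IsAffineHom G.alg.π := G.alg.isAffineHom_π
  have : IsAffineHom F.alg.π := F.alg.isAffineHom_π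
  have w' : hc.hom ≫ G.alg.π = F.alg.π := hc.hom_π.trans (Category.comp_id _)
  have : IsAffineHom hc.hom := ProjLib.isAffineHom_over G.alg.π F.alg.π hc.hom w'
  have : LocallyOfFiniteType (hc.hom ≫ G.alg.π) := by rw [w']; infer_instance
  have : LocallyOfFiniteType hc.hom := locallyOfFiniteType_of_comp hc.hom G.alg.π
  rw [IsFinite.iff_isIntegralHom_and_locallyOfFiniteType]
  refine ⟨?_, inferInstance⟩
  have hcov : ⨆ i : {i // i ∈ F.l}, G.alg.π ⁻¹ᵁ i.1.U = ⊤ := by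
    rw [eq_top_iff]
    intro z _
    obtain ⟨i, hi, hz⟩ := F.cover (G.alg.π z)
    exact Opens.mem_iSup.mpr ⟨⟨i, hi⟩, hz⟩
  refine HasAffineProperty.of_iSup_eq_top (P := @IsIntegralHom)
    (fun i : {i // i ∈ F.l} ↦ ⟨G.alg.π ⁻¹ᵁ i.1.U, i.1.isAffineOpen.preimage _⟩) hcov ?_
  rintro ⟨i, hi⟩
  refine ⟨(i.isAffineOpen.preimage G.alg.π).preimage hc.hom, ?_⟩
  let U : X₁.Opens := i.U
  have hU : IsAffineOpen U := i.isAffineOpen
  have h3 : (F.alg.π ≫ 𝟙 X₁) ⁻¹ᵁ U ≤ hc.hom ⁻¹ᵁ (G.alg.π ⁻¹ᵁ U) := by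
    rw [← Scheme.Hom.comp_preimage hc.hom, hc.hom_π]
  have hiso : IsIso F.alg.gammaMap := RelSpecLib.isIso_gammaMap F.alg
  have hisoG : IsIso G.alg.gammaMap := RelSpecLib.isIso_gammaMap G.alg
  have hg : Function.Bijective (G.alg.gammaAff U hU) := by
    rw [← G.alg.gammaMap_app U hU]
    exact ConcreteCategory.bijective_of_isIso _
  let e := RingEquiv.ofBijective (G.alg.gammaAff U hU).hom hg
  let ψ := (hc.hom.appLE (G.alg.π ⁻¹ᵁ U) ((F.alg.π ≫ 𝟙 X₁) ⁻¹ᵁ U) h3).hom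
  let χ : Γ(F.alg.spec, (F.alg.π ≫ 𝟙 X₁) ⁻¹ᵁ U) →+* Γ(Y, (f ≫ a) ⁻¹ᵁ U) :=
    (F.A U).subtype.comp (F.alg.gammaMap.app (op U)).hom
  have hχ : Function.Injective χ :=
    Subtype.val_injective.comp (ConcreteCategory.bijective_of_isIso (F.alg.gammaMap.app (op U))).1
  have hs := toSpec_appLE (F.alg.π ≫ 𝟙 X₁) (A := G.alg) hc.alg ⟨U, hU⟩ h3
  have hcomp : (χ.comp ψ).comp e.symm.toRingHom = modelComp f a G U := by
    ext x
    obtain ⟨z, rfl⟩ := e.surjective x
    simp only [RingHom.comp_apply, RingEquiv.toRingHom_eq_coe, RingEquiv.coe_toRingHom,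
      RingEquiv.symm_apply_apply]
    have h1 : ψ z = hc.alg.app (op U) (G.alg.gammaAff U hU z) := by
      simp only [ψ]
      erw [hs]
      rfl
    rw [h1]
    exact congrArg Subtype.val (hc.gammaMap_alg U (G.alg.gammaAff U hU z))
  have hψ : ψ.IsIntegral := fun z ↦ by
    refine RingHom.IsIntegralElem.of_map hχ
      (RingHom.IsIntegralElem.of_comp (f := e.symm.toRingHom) ?_)
    rw [hcomp]
    exact isIntegralElem_of_mem_K f a i (H i hi)
      ((partialA_eq_K (f ≫ a) F.good hi).le (F.alg.gammaMap.app (op U) z).2)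
  have e1 : (F.alg.π ≫ 𝟙 X₁) ⁻¹ᵁ U = hc.hom ⁻¹ᵁ (G.alg.π ⁻¹ᵁ U) := by
    rw [← Scheme.Hom.comp_preimage hc.hom, hc.hom_π]
  have happ := (hc.hom.appLE_congr h3 rfl e1 fun g ↦ g.hom.IsIntegral).mp hψ
  rw [← Scheme.Hom.app_eq_appLE] at happ
  show (hc.hom ∣_ G.alg.π ⁻¹ᵁ U).appTop.hom.IsIntegral
  have key : ∀ V' : G.alg.spec.Opens, V' = G.alg.π ⁻¹ᵁ U → (hc.hom.app V').hom.IsIntegral := by
    rintro _ rfl; exact happ
  rw [morphismRestrict_appTop]
  exact RingHom.IsIntegral.trans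
    (hc.hom.app ((G.alg.π ⁻¹ᵁ U).ι ''ᵁ ⊤)).hom
    (F.alg.spec.presheaf.map (eqToHom (image_morphismRestrict_preimage hc.hom (G.alg.π ⁻¹ᵁ U) ⊤)).op).hom
    (key _ (Scheme.Opens.ι_image_top _))
    (RingHom.isIntegral_of_surjective _ (ConcreteCategory.bijective_of_isIso _).2)

variable [CompactSpace X₁]

/-- Every pair of models is dominated by one with finite morphism of models. -/
theorem exists_ge_isFinite [IsIntegralHom f] (p : PairModel a (f ≫ a) f (𝟙 X₁) (imgW f a)) :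
    ∃ q, p ≤ q ∧ IsFinite q.compat.hom := by
  classical
  have hint : ∀ (i : Chart (f ≫ a)) (y : Γ(Y, (f ≫ a) ⁻¹ᵁ i.U)),
      (imgComp f a i.U).hom.IsIntegralElem y := by
    intro i y
    have := IsIntegralHom.isIntegral_app f _ (i.isAffineOpen.preimage a) y
    rw [Scheme.Hom.app_eq_appLE] at this
    exact this
  choose P hP using hint
  let coeff : Chart (f ≫ a) → Σ V : X₁.affineOpens, Finset Γ(X, a ⁻¹ᵁ V.1) := fun i ↦
    ⟨⟨i.U, i.isAffineOpen⟩, i.F.biUnion fun y ↦ (P i y).coeffs⟩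
  obtain ⟨G₀, hG₀⟩ := Family.exists_mem_forall (h := a) (p.F.l.map coeff)
  obtain ⟨G, hG₁, hG₂⟩ := Family.exists_le_le p.G G₀
  obtain ⟨E, hE₁, hE₂, hgen⟩ := Family.exists_le_le_gen p.F (imgFamily f a G)
  refine ⟨⟨G, E, (compat_imgFamily f a G).mono hE₂⟩, ⟨hG₁, hE₁⟩,
    isFinite_hom_of_isIntegralElem f a _ fun i hi y hy ↦ ?_⟩
  obtain ⟨⟨k, hk, hkU⟩, hgen'⟩ := hgen i hi
  rcases hgen' y hy with hy | hy
  · clear hgen'
    obtain ⟨U, Fs, hU⟩ := i
    dsimp only at hkU y hy ⊢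
    subst hkU
    refine isIntegralElem_of_mem_K f a k (fun z hz ↦ ?_) ((partialA_eq_K _ p.F.good hk).le hy)
    have hT : ((P k z).coeffs : Set Γ(X, a ⁻¹ᵁ k.U)) ⊆ G.A k.U := fun c hc ↦
      hG₂ _ (hG₀ (coeff k) (List.mem_map_of_mem hk) c (Finset.mem_biUnion.mpr ⟨z, hz, hc⟩))
    refine ⟨(P k z).toSubring (G.A k.U) hT, (Polynomial.monic_toSubring _ _ hT).mpr (hP k z).1, ?_⟩
    rw [← Polynomial.eval₂_map, Polynomial.map_toSubring]
    exact (hP k z).2
  · obtain ⟨x, hx, rfl⟩ := imgFamily_surj f a G i.isAffineOpen hy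
    exact (modelComp f a G i.U).isIntegralElem_map (x := ⟨x, hx⟩)

/-- Stacks 09YZ: an integral morphism to a qcqs scheme is a limit of finite morphisms of finite
presentation. -/
theorem exists_limit_integral_finitePresentation {Y X : Scheme.{u}} (f : Y ⟶ X) [IsIntegralHom f]
    [CompactSpace X] [QuasiSeparatedSpace X] :
    ∃ (I : Type u) (_ : Preorder I) (_ : IsDirected I (fun a b => a ≤ b)) (_ : Nonempty I)
      (D : Iᵒᵖ ⥤ Over X) (c : Cone D) (_ : IsLimit c),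
      (∀ i, IsFinite (D.obj i).hom ∧ LocallyOfFinitePresentation (D.obj i).hom) ∧
      Nonempty (c.pt ≅ Over.mk f) := by
  obtain ⟨X₁, a, ha, hc, hqs, hN, -⟩ := exists_int_model X
  let g : {p : PairModel a (f ≫ a) f (𝟙 X₁) (imgW f a) // IsFinite p.compat.hom} →
      PairModel a (f ≫ a) f (𝟙 X₁) (imgW f a) := Subtype.val
  have hg : Monotone g := fun _ _ h ↦ h
  have hdir : IsDirected {p : PairModel a (f ≫ a) f (𝟙 X₁) (imgW f a) // IsFinite p.compat.hom}
      (· ≤ ·) := ⟨fun p q ↦ by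
    obtain ⟨r, hpr, hqr⟩ := exists_ge_ge p.1 q.1
    obtain ⟨s, hrs, hs⟩ := exists_ge_isFinite f a r
    exact ⟨⟨s, hs⟩, hpr.trans hrs, hqr.trans hrs⟩⟩
  have : hg.functor.Final := (Monotone.final_functor_iff hg).mpr fun p ↦ by
    obtain ⟨q, hpq, hq⟩ := exists_ge_isFinite f a p
    exact ⟨⟨q, hq⟩, hpq⟩
  obtain ⟨p₀⟩ : Nonempty (PairModel a (f ≫ a) f (𝟙 X₁) (imgW f a)) := inferInstance
  obtain ⟨q₀, -, hq₀⟩ := exists_ge_isFinite f a p₀
  refine ⟨_, inferInstance, hdir, ⟨⟨q₀, hq₀⟩⟩,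
    hg.functor.op ⋙ PairModel.overDiagram a (f ≫ a) f (𝟙 X₁) (imgW f a),
    (PairModel.overCone a (f ≫ a) f (𝟙 X₁) (imgW f a)).whisker hg.functor.op,
    (Functor.Initial.isLimitWhiskerEquiv hg.functor.op _).symm
      (PairModel.isLimit_overCone a (f ≫ a) f (𝟙 X₁) (imgW f a)).some, fun p ↦ ⟨?_, ?_⟩,
    ⟨Iso.refl _⟩⟩
  · exact MorphismProperty.pullback_snd (P := @IsFinite) _ _ p.unop.2
  · exact (PairModel.overHom_props a (f ≫ a) f (𝟙 X₁) (imgW f a) p.unop.1).1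

end Groth.Agent.H8Lim
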