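import Groth.Agent.H8Lim.ApproxFP
import Groth.Agent.FlatMorAdm.Nagata
import Groth.Agent.BlowUpLib.Separate
import Groth.Agent.BlowUpLib.Proper
import Groth.Agent.BlowUpLib.StrictImage
import Mathlib

/-!
# Separated morphisms of qcqs schemes are affine followed by proper
-/

set_option autoImplicit false
set_option backward.isDefEq.respectTransparency.types false

universe u

open CategoryTheory Limits AlgebraicGeometry TopologicalSpace

namespace Groth.Agent.H8Lim

/-- After a blow-up a quasi-compact open becomes affine over the scheme. -/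
theorem exists_isAffineHom_into_proper {X Z : Scheme.{u}} [CompactSpace Z] [QuasiSeparatedSpace Z]
    (j : X ⟶ Z) [IsOpenImmersion j] [QuasiCompact j] :
    ∃ (Z' : Scheme.{u}) (j' : X ⟶ Z') (b : Z' ⟶ Z), IsAffineHom j' ∧ IsProper b ∧ j' ≫ b = j := by
  have hc : IsCompact (j.opensRange : Set Z) := by
    haveI : CompactSpace X := QuasiCompact.compactSpace_of_compactSpace j
    exact isCompact_range j.continuous
  obtain ⟨G, hG, hGs⟩ := BlowUpLib.exists_finiteType_support_eq (j.opensRange : Set Z)ᶜ
    j.opensRange.2.isClosed_compl (by rwa [compl_compl])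
  obtain ⟨Z', b, hb⟩ := BlowUpLib.exists_isBlowUp G
  haveI := BlowUpLib.isProper_of_isBlowUp hb hG
  have hdisj : Disjoint (G.support : Set Z) (j.opensRange : Set Z) := by
    rw [hGs]; exact disjoint_compl_left
  haveI := ProjLib.isIso_morphismRestrict hb j.opensRange hdisj
  haveI : IsAffineHom (b ⁻¹ᵁ j.opensRange).ι := BlowUpLib.isAffineHom_compl_ι hb.1 _ (by
    rw [Scheme.IdealSheafData.support_comap, Closeds.coe_preimage, hGs, Set.preimage_compl, compl_compl]
    rfl)
  refine ⟨Z', (j.isoOpensRange.hom ≫ inv (b ∣_ j.opensRange)) ≫ (b ⁻¹ᵁ j.opensRange).ι, b, inferInstance,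
    inferInstance, ?_⟩
  rw [Category.assoc, Category.assoc, ← morphismRestrict_ι, IsIso.inv_hom_id_assoc]
  exact j.isoOpensRange_hom_ι

/-- Thomason–Trobaugh / Temkin: separated morphisms of qcqs schemes are affine followed by proper. -/
theorem exists_affine_comp_proper {X Y : Scheme.{u}} (f : Y ⟶ X) [CompactSpace X] [QuasiSeparatedSpace X]
    [CompactSpace Y] [QuasiSeparatedSpace Y] [hf : IsSeparated f] :
    ∃ (Z : Scheme.{u}) (g : Y ⟶ Z) (h : Z ⟶ X), IsAffineHom g ∧ IsProper h ∧ g ≫ h = f := by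
  obtain ⟨Z₁, g₁, h₁, hg₁, hfp, hqc, hqs, hsep, e⟩ := exists_isAffineHom_comp_finitePresentation f
  haveI := hsep hf
  obtain ⟨Zc, j, p, hj, hjc, hp, ep⟩ := FlatMorAdm.compactifiable h₁
  haveI : CompactSpace Zc := QuasiCompact.compactSpace_of_compactSpace p
  haveI : QuasiSeparatedSpace Zc := quasiSeparatedSpace_of_quasiSeparated p
  obtain ⟨Z', j', b, hj', hb, eb⟩ := exists_isAffineHom_into_proper j
  exact ⟨Z', g₁ ≫ j', b ≫ p, inferInstance, inferInstance, by
    rw [Category.assoc, reassoc_of% eb, ep, e]⟩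

end Groth.Agent.H8Lim
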