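import Groth.Agent.H8Lim.ThickeningQuasiAffine
import Groth.Agent.H8Lim.ModSections
import Groth.Agent.AmpleLib.Ample
import Mathlib

/-!
# Ampleness along a homeomorphic closed immersion
-/

set_option autoImplicit false
set_option linter.style.haveILetI false
set_option backward.isDefEq.respectTransparency.types false
set_option maxHeartbeats 1000000

universe u

open CategoryTheory AlgebraicGeometry TopologicalSpace Opposite
open Groth.Agent.Coherent Groth.Agent.PicLib Groth.Agent.AmpleLib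

namespace Groth.Agent.H8Lim

variable {Z X : Scheme.{u}} (i : Z ⟶ X) [IsClosedImmersion i] {L : X.Modules}

theorem app_res_eq {V W : X.Opens} (h : V ≤ W) (r : Γ(X, W)) :
    i.app V (PicLib.res h r) = PicLib.res (i.preimage_mono h) (i.app W r) := by
  show (X.presheaf.map (homOfLE h).op ≫ i.app V) r = _
  rw [i.naturality, CommRingCat.comp_apply]
  rfl

/-- Sections of the pullback over an affine open lift. -/
theorem exists_pullSec_eq (hL : PicF.IsInvertible L) {D : X.Opens} (hD : IsAffineOpen D)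
    (hD' : IsAffineOpen (i ⁻¹ᵁ D)) (t : Γ((Scheme.Modules.pullback i).obj L, i ⁻¹ᵁ D)) :
    ∃ y : Γ(L, D), pullSec i y = t := by
  haveI := isQCoh_of_isInvertible hL
  have h := span_pullSec_eq_top i hD hD' le_rfl L Set.univ Submodule.span_univ
  have ht : t ∈ Submodule.span Γ(Z, i ⁻¹ᵁ D)
      ((fun m => resM ((Scheme.Modules.pullback i).obj L) le_rfl (pullSec i m)) '' (Set.univ : Set Γ(L, D))) :=
    h ▸ trivial
  clear h
  induction ht using Submodule.span_induction with
  | mem x hx =>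
    obtain ⟨m, -, rfl⟩ := hx
    exact ⟨m, (resM_self _ _ _).symm⟩
  | zero => exact ⟨0, pullSec_zero i⟩
  | add a b _ _ ha hb =>
    obtain ⟨y, rfl⟩ := ha
    obtain ⟨z, rfl⟩ := hb
    exact ⟨y + z, pullSec_add i y z⟩
  | smul c x _ hx =>
    obtain ⟨y, rfl⟩ := hx
    obtain ⟨c', rfl⟩ := i.app_surjective D hD c
    exact ⟨c' • y, pullSec_smul i c' y⟩

/-- A section of the pullback with affine locus gives a section of a power with the same locus. -/
theorem exists_glocus_lift (hi : IsHomeomorph i.base) [CompactSpace X] [QuasiSeparatedSpace X]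
    (hL : PicF.IsInvertible L) (s : Γ((Scheme.Modules.pullback i).obj L, ⊤)) (hs : IsAffineOpen (glocus _ s)) :
    ∃ (m : ℕ) (T : Γ(CohB1.tensorPow L m, ⊤)),
      0 < m ∧ IsAffineOpen (glocus _ T) ∧ i ⁻¹ᵁ glocus _ T = glocus _ s := by
  classical
  let P := (Scheme.Modules.pullback i).obj L
  let D : X.Opens := ⟨i '' (glocus _ s : Set Z), hi.isOpenMap _ (glocus _ s).2⟩
  have hD : i ⁻¹ᵁ D = glocus _ s :=
    SetLike.coe_injective (Set.preimage_image_eq _ hi.injective)
  have hDa' : IsAffineOpen (i ⁻¹ᵁ D) := hD.symm ▸ hs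
  have hDa : IsAffineOpen D := by
    have : IsAffine (i ⁻¹ᵁ D).toScheme := hDa'
    refine Groth.Agent.S0440.result (i ∣_ D) fun p => ?_
    obtain ⟨z, hz⟩ := hi.surjective p.1
    exact ⟨⟨z, show i z ∈ D from hz ▸ p.2⟩, Subtype.ext
      ((congrArg (fun m => m ⟨z, show i z ∈ D from hz ▸ p.2⟩) (morphismRestrict_ι i D)).trans hz)⟩
  have hc : ∀ z : X, ∃ (U : X.Opens) (e : Γ(L, U)), IsAffineOpen U ∧ z ∈ U ∧ IsGen L U e := fun z => by
    obtain ⟨W, hzW, g, hg⟩ := exists_isGen hL z
    obtain ⟨U, hU, hz, hle⟩ := Opens.isBasis_iff_nbhd.mp X.isBasis_affineOpens hzW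
    exact ⟨U, resM L hle g, hU, hz, hg.restrict hle⟩
  choose U₀ e₀ hU₀ hzU₀ he₀ using hc
  obtain ⟨S, hS⟩ := CompactSpace.isCompact_univ.elim_finite_subcover (fun z => (U₀ z : Set X))
    (fun z => (U₀ z).2) fun z _ => Set.mem_iUnion.2 ⟨z, hzU₀ z⟩
  let U : S → X.Opens := fun a => U₀ a.1
  have hU : ∀ a, IsAffineOpen (U a) := fun a => hU₀ a.1
  have hUtop : ⨆ a, U a = ⊤ := top_unique fun z _ => by
    obtain ⟨w, hw, hz⟩ := Set.mem_iUnion₂.1 (hS (Set.mem_univ z))
    exact Opens.mem_iSup.mpr ⟨⟨w, hw⟩, hz⟩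
  let e : ∀ a : S, Γ(L, U a) := fun a => e₀ a.1
  have he : ∀ a, IsGen L (U a) (e a) := fun a => he₀ a.1
  have hg : ∀ a, IsGen P (i ⁻¹ᵁ U a) (pullSec i (e a)) := fun a => isGen_pullSec i (he a) hL
  choose r hr using fun a => i.app_surjective _ (hU a)
    ((hg a).coef le_rfl (resM P le_top s))
  have hrD : ∀ a, X.basicOpen (r a) = U a ⊓ D := fun a => by
    have e' : i ⁻¹ᵁ X.basicOpen (r a) = i ⁻¹ᵁ (U a ⊓ D) := by
      rw [Scheme.preimage_basicOpen, hr, ← glocus_inf s (hg a), inf_comm]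
      show _ = i ⁻¹ᵁ U a ⊓ i ⁻¹ᵁ D
      rw [hD]
    exact SetLike.coe_injective (hi.surjective.preimage_injective (congrArg SetLike.coe e'))
  have hle : ∀ a, X.basicOpen (r a) ≤ D := fun a => (hrD a).trans_le inf_le_right
  obtain ⟨y, hy⟩ := exists_pullSec_eq i hL hDa hDa' (resM P le_top s)
  let ya : ∀ a, Γ(X, X.basicOpen (r a)) := fun a => (he a).coef (X.basicOpen_le _) (resM L (hle a) y)
  have key : ∀ a, ∃ M₀ : ℕ, ∀ M, M₀ ≤ M → ∃ Q : Γ(X, U a),
      PicLib.res (X.basicOpen_le (r a)) Q = ya a ^ M ∧ IsNilpotent (Q - r a ^ M) := fun a => by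
    have := (hU a).isLocalization_basicOpen (r a)
    refine exists_extend_pow (r a) (ya a)
      (isNilpotent_of_app_eq_zero i hi ((hU a).basicOpen (r a)).isCompact _ ?_)
    rw [map_sub, sub_eq_zero]
    show i.app _ (ya a) = i.app _ (PicLib.res (X.basicOpen_le (r a)) (r a))
    have hVle : i ⁻¹ᵁ X.basicOpen (r a) ≤ i ⁻¹ᵁ U a := i.preimage_mono (X.basicOpen_le (r a))
    refine (hg a _ hVle).1 ?_
    show i.app _ (ya a) • resM P hVle (pullSec i (e a)) = i.app _ (PicLib.res (X.basicOpen_le (r a)) (r a)) • resM P hVle (pullSec i (e a))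
    have h1 : i.app _ (ya a) • resM P hVle (pullSec i (e a)) = resM P (le_top : i ⁻¹ᵁ X.basicOpen (r a) ≤ ⊤) s := by
      rw [show resM P hVle (pullSec i (e a)) = pullSec i (resM L (X.basicOpen_le (r a)) (e a)) from resM_pullSec i _ _,
        ← pullSec_smul, (he a).coef_spec, ← resM_pullSec i (hle a), hy, resM_resM]
    have h2 : i.app _ (PicLib.res (X.basicOpen_le (r a)) (r a)) • resM P hVle (pullSec i (e a)) =
        resM P (le_top : i ⁻¹ᵁ X.basicOpen (r a) ≤ ⊤) s := by
      have e2 : i.app (U a) (r a) • pullSec i (e a) = resM P le_top s := by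
        rw [hr]
        simpa only [resM_self] using (hg a).coef_spec le_rfl (resM P le_top s)
      rw [app_res_eq, ← resM_smul, e2, resM_resM]
    rw [h1, h2]
  choose M₀ hM₀ using key
  let M := Finset.univ.sup M₀ + 1
  choose Q hQ hQn using fun a => hM₀ a M
    ((Finset.le_sup (f := M₀) (Finset.mem_univ a)).trans (Nat.le_succ _))
  have hQD : ∀ a, X.basicOpen (Q a) = U a ⊓ D := fun a => by
    have h1 : ∀ (p : X) (hp : p ∈ U a), p ∈ X.basicOpen (Q a) ↔ p ∈ X.basicOpen (r a) := fun p hp => by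
      rw [Scheme.mem_basicOpen'' X (Q a) p, Scheme.mem_basicOpen'' X (r a) p, exists_prop_of_true hp,
        exists_prop_of_true hp]
      obtain ⟨n, hn⟩ := hQn a
      have hN : IsNilpotent (X.presheaf.germ (U a) p hp (Q a) - X.presheaf.germ (U a) p hp (r a) ^ M) := by
        rw [← map_pow, ← map_sub]; exact IsNilpotent.map ⟨n, hn⟩ _
      rw [← isUnit_pow_iff (n := M) (by omega) (a := X.presheaf.germ (U a) p hp (r a))]
      refine ⟨fun h => ?_, fun h => ?_⟩
      · have := hN.neg.isUnit_add_left_of_commute h (Commute.all _ _)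
        simpa using this
      · have := hN.isUnit_add_left_of_commute h (Commute.all _ _)
        simpa using this
    rw [← hrD a]
    ext p
    exact ⟨fun h => (h1 p (X.basicOpen_le _ h)).mp h, fun h => (h1 p (X.basicOpen_le _ h)).mpr h⟩
  let N := CohB1.tensorPow L M
  have hN : PicF.IsInvertible N := isInvertible_tensorPow hL M
  let G : ∀ a, Γ(N, U a) := fun a => powSec (e a) M
  have hG : ∀ a, IsGen N (U a) (G a) := fun a => isGen_powSec (he a) M
  let q : ∀ a, Γ(N, U a) := fun a => Q a • G a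
  have hqy : ∀ a (V : X.Opens) (h : V ≤ X.basicOpen (r a)),
      resM N (h.trans (X.basicOpen_le _)) (q a) = powSec (resM L (h.trans (hle a)) y) M := fun a V h => by
    have e1 : resM N (X.basicOpen_le (r a)) (q a) = powSec (resM L (hle a) y) M := by
      show resM N _ (Q a • G a) = _
      rw [resM_smul, show PicLib.res (X.basicOpen_le (r a)) (Q a) = ya a ^ M from hQ a, resM_powSec, ← powSec_smul,
        (he a).coef_spec]
    rw [← resM_resM N (X.basicOpen_le (r a)) h, e1, resM_powSec, resM_resM]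
  have key2 : ∀ p : S × S, ∃ K, ∀ n, K ≤ n →
      resM _ (inf_le_left : U p.1 ⊓ U p.2 ≤ U p.1) (powSec (q p.1) n) =
        resM _ (inf_le_right : U p.1 ⊓ U p.2 ≤ U p.2) (powSec (q p.2) n) := fun ⟨a, b⟩ => by
    let W := U a ⊓ U b
    have hWc : IsCompact (W : Set X) := QuasiSeparatedSpace.inter_isCompact _ _
      (U a).2 (hU a).isCompact (U b).2 (hU b).isCompact
    have hla : W ≤ U a := inf_le_left
    have hlb : W ≤ U b := inf_le_right
    let u := ((he a).restrict hla).coef le_rfl (resM L hlb (e b))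
    have hu : IsUnit u := ((he a).restrict hla).isUnit_coef ((he b).restrict hlb)
    have hue : u • resM L hla (e a) = resM L hlb (e b) := by
      simpa only [resM_self] using ((he a).restrict hla).coef_spec le_rfl (resM L hlb (e b))
    let qa := PicLib.res hla (Q a)
    let qb := PicLib.res hlb (Q b) * u ^ M
    have hqa : resM N hla (q a) = qa • resM N hla (G a) := resM_smul _ _ _ _
    have hqb : resM N hlb (q b) = qb • resM N hla (G a) := by
      show resM N hlb (Q b • G b) = _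
      rw [resM_smul, show resM N hlb (G b) = u ^ M • resM N hla (G a) by
        rw [resM_powSec, resM_powSec, ← powSec_smul, hue], smul_smul]
    have ha : X.basicOpen qa = W ⊓ D := by
      rw [show X.basicOpen qa = W ⊓ X.basicOpen (Q a) from X.basicOpen_res _ _, hQD, ← inf_assoc,
        inf_eq_left.mpr hla]
    have hb : X.basicOpen qb = W ⊓ D := by
      rw [Scheme.basicOpen_mul, show X.basicOpen (PicLib.res hlb (Q b)) = W ⊓ X.basicOpen (Q b) from X.basicOpen_res _ _,
        Scheme.basicOpen_of_isUnit _ (hu.pow M), hQD]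
      exact le_antisymm (le_inf inf_le_right (inf_le_left.trans (inf_le_right.trans inf_le_right)))
        (le_inf (le_inf inf_le_left (le_inf (inf_le_left.trans hlb) inf_le_right)) inf_le_left)
    have hδ : PicLib.res (inf_le_left : W ⊓ D ≤ W) qa = PicLib.res (inf_le_left : W ⊓ D ≤ W) qb := by
      refine ((hG a).restrict hla _ inf_le_left).1 ?_
      have e1 := (congrArg (resM N (inf_le_left : W ⊓ D ≤ W)) hqa).trans (resM_smul _ _ _ _)
      have e2 := (congrArg (resM N (inf_le_left : W ⊓ D ≤ W)) hqb).trans (resM_smul _ _ _ _)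
      refine e1.symm.trans (Eq.trans ?_ e2)
      rw [resM_resM, resM_resM]
      exact (hqy a _ (by rw [hrD]; exact inf_le_inf_right _ hla)).trans
        (hqy b _ (by rw [hrD]; exact inf_le_inf_right _ hlb)).symm
    have hkill : ∀ x : Γ(X, W), X.basicOpen x = W ⊓ D → ∃ n, x ^ n * (qa - qb) = 0 := fun x hx => by
      refine exists_pow_mul_eq_zero_of_res_basicOpen_eq_zero_of_isCompact X hWc (qa - qb) x ?_
      show PicLib.res (X.basicOpen_le x) (qa - qb) = 0
      rw [map_sub, sub_eq_zero, ← res_res (inf_le_left : W ⊓ D ≤ W) hx.le, ← res_res (inf_le_left : W ⊓ D ≤ W) hx.le,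
        hδ]
    obtain ⟨n₁, h₁⟩ := hkill qa ha
    obtain ⟨n₂, h₂⟩ := hkill qb hb
    refine ⟨n₁ + n₂ + 1, fun n hn => ?_⟩
    show resM _ hla (powSec (q a) n) = resM _ hlb (powSec (q b) n)
    rw [resM_powSec, resM_powSec, hqa, hqb, powSec_smul, powSec_smul]
    refine congrArg (· • _) (sub_eq_zero.mp ?_)
    rw [← geom_sum₂_mul, Finset.sum_mul]
    refine Finset.sum_eq_zero fun j hj => ?_
    rcases le_or_gt n₁ j with h | h
    · have : qa ^ j * (qa - qb) = 0 := by
        rw [← Nat.sub_add_cancel h, pow_add, mul_assoc, h₁, mul_zero]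
      calc qa ^ j * qb ^ (n - 1 - j) * (qa - qb) = qb ^ (n - 1 - j) * (qa ^ j * (qa - qb)) := by ring
        _ = 0 := by rw [this, mul_zero]
    · have hn' : n₂ ≤ n - 1 - j := by omega
      have : qb ^ (n - 1 - j) * (qa - qb) = 0 := by
        rw [← Nat.sub_add_cancel hn', pow_add, mul_assoc, h₂, mul_zero]
      rw [mul_assoc, this, mul_zero]
  choose K hK using key2
  let n := Finset.univ.sup K + 1
  obtain ⟨T, hT, -⟩ := TopCat.Sheaf.existsUnique_gluing'
    (⟨(CohB1.tensorPow N n).presheaf, (CohB1.tensorPow N n).isSheaf⟩ : TopCat.Sheaf Ab X)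
    (fun a => U a) ⊤ (fun a => homOfLE le_top) hUtop.ge (fun a => powSec (q a) n) fun a b => hK (a, b) n
      ((Finset.le_sup (f := K) (Finset.mem_univ (a, b))).trans (Nat.le_succ _))
  have hTD : glocus (CohB1.tensorPow N n) T = D := by
    have h : ∀ a, glocus (CohB1.tensorPow N n) T ⊓ U a = D ⊓ U a := fun a => by
      have hgen := isGen_powSec (hG a) n
      rw [glocus_inf T hgen, hgen.coef_eq le_rfl (r := Q a ^ n) (by
          rw [resM_self, ← powSec_smul]; exact (hT a).symm),
        X.basicOpen_pow (Q a) (Nat.succ_pos _), hQD a, inf_comm]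
    ext p
    obtain ⟨a, ha⟩ := Opens.mem_iSup.mp (hUtop.ge (Opens.mem_top p))
    have := SetLike.ext_iff.mp (h a) p
    exact ⟨fun hp => (this.mp ⟨hp, ha⟩).1, fun hp => (this.mpr ⟨hp, ha⟩).1⟩
  obtain ⟨ε, -⟩ := exists_powPowIso hL M n
  refine ⟨M * n, ε.hom.app ⊤ T, Nat.mul_pos (Nat.succ_pos _) (Nat.succ_pos _), ?_, ?_⟩
  · rw [glocus_map_iso, hTD]; exact hDa
  · rw [glocus_map_iso, hTD, hD]

/-- Ampleness is insensitive to a homeomorphic closed immersion. -/
theorem isAmple_iff_of_isHomeomorph (hi : IsHomeomorph i.base) (hL : PicF.IsInvertible L) :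
    CohB1.IsAmple ((Scheme.Modules.pullback i).obj L) ↔ CohB1.IsAmple L := by
  refine ⟨fun h => ?_, fun h => isAmple_pullback_of_isAffineHom i h⟩
  obtain ⟨hiL, hc, haff⟩ := isAmple_iff_affGlocus.1 h
  haveI : CompactSpace X := hi.homeomorph.compactSpace
  haveI := quasiSeparatedSpace_of_affGlocus hiL haff
  haveI : QuasiSeparatedSpace X :=
    QuasiSeparatedSpace.of_isOpenEmbedding hi.homeomorph.symm.isOpenEmbedding
  refine isAmple_iff_affGlocus.2 ⟨hL, inferInstance, fun x => ?_⟩
  obtain ⟨z, rfl⟩ := hi.surjective x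
  obtain ⟨m, hm, b, hzb, -, hb⟩ := haff z
  obtain ⟨ε, -⟩ := exists_pullPowIso i hL m
  obtain ⟨k, T, hk, hTa, hT⟩ := exists_glocus_lift i hi (isInvertible_tensorPow hL m) (ε.inv.app ⊤ b)
    (by rw [show glocus _ (ε.inv.app ⊤ b) = glocus _ b from glocus_map_iso ε.symm b]; exact hb)
  obtain ⟨ε', -⟩ := exists_powPowIso hL m k
  refine ⟨m * k, Nat.mul_pos hm hk, ε'.hom.app ⊤ T, ?_, le_top, ?_⟩
  · rw [glocus_map_iso]
    show z ∈ i ⁻¹ᵁ glocus _ T
    rw [hT, show glocus _ (ε.inv.app ⊤ b) = glocus _ b from glocus_map_iso ε.symm b]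
    exact hzb
  · rw [glocus_map_iso]; exact hTa

end Groth.Agent.H8Lim
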