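import Mathlib.AlgebraicGeometry.Morphisms.UniversallyOpen
import Groth.Agent.H8Lim.Constructible
import Groth.Agent.H8Lim.Topology

/-!
# Connectedness, irreducibility and openness in a limit

EGA IV 8.4 and 8.3.10.
-/

universe u

open CategoryTheory Limits AlgebraicGeometry Topology TopologicalSpace

namespace Groth.Agent.H8Lim

variable {I : Type u} [SmallCategory I] [IsCofiltered I] {D : I ⥤ Scheme.{u}} {c : Cone D}
  (hc : IsLimit c) [∀ {i j} (f : i ⟶ j), IsAffineHom (D.map f)]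

omit [IsCofiltered I] [∀ {i j} (f : i ⟶ j), IsAffineHom (D.map f)] in
lemma mem_preimage_π {i j : I} (φ : j ⟶ i) (V : (D.obj i).Opens) (p : c.pt) :
    c.π.app j p ∈ D.map φ ⁻¹ᵁ V ↔ c.π.app i p ∈ V := by
  rw [Scheme.Hom.mem_preimage, π_app_apply (D := D) φ p]

include hc in
/-- If the transition maps are dominant, so are the projections. -/
theorem exists_π_app_mem (hd : ∀ (i j : I) (φ : i ⟶ j), IsDominant (D.map φ)) (i : I)
    (V : (D.obj i).Opens) (hV : (V : Set (D.obj i)).Nonempty) : ∃ p, c.π.app i p ∈ V := by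
  obtain ⟨x, hx⟩ := hV
  obtain ⟨_, ⟨W, hW, rfl⟩, hxW, hWV⟩ :=
    (D.obj i).isBasis_affineOpens.exists_subset_of_mem_open (hx : x ∈ (V : Set _)) V.2
  have : ∀ j, Nonempty ((opensDiagram D i W).obj j) := fun j ↦ by
    obtain ⟨_, hw, y, rfl⟩ := (hd _ _ j.hom).denseRange.inter_open_nonempty (W : Set _) W.2 ⟨x, hxW⟩
    exact ⟨⟨y, hw⟩⟩
  have : ∀ j, CompactSpace ((opensDiagram D i W).obj j) := fun j ↦
    have : IsAffine ((opensDiagram D i W).obj j) := hW.preimage (D.map j.hom)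
    inferInstance
  obtain ⟨⟨p, hp⟩⟩ := Scheme.nonempty_of_isLimit _ _ (isLimitOpensCone D c hc i W)
  exact ⟨p, hWV hp⟩

include hc in
theorem denseRange_π (hd : ∀ (i j : I) (φ : i ⟶ j), IsDominant (D.map φ)) (i : I) :
    DenseRange (c.π.app i) := by
  rw [DenseRange, dense_iff_inter_open]
  intro U hU hne
  obtain ⟨p, hp⟩ := exists_π_app_mem hc hd i ⟨U, hU⟩ hne
  exact ⟨_, hp, p, rfl⟩

include hc in
/-- If every stage over `i` is nonempty, so is the limit. -/
theorem nonempty_pt (i : I) [CompactSpace (D.obj i)] (h : ∀ j, (j ⟶ i) → Nonempty (D.obj j)) :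
    Nonempty c.pt := by
  have : ∀ j : Over i, Nonempty ((opensDiagram D i ⊤).obj j) := fun j ↦ by
    obtain ⟨x⟩ := h j.left j.hom
    exact ⟨⟨x, trivial⟩⟩
  have : ∀ j : Over i, CompactSpace ((opensDiagram D i ⊤).obj j) := fun j ↦ by
    have := compactSpace_obj_of_hom (D := D) j.hom
    exact isCompact_iff_compactSpace.mp isCompact_univ
  obtain ⟨⟨p, -⟩⟩ := Scheme.nonempty_of_isLimit _ _ (isLimitOpensCone D c hc i ⊤)
  exact ⟨p⟩

include hc in
/-- Two opens of the limit contain preimages of nonempty opens of a common stage. -/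
lemma exists_common_stage (i₀ : I) {U U' : Set c.pt} (hU : IsOpen U) (hU' : IsOpen U') {p p' : c.pt}
    (hp : p ∈ U) (hp' : p' ∈ U') :
    ∃ (j : I) (_ : j ⟶ i₀) (V V' : (D.obj j).Opens), c.π.app j p ∈ V ∧ c.π.app j p' ∈ V' ∧
      c.π.app j ⁻¹' V ⊆ U ∧ c.π.app j ⁻¹' V' ⊆ U' := by
  obtain ⟨k, V, -, hV, hVU⟩ := exists_mem_preimage_subset hc hU hp
  obtain ⟨k', V', -, hV', hVU'⟩ := exists_mem_preimage_subset hc hU' hp'
  obtain ⟨m, α, α', -⟩ := IsCofilteredOrEmpty.cone_objs k k'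
  refine ⟨IsCofiltered.min m i₀, IsCofiltered.minToRight _ _,
    D.map (IsCofiltered.minToLeft m i₀ ≫ α) ⁻¹ᵁ V,
    D.map (IsCofiltered.minToLeft m i₀ ≫ α') ⁻¹ᵁ V',
    (mem_preimage_π _ _ _).mpr hV, (mem_preimage_π _ _ _).mpr hV', fun q hq ↦ hVU ?_,
    fun q hq ↦ hVU' ?_⟩
  · exact (mem_preimage_π _ _ _).mp hq
  · exact (mem_preimage_π _ _ _).mp hq

include hc in
/-- EGA IV 8.4.1 (i), converse half. -/
theorem irreducibleSpace_pt_of_forall (hd : ∀ (i j : I) (φ : i ⟶ j), IsDominant (D.map φ)) (i : I)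
    [CompactSpace (D.obj i)] (h : ∀ j, (j ⟶ i) → IrreducibleSpace (D.obj j)) :
    IrreducibleSpace c.pt := by
  have : Nonempty c.pt := nonempty_pt hc i fun j φ ↦ (h j φ).toNonempty
  refine @IrreducibleSpace.mk _ _ ⟨?_⟩ this
  rintro U U' hU hU' ⟨p, -, hp⟩ ⟨p', -, hp'⟩
  obtain ⟨j, φ, V, V', hV, hV', hVU, hVU'⟩ := exists_common_stage hc i hU hU' hp hp'
  have := h j φ
  obtain ⟨x, -, hx⟩ := IrreducibleSpace.isIrreducible_univ (D.obj j) |>.isPreirreducible V V' V.2 V'.2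
    ⟨_, trivial, hV⟩ ⟨_, trivial, hV'⟩
  obtain ⟨q, hq⟩ := exists_π_app_mem hc hd j (V ⊓ V') ⟨x, hx⟩
  exact ⟨q, trivial, hVU hq.1, hVU' hq.2⟩

include hc in
/-- If the limit is irreducible so are the stages, the transition maps being dominant. -/
theorem irreducibleSpace_obj (hd : ∀ (i j : I) (φ : i ⟶ j), IsDominant (D.map φ))
    [IrreducibleSpace c.pt] (i : I) : IrreducibleSpace (D.obj i) := by
  have h := ((IrreducibleSpace.isIrreducible_univ c.pt).image _
    (c.π.app i).continuous.continuousOn).closure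
  rw [Set.image_univ, (denseRange_π hc hd i).closure_range] at h
  exact (irreducibleSpace_def _).mpr h

include hc in
/-- If the limit is connected so are the stages, the transition maps being dominant. -/
theorem connectedSpace_obj (hd : ∀ (i j : I) (φ : i ⟶ j), IsDominant (D.map φ))
    [ConnectedSpace c.pt] (i : I) : ConnectedSpace (D.obj i) := by
  have h := ((isConnected_univ (α := c.pt)).image _ (c.π.app i).continuous.continuousOn).closure
  rw [Set.image_univ, (denseRange_π hc hd i).closure_range] at h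
  exact connectedSpace_iff_univ.mpr h

/-- `¬ PreconnectedSpace` from an open partition. -/
lemma not_preconnectedSpace {X : Type*} [TopologicalSpace X] {U U' : Set X} (hU : IsOpen U)
    (hU' : IsOpen U') (hcov : U ∪ U' = Set.univ) (hd : U ∩ U' = ∅) (hne : U.Nonempty)
    (hne' : U'.Nonempty) : ¬ PreconnectedSpace X := fun h ↦ by
  obtain ⟨x, -, hx⟩ := h.isPreconnected_univ U U' hU hU' hcov.ge
    (by simpa using hne) (by simpa using hne')
  exact Set.eq_empty_iff_forall_notMem.mp hd x hx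

include hc in
/-- EGA IV 8.4.2 (ii): a partition of the limit comes from a stage. -/
theorem exists_not_preconnected (i₀ : I) [CompactSpace (D.obj i₀)] (h : ¬ PreconnectedSpace c.pt)
    (hdisj : ∀ (j : I) (_ : j ⟶ i₀) (V V' : (D.obj j).Opens), IsCompact (V : Set (D.obj j)) →
      IsCompact (V' : Set (D.obj j)) → c.π.app j ⁻¹ᵁ (V ⊓ V') = ⊥ →
        ∃ (k : I) (ψ : k ⟶ j), D.map ψ ⁻¹ᵁ (V ⊓ V') = ⊥) :
    ∃ (i : I) (_ : i ⟶ i₀), ∀ (j : I) (_ : j ⟶ i), ¬ PreconnectedSpace (D.obj j) := by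
  obtain ⟨U, U', hU, hU', hne, hne', hd, hcov⟩ : ∃ U U' : Set c.pt, IsOpen U ∧ IsOpen U' ∧
      U.Nonempty ∧ U'.Nonempty ∧ U ∩ U' = ∅ ∧ U ∪ U' = Set.univ := by
    rw [preconnectedSpace_iff_clopen] at h
    push Not at h
    obtain ⟨s, hs, h1, h2⟩ := h
    exact ⟨s, sᶜ, hs.2, hs.compl.2, h1, Set.nonempty_compl.mpr h2, by simp, by simp⟩
  have := compactSpace_pt hc (i := i₀)
  have hUc : IsClosed U := by
    rw [← isOpen_compl_iff, show Uᶜ = U' from (IsCompl.of_eq hd hcov).compl_eq]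
    exact hU'
  have hUc' : IsClosed U' := by
    rw [← isOpen_compl_iff, show U'ᶜ = U from (IsCompl.of_eq hd hcov).symm.compl_eq]
    exact hU
  obtain ⟨a, α, Va, hVa, hVaU⟩ := exists_opens_eq_over hc i₀ ⟨U, hU⟩ hUc.isCompact
  obtain ⟨b, β, Vb, hVb, hVbU⟩ := exists_opens_eq_over hc a ⟨U', hU'⟩ hUc'.isCompact
  have hV : c.π.app b ⁻¹ᵁ (D.map β ⁻¹ᵁ Va) = ⟨U, hU⟩ := by
    rw [← Scheme.Hom.comp_preimage, c.w, hVaU]
  obtain ⟨k, ψ, hk⟩ := hdisj b (β ≫ α) _ Vb ((D.map β).isCompact_preimage hVa) hVb (by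
    rw [Scheme.Hom.preimage_inf, hV, hVbU]
    exact Opens.ext hd)
  have := compactSpace_obj_of_hom (D := D) (ψ ≫ β ≫ α)
  obtain ⟨l, θ, hl⟩ := exists_map_preimage_le_map_preimage D c hc (U := ⊤)
    (V := D.map ψ ⁻¹ᵁ (D.map β ⁻¹ᵁ Va ⊔ Vb)) isCompact_univ (by
    rw [← Scheme.Hom.comp_preimage, c.w, Scheme.Hom.preimage_sup, hV, hVbU]
    exact fun x _ ↦ hcov.ge trivial)
  refine ⟨l, θ ≫ ψ ≫ β ≫ α, fun j φ ↦ not_preconnectedSpace
    (D.map φ ⁻¹ᵁ D.map θ ⁻¹ᵁ D.map ψ ⁻¹ᵁ D.map β ⁻¹ᵁ Va).2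
    (D.map φ ⁻¹ᵁ D.map θ ⁻¹ᵁ D.map ψ ⁻¹ᵁ Vb).2 ?_ ?_ ?_ ?_⟩
  · refine Set.eq_univ_of_forall fun x ↦ ?_
    have : D.map φ x ∈ D.map θ ⁻¹ᵁ D.map ψ ⁻¹ᵁ (D.map β ⁻¹ᵁ Va ⊔ Vb) := hl trivial
    exact this
  · refine Set.eq_empty_iff_forall_notMem.mpr fun x hx ↦ ?_
    have : D.map θ (D.map φ x) ∈ D.map ψ ⁻¹ᵁ (D.map β ⁻¹ᵁ Va ⊓ Vb) := hx
    rw [hk] at this
    exact this
  · obtain ⟨p, hp⟩ := hne
    refine ⟨c.π.app j p, ?_⟩
    change D.map β (D.map ψ (D.map θ (D.map φ (c.π.app j p)))) ∈ Va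
    rw [π_app_apply (D := D) φ p, π_app_apply (D := D) θ p, π_app_apply (D := D) ψ p,
      π_app_apply (D := D) β p]
    exact hVaU.ge hp
  · obtain ⟨p, hp⟩ := hne'
    refine ⟨c.π.app j p, ?_⟩
    change D.map ψ (D.map θ (D.map φ (c.π.app j p))) ∈ Vb
    rw [π_app_apply (D := D) φ p, π_app_apply (D := D) θ p, π_app_apply (D := D) ψ p]
    exact hVbU.ge hp

include hc in
/-- EGA IV 8.4.2 (i): a limit with noetherian space which is not irreducible. -/
theorem exists_not_irreducible (i₀ : I) [CompactSpace (D.obj i₀)] [QuasiSeparatedSpace (D.obj i₀)]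
    [NoetherianSpace c.pt] (h : ¬ IrreducibleSpace c.pt) :
    ∃ (i : I) (_ : i ⟶ i₀), ∀ (j : I) (_ : j ⟶ i), ¬ IrreducibleSpace (D.obj j) := by
  by_cases hne : Nonempty c.pt
  · obtain ⟨U, U', hU, hU', hneU, hneU', hd⟩ : ∃ U U' : Set c.pt, IsOpen U ∧ IsOpen U' ∧
        U.Nonempty ∧ U'.Nonempty ∧ U ∩ U' = ∅ := by
      by_contra! h'
      exact h { toPreirreducibleSpace := ⟨fun U U' hU hU' h₁ h₂ ↦ by
                  simpa using h' U U' hU hU' (by simpa using h₁) (by simpa using h₂)⟩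
                toNonempty := hne }
    obtain ⟨a, α, Va, hVa, hVaU⟩ :=
      exists_opens_eq_over hc i₀ ⟨U, hU⟩ (NoetherianSpace.isCompact U)
    obtain ⟨b, β, Vb, hVb, hVbU⟩ :=
      exists_opens_eq_over hc a ⟨U', hU'⟩ (NoetherianSpace.isCompact U')
    have : QuasiSeparatedSpace (D.obj b) := quasiSeparatedSpace_of_quasiSeparated (D.map (β ≫ α))
    have hV : c.π.app b ⁻¹ᵁ (D.map β ⁻¹ᵁ Va) = ⟨U, hU⟩ := by
      rw [← Scheme.Hom.comp_preimage, c.w, hVaU]
    obtain ⟨k, ψ, hk⟩ := exists_map_preimage_le_map_preimage D c hc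
      (U := D.map β ⁻¹ᵁ Va ⊓ Vb) (V := ⊥)
      (QuasiSeparatedSpace.inter_isCompact _ _ (D.map β ⁻¹ᵁ Va).2
        ((D.map β).isCompact_preimage hVa) Vb.2 hVb) (by
      rw [Scheme.Hom.preimage_inf, hV, hVbU]
      exact fun x hx ↦ (Set.eq_empty_iff_forall_notMem.mp hd x hx).elim)
    refine ⟨k, ψ ≫ β ≫ α, fun j φ hj ↦ ?_⟩
    obtain ⟨p, hp⟩ := hneU
    obtain ⟨p', hp'⟩ := hneU'
    obtain ⟨x, -, hx⟩ := (IrreducibleSpace.isIrreducible_univ (D.obj j)).isPreirreducible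
      (D.map φ ⁻¹ᵁ D.map ψ ⁻¹ᵁ D.map β ⁻¹ᵁ Va) (D.map φ ⁻¹ᵁ D.map ψ ⁻¹ᵁ Vb)
      (D.map φ ⁻¹ᵁ D.map ψ ⁻¹ᵁ D.map β ⁻¹ᵁ Va).2 (D.map φ ⁻¹ᵁ D.map ψ ⁻¹ᵁ Vb).2
      ⟨c.π.app j p, trivial, by
        change D.map β (D.map ψ (D.map φ (c.π.app j p))) ∈ Va
        rw [π_app_apply (D := D) φ p, π_app_apply (D := D) ψ p, π_app_apply (D := D) β p]
        exact hVaU.ge hp⟩
      ⟨c.π.app j p', trivial, by
        change D.map ψ (D.map φ (c.π.app j p')) ∈ Vb
        rw [π_app_apply (D := D) φ p', π_app_apply (D := D) ψ p']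
        exact hVbU.ge hp'⟩
    have := hk (hx : D.map φ x ∈ D.map ψ ⁻¹ᵁ (D.map β ⁻¹ᵁ Va ⊓ Vb))
    exact this
  · by_contra! h'
    obtain ⟨j, -, hj⟩ : ∃ (j : I) (_ : j ⟶ i₀), IsEmpty (D.obj j) := by
      by_contra! h''
      exact hne (nonempty_pt hc i₀ h'')
    obtain ⟨l, φ, hl⟩ := h' (IsCofiltered.min i₀ j) (IsCofiltered.minToLeft _ _)
    exact (hj.false (D.map (φ ≫ IsCofiltered.minToRight _ _) hl.toNonempty.some)).elim

include hc in
/-- A morphism which is open at all stages is open at the limit. -/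
theorem isOpenMap_of_stage {i : I} {A₀ A : Scheme.{u}} (a : A₀ ⟶ D.obj i) (b : A ⟶ c.pt)
    (p : A ⟶ A₀) (sq : IsPullback p b a (c.π.app i))
    (H : ∀ (j : I) (φ : j ⟶ i), ∃ (k : I) (ψ : k ⟶ j),
      IsOpenMap (pullback.snd a (D.map (ψ ≫ φ)))) :
    IsOpenMap b := by
  intro U hU
  rw [isOpen_iff_forall_mem_open]
  rintro _ ⟨x, hx, rfl⟩
  obtain ⟨j, V, -, hxV, hVU⟩ := exists_mem_preimage_subset (isLimitStageCone a p b sq hc) hU hx
  obtain ⟨k, ψ, hk⟩ := H j.left j.hom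
  let k' : Over i := Over.mk (ψ ≫ j.hom)
  let g : k' ⟶ j := Over.homMk ψ rfl
  have hk' : IsOpenMap (stageSnd D a k') := hk
  have sqk : IsPullback (stageProj a c p b sq k') b (stageSnd D a k') (c.π.app k'.left) := by
    refine IsPullback.of_right ?_ (stageProj_snd a c p b sq k') (isPullback_stage D a k')
    rw [stageProj_fst, c.w]
    exact sq
  let W : Set ((stage D a).obj k') := (stage D a).map g ⁻¹' V
  have hw : ∀ y, (stage D a).map g (stageProj a c p b sq k' y) = stageProj a c p b sq j y :=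
    fun y ↦ π_app_apply (D := stage D a) (c := stageCone a c p b sq) g y
  refine ⟨b '' (stageProj a c p b sq k' ⁻¹' W), ?_, ?_, x, ?_, rfl⟩
  · exact Set.image_mono fun y hy ↦ hVU (by
      change stageProj a c p b sq j y ∈ V
      rw [← hw]
      exact hy)
  · rw [Scheme.image_preimage_eq_of_isPullback sqk]
    exact (hk' W (V.2.preimage ((stage D a).map g).continuous)).preimage (c.π.app k'.left).continuous
  · change (stage D a).map g (stageProj a c p b sq k' x) ∈ V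
    rw [hw]
    exact hxV

include hc in
/-- EGA IV 8.3.8: the projection is open if the transition maps are and the projections are surjective. -/
theorem isOpenMap_π (i : I) (hs : ∀ (j : I) (_ : j ⟶ i), Surjective (c.π.app j))
    (h : ∀ (j : I) (φ : j ⟶ i), IsOpenMap (D.map φ)) : IsOpenMap (c.π.app i) := by
  intro U hU
  rw [isOpen_iff_forall_mem_open]
  rintro _ ⟨x, hx, rfl⟩
  obtain ⟨j, V, -, hxV, hVU⟩ := exists_mem_preimage_subset hc hU hx
  let α : IsCofiltered.min i j ⟶ i := IsCofiltered.minToLeft i j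
  let β : IsCofiltered.min i j ⟶ j := IsCofiltered.minToRight i j
  refine ⟨D.map α '' (D.map β ⁻¹' V), ?_, h _ α _ (V.2.preimage (D.map β).continuous),
    c.π.app _ x, ?_, π_app_apply (D := D) α x⟩
  · rintro _ ⟨y, hy, rfl⟩
    obtain ⟨q, rfl⟩ := (hs _ α).surj y
    refine ⟨q, hVU ?_, (π_app_apply (D := D) α q).symm⟩
    change c.π.app j q ∈ V
    rw [← π_app_apply (D := D) β q]
    exact hy
  · change D.map β (c.π.app _ x) ∈ V
    rw [π_app_apply (D := D) β x]
    exact hxV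

omit [IsCofiltered I] [∀ {i j} (f : i ⟶ j), IsAffineHom (D.map f)] in
theorem isOpenMap_map {i j : I} (φ : j ⟶ i) (hs : Surjective (c.π.app j))
    (h : IsOpenMap (c.π.app i)) : IsOpenMap (D.map φ) := by
  intro U hU
  have := h _ (hU.preimage (c.π.app j).continuous)
  rwa [← c.w φ, Scheme.Hom.comp_base, TopCat.coe_comp, Set.image_comp,
    hs.surj.image_preimage] at this

include hc in
/-- EGA IV 8.3.10: universally open version. -/
theorem universallyOpen_π (i : I) (hs : ∀ (j : I) (_ : j ⟶ i), Surjective (c.π.app j))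
    (h : ∀ (j : I) (φ : j ⟶ i), UniversallyOpen (D.map φ)) : UniversallyOpen (c.π.app i) := by
  constructor
  intro A T' a' b' f' H
  have sq : IsPullback f' a' b' (c.π.app i) := H
  let i' : Over i := Over.mk (𝟙 i)
  have hlim := isLimitStageCone b' f' a' sq hc
  have hsurj : ∀ j : Over i, Surjective (stageProj b' c f' a' sq j) := fun j ↦ by
    have sqj : IsPullback (stageProj b' c f' a' sq j) a' (stageSnd D b' j) (c.π.app j.left) := by
      refine IsPullback.of_right ?_ (stageProj_snd b' c f' a' sq j) (isPullback_stage D b' j)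
      rw [stageProj_fst, c.w]
      exact sq
    exact MorphismProperty.of_isPullback (P := @Surjective) sqj.flip (hs j.left j.hom)
  have hopen : ∀ (j : Over i) (φ : j ⟶ i'), IsOpenMap ((stage D b').map φ) := fun j φ ↦ by
    have := h j.left φ.left
    exact (MorphismProperty.of_isPullback (isPullback_stageMap D b' φ).flip this :
      UniversallyOpen ((stage D b').map φ)).universally_isOpenMap _ _ _
        (IsPullback.of_id_snd)
  have h1 : IsOpenMap (stageProj b' c f' a' sq i') :=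
    isOpenMap_π hlim i' (fun j _ ↦ hsurj j) hopen
  have := isIso_stageFst_id D b'
  rw [← stageProj_fst b' c f' a' sq i']
  exact (stageFst D b' i').isOpenEmbedding.isOpenMap.comp h1

include hc in
/-- EGA IV 8.2.5: along open immersions the projections are embeddings. -/
theorem isEmbedding_π (i : I) (hoi : ∀ (j : I) (φ : j ⟶ i), IsOpenImmersion (D.map φ)) :
    IsEmbedding (c.π.app i) := by
  refine ⟨⟨le_antisymm (c.π.app i).continuous.le_induced fun U hU ↦ ?_⟩, fun p q hpq ↦ ?_⟩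
  · refine (@isOpen_iff_forall_mem_open _ (_) _).mpr fun p hp ↦ ?_
    obtain ⟨j, V, -, hpV, hVU⟩ := exists_mem_preimage_subset hc hU hp
    let α : IsCofiltered.min i j ⟶ i := IsCofiltered.minToLeft i j
    let β : IsCofiltered.min i j ⟶ j := IsCofiltered.minToRight i j
    have := hoi _ α
    refine ⟨c.π.app i ⁻¹' (D.map α '' (D.map β ⁻¹' V)), fun q hq ↦ hVU ?_,
      isOpen_induced ((D.map α).isOpenEmbedding.isOpenMap _ (V.2.preimage (D.map β).continuous)),
      c.π.app _ p, ?_, π_app_apply (D := D) α p⟩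
    · obtain ⟨y, hy, hyq⟩ := hq
      rw [← π_app_apply (D := D) α q] at hyq
      obtain rfl := (D.map α).isOpenEmbedding.injective hyq
      change c.π.app j q ∈ V
      rw [← π_app_apply (D := D) β q]
      exact hy
    · change D.map β (c.π.app _ p) ∈ V
      rw [π_app_apply (D := D) β p]
      exact hpV
  · refine ext_of_forall_π hc fun j ↦ ?_
    have := hoi _ (IsCofiltered.minToLeft i j)
    rw [← π_app_apply (D := D) (IsCofiltered.minToRight i j) p,
      ← π_app_apply (D := D) (IsCofiltered.minToRight i j) q]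
    congr 1
    apply (D.map (IsCofiltered.minToLeft i j)).isOpenEmbedding.injective
    rw [π_app_apply (D := D) _ p, π_app_apply (D := D) _ q, hpq]

end Groth.Agent.H8Lim
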