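import Mathlib
import Groth.Agent.H8Lim.Constructible
import Groth.Agent.H8Lim.Stalk
import Groth.Agent.H8Lim.TopologicalProps

/-!
# Limits along open immersions: reducedness and integrality (EGA IV 8.7.2)
-/

universe u

set_option backward.isDefEq.respectTransparency.types false

open CategoryTheory Limits AlgebraicGeometry Topology

namespace Groth.Agent.H8Lim

/-- If the nilradical is of finite type, the reduced locus is open. -/
theorem isOpen_setOf_isReduced_stalk {X : Scheme.{u}}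
    (hN : ∀ U : X.affineOpens, (nilradical Γ(X, U)).FG) :
    IsOpen {x : X | _root_.IsReduced (X.presheaf.stalk x)} := by
  classical
  rw [isOpen_iff_forall_mem_open]
  intro x (hx : _root_.IsReduced (X.presheaf.stalk x))
  obtain ⟨_, ⟨U, hU, rfl⟩, hxU, -⟩ :=
    X.isBasis_affineOpens.exists_subset_of_mem_open (Set.mem_univ x) isOpen_univ
  obtain ⟨p, rfl⟩ : x ∈ Set.range hU.fromSpec := by rwa [hU.range_fromSpec]
  let xp : U := ⟨hU.fromSpec p, hxU⟩
  let : Algebra Γ(X, U) (X.presheaf.stalk xp.1) := (X.presheaf.germ U xp.1 xp.2).hom.toAlgebra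
  have := hU.isLocalization_stalk xp
  let q := (hU.primeIdealOf xp).asIdeal
  obtain ⟨s, hs⟩ := hN ⟨U, hU⟩
  have hz : ∀ n : s, ∃ g : q.primeCompl, (g : Γ(X, U)) * n.1 = 0 := fun n ↦ by
    have hn : IsNilpotent (n.1 : Γ(X, U)) :=
      mem_nilradical.mp (hs ▸ Submodule.subset_span n.2)
    have h0 : algebraMap Γ(X, U) (X.presheaf.stalk xp.1) n.1 = 0 :=
      IsReduced.eq_zero _ (hn.map _)
    exact (IsLocalization.map_eq_zero_iff q.primeCompl (X.presheaf.stalk xp.1) n.1).mp h0
  choose g hg using hz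
  let f : q.primeCompl := ∏ n, g n
  have hf : ∀ n ∈ nilradical Γ(X, U), (f : Γ(X, U)) * n = 0 := by
    intro n hn
    rw [← hs] at hn
    induction hn using Submodule.span_induction with
    | mem n hn =>
      have : f = g ⟨n, hn⟩ * ∏ m ∈ Finset.univ.erase ⟨n, hn⟩, g m :=
        (Finset.mul_prod_erase Finset.univ g (Finset.mem_univ _)).symm
      rw [this, Submonoid.coe_mul, mul_comm (g ⟨n, hn⟩ : Γ(X, U)), mul_assoc, hg ⟨n, hn⟩, mul_zero]
    | zero => simp
    | add a b _ _ iha ihb => rw [mul_add, iha, ihb, add_zero]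
    | smul r a _ iha => rw [smul_eq_mul, mul_left_comm, iha, mul_zero]
  have hV : IsAffineOpen (X.basicOpen f.1) := hU.basicOpen f.1
  have : IsAffine (X.basicOpen f.1 : Scheme.{u}) := hV
  have := hU.isLocalization_basicOpen f.1
  have hred : _root_.IsReduced Γ(X, X.basicOpen f.1) := ⟨fun y hy ↦ by
    obtain ⟨⟨a, t⟩, hat⟩ := IsLocalization.surj (Submonoid.powers f.1) y
    obtain ⟨k, hk⟩ : IsNilpotent (algebraMap Γ(X, U) Γ(X, X.basicOpen f.1) a) :=
      hat ▸ (Commute.all _ _).isNilpotent_mul_right hy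
    rw [← map_pow, IsLocalization.map_eq_zero_iff (Submonoid.powers f.1)] at hk
    obtain ⟨⟨_, m, rfl⟩, hm⟩ := hk
    have hna : IsNilpotent (f.1 ^ m * a) := ⟨k + 1, by
      rw [mul_pow, pow_succ (f.1 ^ m) k, pow_succ a k]
      calc (f.1 ^ m) ^ k * f.1 ^ m * (a ^ k * a) = (f.1 ^ m) ^ k * a * (f.1 ^ m * a ^ k) := by ring
        _ = 0 := by rw [show f.1 ^ m * a ^ k = 0 from hm, mul_zero]⟩
    have ha : algebraMap Γ(X, U) Γ(X, X.basicOpen f.1) a = 0 := by
      refine (IsLocalization.map_eq_zero_iff (Submonoid.powers f.1) _ a).mpr ⟨⟨_, m + 1, rfl⟩, ?_⟩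
      show f.1 ^ (m + 1) * a = 0
      rw [pow_succ', mul_assoc]
      exact hf _ (mem_nilradical.mpr hna)
    rw [ha] at hat
    exact (IsLocalization.map_units _ t).mul_left_eq_zero.mp hat⟩
  have hsch : IsReduced (X.basicOpen f.1 : Scheme.{u}) :=
    have : _root_.IsReduced Γ((X.basicOpen f.1 : Scheme.{u}), ⊤) :=
      isReduced_of_injective (X.basicOpen f.1).topIso.commRingCatIsoToRingEquiv.toRingHom
        (X.basicOpen f.1).topIso.commRingCatIsoToRingEquiv.injective
    isReduced_of_isAffine_isReduced _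
  refine ⟨X.basicOpen f.1, fun y hy ↦ ?_, (X.basicOpen f.1).isOpen, ?_⟩
  · exact isReduced_of_injective ((X.basicOpen f.1).stalkIso ⟨y, hy⟩).inv.hom
      ((X.basicOpen f.1).stalkIso ⟨y, hy⟩).commRingCatIsoToRingEquiv.symm.injective
  · rw [SetLike.mem_coe, Scheme.mem_basicOpen X f.1 xp.1 xp.2]
    exact IsLocalization.map_units (X.presheaf.stalk xp.1) f

variable {I : Type u} [SmallCategory I] [IsCofiltered I] {D : I ⥤ Scheme.{u}} {c : Cone D}
  (hc : IsLimit c) [∀ {i j} (f : i ⟶ j), IsAffineHom (D.map f)]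

include hc in
/-- EGA IV 8.7.2 (i). -/
theorem exists_forall_isReduced (i₀ : I) [CompactSpace (D.obj i₀)]
    (hoi : ∀ (i j : I) (φ : i ⟶ j), IsOpenImmersion (D.map φ))
    (hN : ∀ U : (D.obj i₀).affineOpens, (nilradical Γ(D.obj i₀, U)).FG) [IsReduced c.pt] :
    ∃ (i : I) (_ : i ⟶ i₀), ∀ (j : I) (_ : j ⟶ i), IsReduced (D.obj j) := by
  obtain ⟨j, φ, hj⟩ := exists_forall_map_notMem hc (i := i₀) (K := ⊤) isCompact_univ
    (Z := Set.univ) (by simp) (isOpen_setOf_isReduced_stalk hN).isClosed_compl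
    (fun p _ _ h ↦ h (by
      have : _root_.IsReduced (c.pt.presheaf.stalk p) := inferInstance
      have := isIso_stalkMap_π hc p i₀ fun j φ ↦ hoi j i₀ φ
      exact @isReduced_of_injective _ (c.pt.presheaf.stalk p) _ _ _ _ _ ((c.π.app i₀).stalkMap p).hom
        (asIso ((c.π.app i₀).stalkMap p)).commRingCatIsoToRingEquiv.injective ‹_›))
  have := hoi j i₀ φ
  have : IsReduced (D.obj j) := by
    have : ∀ x : D.obj j, _root_.IsReduced ((D.obj j).presheaf.stalk x) := fun x ↦ by
      have : _root_.IsReduced ((D.obj i₀).presheaf.stalk (D.map φ x)) :=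
        not_not.mp fun h ↦ hj x trivial trivial h
      exact isReduced_of_injective (inv ((D.map φ).stalkMap x)).hom
        (asIso ((D.map φ).stalkMap x)).commRingCatIsoToRingEquiv.symm.injective
    exact isReduced_of_isReduced_stalk (D.obj j)
  refine ⟨j, φ, fun k ψ ↦ ?_⟩
  have := hoi k j ψ
  exact isReduced_of_isOpenImmersion (D.map ψ)

include hc in
/-- EGA IV 8.7.2 (ii). -/
theorem exists_forall_isIntegral (i₀ : I) [IsNoetherian (D.obj i₀)]
    (hoi : ∀ (i j : I) (φ : i ⟶ j), IsOpenImmersion (D.map φ)) [IsIntegral c.pt] :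
    ∃ (i : I) (_ : i ⟶ i₀), ∀ (j : I) (_ : j ⟶ i), IsIntegral (D.obj j) := by
  obtain ⟨i₁, φ₁, h₁⟩ := exists_forall_isReduced hc i₀ hoi
    fun U ↦ by
      have : IsNoetherianRing Γ(D.obj i₀, U) := IsLocallyNoetherian.component_noetherian U
      exact IsNoetherian.noetherian _
  let η := c.π.app i₀ (genericPoint c.pt)
  let Z : Set (D.obj i₀) := ⋃₀ {C ∈ irreducibleComponents (D.obj i₀) | η ∉ C}
  have hZ : IsClosed Z := by
    show IsClosed (⋃₀ _)
    rw [Set.sUnion_eq_biUnion]
    exact ((TopologicalSpace.NoetherianSpace.finite_irreducibleComponents).subset fun C h ↦ h.1).isClosed_biUnion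
      fun C h ↦ isClosed_of_mem_irreducibleComponents C h.1
  -- generizations of points coming from the limit come from the limit, hence are specializations of `η`
  have hgen : ∀ (p : c.pt) (z : D.obj i₀), z ⤳ c.π.app i₀ p → η ⤳ z := by
    intro p z hz
    have := isIso_stalkMap_π hc p i₀ fun j φ ↦ hoi j i₀ φ
    obtain ⟨w, hw⟩ : z ∈ Set.range ((D.obj i₀).fromSpecStalk (c.π.app i₀ p)) := by
      rw [Scheme.range_fromSpecStalk]
      exact hz
    obtain ⟨w', rfl⟩ := (Spec.map ((c.π.app i₀).stalkMap p)).surjective w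
    rw [← Scheme.Hom.comp_apply, Scheme.SpecMap_stalkMap_fromSpecStalk, Scheme.Hom.comp_apply] at hw
    exact hw ▸ (genericPoint_specializes _).map (c.π.app i₀).continuous
  have hηmax : ∀ z, z ⤳ η → z = η := fun z hz ↦ hz.antisymm (hgen _ z hz) |>.eq
  have hη : ∀ p, c.π.app i₀ p ∉ Z := by
    rintro p ⟨C, ⟨hC, hηC⟩, hpC⟩
    have hCc := isClosed_of_mem_irreducibleComponents C hC
    obtain ⟨z, hz⟩ := QuasiSober.sober hC.1 hCc
    have hηz : η ⤳ z := hgen p z (hz.specializes hpC)
    have hle : C ≤ closure {η} := hz.def.symm.le.trans (closure_minimal (Set.singleton_subset_iff.mpr hηz.mem_closure) isClosed_closure)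
    exact hηC (hC.2 isIrreducible_singleton.closure hle (subset_closure rfl))
  obtain ⟨j, φ, hj⟩ := exists_forall_map_notMem hc (i := i₀) (K := ⊤) isCompact_univ
    (Z := Set.univ) (by simp) hZ (fun p _ _ ↦ hη p)
  obtain ⟨l, a, b, hl⟩ := IsCofiltered.cospan φ φ₁
  refine ⟨l, a ≫ φ, fun k ψ ↦ ?_⟩
  have := h₁ k (ψ ≫ b)
  let ρ := ψ ≫ a ≫ φ
  have := hoi k i₀ ρ
  have hsub : ∀ x, η ⤳ D.map ρ x := fun x ↦ by
    obtain ⟨C, hC, hxC⟩ : ∃ C ∈ irreducibleComponents (D.obj i₀), D.map ρ x ∈ C :=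
      ⟨irreducibleComponent _, irreducibleComponent_mem_irreducibleComponents _, mem_irreducibleComponent⟩
    have hηC : η ∈ C := by
      by_contra h
      refine hj (D.map (ψ ≫ a) x) trivial trivial ⟨C, ⟨hC, h⟩, ?_⟩
      rw [← Scheme.Hom.comp_apply, ← D.map_comp, Category.assoc]
      exact hxC
    obtain ⟨z, hz⟩ := QuasiSober.sober hC.1 (isClosed_of_mem_irreducibleComponents C hC)
    exact hηmax z (hz.specializes hηC) ▸ hz.specializes hxC
  have hne : η ∈ Set.range (D.map ρ) := ⟨c.π.app k (genericPoint c.pt), π_app_apply ρ _⟩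
  obtain ⟨x₀, hx₀⟩ := hne
  have : IrreducibleSpace (D.obj k) := by
    refine irreducibleSpace_def _ |>.mpr ?_
    have : (Set.univ : Set (D.obj k)) = closure {x₀} := by
      refine (Set.eq_univ_of_forall fun x ↦ ?_).symm
      exact ((D.map ρ).isOpenEmbedding.isInducing.specializes_iff.mp (hx₀ ▸ hsub x)).mem_closure
    show IsIrreducible (Set.univ : Set (D.obj k))
    rw [this]
    exact isIrreducible_singleton.closure
  exact isIntegral_of_irreducibleSpace_of_isReduced _

include hc in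
/-- EGA IV 8.7.2 (ii), converse. -/
theorem isIntegral_pt_of_forall (i : I) (hoi : ∀ (i j : I) (φ : i ⟶ j), IsOpenImmersion (D.map φ))
    (h : ∀ (j : I) (_ : j ⟶ i), IsIntegral (D.obj j)) : IsIntegral c.pt := by
  have : IsReduced c.pt := isReduced_pt_of_forall hc i fun j φ ↦ have := h j φ; inferInstance
  have := h i (𝟙 i)
  obtain ⟨p, hp⟩ : genericPoint (D.obj i) ∈ Set.range (c.π.app i) := by
    rw [range_π_eq hc i]
    simp only [Set.mem_iInter]
    intro j φ
    have := hoi j i φ
    have := h j φ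
    obtain ⟨x⟩ := (inferInstance : Nonempty (D.obj j))
    exact (genericPoint_specializes _).mem_open (D.map φ).isOpenEmbedding.isOpen_range ⟨x, rfl⟩
  have hemb := isEmbedding_π hc i fun j φ ↦ hoi j i φ
  have : IrreducibleSpace c.pt := by
    refine irreducibleSpace_def _ |>.mpr ?_
    show IsIrreducible (Set.univ : Set c.pt)
    have : (Set.univ : Set c.pt) = closure {p} :=
      (Set.eq_univ_of_forall fun q ↦ (hemb.isInducing.specializes_iff.mp
        (hp ▸ genericPoint_specializes _)).mem_closure).symm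
    rw [this]
    exact isIrreducible_singleton.closure
  exact isIntegral_of_irreducibleSpace_of_isReduced _

end Groth.Agent.H8Lim
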