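import Groth.Agent.HenselLib.FPColim
import Groth.Agent.H8ProCons.Basic
import Mathlib.AlgebraicGeometry.Morphisms.FinitePresentation
import Mathlib.AlgebraicGeometry.Morphisms.Affine
import Mathlib.AlgebraicGeometry.ResidueField
import Mathlib.CategoryTheory.Limits.Preserves.Over

/-!
# The spectrum of a residue field as a limit of affine schemes of finite presentation
-/

set_option autoImplicit false
set_option backward.isDefEq.respectTransparency.types false

universe u

open CategoryTheory Limits AlgebraicGeometry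

namespace Groth.Agent.H8Lim

/-- A residue field is a limit of affine schemes of finite presentation over an affine neighbourhood. -/
theorem exists_residue_system {S : Scheme.{u}} (s : S) :
    ∃ (I : Type u) (_ : SmallCategory I) (_ : IsCofiltered I) (D : I ⥤ Scheme.{u}) (c : Cone D)
      (_ : IsLimit c) (_ : ∀ (i j : I) (a : i ⟶ j), IsAffineHom (D.map a))
      (e : c.pt ⟶ Spec (S.residueField s)) (U : S.Opens) (t : ∀ i, D.obj i ⟶ (U : Scheme.{u})),
      IsIso e ∧ IsAffineOpen U ∧
      (∀ i, IsAffine (D.obj i) ∧ LocallyOfFinitePresentation (t i)) ∧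
      (∀ i, c.π.app i ≫ t i ≫ U.ι = e ≫ S.fromSpecResidueField s) ∧
      ∀ ⦃i j⦄ (a : i ⟶ j), D.map a ≫ t j = t i := by
  obtain ⟨U, hU, hsU, -⟩ := exists_isAffineOpen_mem_and_subset (x := s) (U := ⊤) trivial
  have hk : Set.range (S.fromSpecResidueField s) ⊆ Set.range U.ι := by
    rintro _ ⟨p, rfl⟩
    rw [Scheme.Opens.range_ι, S.fromSpecResidueField_apply s]
    exact hsU
  obtain ⟨φ, hφ⟩ := Spec.map_surjective (IsOpenImmersion.lift U.ι _ hk ≫ hU.isoSpec.hom)
  let A : Type u := Γ(S, U)
  let K : Type u := S.residueField s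
  let _ : Algebra A K := φ.hom.toAlgebra
  have hfilt := HenselLib.FPColim.isFiltered (A := A) (B := K)
  obtain ⟨hcol⟩ := HenselLib.FPColim.exists_isColimit (A := A) (B := K)
  let F := HenselLib.FPColim.diagram A K ⋙ Under.forget (CommRingCat.of A)
  let D : (HenselLib.FPColim.Obj A K)ᵒᵖ ⥤ Scheme.{u} := F.op ⋙ Scheme.Spec
  let c : Cone D :=
    Scheme.Spec.mapCone ((Under.forget (CommRingCat.of A)).mapCocone (HenselLib.FPColim.cocone A K)).op
  have : IsConnected (HenselLib.FPColim.Obj A K)ᵒᵖ := IsCofiltered.isConnected _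
  have hc : IsLimit c :=
    isLimitOfPreserves Scheme.Spec (isColimitOfPreserves (Under.forget (CommRingCat.of A)) hcol).op
  let t₀ : ∀ i, D.obj i ⟶ Spec (CommRingCat.of A) := fun i =>
    Spec.map (CommRingCat.ofHom (algebraMap A i.unop.R))
  refine ⟨_, inferInstance, inferInstance, D, c, hc, fun i j a => ?_, 𝟙 (Spec (S.residueField s)), U,
    fun i => t₀ i ≫ hU.isoSpec.inv, inferInstanceAs (IsIso (𝟙 _)), hU, fun i => ?_, fun i => ?_,
    fun i j a => ?_⟩
  · have : IsAffine (D.obj i) := inferInstanceAs (IsAffine (Spec (CommRingCat.of i.unop.R)))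
    have : IsAffine (D.obj j) := inferInstanceAs (IsAffine (Spec (CommRingCat.of j.unop.R)))
    infer_instance
  · have : Algebra.FinitePresentation A i.unop.R := Algebra.FinitePresentation.quotient i.unop.fg
    have : LocallyOfFinitePresentation (t₀ i) := by
      rw [HasRingHomProperty.Spec_iff (P := @LocallyOfFinitePresentation.{u})]
      exact (RingHom.finitePresentation_algebraMap (A := A) (B := i.unop.R)).2 inferInstance
    exact ⟨inferInstanceAs (IsAffine (Spec (CommRingCat.of i.unop.R))),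
      inferInstanceAs (LocallyOfFinitePresentation (t₀ i ≫ hU.isoSpec.inv))⟩
  · have h1 : c.π.app i ≫ t₀ i = Spec.map φ := by
      show Spec.map (CommRingCat.ofHom i.unop.ev.toRingHom) ≫ Spec.map _ = _
      rw [← Spec.map_comp]
      congr 1
      exact CommRingCat.hom_ext i.unop.ev.comp_algebraMap
    show c.π.app i ≫ (t₀ i ≫ hU.isoSpec.inv) ≫ U.ι = 𝟙 _ ≫ _
    have h2 : Spec.map φ ≫ hU.isoSpec.inv ≫ U.ι = S.fromSpecResidueField s := by
      rw [hφ]
      simp
    refine Eq.trans ?_ (h2.trans (Category.id_comp _).symm)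
    rw [Category.assoc, reassoc_of% h1]
    rfl
  · have h1 : D.map a ≫ t₀ j = t₀ i := by
      show Spec.map (CommRingCat.ofHom a.unop.1.toRingHom) ≫ Spec.map _ = Spec.map _
      rw [← Spec.map_comp]
      congr 1
      exact CommRingCat.hom_ext a.unop.1.comp_algebraMap
    show D.map a ≫ t₀ j ≫ hU.isoSpec.inv = t₀ i ≫ hU.isoSpec.inv
    rw [reassoc_of% h1]

/-- A set is ind-constructible when around each of its points it contains such an image. -/
theorem isIndConstructible_of_spread {S : Scheme.{u}} {E : Set S}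
    (h : ∀ s ∈ E, ∃ (U : S.Opens) (T : Scheme.{u}) (t : T ⟶ (U : Scheme.{u})), IsAffineOpen U ∧
      IsAffine T ∧ LocallyOfFinitePresentation t ∧ s ∈ Set.range (t ≫ U.ι) ∧ Set.range (t ≫ U.ι) ⊆ E) :
    ProCons.IsIndConstructible E := by
  refine H8ProCons.isIndConstructible_of_forall_nhd fun s hs => ?_
  obtain ⟨U, T, t, hU, _, _, ⟨p, hp⟩, hsub⟩ := h s hs
  have : IsAffine (U : Scheme.{u}) := hU
  have hC : Topology.IsLocallyConstructible (Set.range t) := by
    rw [← Set.image_univ]
    exact t.isLocallyConstructible_image Topology.IsLocallyConstructible.univ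
  refine ⟨U, hU, Set.range t, hC.isConstructible, ⟨t p, ⟨p, rfl⟩, ?_⟩, ?_⟩
  · rw [← hp]; rfl
  · rintro _ ⟨_, ⟨q, rfl⟩, rfl⟩
    exact hsub ⟨q, rfl⟩

end Groth.Agent.H8Lim
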