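import Mathlib

/-!
The local scheme at a point is the limit of the affine open neighbourhoods inside a given affine
open.
-/

set_option autoImplicit false
set_option backward.isDefEq.respectTransparency.types false

universe u

open CategoryTheory CategoryTheory.Limits AlgebraicGeometry TopologicalSpace Opposite

namespace Groth.Agent.H8Lim.StalkLimit

variable {Y : Scheme.{u}} (y : Y)

/-- Affine open neighbourhoods of a point. -/
abbrev AffNhd : Type u := {V : Y.Opens // IsAffineOpen V ∧ y ∈ V}

instance : IsCofilteredOrEmpty (AffNhd y) where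
  cone_objs V W := by
    obtain ⟨A, hA, hyA, hle⟩ := exists_isAffineOpen_mem_and_subset (X := Y) (x := y)
      (U := V.1 ⊓ W.1) ⟨V.2.2, W.2.2⟩
    exact ⟨⟨A, hA, hyA⟩, homOfLE (fun x hx => (hle hx).1), homOfLE (fun x hx => (hle hx).2), trivial⟩
  cone_maps V W f g := ⟨V, 𝟙 V, by rw [Subsingleton.elim f g]⟩

instance : IsCofiltered (AffNhd y) where
  nonempty := by
    obtain ⟨A, hA, hyA, -⟩ := exists_isAffineOpen_mem_and_subset (X := Y) (x := y) (U := ⊤) trivial
    exact ⟨⟨A, hA, hyA⟩⟩

/-- The inclusion into all open neighbourhoods. -/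
def incl : AffNhd y ⥤ OpenNhds y where
  obj V := ⟨V.1, V.2.2⟩
  map f := homOfLE f.le

instance : (incl y).Initial := by
  refine Functor.initial_of_exists_of_isCofiltered _ (fun O => ?_) (fun {O V} s s' => ?_)
  · obtain ⟨A, hA, hyA, hle⟩ := exists_isAffineOpen_mem_and_subset (X := Y) (x := y)
      (U := O.1) O.2
    exact ⟨⟨A, hA, hyA⟩, ⟨homOfLE hle⟩⟩
  · exact ⟨V, 𝟙 V, Subsingleton.elim _ _⟩

/-- The diagram of spectra. -/
noncomputable def diagram : AffNhd y ⥤ Scheme.{u} where
  obj V := Spec Γ(Y, V.1)
  map f := Spec.map (Y.presheaf.map (homOfLE f.le).op)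
  map_id V := by
    rw [← Spec.map_id]
    exact congrArg Spec.map (Y.presheaf.map_id _)
  map_comp f g := by
    rw [← Spec.map_comp, ← Functor.map_comp]
    rfl

instance (V W : AffNhd y) (f : V ⟶ W) : IsAffineHom ((diagram y).map f) :=
  inferInstanceAs (IsAffineHom (Spec.map _))

instance (V : AffNhd y) : IsAffine ((diagram y).obj V) := inferInstanceAs (IsAffine (Spec _))

/-- The cone of the local scheme. -/
noncomputable def cone : Cone (diagram y) where
  pt := Spec (Y.presheaf.stalk y)
  π :=
    { app := fun V => Spec.map (Y.presheaf.germ V.1 y V.2.2)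
      naturality := fun V W f => by
        refine (Category.id_comp _).trans ?_
        show _ = Spec.map _ ≫ Spec.map _
        refine Eq.trans ?_ (Spec.map_comp _ _)
        exact congrArg Spec.map (Y.presheaf.germ_res (homOfLE f.le) y V.2.2).symm }

/-- The local scheme is the limit of the affine neighbourhoods. -/
noncomputable def isLimitCone : IsLimit (cone y) := by
  let F := (OpenNhds.inclusion y).op ⋙ Y.presheaf
  have h1 : IsColimit ((colimit.cocone F).whisker (incl y).op) :=
    (Functor.Final.isColimitWhiskerEquiv (incl y).op _).symm (colimit.isColimit F)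
  let e : diagram y ≅ ((incl y).op ⋙ F).rightOp ⋙ Scheme.Spec :=
    NatIso.ofComponents (fun V => Iso.refl _) (fun {V W} f => by
      refine (Category.comp_id _).trans ((Category.id_comp _).trans ?_).symm
      rfl)
  let h2 := isLimitOfPreserves Scheme.Spec (isLimitConeRightOpOfCocone _ h1)
  exact ((IsLimit.postcomposeInvEquiv e _).symm h2).ofIsoLimit
    (Cone.ext (Iso.refl _) fun V => (Category.comp_id _).trans (Category.id_comp _).symm)

/-- The open immersions into the scheme. -/
noncomputable def incMap (V : AffNhd y) : (diagram y).obj V ⟶ Y := V.2.1.fromSpec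

instance (V : AffNhd y) : IsOpenImmersion (incMap y V) :=
  inferInstanceAs (IsOpenImmersion V.2.1.fromSpec)

theorem mem_range_incMap (V : AffNhd y) : y ∈ Set.range (incMap y V) :=
  V.2.1.range_fromSpec.ge V.2.2

theorem map_incMap {V W : AffNhd y} (f : V ⟶ W) : (diagram y).map f ≫ incMap y W = incMap y V :=
  W.2.1.map_fromSpec V.2.1 (homOfLE f.le).op

theorem cone_incMap (V : AffNhd y) : (cone y).π.app V ≫ incMap y V = Y.fromSpecStalk y :=
  V.2.1.fromSpecStalk_eq_fromSpecStalk V.2.2

end Groth.Agent.H8Lim.StalkLimit
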