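import Groth.Agent.H8Lim.FlatDescent
import Groth.Agent.H8Lim.Descent
import Groth.Agent.H8Lim.SchemeDescent
import Mathlib.AlgebraicGeometry.Morphisms.FlatRank
import Groth.Prelude.Def_Mor2

/-!
# Finite locally free morphisms of degree `d` descend to a stage
-/

set_option autoImplicit false
set_option backward.isDefEq.respectTransparency.types false

universe u

open CategoryTheory Limits AlgebraicGeometry Topology

namespace Groth.Agent.H8Lim

/-- Finite locally free morphisms of degree `d` descend. -/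
theorem descends_isFinLocFreeOfDeg (d : ℕ) :
    Descends.{u} @LocallyOfFinitePresentation (fun _ _ f => Mor2.IsFinLocFreeOfDeg d f)
      (fun _ _ f => Mor2.IsFinLocFreeOfDeg d f) := by
  intro J _ _ E cE hc haff i _ A₀ a _ _ (hQ : LocallyOfFinitePresentation a) A b p sq hb
  obtain ⟨⟨hfin, hflat, hlfp⟩, hrk⟩ := hb
  have : ∀ {i j : J} (φ : i ⟶ j), IsAffineHom (E.map φ) := fun φ => haff φ
  obtain ⟨j₁, φ₁, h₁⟩ := descends_isFinite E cE hc (fun φ => haff φ) i a
    (inferInstanceAs (LocallyOfFiniteType a)) b p sq hfin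
  have : CompactSpace A₀ := QuasiCompact.compactSpace_of_compactSpace a
  obtain ⟨j₂, φ₂, Xk, Yk, fk, gk, pY, pX, hY, hX, hk⟩ :=
    LimSmooth.exists_stage hc (g₀ := 𝟙 (E.obj i)) (f₀ := a) (f := b) (g := 𝟙 cE.pt)
      (qY := cE.π.app i) (IsPullback.of_id_snd) sq
      affineSpreads_flat (fun _ _ ↦ inferInstance) hflat
  have : IsIso gk := hY.isIso_snd_of_isIso
  have : Flat (fk ≫ gk) := inferInstance
  have h₂ : Flat (pullback.snd a (E.map φ₂)) :=
    prop_snd_of_isPullback (by simpa using hX.paste_vert hY) this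
  obtain ⟨l, u, v, huv⟩ := IsCofiltered.cospan φ₁ φ₂
  let φ := u ≫ φ₁
  have h₁' : IsFinite (pullback.snd a (E.map φ)) := prop_snd_map_comp (P := @IsFinite) h₁ u
  have h₂' : Flat (pullback.snd a (E.map φ)) := by
    rw [show φ = v ≫ φ₂ from huv]
    exact prop_snd_map_comp (P := @Flat) h₂ v
  have h₃' : LocallyOfFinitePresentation (pullback.snd a (E.map φ)) :=
    MorphismProperty.pullback_snd (P := @LocallyOfFinitePresentation) a (E.map φ) hQ
  have : CompactSpace (E.obj l) := QuasiCompact.compactSpace_of_compactSpace (E.map φ)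
  have sq' := isPullback_later (D := E) (c := cE) sq φ (by rw [sq.w, Category.assoc, cE.w φ])
  let C : Set (E.obj l) := {y | (pullback.snd a (E.map φ)).finrank y ≠ d}
  have hC : IsClosed C :=
    ((pullback.snd a (E.map φ)).isLocallyConstant_finrank.isOpen_fiber d).isClosed_compl
  obtain ⟨m, ψ, hm⟩ := exists_forall_map_notMem hc (i := l) (K := ⊤) isCompact_univ
    (Z := Set.univ) Topology.IsLocallyConstructible.univ hC (fun q _ _ hq => hq (by
      rw [← Scheme.Hom.finrank_of_isPullback _ b _ _ sq' q]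
      exact hrk q))
  have sqm : IsPullback
      (pullback.lift (pullback.fst a (E.map (ψ ≫ φ))) (pullback.snd a (E.map (ψ ≫ φ)) ≫ E.map ψ)
        (by rw [pullback.condition, Category.assoc, E.map_comp]))
      (pullback.snd a (E.map (ψ ≫ φ))) (pullback.snd a (E.map φ)) (E.map ψ) := by
    refine IsPullback.of_right ?_ (pullback.lift_snd _ _ _) (IsPullback.of_hasPullback a (E.map φ))
    rw [pullback.lift_fst, ← E.map_comp]
    exact IsPullback.of_hasPullback a (E.map (ψ ≫ φ))
  refine ⟨m, ψ ≫ φ, ⟨MorphismProperty.of_isPullback (P := @IsFinite) sqm h₁',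
    MorphismProperty.of_isPullback (P := @Flat) sqm h₂',
    MorphismProperty.of_isPullback (P := @LocallyOfFinitePresentation) sqm h₃'⟩, fun y => ?_⟩
  rw [Scheme.Hom.finrank_of_isPullback _ _ _ _ sqm y]
  exact not_not.1 fun hne => hm y trivial trivial hne

end Groth.Agent.H8Lim
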