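import Groth.Agent.H8Lim.ClosedIntoStage
import Mathlib.AlgebraicGeometry.Morphisms.Finite

/-!
# Finite morphisms into a limit

If `Z → lim T_j` is finite and `Z` is locally of finite type over a stage, then `Z → T_j` is
finite for some `j`.
-/

set_option autoImplicit false
set_option backward.isDefEq.respectTransparency.types false

universe u

open CategoryTheory Limits AlgebraicGeometry

namespace Groth.Agent.H8Lim

set_option backward.isDefEq.respectTransparency false in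
lemma isFinite_of_cover {X Y : Scheme.{u}} (f : X ⟶ Y) [IsAffineHom f] {κ : Type u}
    (U : κ → Y.affineOpens) (hU : ⨆ k, (U k).1 = ⊤) (H : ∀ k, (f.app (U k).1).hom.Finite) :
    IsFinite f := by
  rw [HasAffineProperty.iff_of_iSup_eq_top (P := @IsFinite) U hU]
  intro k
  refine ⟨(U k).2.preimage f, ?_⟩
  rw [morphismRestrict_appTop, CommRingCat.hom_comp,
    RingHom.finite_respectsIso.cancel_right_isIso]
  show (f.app ((U k).1.ι ''ᵁ ⊤)).hom.Finite
  rw [Scheme.Opens.ι_image_top]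
  exact H k

lemma finite_app_of_appLE {X Y : Scheme.{u}} (f : X ⟶ Y) (U : Y.Opens) (V : X.Opens)
    (hV : V = f ⁻¹ᵁ U) (e : V ≤ f ⁻¹ᵁ U) (h : (f.appLE U V e).hom.Finite) :
    (f.app U).hom.Finite := by
  subst hV
  rwa [Scheme.Hom.appLE_eq_app] at h

variable {I : Type u} [SmallCategory I] [IsCofiltered I] {D : I ⥤ Scheme.{u}} {c : Cone D}
  (hc : IsLimit c) [∀ {i j} (f : i ⟶ j), IsAffineHom (D.map f)]

include hc in
/-- Finitely many functions on the limit of an affine open come from one stage. -/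
lemma exists_range_appLE {i : I} {U : (D.obj i).Opens} (hU : IsAffineOpen U) {κ : Type u} [Finite κ]
    (z : κ → Γ(c.pt, c.π.app i ⁻¹ᵁ U)) :
    ∃ (j : I) (φ : j ⟶ i), ∀ k,
      z k ∈ Set.range ((c.π.app j).appLE _ _ (le_preimage_π φ U)) := by
  classical
  choose j φ x hx using fun k => exists_appLE_π_eq hc hU (z k)
  obtain ⟨l, ψ, gk, hg⟩ := IsCofiltered.wideCospan φ
  refine ⟨l, ψ, fun k => ⟨(D.map (gk k)).appLE _ _
    (by rw [← Scheme.Hom.comp_preimage, ← D.map_comp, hg]) (x k), ?_⟩⟩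
  rw [← hx k, ← CommRingCat.comp_apply, Scheme.Hom.appLE_comp_appLE]
  congr 2
  simp only [c.w]

include hc in
lemma exists_appLE_finite {i : I} {Z : Scheme.{u}} (m : Z ⟶ c.pt) [IsFinite m]
    [LocallyOfFiniteType (m ≫ c.π.app i)] {U : (D.obj i).Opens} (hU : IsAffineOpen U) :
    ∃ (j : I) (φ : j ⟶ i), ∀ (l : I) (ψ : l ⟶ j),
      ((m ≫ c.π.app l).app (D.map (ψ ≫ φ) ⁻¹ᵁ U)).hom.Finite := by
  classical
  have : IsAffineHom (c.π.app i) := isAffineHom_π_app D c hc i
  let V := c.π.app i ⁻¹ᵁ U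
  let W := m ⁻¹ᵁ V
  have hW : IsAffineOpen W := (hU.preimage _).preimage m
  let f₀ := ((m ≫ c.π.app i).appLE U W (by exact (Scheme.Hom.comp_preimage _ _ _).ge)).hom
  have hf₀ : f₀.FiniteType := Scheme.Hom.finiteType_appLE _ hU hW _
  let _ : Algebra Γ(D.obj i, U) Γ(Z, W) := f₀.toAlgebra
  obtain ⟨σ, hσ⟩ := (hf₀ : Algebra.FiniteType Γ(D.obj i, U) Γ(Z, W)).out
  choose p hp hp0 using fun z : σ =>
    RingHom.IsIntegral.of_finite (m.finite_app V (hU.preimage _)) z.1
  obtain ⟨j, φ, hj⟩ := exists_range_appLE hc hU (κ := Σ z : σ, Fin ((p z).natDegree + 1))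
    fun n => (p n.1).coeff n.2
  refine ⟨j, φ, fun l ψ => ?_⟩
  have hl : V ≤ c.π.app l ⁻¹ᵁ D.map (ψ ≫ φ) ⁻¹ᵁ U := le_preimage_π (ψ ≫ φ) U
  have hlW : W ≤ (m ≫ c.π.app l) ⁻¹ᵁ D.map (ψ ≫ φ) ⁻¹ᵁ U := by
    rw [Scheme.Hom.comp_preimage]; exact fun x hx => hl hx
  refine finite_app_of_appLE _ _ W ?_ hlW ?_
  · rw [Scheme.Hom.comp_preimage, ← Scheme.Hom.comp_preimage (c.π.app l), c.w]
  let fl := ((m ≫ c.π.app l).appLE (D.map (ψ ≫ φ) ⁻¹ᵁ U) W hlW).hom
  let d := ((D.map (ψ ≫ φ)).appLE U (D.map (ψ ≫ φ) ⁻¹ᵁ U) le_rfl).hom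
  have hd : fl.comp d = f₀ := by
    show ((D.map (ψ ≫ φ)).appLE U _ le_rfl ≫ (m ≫ c.π.app l).appLE _ W hlW).hom = f₀
    rw [Scheme.Hom.appLE_comp_appLE]
    simp only [Category.assoc, c.w]
    rfl
  have hgen : ∀ z : σ, fl.IsIntegralElem z.1 := fun z => by
    have hlift : p z ∈ Polynomial.lifts ((c.π.app l).appLE _ V hl).hom := by
      rw [Polynomial.lifts_iff_coeff_lifts]
      intro n
      by_cases hn : n < (p z).natDegree + 1
      · obtain ⟨y, hy⟩ := hj ⟨z, ⟨n, hn⟩⟩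
        refine ⟨(D.map ψ).appLE _ _ (by rw [D.map_comp, Scheme.Hom.comp_preimage]) y, ?_⟩
        rw [← hy, ← CommRingCat.comp_apply, Scheme.Hom.appLE_comp_appLE]
        congr 2
        simp only [c.w]
        rfl
      · exact ⟨0, by rw [map_zero, Polynomial.coeff_eq_zero_of_natDegree_lt (by omega)]⟩
    obtain ⟨q, hq, -, hqm⟩ := Polynomial.lifts_and_natDegree_eq_and_monic hlift (hp z)
    refine ⟨q, hqm, ?_⟩
    have e : fl = (m.app V).hom.comp ((c.π.app l).appLE _ V hl).hom := by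
      rw [Scheme.Hom.app_eq_appLE, ← CommRingCat.hom_comp, Scheme.Hom.appLE_comp_appLE]
    rw [e, ← Polynomial.eval₂_map, hq]
    exact hp0 z
  have hint : fl.IsIntegral := fun x => by
    have hx : x ∈ Algebra.adjoin Γ(D.obj i, U) (σ : Set Γ(Z, W)) := hσ ▸ trivial
    induction hx using Algebra.adjoin_induction with
    | mem z hz => exact hgen ⟨z, hz⟩
    | algebraMap r =>
      show fl.IsIntegralElem (f₀ r)
      rw [← hd]
      exact RingHom.isIntegralElem_map _
    | add a b _ _ ha hb => exact RingHom.IsIntegralElem.add _ ha hb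
    | mul a b _ _ ha hb => exact RingHom.IsIntegralElem.mul _ ha hb
  refine RingHom.IsIntegral.to_finite hint (RingHom.FiniteType.of_comp_finiteType (f := d) ?_)
  rw [hd]
  exact hf₀

include hc in
/-- EGA IV 8.10.5 (x), fixed source: finiteness into a limit is attained at a stage. -/
theorem exists_isFinite_comp_π {i : I} [CompactSpace (D.obj i)] {Z : Scheme.{u}} (m : Z ⟶ c.pt)
    [IsFinite m] [LocallyOfFiniteType (m ≫ c.π.app i)] :
    ∃ (j : I) (_ : j ⟶ i), IsFinite (m ≫ c.π.app j) := by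
  classical
  let 𝒰 := (D.obj i).affineCover.finiteSubcover
  let V := fun k => (𝒰.f k).opensRange
  have hVa : ∀ k, IsAffineOpen (V k) := fun k ↦
    have : IsAffine (𝒰.X k) := inferInstanceAs (IsAffine (Spec _))
    isAffineOpen_opensRange _
  have hVtop : ⨆ k, V k = ⊤ := 𝒰.isOpenCover_opensRange.iSup_eq_top
  choose j φ hj using fun k => exists_appLE_finite hc (i := i) m (hVa k)
  obtain ⟨l, g, gk, hg⟩ := IsCofiltered.wideCospan φ
  have : IsAffineHom (c.π.app l) := isAffineHom_π_app D c hc l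
  refine ⟨l, g, isFinite_of_cover _ (fun k => ⟨D.map g ⁻¹ᵁ V k, (hVa k).preimage _⟩)
    (((D.map g).preimage_iSup _).symm.trans ((congrArg (D.map g ⁻¹ᵁ ·) hVtop).trans rfl))
    fun k => ?_⟩
  have := hj k l (gk k)
  rwa [hg k] at this

end Groth.Agent.H8Lim
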