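import Groth.Agent.H8Lim.DescentProper
import Groth.Agent.H8Lim.FiniteIntoStage
import Groth.Agent.H8Lim.ProperStage

/-!
# Proper morphisms into a limit

If `Y → lim D_j` is proper and `Y` is locally of finite type over a stage, then `Y → D_j` is
proper for some `j`.
-/

set_option autoImplicit false
set_option backward.isDefEq.respectTransparency.types false
set_option maxHeartbeats 1000000
set_option synthInstance.maxHeartbeats 100000

universe u

open CategoryTheory Limits AlgebraicGeometry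

namespace Groth.Agent.H8Lim

open Groth.Agent.Et18.ProperClopen

/-- The affine case. -/
lemma exists_isProper_comp_π_of_isAffine {I : Type u} [SmallCategory I] [IsCofiltered I]
    {D : I ⥤ Scheme.{u}} {c : Cone D} (hc : IsLimit c) [∀ j, IsAffine (D.obj j)] (i : I)
    {Y : Scheme.{u}} (h : Y ⟶ c.pt) [IsProper h] [LocallyOfFiniteType (h ≫ c.π.app i)] :
    ∃ (j : I) (_ : j ⟶ i), IsProper (h ≫ c.π.app j) := by
  classical
  have : ∀ {a b} (φ : a ⟶ b), IsAffineHom (D.map φ) := fun φ => inferInstance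
  have : ∀ j, IsAffineHom (c.π.app j) := fun j => isAffineHom_π_app D c hc j
  let f := (h ≫ c.π.app i) ≫ (D.obj i).isoSpec.hom
  have : CompactSpace Y := QuasiCompact.compactSpace_of_compactSpace (h ≫ c.π.app i)
  obtain ⟨κ, _, M, hM, Es, hcl, hinj, hcov⟩ := exists_chow_cover f
  let g : ∀ k, MA Γ(D.obj i, ⊤) (M k) ⟶ Spec (CommRingCat.of Γ(D.obj i, ⊤)) := fun k ↦ gA _ (M k)
  let g' : ∀ k, MA Γ(D.obj i, ⊤) (M k) ⟶ D.obj i := fun k ↦ g k ≫ (D.obj i).isoSpec.inv
  let Z : κ → Scheme.{u} := fun k ↦ (Scheme.IdealSheafData.vanishingIdeal ⟨Es k, hcl k⟩).subscheme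
  let ι : ∀ k, Z k ⟶ pullback f (g k) := fun k ↦
    (Scheme.IdealSheafData.vanishingIdeal ⟨Es k, hcl k⟩).subschemeι
  have hι : ∀ k, Set.range (ι k) = Es k := fun k ↦ by
    rw [Scheme.IdealSheafData.range_subschemeι, Scheme.IdealSheafData.coe_support_vanishingIdeal]
    rfl
  let x : ∀ k, Z k ⟶ Y := fun k ↦ ι k ≫ pullback.fst f (g k)
  let q : ∀ k, Z k ⟶ MA Γ(D.obj i, ⊤) (M k) := fun k ↦ ι k ≫ pullback.snd f (g k)
  have hw : ∀ k, q k ≫ g' k = (x k ≫ h) ≫ c.π.app i := fun k ↦ by
    simp only [q, g', x, Category.assoc]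
    rw [← pullback.condition_assoc]
    simp [f]
  have key : ∀ k, ∃ (a : Over i), IsProper ((x k ≫ h) ≫ c.π.app a.left) := by
    intro k
    have : IsProper (g k) := MorphismProperty.pullback_snd (P := @IsProper) _ _ (hM k)
    have : IsProper (g' k) := inferInstanceAs (IsProper (g k ≫ (D.obj i).isoSpec.inv))
    have : CompactSpace (MA Γ(D.obj i, ⊤) (M k)) := QuasiCompact.compactSpace_of_compactSpace (g' k)
    have : IsProper (x k) := by
      have : IsProper (pullback.fst f (g k)) :=
        MorphismProperty.pullback_fst (P := @IsProper) _ _ ‹IsProper (g k)›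
      exact inferInstanceAs (IsProper (ι k ≫ pullback.fst f (g k)))
    have : LocallyOfFiniteType (q k) := by
      have : LocallyOfFiniteType (pullback.snd f (g k)) :=
        MorphismProperty.pullback_snd (P := @LocallyOfFiniteType) _ _ inferInstance
      exact inferInstanceAs (LocallyOfFiniteType (ι k ≫ pullback.snd f (g k)))
    have : LocallyQuasiFinite (q k) := by
      refine LocallyQuasiFinite.of_injective fun a b hab ↦ ?_
      have ha : ι k a ∈ Es k := hι k ▸ Set.mem_range_self a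
      have hb : ι k b ∈ Es k := hι k ▸ Set.mem_range_self b
      exact (ι k).isEmbedding.injective (hinj k ha hb hab)
    have sq := IsPullback.of_hasPullback (g' k) (c.π.app i)
    let cT := stageCone (g' k) c _ _ sq
    let hT : IsLimit cT := isLimitStageCone (g' k) _ _ sq hc
    let m : Z k ⟶ cT.pt := pullback.lift (q k) (x k ≫ h) (hw k)
    have hm1 : m ≫ pullback.fst (g' k) (c.π.app i) = q k := pullback.lift_fst _ _ _
    have hm2 : m ≫ pullback.snd (g' k) (c.π.app i) = x k ≫ h := pullback.lift_snd _ _ _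
    have : IsProper m := by
      have hs : IsSeparated (pullback.snd (g' k) (c.π.app i)) :=
        MorphismProperty.pullback_snd (P := @IsSeparated) _ _ inferInstance
      have hp : IsProper (m ≫ pullback.snd (g' k) (c.π.app i)) := by rw [hm2]; infer_instance
      exact MorphismProperty.of_postcomp (W := @IsProper) (W' := @IsSeparated) m _ hs hp
    have : LocallyQuasiFinite m := by
      have : LocallyQuasiFinite (m ≫ pullback.fst (g' k) (c.π.app i)) := by rw [hm1]; infer_instance
      exact LocallyQuasiFinite.of_comp m (pullback.fst (g' k) (c.π.app i))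
    have : IsFinite m := IsFinite.of_isProper_of_locallyQuasiFinite m
    have hlft : LocallyOfFiniteType (m ≫ cT.π.app (Over.mk (𝟙 i))) := by
      have hl : LocallyOfFiniteType (m ≫ pullback.fst (g' k) (c.π.app i)) := hm1.symm ▸ inferInstance
      have : LocallyOfFiniteType ((m ≫ cT.π.app (Over.mk (𝟙 i))) ≫ stageFst D (g' k) _) := by
        rw [Category.assoc]
        show LocallyOfFiniteType (m ≫ stageProj (g' k) c _ _ sq _ ≫ _)
        exact (congrArg (fun u => LocallyOfFiniteType (m ≫ u)) (stageProj_fst (g' k) c _ _ sq _)).mpr hl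
      exact locallyOfFiniteType_of_comp _ (stageFst D (g' k) _)
    obtain ⟨a, -, ha⟩ := exists_isFinite_comp_π hT (i := Over.mk (𝟙 i)) m
    refine ⟨a, ?_⟩
    have : IsProper (stageSnd D (g' k) a) :=
      MorphismProperty.of_isPullback (P := @IsProper) (isPullback_stage D (g' k) a) ‹IsProper (g' k)›
    have := MorphismProperty.comp_mem @IsProper _ _ (show IsProper (m ≫ cT.π.app a) from inferInstance) this
    rw [Category.assoc] at this
    rw [← hm2, Category.assoc]
    refine (congrArg (fun u => IsProper (m ≫ u)) (stageProj_snd (g' k) c _ _ sq a)).mp ?_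
    exact this
  choose a ha using key
  obtain ⟨l, φ, gk, hgk⟩ := IsCofiltered.wideCospan fun k => (a k).hom
  refine ⟨l, φ, ?_⟩
  have : ∀ k, UniversallyClosed (x k ≫ h ≫ c.π.app l) := fun k => by
    have : IsProper (((x k ≫ h) ≫ c.π.app l) ≫ D.map (gk k)) := by
      rw [Category.assoc, c.w]; exact ha k
    have := IsProper.of_comp ((x k ≫ h) ≫ c.π.app l) (D.map (gk k))
    rw [← Category.assoc]
    exact this.toUniversallyClosed
  have : UniversallyClosed (h ≫ c.π.app l) := by
    refine universallyClosed_of_finite_cover (h ≫ c.π.app l) _ x fun y ↦ ?_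
    obtain ⟨k, z, hz, hzy⟩ := hcov y
    obtain ⟨w, rfl⟩ := hι k ▸ hz
    exact ⟨k, w, hzy⟩
  have : LocallyOfFiniteType (h ≫ c.π.app l) := by
    have : LocallyOfFiniteType ((h ≫ c.π.app l) ≫ D.map φ) := by
      rw [Category.assoc, c.w]; infer_instance
    exact locallyOfFiniteType_of_comp _ (D.map φ)
  exact {}

/-- EGA IV 8.10.5 (xii), fixed source: properness into a limit is attained at a stage. -/
theorem exists_isProper_comp_π {I : Type u} [SmallCategory I] [IsCofiltered I]
    {D : I ⥤ Scheme.{u}} {c : Cone D} (hc : IsLimit c)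
    [∀ {a b} (φ : a ⟶ b), IsAffineHom (D.map φ)] (i : I) [CompactSpace (D.obj i)]
    {Y : Scheme.{u}} (h : Y ⟶ c.pt) [IsProper h] [LocallyOfFiniteType (h ≫ c.π.app i)] :
    ∃ (j : I) (_ : j ⟶ i), IsProper (h ≫ c.π.app j) := by
  classical
  let 𝒰 := (D.obj i).affineCover.finiteSubcover
  let V := fun k => (𝒰.f k).opensRange
  have hVa : ∀ k, IsAffineOpen (V k) := fun k ↦
    have : IsAffine (𝒰.X k) := inferInstanceAs (IsAffine (Spec _))
    isAffineOpen_opensRange _
  have hVtop : ⨆ k, V k = ⊤ := 𝒰.isOpenCover_opensRange.iSup_eq_top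
  have key : ∀ k, ∃ (j : I) (φ : j ⟶ i), IsProper ((h ≫ c.π.app j) ∣_ D.map φ ⁻¹ᵁ V k) := by
    intro k
    have : ∀ a : Over i, IsAffine ((opensDiagram D i (V k)).obj a) := fun a =>
      (hVa k).preimage (D.map a.hom)
    let h' : (h ⁻¹ᵁ c.π.app i ⁻¹ᵁ V k).toScheme ⟶ (opensCone D c i (V k)).pt :=
      h.resLE (c.π.app i ⁻¹ᵁ V k) _ le_rfl
    have : IsProper h' := isProper_resLE h _ _ rfl _
    let a₀ : Over i := Over.mk (𝟙 i)
    have hcomp : ∀ (a : Over i) e, h' ≫ (opensCone D c i (V k)).π.app a =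
        (h ≫ c.π.app a.left).resLE (D.map a.hom ⁻¹ᵁ V k) _ e := fun a e =>
      Scheme.Hom.resLE_comp_resLE _ _ _ _
    have : LocallyOfFiniteType (h' ≫ (opensCone D c i (V k)).π.app a₀) := by
      rw [hcomp a₀ (by simp [a₀])]
      show LocallyOfFiniteType ((h ≫ c.π.app i).resLE _ _ _)
      infer_instance
    obtain ⟨b, -, hb⟩ := exists_isProper_comp_π_of_isAffine (isLimitOpensCone D c hc i (V k)) a₀ h'
    refine ⟨b.left, b.hom, isProper_morphismRestrict_of_resLE _ _ (h ⁻¹ᵁ c.π.app i ⁻¹ᵁ V k) ?_ ?_ ?_⟩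
    · rw [← Scheme.Hom.comp_preimage, ← Scheme.Hom.comp_preimage, Category.assoc, c.w]
    · rw [← Scheme.Hom.comp_preimage, ← Scheme.Hom.comp_preimage, Category.assoc, c.w]
    · rwa [← hcomp]
  choose j φ hj using key
  obtain ⟨l, g, gk, hg⟩ := IsCofiltered.wideCospan φ
  refine ⟨l, g, IsZariskiLocalAtTarget.of_iSup_eq_top (P := @IsProper) (fun k => D.map g ⁻¹ᵁ V k)
    (((D.map g).preimage_iSup _).symm.trans ((congrArg (D.map g ⁻¹ᵁ ·) hVtop).trans rfl))
    fun k => ?_⟩
  have e : D.map g ⁻¹ᵁ V k = D.map (gk k) ⁻¹ᵁ D.map (φ k) ⁻¹ᵁ V k := by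
    rw [← Scheme.Hom.comp_preimage, ← D.map_comp, hg]
  rw [e]
  have := hj k
  rw [← c.w (gk k), ← Category.assoc, morphismRestrict_comp] at this
  let u := (h ≫ c.π.app l) ∣_ D.map (gk k) ⁻¹ᵁ D.map (φ k) ⁻¹ᵁ V k
  let v := D.map (gk k) ∣_ D.map (φ k) ⁻¹ᵁ V k
  have : IsProper (u ≫ v) := this
  exact IsProper.of_comp u v

end Groth.Agent.H8Lim
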