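import Groth.Agent.EGA43.FibDepth.Strata
import Groth.Agent.H8Lim.ResidueSystem
import Mathlib.AlgebraicGeometry.Morphisms.Immersion
import Mathlib.RingTheory.LocalRing.ResidueField.Ideal

/-!
# A residue field as the limit of finitely presented strata through the point
-/

set_option autoImplicit false
set_option backward.isDefEq.respectTransparency.types false

universe u

open CategoryTheory Limits AlgebraicGeometry

namespace Groth.Agent.H8Lim.StrataColim

open Groth.Agent.EGA43.FibDepth

variable {A : Type u} [CommRing A] (p : Ideal A) [p.IsPrime]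

/-- Finitely presented strata `V(I) ∩ D(g)` through `p`. -/
structure Idx : Type u where
  x : Ideal A × A
  fg : x.1.FG
  le : x.1 ≤ p
  notMem : x.2 ∉ p

instance : Preorder (Idx p) where
  le i j := i.x.1 ≤ j.x.1 ∧ i.x.2 ∣ j.x.2
  le_refl _ := ⟨le_rfl, dvd_rfl⟩
  le_trans _ _ _ h h' := ⟨h.1.trans h'.1, h.2.trans h'.2⟩

instance : Nonempty (Idx p) :=
  ⟨⟨(⊥, 1), Submodule.fg_bot, bot_le, fun h => ‹p.IsPrime›.ne_top ((Ideal.eq_top_iff_one p).2 h)⟩⟩

instance : IsDirectedOrder (Idx p) :=
  ⟨fun i j => ⟨⟨(i.x.1 ⊔ j.x.1, i.x.2 * j.x.2), Submodule.FG.sup i.fg j.fg, sup_le i.le j.le,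
    fun h => (‹p.IsPrime›.mem_or_mem h).elim i.notMem j.notMem⟩,
    ⟨le_sup_left, dvd_mul_right _ _⟩, ⟨le_sup_right, dvd_mul_left _ _⟩⟩⟩

theorem ext_stratum {x : Ideal A × A} {B : Type u} [CommRing B] {f g : StratumRing x →+* B}
    (h : ∀ a, f (algebraMap A _ a) = g (algebraMap A _ a)) : f = g :=
  IsLocalization.ringHom_ext (Submonoid.powers (Ideal.Quotient.mk x.1 x.2))
    (Ideal.Quotient.ringHom_ext (RingHom.ext fun a => by
      show f (algebraMap (A ⧸ x.1) _ (algebraMap A (A ⧸ x.1) a)) =
        g (algebraMap (A ⧸ x.1) _ (algebraMap A (A ⧸ x.1) a))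
      rw [← IsScalarTower.algebraMap_apply]
      exact h a))

theorem exists_tr {i j : Idx p} (h : i ≤ j) : Nonempty (StratumRing i.x →ₐ[A] StratumRing j.x) :=
  exists_algHom_stratumRing i.x (fun _ ha => algebraMap_stratumRing_eq_zero j.x (h.1 ha))
    (isUnit_of_dvd_unit (map_dvd _ h.2) (isUnit_stratumRing j.x))

/-- A transition map. -/
noncomputable def tr {i j : Idx p} (h : i ≤ j) : StratumRing i.x →ₐ[A] StratumRing j.x :=
  (exists_tr p h).some

/-- The diagram of strata. -/
noncomputable def diag : Idx p ⥤ CommRingCat.{u} where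
  obj i := CommRingCat.of (StratumRing i.x)
  map h := CommRingCat.ofHom (tr p (leOfHom h)).toRingHom
  map_id i := CommRingCat.hom_ext (ext_stratum fun a => (tr p (le_refl i)).commutes a)
  map_comp {i j k} f g := CommRingCat.hom_ext (ext_stratum fun a => by
    show tr p _ (algebraMap A _ a) = tr p (leOfHom g) (tr p (leOfHom f) (algebraMap A _ a))
    simp only [AlgHom.commutes])

theorem exists_toLim (i : Idx p) : Nonempty (StratumRing i.x →ₐ[A] p.ResidueField) :=
  exists_algHom_stratumRing i.x (fun _ ha => Ideal.algebraMap_residueField_eq_zero.2 (i.le ha))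
    (isUnit_iff_ne_zero.2 fun h => i.notMem (Ideal.algebraMap_residueField_eq_zero.1 h))

/-- The map of a stratum to the residue field. -/
noncomputable def toLim (i : Idx p) : StratumRing i.x →ₐ[A] p.ResidueField := (exists_toLim p i).some

/-- The cocone. -/
@[reducible]
noncomputable def cocone : Cocone (diag p) where
  pt := CommRingCat.of p.ResidueField
  ι :=
    { app := fun i => CommRingCat.ofHom (toLim p i).toRingHom
      naturality := fun i j h => CommRingCat.hom_ext (ext_stratum fun a => by
        show toLim p j (tr p (leOfHom h) (algebraMap A _ a)) = toLim p i (algebraMap A _ a)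
        simp only [AlgHom.commutes]) }

/-- The map of a stratum to the point of a cocone. -/
noncomputable def leg (c : Cocone (diag p)) (i : Idx p) : StratumRing i.x →+* c.pt := (c.ι.app i).hom

/-- The open stratum. -/
abbrev base : Idx p :=
  ⟨(⊥, 1), Submodule.fg_bot, bot_le, fun h => ‹p.IsPrime›.ne_top ((Ideal.eq_top_iff_one p).2 h)⟩

/-- The composite to the point of a cocone. -/
noncomputable def psi (c : Cocone (diag p)) : A →+* c.pt :=
  (leg p c (base p)).comp (algebraMap A (StratumRing (base p).x))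

theorem leg_algebraMap (c : Cocone (diag p)) (i : Idx p) (a : A) :
    leg p c i (algebraMap A _ a) = psi p c a := by
  have h : base p ≤ i := ⟨bot_le, one_dvd _⟩
  refine (congrArg (leg p c i) ((tr p h).commutes a)).symm.trans ?_
  exact ConcreteCategory.congr_hom (c.w (homOfLE h)) _

/-- The residue field is the colimit of the strata. -/
theorem exists_isColimit : Nonempty (IsColimit (cocone p)) := by
  have h0 : ∀ c : Cocone (diag p), p ≤ RingHom.ker (psi p c) := fun c a ha => by
    let i : Idx p := ⟨(Ideal.span {a}, 1), ⟨{a}, by simp⟩, (Ideal.span_singleton_le_iff_mem _).2 ha,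
      (base p).notMem⟩
    rw [RingHom.mem_ker, ← leg_algebraMap p c i,
      algebraMap_stratumRing_eq_zero i.x (Ideal.mem_span_singleton_self a), map_zero]
  have hu : ∀ c : Cocone (diag p), p.primeCompl ≤ (IsUnit.submonoid c.pt).comap (psi p c) :=
    fun c g hg => by
      let i : Idx p := ⟨(⊥, g), Submodule.fg_bot, bot_le, hg⟩
      show IsUnit (psi p c g)
      rw [← leg_algebraMap p c i]
      exact (isUnit_stratumRing i.x).map _
  refine ⟨{
    desc := fun c => CommRingCat.ofHom (Ideal.ResidueField.lift p (psi p c) (h0 c) (hu c))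
    fac := fun c i => CommRingCat.hom_ext (ext_stratum fun a => ?_)
    uniq := fun c m hm => CommRingCat.hom_ext (Ideal.ResidueField.ringHom_ext (RingHom.ext fun a => ?_)) }⟩
  · show Ideal.ResidueField.lift p (psi p c) (h0 c) (hu c) (toLim p i (algebraMap A _ a)) =
      leg p c i (algebraMap A _ a)
    rw [AlgHom.commutes, Ideal.ResidueField.lift_algebraMap, leg_algebraMap]
  · show m.hom (algebraMap A p.ResidueField a) =
      Ideal.ResidueField.lift p (psi p c) (h0 c) (hu c) (algebraMap A p.ResidueField a)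
    rw [Ideal.ResidueField.lift_algebraMap, ← leg_algebraMap p c (base p), ← (toLim p (base p)).commutes a]
    exact ConcreteCategory.congr_hom (hm (base p)) _

theorem isImmersion_specMap (x : Ideal A × A) :
    IsImmersion (Spec.map (CommRingCat.ofHom (algebraMap A (StratumRing x)))) := by
  rw [IsScalarTower.algebraMap_eq A (A ⧸ x.1) (StratumRing x), CommRingCat.ofHom_comp, Spec.map_comp]
  have : IsClosedImmersion (Spec.map (CommRingCat.ofHom (algebraMap A (A ⧸ x.1)))) :=
    IsClosedImmersion.spec_of_surjective _ Ideal.Quotient.mk_surjective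
  have : IsOpenImmersion (Spec.map (CommRingCat.ofHom (algebraMap (A ⧸ x.1) (StratumRing x)))) :=
    IsOpenImmersion.of_isLocalization (Ideal.Quotient.mk x.1 x.2)
  infer_instance

end Groth.Agent.H8Lim.StrataColim

namespace Groth.Agent.H8Lim

open Groth.Agent.EGA43.FibDepth

/-- A residue field is the limit of affine subschemes of finite presentation of an affine neighbourhood. -/
theorem exists_immersion_system {S : Scheme.{u}} (s : S) :
    ∃ (I : Type u) (_ : SmallCategory I) (_ : IsCofiltered I) (D : I ⥤ Scheme.{u}) (c : Cone D)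
      (_ : IsLimit c) (_ : ∀ (i j : I) (a : i ⟶ j), IsAffineHom (D.map a))
      (e : c.pt ⟶ Spec (S.residueField s)) (U : S.Opens) (t : ∀ i, D.obj i ⟶ (U : Scheme.{u})),
      IsIso e ∧ IsAffineOpen U ∧
      (∀ i, IsAffine (D.obj i) ∧ LocallyOfFinitePresentation (t i) ∧ IsImmersion (t i)) ∧
      (∀ i, c.π.app i ≫ t i ≫ U.ι = e ≫ S.fromSpecResidueField s) ∧
      ∀ ⦃i j⦄ (a : i ⟶ j), D.map a ≫ t j = t i := by
  obtain ⟨U, hU, hsU, -⟩ := exists_isAffineOpen_mem_and_subset (x := s) (U := ⊤) trivial
  let A : CommRingCat.{u} := Γ(S, U)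
  let v : Spec A := hU.primeIdealOf ⟨s, hsU⟩
  let p : Ideal A := v.asIdeal
  let j₀ : Spec A ⟶ S := hU.fromSpec
  have hv : j₀ v = s := hU.fromSpec_primeIdealOf ⟨s, hsU⟩
  let F : StrataColim.Idx p ⥤ CommRingCat.{u} := StrataColim.diag p
  obtain ⟨hcol⟩ := StrataColim.exists_isColimit p
  let D : (StrataColim.Idx p)ᵒᵖ ⥤ Scheme.{u} := F.op ⋙ Scheme.Spec
  let c : Cone D := Scheme.Spec.mapCone (StrataColim.cocone p).op
  have : IsConnected (StrataColim.Idx p)ᵒᵖ := IsCofiltered.isConnected _
  have hc : IsLimit c := isLimitOfPreserves Scheme.Spec hcol.op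
  let t₀ : ∀ i, D.obj i ⟶ Spec A := fun i =>
    Spec.map (CommRingCat.ofHom (algebraMap A (StratumRing i.unop.x)))
  have : IsIso (j₀.residueFieldMap v) := inferInstanceAs (IsIso (hU.fromSpec.residueFieldMap v))
  let e : c.pt ⟶ Spec (S.residueField s) :=
    Spec.map (Scheme.Spec.residueFieldIso A v).hom ≫ Spec.map (j₀.residueFieldMap v) ≫
      Spec.map (S.residueFieldCongr hv.symm).hom
  refine ⟨_, inferInstance, inferInstance, D, c, hc, fun i j a => ?_, e, U,
    fun i => t₀ i ≫ hU.isoSpec.inv, ?_, hU, fun i => ?_, fun i => ?_, fun i j a => ?_⟩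
  · have : IsAffine (D.obj i) := inferInstanceAs (IsAffine (Spec (CommRingCat.of _)))
    have : IsAffine (D.obj j) := inferInstanceAs (IsAffine (Spec (CommRingCat.of _)))
    infer_instance
  · exact inferInstanceAs (IsIso (Spec.map (Scheme.Spec.residueFieldIso A v).hom ≫
      Spec.map (j₀.residueFieldMap v) ≫ Spec.map (S.residueFieldCongr hv.symm).hom))
  · have := finitePresentation_stratumRing i.unop.x i.unop.fg
    have : LocallyOfFinitePresentation (t₀ i) := by
      rw [HasRingHomProperty.Spec_iff (P := @LocallyOfFinitePresentation.{u})]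
      exact (RingHom.finitePresentation_algebraMap (A := A) (B := StratumRing i.unop.x)).2 inferInstance
    have : IsImmersion (t₀ i) := StrataColim.isImmersion_specMap i.unop.x
    exact ⟨inferInstanceAs (IsAffine (Spec (CommRingCat.of _))),
      inferInstanceAs (LocallyOfFinitePresentation (t₀ i ≫ hU.isoSpec.inv)),
      inferInstanceAs (IsImmersion (t₀ i ≫ hU.isoSpec.inv))⟩
  · have h1 : c.π.app i ≫ t₀ i = Spec.map (CommRingCat.ofHom (algebraMap A p.ResidueField)) := by
      show Spec.map (CommRingCat.ofHom (StrataColim.toLim p i.unop).toRingHom) ≫ Spec.map _ = _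
      rw [← Spec.map_comp]
      congr 1
      exact CommRingCat.hom_ext (StrataColim.toLim p i.unop).comp_algebraMap
    have h2 : Spec.map (Scheme.Spec.residueFieldIso A v).hom ≫ (Spec A).fromSpecResidueField v =
        Spec.map (CommRingCat.ofHom (algebraMap A p.ResidueField)) := by
      rw [← Scheme.Spec.map_residueFieldIso_inv_eq_fromSpecResidueField, ← Spec.map_comp_assoc,
        Iso.inv_hom_id, Spec.map_id, Category.id_comp]
    show c.π.app i ≫ (t₀ i ≫ hU.isoSpec.inv) ≫ U.ι = e ≫ S.fromSpecResidueField s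
    have h3 : hU.isoSpec.inv ≫ U.ι = j₀ := hU.isoSpec_inv_ι
    rw [Category.assoc, reassoc_of% h1, h3, ← h2]
    simp only [e, Category.assoc]
    rw [Scheme.residueFieldCongr_fromSpecResidueField hv.symm, Scheme.Hom.SpecMap_residueFieldMap_fromSpecResidueField]
  · have h1 : D.map a ≫ t₀ j = t₀ i := by
      show Spec.map (CommRingCat.ofHom (StrataColim.tr p (leOfHom a.unop)).toRingHom) ≫ Spec.map _ = Spec.map _
      rw [← Spec.map_comp]
      congr 1
      exact CommRingCat.hom_ext (StrataColim.tr p (leOfHom a.unop)).comp_algebraMap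
    show D.map a ≫ t₀ j ≫ hU.isoSpec.inv = t₀ i ≫ hU.isoSpec.inv
    rw [reassoc_of% h1]

end Groth.Agent.H8Lim
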