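import Groth.Agent.H8Lim.ModFPDescent
import Groth.Agent.H8Lim.ModLocFree
import Groth.Agent.PicLib.FiniteSetTriv
import Groth.Agent.KRRPBLib.Basic
import Groth.Agent.KLLib.Basic
import Groth.Agent.AmpleLib.Ample
import Groth.Agent.Props12.FinLocFree

/-!
# Invertible modules on a limit of morphisms come from a stage
-/

set_option autoImplicit false
set_option maxHeartbeats 1600000
set_option backward.isDefEq.respectTransparency.types false
set_option linter.style.haveILetI false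

universe u

open CategoryTheory CategoryTheory.Limits AlgebraicGeometry

namespace Groth.Agent.H8Lim

variable {I : Type u} [SmallCategory I] [IsCofiltered I] {D : I ⥤ Scheme.{u}} {c : Cone D}
  [∀ {i j : I} (f : i ⟶ j), IsAffineHom (D.map f)] (hc : IsLimit c)

include hc in
/-- An invertible module on the limit of a morphism comes from a stage. -/
theorem exists_stage_invertible [∀ i, CompactSpace (D.obj i)] [∀ i, QuasiSeparatedSpace (D.obj i)]
    {i₀ : I} {X₀ Y₀ : Scheme.{u}} (f₀ : X₀ ⟶ Y₀) (g₀ : Y₀ ⟶ D.obj i₀)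
    [QuasiCompact (f₀ ≫ g₀)] [QuasiSeparated (f₀ ≫ g₀)]
    {X Y : Scheme.{u}} {f : X ⟶ Y} {g : Y ⟶ c.pt} {qY : Y ⟶ Y₀} {qX : X ⟶ X₀}
    (hY : IsPullback qY g g₀ (c.π.app i₀)) (hX : IsPullback qX f f₀ qY)
    (L : X.Modules) (hL : PicF.IsInvertible L) :
    ∃ (j : I) (φ : j ⟶ i₀) (Xj Yj : Scheme.{u}) (fj : Xj ⟶ Yj) (gj : Yj ⟶ D.obj j)
      (pY : Yj ⟶ Y₀) (pX : Xj ⟶ X₀) (qYj : Y ⟶ Yj) (qXj : X ⟶ Xj) (Lj : Xj.Modules),
      IsPullback pY gj g₀ (D.map φ) ∧ IsPullback pX fj f₀ pY ∧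
        IsPullback qYj g gj (c.π.app j) ∧ IsPullback qXj f fj qYj ∧
        qYj ≫ pY = qY ∧ qXj ≫ pX = qX ∧
        PicF.IsInvertible Lj ∧ Nonempty ((Scheme.Modules.pullback qXj).obj Lj ≅ L) := by
  have := fun {j k : Over i₀} (a : j ⟶ k) =>
    (inferInstance : IsAffineHom ((stage D (f₀ ≫ g₀)).map a))
  have : ∀ k : Over i₀, CompactSpace ((stage D (f₀ ≫ g₀)).obj k) := fun k =>
    have : QuasiCompact (stageSnd D (f₀ ≫ g₀) k) :=
      MorphismProperty.of_isPullback (isPullback_stage D (f₀ ≫ g₀) k) ‹QuasiCompact (f₀ ≫ g₀)›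
    QuasiCompact.compactSpace_of_compactSpace (stageSnd D (f₀ ≫ g₀) k)
  have : ∀ k : Over i₀, QuasiSeparatedSpace ((stage D (f₀ ≫ g₀)).obj k) := fun k =>
    have : QuasiSeparated (stageSnd D (f₀ ≫ g₀) k) :=
      MorphismProperty.of_isPullback (isPullback_stage D (f₀ ≫ g₀) k) ‹QuasiSeparated (f₀ ≫ g₀)›
    quasiSeparatedSpace_of_quasiSeparated (stageSnd D (f₀ ≫ g₀) k)
  have sq := hX.paste_vert hY
  have hlim := isLimitStageCone (f₀ ≫ g₀) qX (f ≫ g) sq hc
  have hLfin : FlatMod.IsFinLocFree L := fun x => by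
    obtain ⟨U, hxU, h⟩ := PicLib.isFinLocFreeOfRank_one hL x
    exact ⟨U, 1, hxU, h⟩
  have : Coh.IsQCoh (X := (stageCone (f₀ ≫ g₀) c qX (f ≫ g) sq).pt) L :=
    AmpleLib.isQCoh_of_isInvertible hL
  have hLfp : CohB1.IsFP L :=
    have := AmpleLib.isQCoh_of_isInvertible hL
    Props12.isFP_of_isFinLocFree L hLfin
  obtain ⟨k, -, F, hF, hFP, ⟨e⟩⟩ := exists_stage_fpModule hlim (i := Over.mk (𝟙 i₀)) L
    hLfp
  have := hF
  obtain ⟨o, a, hr⟩ := (isFinLocFreeOfRank_iff_eventually hlim F hFP 1).1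
    (PicLib.isFinLocFreeOfRank_one (KLLib.isInvertible_of_iso e.symm hL))
  let pY := pullback.fst g₀ (D.map o.hom)
  let gj := pullback.snd g₀ (D.map o.hom)
  let fj : (stage D (f₀ ≫ g₀)).obj o ⟶ pullback g₀ (D.map o.hom) :=
    pullback.lift (stageFst D (f₀ ≫ g₀) o ≫ f₀) (stageSnd D (f₀ ≫ g₀) o)
      ((Category.assoc _ _ _).trans (isPullback_stage D (f₀ ≫ g₀) o).w)
  have hYj : IsPullback pY gj g₀ (D.map o.hom) := IsPullback.of_hasPullback _ _
  have hXj : IsPullback (stageFst D (f₀ ≫ g₀) o) fj f₀ pY :=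
    IsPullback.of_bot (by rw [show fj ≫ gj = _ from pullback.lift_snd _ _ _]; exact isPullback_stage D _ o)
      (pullback.lift_fst _ _ _).symm hYj
  have hw : qY ≫ g₀ = (g ≫ c.π.app o.left) ≫ D.map o.hom := by
    rw [Category.assoc, c.w]; exact hY.w
  let qYj := hYj.lift qY (g ≫ c.π.app o.left) hw
  let qXj := stageProj (f₀ ≫ g₀) c qX (f ≫ g) sq o
  have e1 : qYj ≫ pY = qY := hYj.lift_fst _ _ _
  have e2 : qXj ≫ stageFst D (f₀ ≫ g₀) o = qX := stageProj_fst _ _ _ _ _ _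
  have hYc : IsPullback qYj g gj (c.π.app o.left) :=
    IsPullback.of_right (by rw [e1, c.w]; exact hY) (hYj.lift_snd _ _ _) hYj
  have w : qXj ≫ fj = f ≫ qYj := by
    apply hYj.hom_ext
    · rw [Category.assoc, Category.assoc, e1, ← hXj.w, reassoc_of% e2]
      exact hX.w
    · rw [Category.assoc, Category.assoc, ← hYc.w.symm,
        show fj ≫ gj = stageSnd D _ o from pullback.lift_snd _ _ _]
      exact (stageProj_snd _ _ _ _ _ _).trans (Category.assoc _ _ _)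
  refine ⟨o.left, o.hom, _, _, fj, gj, pY, _, qYj, qXj,
    (Scheme.Modules.pullback ((stage D (f₀ ≫ g₀)).map a)).obj F, hYj, hXj, hYc,
    IsPullback.of_right (by rw [e1, e2]; exact hX) w hXj, e1, e2, KRRPBLib.isInvertible_of_rankOne hr,
    ⟨(pullStageIso (stageCone (f₀ ≫ g₀) c qX (f ≫ g) sq) a).app F ≪≫ e⟩⟩

end Groth.Agent.H8Lim
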