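import Mathlib

/-!
# Affine Zariski covers of cofinite inverse systems
-/

set_option autoImplicit false
set_option linter.style.haveILetI false
set_option backward.isDefEq.respectTransparency.types false

universe u v

open CategoryTheory Limits AlgebraicGeometry TopologicalSpace Opposite

namespace Groth.Agent.H8Lim.AffineCoverSystem

variable {Λ : Type v} [PartialOrder Λ]

/-- Finite down-sets give well-foundedness. -/
theorem wf_lt (hΛ : ∀ l : Λ, (Set.Iic l).Finite) : WellFounded (fun a b : Λ => a < b) := by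
  refine Subrelation.wf (r := InvImage (· < ·) fun l => (hΛ l).toFinset.card) (fun {a b} hab => ?_)
    (InvImage.wf _ Nat.lt_wfRel.wf)
  refine Finset.card_lt_card ⟨fun x hx => ?_, fun h => ?_⟩
  · simp only [Set.Finite.mem_toFinset, Set.mem_Iic] at hx ⊢
    exact hx.trans hab.le
  · have := h (show b ∈ (hΛ b).toFinset by simp)
    simp only [Set.Finite.mem_toFinset, Set.mem_Iic] at this
    exact hab.not_ge this

variable (hΛ : ∀ l : Λ, (Set.Iic l).Finite) (X : Λᵒᵖ ⥤ Scheme.{u})

/-- Transition maps. -/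
abbrev tr {m l : Λ} (h : m ≤ l) : X.obj (op l) ⟶ X.obj (op m) := X.map (homOfLE h).op

theorem tr_tr {n m l : Λ} (h : n ≤ m) (h' : m ≤ l) : tr X h' ≫ tr X h = tr X (h.trans h') := by
  rw [← Functor.map_comp]; rfl

/-- Intersection of the preimages of a family on the smaller indices. -/
noncomputable def inter (m : Λ) (fam : ∀ n, n < m → (X.obj (op n)).Opens) : (X.obj (op m)).Opens :=
  letI : Finite {n // n < m} := ((hΛ m).subset fun n (hn : n < m) => hn.le).to_subtype
  letI := Fintype.ofFinite {n // n < m}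
  Finset.univ.inf fun n : {n // n < m} => tr X n.2.le ⁻¹ᵁ fam n.1 n.2

theorem inter_le (m : Λ) (fam : ∀ n, n < m → (X.obj (op n)).Opens) {n : Λ} (h : n < m) :
    inter hΛ X m fam ≤ tr X h.le ⁻¹ᵁ fam n h := by
  unfold inter
  exact Finset.inf_le (α := (X.obj (op m)).Opens) (β := {n // n < m}) (b := ⟨n, h⟩) (@Finset.mem_univ _ (_) _)

theorem mem_inter (m : Λ) (fam : ∀ n, n < m → (X.obj (op n)).Opens) {x : X.obj (op m)}
    (hx : ∀ n (h : n < m), tr X h.le x ∈ fam n h) : x ∈ inter hΛ X m fam := by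
  classical
  letI : Finite {n // n < m} := ((hΛ m).subset fun n (hn : n < m) => hn.le).to_subtype
  letI := Fintype.ofFinite {n // n < m}
  have : ∀ s : Finset {n // n < m}, x ∈ s.inf fun n => tr X n.2.le ⁻¹ᵁ fam n.1 n.2 := by
    intro s
    induction s using Finset.induction_on with
    | empty => rw [Finset.inf_empty]; trivial
    | insert a s _ ih => rw [Finset.inf_insert]; exact ⟨hx a.1 a.2, ih⟩
  exact this _

variable (hqc : ∀ l : Λ, CompactSpace ↥(X.obj (op l))) (hqs : ∀ l : Λ, QuasiSeparatedSpace ↥(X.obj (op l)))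

include hqc hqs in
theorem isCompact_inter (m : Λ) (fam : ∀ n, n < m → (X.obj (op n)).Opens)
    (hfam : ∀ n h, IsCompact (fam n h : Set (X.obj (op n)))) :
    IsCompact (inter hΛ X m fam : Set (X.obj (op m))) := by
  classical
  letI : Finite {n // n < m} := ((hΛ m).subset fun n (hn : n < m) => hn.le).to_subtype
  letI := Fintype.ofFinite {n // n < m}
  have := hqc m
  have := hqs m
  have : ∀ s : Finset {n // n < m},
      IsCompact ((s.inf fun n => tr X n.2.le ⁻¹ᵁ fam n.1 n.2 : (X.obj (op m)).Opens) : Set (X.obj (op m))) := by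
    intro s
    induction s using Finset.induction_on with
    | empty => rw [Finset.inf_empty, Opens.coe_top]; exact isCompact_univ
    | insert a s _ ih =>
      rw [Finset.inf_insert, Opens.coe_inf]
      have := hqs a.1
      exact (QuasiCompact.isCompact_preimage (f := tr X a.2.le) _ (fam a.1 a.2).2 (hfam a.1 a.2)).inter_of_isOpen
        ih (tr X a.2.le ⁻¹ᵁ fam a.1 a.2).2 (s.inf fun n => tr X n.2.le ⁻¹ᵁ fam n.1 n.2).2
  exact this _

open scoped Classical in
/-- A chosen finite affine cover of a compact open. -/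
noncomputable def cover {m : Λ} (O : (X.obj (op m)).Opens) : Set (X.obj (op m)).affineOpens :=
  if h : IsCompact (O : Set (X.obj (op m))) then (isCompact_iff_finite_and_eq_biUnion_affineOpens.mp h).choose else ∅

theorem cover_finite {m : Λ} (O : (X.obj (op m)).Opens) : (cover X O).Finite := by
  unfold cover
  split
  · next h => exact (isCompact_iff_finite_and_eq_biUnion_affineOpens.mp h).choose_spec.1
  · exact Set.finite_empty

theorem le_of_mem_cover {m : Λ} {O : (X.obj (op m)).Opens} {U : (X.obj (op m)).affineOpens} (hU : U ∈ cover X O) :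
    U.1 ≤ O := by
  unfold cover at hU
  split at hU
  · next h =>
    rw [(isCompact_iff_finite_and_eq_biUnion_affineOpens.mp h).choose_spec.2]
    exact le_iSup₂ (f := fun (i : (X.obj (op m)).affineOpens) (_ : i ∈ _) => i.1) U hU
  · exact hU.elim

theorem exists_mem_cover {m : Λ} {O : (X.obj (op m)).Opens} (hO : IsCompact (O : Set (X.obj (op m))))
    {x : X.obj (op m)} (hx : x ∈ O) : ∃ U ∈ cover X O, x ∈ U.1 := by
  unfold cover
  rw [dif_pos hO]
  rw [(isCompact_iff_finite_and_eq_biUnion_affineOpens.mp hO).choose_spec.2] at hx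
  simpa only [Opens.mem_iSup, exists_prop] using hx

/-- Compatible choices of affine opens below `l`. -/
def Label (l : Λ) : Type (max u v) :=
  {W : ∀ m, m ≤ l → (X.obj (op m)).affineOpens //
    ∀ m (hm : m ≤ l), W m hm ∈ cover X (inter hΛ X m fun n hn => (W n (hn.le.trans hm)).1)}

variable {hΛ X}

/-- The affine open of a label. -/
def Label.top {l : Λ} (a : Label hΛ X l) : (X.obj (op l)).affineOpens := a.1 l le_rfl

/-- Restriction of labels. -/
def Label.res {m l : Λ} (h : m ≤ l) (a : Label hΛ X l) : Label hΛ X m :=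
  ⟨fun n hn => a.1 n (hn.trans h), fun n hn => a.2 n (hn.trans h)⟩

theorem Label.le_preimage {m l : Λ} (h : m ≤ l) (a : Label hΛ X l) :
    a.top.1 ≤ tr X h ⁻¹ᵁ (a.res h).top.1 := by
  rcases h.eq_or_lt with rfl | h'
  · intro x hx
    show tr X h x ∈ a.top.1
    rwa [show tr X h = 𝟙 _ from X.map_id (op m)]
  · exact (le_of_mem_cover X (a.2 l le_rfl)).trans (inter_le hΛ X l _ h')

variable (hΛ X)

theorem finite_label (l : Λ) : Finite (Label hΛ X l) := by
  classical
  have hT : ∀ m, ∀ hm : m ≤ l, (Set.range fun a : Label hΛ X l => a.1 m hm).Finite := fun m => by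
    induction m using (wf_lt hΛ).induction with
    | _ m ih =>
      intro hm
      letI : Finite {n // n < m} := ((hΛ m).subset fun n (hn : n < m) => hn.le).to_subtype
      let T : ∀ n : {n // n < m}, Set (X.obj (op n.1)).affineOpens := fun n => Set.range fun a : Label hΛ X l => a.1 n.1 (n.2.le.trans hm)
      haveI : ∀ n, Finite (T n) := fun n => (ih n.1 n.2 _).to_subtype
      refine (Set.finite_iUnion (fun f : ∀ n, T n =>
        cover_finite X (inter hΛ X m fun n hn => (f ⟨n, hn⟩).1.1))).subset ?_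
      rintro _ ⟨a, rfl⟩
      exact Set.mem_iUnion.mpr ⟨fun n => ⟨a.1 n.1 (n.2.le.trans hm), a, rfl⟩, a.2 m hm⟩
  letI : Finite {m // m ≤ l} := (hΛ l).to_subtype
  haveI : ∀ m : {m // m ≤ l}, Finite (Set.range fun a : Label hΛ X l => a.1 m.1 m.2) :=
    fun m => (hT m.1 m.2).to_subtype
  refine Finite.of_injective
    (β := ∀ m : {m // m ≤ l}, Set.range fun a : Label hΛ X l => a.1 m.1 m.2)
    (fun a m => ⟨a.1 m.1 m.2, a, rfl⟩) fun a b hab => ?_
  refine Subtype.ext (funext fun m => funext fun hm => ?_)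
  exact congrArg Subtype.val (congrFun hab ⟨m, hm⟩)

include hqc hqs in
/-- The canonical label containing a point. -/
theorem exists_label (l : Λ) (x : X.obj (op l)) : ∃ a : Label hΛ X l, x ∈ a.top.1 := by
  classical
  let step : ∀ m, (∀ n, n < m → ∀ y : X.obj (op n), {U : (X.obj (op n)).affineOpens // y ∈ U.1}) →
      ∀ y : X.obj (op m), {U : (X.obj (op m)).affineOpens // y ∈ U.1} := fun m c y =>
    let O := inter hΛ X m fun n hn => (c n hn (tr X hn.le y)).1.1
    have h := exists_mem_cover X (O := O)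
      (isCompact_inter hΛ X hqc hqs m _ fun n hn => (c n hn (tr X hn.le y)).1.2.isCompact)
      (mem_inter hΛ X m _ fun n hn => (c n hn (tr X hn.le y)).2)
    ⟨h.choose, h.choose_spec.2⟩
  let c := (wf_lt hΛ).fix step
  have hc : ∀ m (y : X.obj (op m)),
      (c m y).1 ∈ cover X (inter hΛ X m fun n hn => (c n (tr X hn.le y)).1.1) := fun m y => by
    have e : c m = step m fun n _ => c n := (wf_lt hΛ).fix_eq step m
    rw [e]
    dsimp only [step]
    exact And.left (Exists.choose_spec (exists_mem_cover X (isCompact_inter hΛ X hqc hqs m _ fun n hn => (c n (tr X hn.le y)).1.2.isCompact) (mem_inter hΛ X m _ fun n hn => (c n (tr X hn.le y)).2)))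
  refine ⟨⟨fun m hm => (c m (tr X hm x)).1, fun m hm => ?_⟩, ?_⟩
  · convert hc m (tr X hm x) using 6 with n hn
    rw [← Scheme.Hom.comp_apply, tr_tr]
  · show x ∈ (c l (tr X le_rfl x)).1.1
    have := (c l x).2
    rwa [show tr X (le_refl l) = 𝟙 _ from X.map_id (op l)]

/-- The covering scheme. -/
noncomputable def Y : Λᵒᵖ ⥤ Scheme.{u} :=
  haveI := finite_label hΛ X
  { obj := fun l => ∐ fun a : Label hΛ X l.unop => a.top.1.toScheme
    map := fun {l m} f => Sigma.desc fun a =>
      (tr X (leOfHom f.unop)).resLE _ _ (a.le_preimage (leOfHom f.unop)) ≫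
        Sigma.ι (fun b : Label hΛ X m.unop => b.top.1.toScheme) (a.res (leOfHom f.unop))
    map_id := fun l => by
      refine Sigma.hom_ext _ _ fun a => ?_
      rw [Sigma.ι_desc, Category.comp_id]
      refine (congrArg (· ≫ Sigma.ι (fun b : Label hΛ X l.unop => b.top.1.toScheme) a) ?_).trans (Category.id_comp _)
      rw [← cancel_mono a.top.1.ι, Category.id_comp]
      refine (Scheme.Hom.resLE_comp_ι _ _).trans ?_
      rw [show tr X (leOfHom (𝟙 l).unop) = 𝟙 _ from X.map_id l, Category.comp_id]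
    map_comp := fun {l m n} f g => by
      refine Sigma.hom_ext _ _ fun a => ?_
      rw [Sigma.ι_desc, Sigma.ι_desc_assoc, Category.assoc, Sigma.ι_desc, Scheme.Hom.resLE_comp_resLE_assoc]
      simp only [tr_tr]
      rfl }

/-- The covering map. -/
noncomputable def π : Y hΛ X ⟶ X :=
  haveI := finite_label hΛ X
  { app := fun l => Sigma.desc fun a : Label hΛ X l.unop => a.top.1.ι
    naturality := fun {l m} f => by
      refine Sigma.hom_ext _ _ fun a => ?_
      simp only [Y, Sigma.ι_desc_assoc, Category.assoc, Sigma.ι_desc, Scheme.Hom.resLE_comp_ι]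
      rfl }

include hΛ hqc hqs in
theorem exists_system :
    ∃ (Y : Λᵒᵖ ⥤ Scheme.{u}) (π : Y ⟶ X), ∀ l : Λ,
      IsAffine (Y.obj (op l)) ∧ Surjective (π.app (op l)) ∧
        ∃ (ι : Type u) (U : ι → (Y.obj (op l)).Opens),
          Pairwise (fun i j => Disjoint (U i) (U j)) ∧ iSup U = ⊤ ∧
            ∀ i, IsOpenImmersion ((U i).ι ≫ π.app (op l)) := by
  refine ⟨Y hΛ X, π hΛ X, fun l => ?_⟩
  haveI := finite_label hΛ X l
  let g : Label hΛ X l → Scheme.{u} := fun a => a.top.1.toScheme
  haveI : ∀ a, IsAffine (g a) := fun a => a.top.2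
  let p : ∐ g ⟶ X.obj (op l) := Sigma.desc fun a => a.top.1.ι
  refine ⟨inferInstanceAs (IsAffine (∐ g)), ⟨fun x => ?_⟩, ?_⟩
  · obtain ⟨a, ha⟩ := exists_label hΛ X hqc hqs l x
    refine ⟨Sigma.ι g a ⟨x, ha⟩, ?_⟩
    show p (Sigma.ι g a ⟨x, ha⟩) = x
    rw [← Scheme.Hom.comp_apply, Sigma.ι_desc]
    rfl
  · let e := equivShrink.{u} (Label hΛ X l)
    let U : Shrink.{u} (Label hΛ X l) → (∐ g : Scheme.{u}).Opens := fun i => (Sigma.ι g (e.symm i)).opensRange
    refine ⟨Shrink.{u} (Label hΛ X l), U, fun i j hij => ?_, ?_, fun i => ?_⟩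
    · exact disjoint_opensRange_sigmaι g _ _ fun h => hij (e.symm.injective h)
    · show iSup U = ⊤
      rw [eq_top_iff]
      intro y _
      obtain ⟨a, z, rfl⟩ := (sigmaOpenCover g).exists_eq y
      refine Opens.mem_iSup.mpr ⟨e a, ?_⟩
      show _ ∈ (Sigma.ι g (e.symm (e a))).opensRange
      rw [show e.symm (e a) = a from e.symm_apply_apply a]
      exact ⟨z, rfl⟩
    · show IsOpenImmersion ((U i).ι ≫ p)
      rw [← Scheme.Hom.isoOpensRange_inv_comp (Sigma.ι g (e.symm i)), Category.assoc, Sigma.ι_desc]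
      infer_instance

end Groth.Agent.H8Lim.AffineCoverSystem
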