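import Groth.Agent.AmpleLib.Ample

/-!
Affine loci of sections of powers of an ample module through the image of the spectrum of an
integral algebra over a field (homogeneous prime avoidance).
-/

set_option autoImplicit false
set_option backward.isDefEq.respectTransparency.types false
set_option backward.isDefEq.respectTransparency false

universe u

open CategoryTheory CategoryTheory.Limits AlgebraicGeometry Opposite TopologicalSpace
open Groth.Agent.Coherent Groth.Agent.PicLib Groth.Agent.AmpleLib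

namespace Groth.Agent.H8Lim.AmpleAvoidance

/-- A homogeneous expression, evaluated. -/
def ev {σ ι : Type*} [Fintype ι] {S : Type*} [CommRing S] {d : ℕ} (c : ι → ℤ) (w : ι → Fin d → σ)
    (v : σ → S) : S :=
  ∑ i, c i • ∏ k, v (w i k)

theorem map_ev {σ ι : Type*} [Fintype ι] {S S' : Type*} [CommRing S] [CommRing S'] {d : ℕ}
    (c : ι → ℤ) (w : ι → Fin d → σ) (v : σ → S) (φ : S →+* S') :
    φ (ev c w v) = ev c w (fun j => φ (v j)) := by
  simp only [ev, map_sum, map_zsmul, map_prod]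

theorem ev_mul {σ ι : Type*} [Fintype ι] {S : Type*} [CommRing S] {d : ℕ} (c : ι → ℤ)
    (w : ι → Fin d → σ) (v : σ → S) (a : S) :
    ev c w (fun j => v j * a) = ev c w v * a ^ d := by
  simp only [ev, Finset.prod_mul_distrib, Finset.prod_const, Finset.card_univ, Fintype.card_fin,
    Finset.sum_mul, smul_mul_assoc]

/-- Homogeneous prime avoidance for finitely many nonzero vectors. -/
theorem exists_ev_ne_zero {σ : Type u} {κ : Type u} [Finite κ] (K : κ → Type u)
    [∀ z, CommRing (K z)] [∀ z, IsDomain (K z)] (v : ∀ z, σ → K z) (hv : ∀ z, ∃ i, v z i ≠ 0) :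
    ∃ (d : ℕ) (_ : 0 < d) (ι : Type u) (_ : Fintype ι) (c : ι → ℤ) (w : ι → Fin d → σ),
      ∀ z, ev c w (v z) ≠ 0 := by
  classical
  have : Fintype κ := Fintype.ofFinite κ
  let P : κ → Set (MvPolynomial σ ℤ) := fun z =>
    {F | (∃ d, F.IsHomogeneous d) ∧ MvPolynomial.aeval (v z) F = 0}
  have key : ∀ s : Finset κ, ∃ (d : ℕ) (F : MvPolynomial σ ℤ), 0 < d ∧ F.IsHomogeneous d ∧
      ∀ z ∈ s, MvPolynomial.aeval (v z) F ≠ 0 := by
    intro s
    induction s using Finset.strongInduction with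
    | H s ih =>
      rcases s.eq_empty_or_nonempty with rfl | hs
      · exact ⟨1, 0, one_pos, MvPolynomial.isHomogeneous_zero _ _ _, by simp⟩
      obtain ⟨z₀, hz₀, hmin⟩ := s.exists_minimalFor P hs
      obtain ⟨d, F, hd, hF, hFne⟩ := ih (s.erase z₀) (Finset.erase_ssubset hz₀)
      by_cases h0 : MvPolynomial.aeval (v z₀) F = 0
      swap
      · refine ⟨d, F, hd, hF, fun z hz => ?_⟩
        rcases eq_or_ne z z₀ with rfl | hne
        · exact h0
        · exact hFne z (Finset.mem_erase.mpr ⟨hne, hz⟩)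
      have hsep : ∀ z : s.erase z₀, ∃ (e : ℕ) (H : MvPolynomial σ ℤ), H.IsHomogeneous e ∧
          MvPolynomial.aeval (v z.1) H = 0 ∧ MvPolynomial.aeval (v z₀) H ≠ 0 := by
        rintro ⟨z, hz⟩
        by_contra hcon
        push Not at hcon
        have hle : P z ⊆ P z₀ := fun H hH => ⟨hH.1, by
          obtain ⟨⟨e, he⟩, hH0⟩ := hH
          exact hcon e H he hH0⟩
        exact hFne z hz (hmin (Finset.mem_of_mem_erase hz) hle ⟨⟨d, hF⟩, h0⟩).2
      choose e H hH hHz hH0 using hsep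
      obtain ⟨i₀, hi₀⟩ := hv z₀
      let G : MvPolynomial σ ℤ := MvPolynomial.X i₀ * ∏ z, H z
      have hG : G.IsHomogeneous (1 + ∑ z, e z) :=
        (MvPolynomial.isHomogeneous_X _ _).mul (MvPolynomial.IsHomogeneous.prod _ _ _ fun z _ => hH z)
      refine ⟨d * (1 + ∑ z, e z), F ^ (1 + ∑ z, e z) + G ^ d, Nat.mul_pos hd (by omega),
        (hF.pow _).add (by have := hG.pow d; rwa [mul_comm] at this), fun z hz => ?_⟩
      rcases eq_or_ne z z₀ with rfl | hne
      · simp only [map_add, map_pow, h0, G, map_mul, map_prod, MvPolynomial.aeval_X,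
          zero_pow (show 1 + ∑ z, e z ≠ 0 by omega), zero_add]
        exact pow_ne_zero _ (mul_ne_zero hi₀ (Finset.prod_ne_zero_iff.mpr fun z _ => hH0 z))
      · have hz' : z ∈ s.erase z₀ := Finset.mem_erase.mpr ⟨hne, hz⟩
        have hG0 : MvPolynomial.aeval (v z) G = 0 := by
          simp only [G, map_mul, map_prod]
          rw [Finset.prod_eq_zero (Finset.mem_univ ⟨z, hz'⟩) (hHz ⟨z, hz'⟩), mul_zero]
        simp only [map_add, map_pow, hG0, zero_pow hd.ne', add_zero]
        exact pow_ne_zero _ (hFne z hz')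
  obtain ⟨d, F, hd, hF, hne⟩ := key Finset.univ
  have hword : ∀ m : F.support, ∃ w : Fin d → σ, ∀ z, ∏ k, v z (w k) = m.1.prod fun i n => v z i ^ n := by
    rintro ⟨m, hm⟩
    have hdeg : m.degree = d := by
      rw [Finsupp.degree_eq_weight_one]
      exact hF (MvPolynomial.mem_support_iff.mp hm)
    let l := (Finsupp.toMultiset m).toList
    have hlen : l.length = d := by
      rw [Multiset.length_toList, Finsupp.card_toMultiset]
      exact hdeg
    refine ⟨fun k => l[k.1]'(by omega), fun z => ?_⟩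
    subst hlen
    rw [← List.prod_ofFn, List.ofFn_getElem_eq_map l (v z)]
    rw [← Multiset.prod_coe, ← Multiset.map_coe, Multiset.coe_toList, Finsupp.toMultiset_map]
    rw [Finsupp.prod_toMultiset, Finsupp.prod_mapDomain_index (by simp) (fun _ _ _ => pow_add _ _ _)]
  choose w hw using hword
  refine ⟨d, hd, F.support, inferInstance, fun m => F.coeff m.1, w, fun z => ?_⟩
  have e : ev (fun m : F.support => F.coeff m.1) w (v z) = MvPolynomial.aeval (v z) F := by
    rw [MvPolynomial.aeval_def, MvPolynomial.eval₂_eq, ← Finset.sum_coe_sort, ev]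
    refine Finset.sum_congr rfl fun m _ => ?_
    rw [hw m z, zsmul_eq_mul, eq_intCast]
    rfl
  rw [e]
  exact hne z (Finset.mem_univ z)

variable {X : Scheme.{u}} {L : X.Modules}

/-- The section attached to a word. -/
noncomputable def secW {σ : Type u} (b : σ → Γ(L, ⊤)) : ∀ d : ℕ, (Fin d → σ) → Γ(CohB1.tensorPow L d, ⊤)
  | 0, _ => oneSec ⊤
  | d + 1, w => tmul (secW b d (w ∘ Fin.castSucc)) (b (w (Fin.last d)))

theorem resM_secW {σ : Type u} (b : σ → Γ(L, ⊤)) {U : X.Opens} (g : Γ(L, U)) (cf : σ → Γ(X, U))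
    (hcf : ∀ i, cf i • g = resM L le_top (b i)) : ∀ (d : ℕ) (w : Fin d → σ),
    resM _ (le_top : U ≤ ⊤) (secW b d w) = (∏ k, cf (w k)) • powSec g d
  | 0, w => by
    rw [Finset.univ_eq_empty, Finset.prod_empty, one_smul]
    exact resM_oneSec le_top
  | d + 1, w => by
    show resM (CohB1.tensorMod _ _) _ (tmul _ _) = _ • tmul (powSec g d) g
    rw [resM_tmul, resM_secW b g cf hcf d, ← hcf, tmul_smul_left, tmul_smul_right, smul_smul,
      Fin.prod_univ_castSucc]
    rfl

theorem secW_glocus {σ : Type u} (hL : PicF.IsInvertible L) (b : σ → Γ(L, ⊤))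
    (ha : ∀ i, IsAffineOpen (glocus L (b i))) : ∀ (d : ℕ) (w : Fin (d + 1) → σ),
    IsAffineOpen (glocus _ (secW b (d + 1) w)) ∧ glocus _ (secW b (d + 1) w) ≤ glocus L (b (w (Fin.last d)))
  | 0, w => by
    have e : glocus _ (secW b 1 w) = glocus L (b (w (Fin.last 0))) := by
      refine (glocus_tmul (isInvertible_tensorPow hL 0) hL _ _).trans ?_
      show glocus _ (oneSec ⊤) ⊓ _ = _
      rw [glocus_oneSec, top_inf_eq]
    exact ⟨e ▸ ha _, e.le⟩
  | d + 1, w => by
    have e : glocus _ (secW b (d + 2) w) = glocus _ (secW b (d + 1) (w ∘ Fin.castSucc)) ⊓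
        glocus L (b (w (Fin.last (d + 1)))) :=
      glocus_tmul (isInvertible_tensorPow hL (d + 1)) hL _ _
    refine ⟨?_, e.le.trans inf_le_right⟩
    rw [e]
    exact isAffineOpen_glocus_inf (isInvertible_tensorPow hL (d + 1)) _ (ha _)

/-- An integer combination of word sections: locus in terms of coefficients, and affineness. -/
theorem glocus_combination {σ ι : Type u} [Fintype ι] (hL : PicF.IsInvertible L) (b : σ → Γ(L, ⊤))
    (ha : ∀ i, IsAffineOpen (glocus L (b i))) {d : ℕ} (hd : 0 < d) (c : ι → ℤ) (w : ι → Fin d → σ) :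
    ∃ s : Γ(CohB1.tensorPow L d, ⊤),
      IsAffineOpen (glocus _ s) ∧ (∀ x ∈ glocus _ s, ∃ i, x ∈ glocus L (b i)) ∧
      ∀ (j : σ) (cf : σ → Γ(X, glocus L (b j))),
        (∀ i, cf i • resM L (le_top : glocus L (b j) ≤ ⊤) (b j) = resM L le_top (b i)) →
          glocus _ s ⊓ glocus L (b j) = X.basicOpen (ev c w cf) := by
  obtain ⟨e, rfl⟩ : ∃ e, d = e + 1 := ⟨d - 1, by omega⟩
  let s := ∑ i, c i • secW b (e + 1) (w i)
  have hP := isInvertible_tensorPow hL (e + 1)
  let T := glocus (CohB1.tensorPow L (e + 1)) s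
  have hgT := isGen_glocus (L := CohB1.tensorPow L (e + 1)) s
  let f : ι → Γ(X, T) := fun i => hgT.coef le_rfl (resM _ le_top (secW b (e + 1) (w i)))
  have hf : ∀ i, X.basicOpen (f i) = T ⊓ glocus _ (secW b (e + 1) (w i)) := fun i => by
    rw [← glocus_inf _ hgT, inf_comm]
  have hsum : ∑ i, c i • f i = 1 := by
    refine (hgT T le_rfl).1 ?_
    show (∑ i, c i • f i) • resM _ le_rfl _ = (1 : Γ(X, T)) • resM _ le_rfl _
    rw [Finset.sum_smul, one_smul, resM_self]
    refine Eq.trans ?_ (map_sum (resM _ (le_top : T ≤ ⊤)) (fun i => c i • secW b (e + 1) (w i))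
      Finset.univ).symm
    refine Finset.sum_congr rfl fun i _ => ?_
    have := hgT.coef_spec le_rfl (resM _ le_top (secW b (e + 1) (w i)))
    rw [resM_self] at this
    rw [map_zsmul, smul_assoc, this]
  have hspan : Ideal.span (Set.range f) = ⊤ := by
    rw [Ideal.eq_top_iff_one, ← hsum]
    exact Ideal.sum_mem _ fun i _ => zsmul_mem (Ideal.subset_span (Set.mem_range_self i)) _
  refine ⟨s, ?_, fun x hx => ?_, fun j cf hcf => ?_⟩
  · refine isAffineOpen_of_isAffineOpen_basicOpen T (Set.range f) hspan ?_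
    rintro _ ⟨i, rfl⟩
    rw [hf]
    exact isAffineOpen_glocus_inf hP s (secW_glocus hL b ha e (w i)).1
  · by_contra hcon
    push Not at hcon
    have hall : ∀ i, x ∉ X.basicOpen (f i) := fun i h => by
      rw [hf] at h
      exact hcon _ ((secW_glocus hL b ha e (w i)).2 h.2)
    have h1 : (1 : X.presheaf.stalk x) ∈ IsLocalRing.maximalIdeal (X.presheaf.stalk x) := by
      rw [← map_one (X.presheaf.germ T x hx).hom, ← hsum, map_sum]
      refine Ideal.sum_mem _ fun i _ => ?_
      rw [map_zsmul]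
      refine zsmul_mem ?_ _
      rw [IsLocalRing.mem_maximalIdeal, mem_nonunits_iff, ← Scheme.mem_basicOpen]
      exact hall i
    exact (IsLocalRing.mem_maximalIdeal _).1 h1 isUnit_one
  · have hg := isGen_powSec (isGen_glocus (L := L) (b j)) (e + 1)
    rw [glocus_inf s hg]
    refine congrArg X.basicOpen (hg.coef_eq _ ?_)
    rw [resM_self, map_sum, ev, Finset.sum_smul]
    refine Finset.sum_congr rfl fun i _ => ?_
    rw [map_zsmul, resM_secW b _ cf hcf, smul_assoc]

/-- Pulling back basic opens to the spectrum of a ring. -/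
theorem exists_ringHom_basicOpen {R : Type u} [CommRing R] (g : Spec (CommRingCat.of R) ⟶ X)
    {T : X.Opens} (hT : Set.range g ⊆ (T : Set X)) :
    ∃ ψ : Γ(X, T) →+* R, ∀ (f : Γ(X, T)) (q : Spec (CommRingCat.of R)),
      g q ∈ X.basicOpen f ↔ ψ f ∉ q.asIdeal := by
  have e : (⊤ : (Spec (CommRingCat.of R)).Opens) ≤ g ⁻¹ᵁ T := fun q _ => hT ⟨q, rfl⟩
  refine ⟨(g.appLE T ⊤ e ≫ (Scheme.ΓSpecIso (CommRingCat.of R)).hom).hom, fun f q => ?_⟩
  have h1 : g q ∈ X.basicOpen f ↔ q ∈ (Spec (CommRingCat.of R)).basicOpen (g.appLE T ⊤ e f) := by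
    rw [Scheme.Hom.appLE, CommRingCat.comp_apply, Scheme.basicOpen_res, ← Scheme.preimage_basicOpen]
    exact ⟨fun h => ⟨trivial, h⟩, fun h => h.2⟩
  rw [h1, basicOpen_eq_of_affine']
  rfl

/-- The main statement. -/
theorem exists_affine_glocus_range {k A : Type u} [Field k] [CommRing A] [Algebra k A]
    [Algebra.IsIntegral k A] (hL : CohB1.IsAmple L) (W : X.Opens)
    (g : Spec (CommRingCat.of A) ⟶ X) (hg : Set.range g ⊆ (W : Set X)) :
    ∃ m : ℕ, 0 < m ∧ ∃ b : Γ(CohB1.tensorPow L m, ⊤),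
      IsAffineOpen (glocus _ b) ∧ glocus _ b ≤ W ∧ Set.range g ⊆ (glocus _ b : Set X) := by
  classical
  have hinv := hL.1
  choose m hm b hxb hbW hba using fun q : Spec (CommRingCat.of A) =>
    affGlocus_of_mem (U := W) hL (hg ⟨q, rfl⟩)
  have hnbhd : ∀ q : Spec (CommRingCat.of A), ∃ h : A, q ∈ PrimeSpectrum.basicOpen h ∧
      ∀ p : Spec (CommRingCat.of A), p ∈ PrimeSpectrum.basicOpen h → g p ∈ glocus _ (b q) := by
    intro q
    obtain ⟨_, ⟨h, rfl⟩, hq, hle⟩ := PrimeSpectrum.isTopologicalBasis_basic_opens.exists_subset_of_mem_open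
      (show q ∈ (g ⁻¹ᵁ glocus _ (b q) : Set _) from hxb q) (g ⁻¹ᵁ glocus _ (b q)).2
    exact ⟨h, hq, fun p hp => hle hp⟩
  choose h hqh hhg using hnbhd
  obtain ⟨t, ht⟩ := (CompactSpace.isCompact_univ (X := Spec (CommRingCat.of A))).elim_finite_subcover
    (fun q => (PrimeSpectrum.basicOpen (h q) : Set (PrimeSpectrum A)))
    (fun q => (PrimeSpectrum.basicOpen (h q)).2) (fun q _ => Set.mem_iUnion.mpr ⟨q, hqh q⟩)
  let N := ∏ q : t, m q.1
  have hN : 0 < N := Finset.prod_pos fun q _ => hm q.1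
  let L' := CohB1.tensorPow L N
  have hL' : PicF.IsInvertible L' := isInvertible_tensorPow hinv N
  have hpow : ∀ q : t, ∃ c : Γ(L', ⊤), glocus L' c = glocus _ (b q.1) := fun q => by
    obtain ⟨j, hj⟩ : m q.1 ∣ N := Finset.dvd_prod_of_mem (fun q : t => m q.1) (Finset.mem_univ q)
    have hj0 : 0 < j := Nat.pos_of_mul_pos_left (hj ▸ hN)
    have key : ∀ l, l = m q.1 * j → ∃ c : Γ(CohB1.tensorPow L l, ⊤), glocus _ c = glocus _ (b q.1) := by
      rintro _ rfl; exact exists_glocus_pow hinv (m q.1) (b q.1) j hj0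
    exact key N hj
  choose B hB using hpow
  -- coordinates on the charts
  let T : t → X.Opens := fun j => glocus L' (B j)
  let cf : ∀ j : t, t → Γ(X, T j) := fun j i =>
    (isGen_glocus (L := L') (B j)).coef le_rfl (resM L' le_top (B i))
  have hcf : ∀ j i, cf j i • resM L' le_top (B j) = resM L' le_top (B i) := fun j i => by
    have := (isGen_glocus (L := L') (B j)).coef_spec le_rfl (resM L' le_top (B i))
    rwa [resM_self] at this
  have hcfj : ∀ j, cf j j = 1 := fun j => by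
    refine (isGen_glocus (L := L') (B j)).coef_eq _ ?_
    rw [resM_self, one_smul]
  let gh : ∀ j : t, Spec (CommRingCat.of (Localization.Away (h j.1))) ⟶ X := fun j =>
    Spec.map (CommRingCat.ofHom (algebraMap A (Localization.Away (h j.1)))) ≫ g
  have hgh : ∀ j, Set.range (gh j) ⊆ (T j : Set X) := by
    rintro j _ ⟨q', rfl⟩
    show _ ∈ glocus L' (B j)
    rw [hB]
    exact hhg j.1 _ ((PrimeSpectrum.localization_away_comap_range (Localization.Away (h j.1)) (h j.1)).le
      ⟨q', rfl⟩)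
  choose ψ hψ using fun j => exists_ringHom_basicOpen (gh j) (hgh j)
  have hnum : ∀ j i : t, ∃ (n : ℕ) (a : A), ψ j (cf j i) * algebraMap A _ (h j.1) ^ n = algebraMap A _ a :=
    fun j i => IsLocalization.Away.surj (h j.1) _
  choose n a hna using hnum
  let M : t → ℕ := fun j => Finset.univ.sup (n j)
  let y : t → t → A := fun j i => a j i * h j.1 ^ (M j - n j i)
  have hy : ∀ j i, ψ j (cf j i) * algebraMap A _ (h j.1) ^ M j = algebraMap A _ (y j i) := fun j i => by
    rw [map_mul, map_pow, ← hna, mul_assoc, ← pow_add,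
      Nat.add_sub_cancel' (Finset.le_sup (Finset.mem_univ i))]
  let A₀ := Algebra.adjoin k (Set.range fun p : t × t => y p.1 p.2)
  have : Module.Finite k A₀ := Module.Finite.iff_fg.mpr
    (fg_adjoin_of_finite (Set.finite_range _) fun x _ => Algebra.IsIntegral.isIntegral x)
  have : IsArtinianRing A₀ := IsArtinianRing.of_finite k A₀
  let y₀ : t → t → A₀ := fun j i => ⟨y j i, Algebra.subset_adjoin ⟨(j, i), rfl⟩⟩
  let κ := {p : t × PrimeSpectrum A₀ // ∃ i, y₀ p.1 i ∉ p.2.asIdeal}
  obtain ⟨d, hd, ι, _, c, w, hne⟩ := exists_ev_ne_zero (κ := κ) (fun z => A₀ ⧸ z.1.2.asIdeal)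
    (fun z i => Ideal.Quotient.mk _ (y₀ z.1.1 i)) (fun z => by
      obtain ⟨i, hi⟩ := z.2
      exact ⟨i, fun h => hi (Ideal.Quotient.eq_zero_iff_mem.mp h)⟩)
  obtain ⟨s, hsa, hscov, hsloc⟩ := glocus_combination hL' B (fun i => (hB i).symm ▸ hba i.1) hd c w
  obtain ⟨e, -⟩ := exists_powPowIso hinv N d
  refine ⟨N * d, Nat.mul_pos hN hd, e.hom.app ⊤ s, ?_, ?_, ?_⟩
  · rw [glocus_map_iso]; exact hsa
  · rw [glocus_map_iso]
    intro x hx
    obtain ⟨i, hi⟩ := hscov x hx
    exact hbW i.1 (hB i ▸ hi)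
  rintro _ ⟨q, rfl⟩
  rw [SetLike.mem_coe, glocus_map_iso]
  obtain ⟨q₁, hq₁, hq⟩ := Set.mem_iUnion₂.mp (ht (Set.mem_univ q))
  let j : t := ⟨q₁, hq₁⟩
  obtain ⟨q', hq'⟩ : q ∈ Set.range (PrimeSpectrum.comap (algebraMap A (Localization.Away (h j.1)))) :=
    (PrimeSpectrum.localization_away_comap_range (Localization.Away (h j.1)) (h j.1)).ge hq
  let r : Spec (CommRingCat.of (Localization.Away (h j.1))) := q'
  have hgq : gh j r = g q := congrArg g hq'
  have hu : algebraMap A (Localization.Away (h j.1)) (h j.1) ∉ q'.asIdeal := fun hmem =>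
    q'.2.ne_top (Ideal.eq_top_of_isUnit_mem _ hmem (IsLocalization.Away.algebraMap_isUnit (h j.1)))
  have hmem : ∀ z : A, algebraMap A (Localization.Away (h j.1)) z ∈ q'.asIdeal ↔ z ∈ q.asIdeal :=
    fun z => by rw [← hq']; rfl
  let Q : PrimeSpectrum A₀ := PrimeSpectrum.comap A₀.val.toRingHom q
  have hyj : y₀ j j ∉ Q.asIdeal := fun hz => by
    have h1 := (hmem (y j j)).mpr hz
    rw [← hy, hcfj, map_one, one_mul] at h1
    exact hu (q'.2.mem_of_pow_mem _ h1)
  have hev := hne ⟨(j, Q), j, hyj⟩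
  rw [← map_ev, ne_eq, Ideal.Quotient.eq_zero_iff_mem] at hev
  suffices gh j r ∈ glocus _ s ⊓ T j by rw [← hgq]; exact this.1
  rw [hsloc j (cf j) (hcf j), hψ, map_ev]
  intro hcon
  apply hev
  show A₀.val.toRingHom _ ∈ q.asIdeal
  rw [map_ev]
  refine (hmem _).mp ?_
  rw [map_ev]
  have := ev_mul c w (fun i => ψ j (cf j i)) (algebraMap A _ (h j.1) ^ M j)
  simp only [hy] at this
  show ev c w (fun i => algebraMap A (Localization.Away (h j.1)) (y j i)) ∈ q'.asIdeal
  rw [this]
  exact Ideal.mul_mem_right _ _ hcon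

end Groth.Agent.H8Lim.AmpleAvoidance
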