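import Groth.Agent.H8Lim.Approximation

/-!
# Approximation of a morphism by morphisms of Noetherian models

For a commutative square `Y → Y₁`, `X → X₁` with affine horizontal maps, the compatible pairs of
models of `Y` and `X` form a directed system.
-/

set_option autoImplicit false
set_option backward.isDefEq.respectTransparency.types false

universe u

open CategoryTheory Limits AlgebraicGeometry TopologicalSpace Opposite

namespace Groth.Agent.H8Lim

/-- Two morphisms into a scheme affine over `S` agree if they agree on sections over affine opens of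
`S`, tested after a morphism injective on sections. -/
lemma ext_of_app_injective {Y T X' S : Scheme.{u}} (e : Y ⟶ T) (p q : T ⟶ X') (π : X' ⟶ S)
    [IsAffineHom π] (hπ : p ≫ π = q ≫ π) (he : ∀ W : T.Opens, Function.Injective (e.app W))
    (h : e ≫ p = e ≫ q) : p = q := by
  refine (T.openCoverOfIsOpenCover (fun U : S.affineOpens ↦ (p ≫ π) ⁻¹ᵁ U.1) (by
    rw [IsOpenCover, ← Scheme.Hom.preimage_iSup, iSup_affineOpens_eq_top,
      Scheme.Hom.preimage_top])).hom_ext _ _ fun U ↦ ?_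
  let W := (p ≫ π) ⁻¹ᵁ U.1
  show W.ι ≫ p = W.ι ≫ q
  let V := π ⁻¹ᵁ U.1
  have hV : IsAffineOpen V := U.2.preimage π
  have : IsAffine V.toScheme := hV
  have hp : W ≤ p ⁻¹ᵁ V := le_rfl
  have hq : W ≤ q ⁻¹ᵁ V := by
    show W ≤ (q ≫ π) ⁻¹ᵁ U.1
    rw [← hπ]
  suffices p.resLE V W hp = q.resLE V W hq by
    have h' := congr($this ≫ V.ι)
    rwa [Scheme.Hom.resLE_comp_ι, Scheme.Hom.resLE_comp_ι] at h'
  refine ext_of_isAffine ?_
  rw [show (p.resLE V W hp).appTop = _ from Scheme.Hom.resLE_app_top p hp,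
    show (q.resLE V W hq).appTop = _ from Scheme.Hom.resLE_app_top q hq]
  congr 2
  ext v
  apply he W
  have h1 : p.appLE V W hp ≫ e.app W = q.appLE V W hq ≫ e.app W := by
    rw [Scheme.Hom.app_eq_appLE, Scheme.Hom.appLE_comp_appLE, Scheme.Hom.appLE_comp_appLE]
    simp only [h]
  exact congr($(h1).hom v)

namespace Family

variable {S B : Scheme.{u}} {h : S ⟶ B} [IsAffineHom h] [QuasiSeparatedSpace B]

/-- `toModel` is injective on sections. -/
lemma toModel_app_injective (F : Family h) (W : F.alg.spec.Opens) :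
    Function.Injective (F.toModel.app W) := by
  rw [injective_iff_map_eq_zero]
  intro z hz
  refine F.alg.spec.sheaf.eq_of_locally_eq'
    (fun V : {V : F.alg.spec.affineOpens // V.1 ≤ W ∧ ∃ U : B.affineOpens, V.1 ≤ F.alg.π ⁻¹ᵁ U.1} ↦
      V.1.1) W (fun V ↦ homOfLE V.2.1) (fun x hx ↦ ?_) z 0 fun V ↦ ?_
  · obtain ⟨U, hU, hxU, -⟩ := exists_isAffineOpen_mem_and_subset (X := B) (x := F.alg.π x)
      (U := ⊤) trivial
    obtain ⟨V, hV, hxV, hle⟩ := exists_isAffineOpen_mem_and_subset (X := F.alg.spec) (x := x)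
      (U := W ⊓ F.alg.π ⁻¹ᵁ U) ⟨hx, hxU⟩
    exact Opens.mem_iSup.mpr ⟨⟨⟨V, hV⟩, fun y hy ↦ (hle hy).1, ⟨U, hU⟩, fun y hy ↦ (hle hy).2⟩, hxV⟩
  · obtain ⟨⟨V, hV⟩, hVW, U, hVU⟩ := V
    rw [map_zero]
    change F.alg.spec.presheaf.map (homOfLE hVW).op z = 0
    let P := F.alg.π ⁻¹ᵁ U.1
    have hP : IsAffineOpen P := U.2.preimage _
    obtain ⟨s, hs, hsV⟩ := exists_basicOpen_cover hP hVU hV.isCompact
    refine F.alg.spec.sheaf.eq_of_locally_eq' (fun g : {g // g ∈ s} ↦ F.alg.spec.basicOpen g.1) V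
      (fun g ↦ homOfLE (hs g.1 g.2)) (hsV.trans (iSup₂_le fun g hg ↦
        le_iSup (fun g : {g // g ∈ s} ↦ F.alg.spec.basicOpen g.1) ⟨g, hg⟩)) _ 0 fun g ↦ ?_
    refine Eq.trans ?_ (map_zero _).symm
    obtain ⟨g, hg⟩ := g
    let i : F.alg.spec.basicOpen g ≤ W := (hs g hg).trans hVW
    change F.alg.spec.presheaf.map (homOfLE (hs g hg)).op
      (F.alg.spec.presheaf.map (homOfLE hVW).op z) = 0
    rw [← CommRingCat.comp_apply, ← Functor.map_comp]
    change F.alg.spec.presheaf.map (homOfLE i).op z = 0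
    let inst := (F.alg.spec.presheaf.map (homOfLE (F.alg.spec.basicOpen_le g)).op).hom.toAlgebra
    have := hP.isLocalization_of_eq_basicOpen g (homOfLE (F.alg.spec.basicOpen_le g)) rfl
    obtain ⟨n, a, ha⟩ := IsLocalization.Away.surj g (F.alg.spec.presheaf.map (homOfLE i).op z)
    have he : h ⁻¹ᵁ U.1 ≤ F.toModel ⁻¹ᵁ P := by
      rw [← Scheme.Hom.comp_preimage, F.toModel_π]
    have hinj : Function.Injective (F.toModel.appLE P (h ⁻¹ᵁ U.1) he) := by
      erw [toSpec_appLE h (A := F.alg) F.incl U he]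
      intro a b hab
      have : IsIso F.alg.gammaMap := RelSpecLib.isIso_gammaMap F.alg
      have hbij : Function.Bijective (F.alg.gammaAff U.1 U.2) := by
        rw [← F.alg.gammaMap_app U.1 U.2]
        exact ConcreteCategory.bijective_of_isIso _
      exact hbij.1 (Subtype.ext hab)
    have hinj' : Function.Injective (F.toModel.appLE P (F.toModel ⁻¹ᵁ P) le_rfl) := by
      have e0 : F.toModel ⁻¹ᵁ P = h ⁻¹ᵁ U.1 := by rw [← Scheme.Hom.comp_preimage, F.toModel_π]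
      exact (F.toModel.appLE_congr le_rfl rfl e0 fun f ↦ Function.Injective f.hom).mpr hinj
    rw [← Scheme.Hom.app_eq_appLE] at hinj'
    have hzero : F.toModel.app (F.alg.spec.basicOpen g) (F.alg.spec.presheaf.map (homOfLE i).op z) = 0 := by
      rw [← CommRingCat.comp_apply, F.toModel.naturality, CommRingCat.comp_apply, hz, map_zero]
    have ha0 := congr(F.toModel.app (F.alg.spec.basicOpen g) $ha)
    rw [map_mul, hzero, zero_mul] at ha0
    -- kill `a` by a power of `g`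
    have hD : F.toModel ⁻¹ᵁ F.alg.spec.basicOpen g = S.basicOpen (F.toModel.app P g) :=
      Scheme.preimage_basicOpen _ _
    have hPS : IsAffineOpen (F.toModel ⁻¹ᵁ P) := hP.preimage _
    let inst' := (S.presheaf.map (homOfLE (F.toModel.preimage_mono
      (F.alg.spec.basicOpen_le g))).op).hom.toAlgebra
    have := hPS.isLocalization_of_eq_basicOpen (F.toModel.app P g)
      (homOfLE (F.toModel.preimage_mono (F.alg.spec.basicOpen_le g))) hD
    have ha1 : algebraMap Γ(S, F.toModel ⁻¹ᵁ P) Γ(S, F.toModel ⁻¹ᵁ F.alg.spec.basicOpen g)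
        (F.toModel.app P a) = algebraMap Γ(S, F.toModel ⁻¹ᵁ P)
          Γ(S, F.toModel ⁻¹ᵁ F.alg.spec.basicOpen g) 0 := by
      rw [map_zero]
      refine Eq.trans ?_ ha0.symm
      exact congr($((F.toModel.naturality (homOfLE (F.alg.spec.basicOpen_le g)).op).symm).hom a)
    obtain ⟨m, hm⟩ := IsLocalization.Away.exists_of_eq (F.toModel.app P g) ha1
    rw [mul_zero, ← map_pow, ← map_mul] at hm
    have hga : g ^ m * a = 0 := hinj' (hm.trans (map_zero _).symm)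
    have hu := IsLocalization.Away.algebraMap_isUnit (S := Γ(F.alg.spec, F.alg.spec.basicOpen g)) g
    refine ((hu.pow n).mul_left_eq_zero).mp ?_
    rw [ha]
    refine ((hu.pow m).mul_right_eq_zero).mp ?_
    rw [← map_pow, ← map_mul, hga, map_zero]

end Family

/-- Two morphisms agree if locally they land in an affine open with the same sections. -/
lemma ext_of_appLE {T X' : Scheme.{u}} (p q : T ⟶ X')
    (H : ∀ x : T, ∃ (W : T.Opens) (V : X'.Opens), x ∈ W ∧ IsAffineOpen V ∧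
      ∃ (hp : W ≤ p ⁻¹ᵁ V) (hq : W ≤ q ⁻¹ᵁ V), p.appLE V W hp = q.appLE V W hq) : p = q := by
  refine Scheme.hom_ext_of_forall _ _ fun x ↦ ?_
  obtain ⟨W, V, hx, hV, hp, hq, h⟩ := H x
  refine ⟨W, hx, ?_⟩
  have : IsAffine V.toScheme := hV
  suffices p.resLE V W hp = q.resLE V W hq by
    have h' := congr($this ≫ V.ι)
    rwa [Scheme.Hom.resLE_comp_ι, Scheme.Hom.resLE_comp_ι] at h'
  refine ext_of_isAffine ?_
  rw [show (p.resLE V W hp).appTop = _ from Scheme.Hom.resLE_app_top p hp,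
    show (q.resLE V W hq).appTop = _ from Scheme.Hom.resLE_app_top q hq, h]

namespace Family

variable {S B : Scheme.{u}} {h : S ⟶ B} [IsAffineHom h] [CompactSpace B] [QuasiSeparatedSpace B]

/-- Finitely many finite sets of sections over affine opens are contained in a family. -/
lemma exists_mem_forall (L : List (Σ V : B.affineOpens, Finset Γ(S, h ⁻¹ᵁ V.1))) :
    ∃ F : Family h, ∀ e ∈ L, ∀ y ∈ e.2, y ∈ F.A e.1.1 := by
  induction L with
  | nil => exact ⟨(inferInstance : Nonempty (Family h)).some, fun e he ↦ by simp at he⟩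
  | cons e L ih =>
    obtain ⟨F, hF⟩ := ih
    obtain ⟨G, hG⟩ := exists_mem (h := h) e.1.2 e.2
    obtain ⟨E, hFE, hGE⟩ := exists_le_le F G
    refine ⟨E, fun e' he' y hy ↦ ?_⟩
    rcases List.mem_cons.mp he' with rfl | he'
    · exact hGE _ (hG y hy)
    · exact hFE _ (hF e' he' y hy)

end Family

section pair

variable {X X₁ Y Y₁ : Scheme.{u}} (a : X ⟶ X₁) (b : Y ⟶ Y₁) (f : Y ⟶ X) (f₁ : Y₁ ⟶ X₁)
  (w : b ≫ f₁ = f ≫ a) [IsAffineHom a] [IsAffineHom b] [QuasiSeparatedSpace X₁]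
  [QuasiSeparatedSpace Y₁]

include w in
omit [IsAffineHom a] [IsAffineHom b] [QuasiSeparatedSpace X₁] [QuasiSeparatedSpace Y₁] in
lemma preimage_le_comp (U : X₁.Opens) : b ⁻¹ᵁ (f₁ ⁻¹ᵁ U) ≤ f ⁻¹ᵁ (a ⁻¹ᵁ U) := by
  rw [← Scheme.Hom.comp_preimage, w]
  rfl

/-- The map on sections. -/
noncomputable abbrev pairComp (U : X₁.Opens) : Γ(X, a ⁻¹ᵁ U) ⟶ Γ(Y, b ⁻¹ᵁ (f₁ ⁻¹ᵁ U)) :=
  f.appLE _ _ (preimage_le_comp a b f f₁ w U)

/-- Compatibility of a model of `X` with a model of `Y`. -/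
def Compat (G : Family a) (F : Family b) : Prop :=
  ∀ U, ∀ x ∈ G.A U, pairComp a b f f₁ w U x ∈ F.A (f₁ ⁻¹ᵁ U)

variable {a b f f₁ w}

omit [IsAffineHom a] [IsAffineHom b] [QuasiSeparatedSpace X₁] [QuasiSeparatedSpace Y₁] in
lemma Compat.mono {G : Family a} {F F' : Family b} (hc : Compat a b f f₁ w G F) (hF : F ≤ F') :
    Compat a b f f₁ w G F' := fun U x hx ↦ hF _ (hc U x hx)

variable (a b f f₁ w)

omit [IsAffineHom a] [IsAffineHom b] [QuasiSeparatedSpace X₁] [QuasiSeparatedSpace Y₁] in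
lemma resF_pairComp {U' U : X₁.Opens} (e : U' ≤ U) (x : Γ(X, a ⁻¹ᵁ U)) :
    resF b (f₁.preimage_mono e) (pairComp a b f f₁ w U x) = pairComp a b f f₁ w U' (resF a e x) := by
  simp only [resF, pairComp]
  rw [← CommRingCat.comp_apply, ← CommRingCat.comp_apply, Scheme.Hom.appLE_map,
    Scheme.Hom.map_appLE]

omit [IsAffineHom a] [IsAffineHom b] [QuasiSeparatedSpace X₁] [QuasiSeparatedSpace Y₁] in
lemma pairComp_appF (U : X₁.Opens) (r : Γ(X₁, U)) :
    pairComp a b f f₁ w U (appF a U r) = appF b (f₁ ⁻¹ᵁ U) (f₁.app U r) := by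
  simp only [appF, pairComp]
  rw [← CommRingCat.comp_apply, ← CommRingCat.comp_apply, Scheme.Hom.app_eq_appLE,
    Scheme.Hom.app_eq_appLE, Scheme.Hom.app_eq_appLE, Scheme.Hom.appLE_comp_appLE,
    Scheme.Hom.appLE_comp_appLE]
  simp only [w]

/-- Every model of `X` is compatible with some model of `Y`. -/
theorem exists_compat [CompactSpace Y₁] (G : Family a) : ∃ F, Compat a b f f₁ w G F := by
  classical
  have hcov : ∀ i : Chart a, ∃ t : Finset Y₁.affineOpens,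
      (∀ V ∈ t, V.1 ≤ f₁ ⁻¹ᵁ i.U) ∧ f₁ ⁻¹ᵁ i.U ≤ ⨆ V ∈ t, V.1 := by
    intro i
    have : QuasiCompact f₁ := quasiCompact_of_compactSpace f₁
    obtain ⟨t, ht⟩ := (f₁.isCompact_preimage i.isAffineOpen.isCompact).elim_finite_subcover
      (fun V : {V : Y₁.affineOpens // V.1 ≤ f₁ ⁻¹ᵁ i.U} ↦ (V.1.1 : Set Y₁)) (fun V ↦ V.1.1.2)
      fun y hy ↦ by
        obtain ⟨V, hV, hyV, hle⟩ := exists_isAffineOpen_mem_and_subset (X := Y₁) (x := y)
          (U := f₁ ⁻¹ᵁ i.U) hy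
        exact Set.mem_iUnion.mpr ⟨⟨⟨V, hV⟩, fun z hz ↦ hle hz⟩, hyV⟩
    refine ⟨t.image Subtype.val, fun V hV ↦ ?_, fun y hy ↦ ?_⟩
    · obtain ⟨V', -, rfl⟩ := Finset.mem_image.mp hV
      exact V'.2
    · obtain ⟨V', hV', hy'⟩ := Set.mem_iUnion₂.mp (ht hy)
      exact Opens.mem_iSup.mpr ⟨V'.1, Opens.mem_iSup.mpr ⟨Finset.mem_image_of_mem _ hV', hy'⟩⟩
  choose t ht₁ ht₂ using hcov
  have : CompactSpace Y₁ := ‹_›
  let gen : ∀ (i : Chart a) (V : {V // V ∈ t i}), Σ V : Y₁.affineOpens, Finset Γ(Y, b ⁻¹ᵁ V.1) :=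
    fun i V ↦ ⟨V.1, i.F.image fun x ↦ resF b (ht₁ i V.1 V.2) (pairComp a b f f₁ w i.U x)⟩
  obtain ⟨F, hF⟩ := Family.exists_mem_forall (h := b)
    (G.l.flatMap fun i ↦ (t i).attach.toList.map (gen i))
  refine ⟨F, fun U x hx ↦ F.mem_of_locally _ fun y hy ↦ ?_⟩
  obtain ⟨i, hi, hyi⟩ := G.cover (f₁ y)
  obtain ⟨g, hg, hyg⟩ := i.isAffineOpen.exists_basicOpen_le (V := U ⊓ i.U) ⟨f₁ y, hy, hyi⟩ hyi
  obtain ⟨V, hV⟩ := Opens.mem_iSup.mp (ht₂ i hyi)
  obtain ⟨hVt, hyV⟩ := Opens.mem_iSup.mp hV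
  let W := V.1 ⊓ f₁ ⁻¹ᵁ X₁.basicOpen g
  have eW : W ≤ f₁ ⁻¹ᵁ U := inf_le_right.trans (f₁.preimage_mono (hg.trans inf_le_left))
  refine ⟨W, eW, ⟨hyV, hyg⟩, ?_⟩
  obtain ⟨n, c, hc, hxc⟩ := hx i hi g (hg.trans inf_le_left)
  -- the image of `c`
  have hcF : ∀ d ∈ i.K, resF b (ht₁ i V hVt) (pairComp a b f f₁ w i.U d) ∈ F.A V.1 := by
    intro d hd
    induction hd using Subring.closure_induction with
    | mem z hz =>
      rcases hz with ⟨r, rfl⟩ | hz
      · rw [pairComp_appF, resF_appF]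
        exact appF_mem_partialA b F.l _ _
      · exact hF (gen i ⟨V, hVt⟩) (List.mem_flatMap.mpr ⟨i, hi, List.mem_map.mpr
          ⟨⟨V, hVt⟩, Finset.mem_toList.mpr (Finset.mem_attach _ _), rfl⟩⟩) _
          (Finset.mem_image_of_mem _ hz)
    | zero => rw [map_zero, map_zero]; exact Subring.zero_mem _
    | one => rw [map_one, map_one]; exact Subring.one_mem _
    | add p q _ _ hp hq => rw [map_add, map_add]; exact Subring.add_mem _ hp hq
    | neg p _ hp => rw [map_neg, map_neg]; exact Subring.neg_mem _ hp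
    | mul p q _ _ hp hq => rw [map_mul, map_mul]; exact Subring.mul_mem _ hp hq
  have h0 : IsUnit (X₁.presheaf.map (homOfLE (X₁.basicOpen_le g)).op g) :=
    RingedSpace.isUnit_res_basicOpen X₁.toRingedSpace g
  obtain ⟨v, hv⟩ := isUnit_iff_exists_inv.mp (h0.pow n)
  have hx' : resF a (hg.trans inf_le_left) x =
      resF a (X₁.basicOpen_le g) c * appF a (X₁.basicOpen g) v := by
    rw [hxc, resF_appF, mul_assoc, ← map_pow, ← map_mul, hv, map_one, mul_one]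
  have e1 : resF b eW (pairComp a b f f₁ w U x) = resF b (inf_le_right : W ≤ _)
      (pairComp a b f f₁ w (X₁.basicOpen g) (resF a (hg.trans inf_le_left) x)) := by
    rw [← resF_pairComp, resF_resF]
  rw [e1, hx', map_mul, map_mul, pairComp_appF, ← resF_pairComp, resF_resF, resF_appF]
  refine Subring.mul_mem _ ?_ (appF_mem_partialA b F.l _ _)
  have := resF_mem_partialA b F.l (inf_le_left : W ≤ V.1) (hcF c hc)
  rwa [resF_resF] at this

variable {a b f f₁ w}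

/-- The map of algebras of a compatible pair. -/
noncomputable def Compat.alg {G : Family a} {F : Family b} (hc : Compat a b f f₁ w G F) :
    G.alg.presheaf ⟶ (F.alg.π ≫ f₁).base _* F.alg.spec.presheaf :=
  ({ app := fun U ↦ CommRingCat.ofHom ((pairComp a b f f₁ w U.unop).hom.restrict _ _ (hc U.unop))
     naturality := fun U V i ↦ by
      ext x
      exact Subtype.ext (resF_pairComp a b f f₁ w i.unop.le x.1).symm } :
      G.alg.presheaf ⟶ f₁.base _* F.alg.presheaf) ≫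
    (TopCat.Presheaf.pushforward CommRingCat.{u} f₁.base).map
      (haveI := RelSpecLib.isIso_gammaMap F.alg; inv F.alg.gammaMap)

/-- The morphism of models of a compatible pair. -/
noncomputable def Compat.hom {G : Family a} {F : Family b} (hc : Compat a b f f₁ w G F) :
    F.alg.spec ⟶ G.alg.spec :=
  toSpec (F.alg.π ≫ f₁) (A := G.alg) hc.alg

lemma Compat.gammaMap_alg {G : Family a} {F : Family b} (hc : Compat a b f f₁ w G F) (U : X₁.Opens)
    (x : G.alg.presheaf.obj (op U)) :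
    F.alg.gammaMap.app (op (f₁ ⁻¹ᵁ U)) (hc.alg.app (op U) x) =
      ⟨pairComp a b f f₁ w U x.1, hc U x.1 x.2⟩ := by
  have := RelSpecLib.isIso_gammaMap F.alg
  simp only [Compat.alg, NatTrans.comp_app, CommRingCat.comp_apply]
  change ((inv F.alg.gammaMap).app (op (f₁ ⁻¹ᵁ U)) ≫ F.alg.gammaMap.app (op (f₁ ⁻¹ᵁ U))) _ = _
  rw [← NatTrans.comp_app, IsIso.inv_hom_id]
  rfl

lemma Compat.hom_π {G : Family a} {F : Family b} (hc : Compat a b f f₁ w G F) :
    hc.hom ≫ G.alg.π = F.alg.π ≫ f₁ := by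
  refine toSpec_π _ (A := G.alg) hc.alg ?_
  ext U r
  have := RelSpecLib.isIso_gammaMap F.alg
  apply (ConcreteCategory.bijective_of_isIso (F.alg.gammaMap.app (op (f₁ ⁻¹ᵁ U)))).1
  change F.alg.gammaMap.app (op (f₁ ⁻¹ᵁ U)) (hc.alg.app (op U) (G.alg.str.app (op U) r)) = _
  erw [hc.gammaMap_alg U]
  refine Subtype.ext ?_
  refine (pairComp_appF a b f f₁ w U r).trans ?_
  have h1 := congr(($(F.alg.π_c_gammaMap).app (op (f₁ ⁻¹ᵁ U))).hom (f₁.app U r))
  exact congrArg Subtype.val h1.symm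

lemma Compat.toModel_hom {G : Family a} {F : Family b} (hc : Compat a b f f₁ w G F) :
    F.toModel ≫ hc.hom = f ≫ G.toModel := by
  refine ext_of_appLE _ _ fun y ↦ ?_
  obtain ⟨U, hU, hyU, -⟩ := exists_isAffineOpen_mem_and_subset (X := X₁) (x := f₁ (b y)) (U := ⊤) trivial
  obtain ⟨V, hV, hyV, hle⟩ := exists_isAffineOpen_mem_and_subset (X := Y₁) (x := b y)
    (U := f₁ ⁻¹ᵁ U) hyU
  have hVU : V ≤ f₁ ⁻¹ᵁ U := fun z hz ↦ hle hz
  have h1 : b ⁻¹ᵁ V ≤ F.toModel ⁻¹ᵁ (F.alg.π ⁻¹ᵁ V) := by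
    rw [← Scheme.Hom.comp_preimage, F.toModel_π]
  have h2 : F.alg.π ⁻¹ᵁ V ≤ (F.alg.π ≫ f₁) ⁻¹ᵁ U := F.alg.π.preimage_mono hVU
  have h3 : (F.alg.π ≫ f₁) ⁻¹ᵁ U ≤ hc.hom ⁻¹ᵁ (G.alg.π ⁻¹ᵁ U) := by
    rw [← Scheme.Hom.comp_preimage hc.hom, hc.hom_π]
  have h4 : a ⁻¹ᵁ U ≤ G.toModel ⁻¹ᵁ (G.alg.π ⁻¹ᵁ U) := by
    rw [← Scheme.Hom.comp_preimage, G.toModel_π]
  have h5 : b ⁻¹ᵁ V ≤ f ⁻¹ᵁ (a ⁻¹ᵁ U) :=
    (b.preimage_mono hVU).trans (preimage_le_comp a b f f₁ w U)
  refine ⟨b ⁻¹ᵁ V, G.alg.π ⁻¹ᵁ U, hyV, hU.preimage _,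
    h1.trans (F.toModel.preimage_mono (h2.trans h3)), h5.trans (f.preimage_mono h4), ?_⟩
  rw [← Scheme.Hom.appLE_comp_appLE F.toModel hc.hom _ (F.alg.π ⁻¹ᵁ V) _ (h2.trans h3) h1,
    ← Scheme.Hom.appLE_comp_appLE f G.toModel _ (a ⁻¹ᵁ U) _ h4 h5,
    show G.toModel.appLE (G.alg.π ⁻¹ᵁ U) (a ⁻¹ᵁ U) h4 = _ from
      toSpec_appLE a (A := G.alg) G.incl ⟨U, hU⟩ h4,
    show F.toModel.appLE (F.alg.π ⁻¹ᵁ V) (b ⁻¹ᵁ V) h1 = _ from
      toSpec_appLE b (A := F.alg) F.incl ⟨V, hV⟩ h1]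
  rw [← Scheme.Hom.appLE_map hc.hom h3 (homOfLE h2).op]
  rw [show hc.hom.appLE (G.alg.π ⁻¹ᵁ U) ((F.alg.π ≫ f₁) ⁻¹ᵁ U) h3 = _ from
    toSpec_appLE (F.alg.π ≫ f₁) (A := G.alg) hc.alg ⟨U, hU⟩ h3]
  ext z
  have hn := congr($(F.alg.gammaMap.naturality (homOfLE hVU).op).hom
    (hc.alg.app (op U) (G.alg.gammaAff U hU z)))
  rw [F.alg.gammaMap_app V hV] at hn
  have hn' : F.alg.gammaAff V hV (F.alg.spec.presheaf.map (homOfLE h2).op
      (hc.alg.app (op U) (G.alg.gammaAff U hU z))) = F.alg.presheaf.map (homOfLE hVU).op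
        (F.alg.gammaMap.app (op (f₁ ⁻¹ᵁ U)) (hc.alg.app (op U) (G.alg.gammaAff U hU z))) := hn
  rw [hc.gammaMap_alg] at hn'
  refine (congrArg Subtype.val hn').trans ?_
  change resF b hVU (pairComp a b f f₁ w U (G.alg.gammaAff U hU z).1) = _
  simp only [resF, pairComp]
  rw [← CommRingCat.comp_apply, Scheme.Hom.appLE_map]
  rfl

end pair

end Groth.Agent.H8Lim
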