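import Groth.Agent.H8Lim.ApproxPair
import Groth.Agent.H8Lim.SeparatedLimit

/-!
# The directed system of pairs of models and its pullback

For a square `Y → Y₁`, `X → X₁` with affine horizontal maps, `Y` is the limit of the pullbacks of
the model maps to `X` (EGA IV 8.9.1, Stacks 09MV).
-/

set_option autoImplicit false
set_option backward.isDefEq.respectTransparency.types false

universe u

open CategoryTheory Limits AlgebraicGeometry TopologicalSpace Opposite

namespace Groth.Agent.H8Lim

variable {X X₁ Y Y₁ : Scheme.{u}} (a : X ⟶ X₁) (b : Y ⟶ Y₁) (f : Y ⟶ X) (f₁ : Y₁ ⟶ X₁)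
  (w : b ≫ f₁ = f ≫ a)

/-- Compatible pairs of models. -/
structure PairModel where
  /-- model of `X` -/
  G : Family a
  /-- model of `Y` -/
  F : Family b
  compat : Compat a b f f₁ w G F

namespace PairModel

variable {a b f f₁ w}

instance : Preorder (PairModel a b f f₁ w) where
  le p q := p.G ≤ q.G ∧ p.F ≤ q.F
  le_refl _ := ⟨le_rfl, le_rfl⟩
  le_trans _ _ _ h₁ h₂ := ⟨h₁.1.trans h₂.1, h₁.2.trans h₂.2⟩

variable [IsAffineHom a] [IsAffineHom b] [QuasiSeparatedSpace X₁] [QuasiSeparatedSpace Y₁]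
  [CompactSpace X₁] [CompactSpace Y₁]

omit [CompactSpace X₁] in
lemma exists_ge (G : Family a) (F : Family b) : ∃ p : PairModel a b f f₁ w, G ≤ p.G ∧ F ≤ p.F := by
  obtain ⟨F', hF'⟩ := exists_compat a b f f₁ w G
  obtain ⟨E, h₁, h₂⟩ := Family.exists_le_le F' F
  exact ⟨⟨G, E, hF'.mono h₁⟩, le_rfl, h₂⟩

instance : IsDirected (PairModel a b f f₁ w) (· ≤ ·) := ⟨fun p q ↦ by
  obtain ⟨G, hG₁, hG₂⟩ := Family.exists_le_le p.G q.G
  obtain ⟨F, hF₁, hF₂⟩ := Family.exists_le_le p.F q.F
  obtain ⟨r, hr₁, hr₂⟩ := exists_ge (w := w) G F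
  exact ⟨r, ⟨hG₁.trans hr₁, hF₁.trans hr₂⟩, ⟨hG₂.trans hr₁, hF₂.trans hr₂⟩⟩⟩

instance : Nonempty (PairModel a b f f₁ w) := by
  obtain ⟨G⟩ := (inferInstance : Nonempty (Family a))
  obtain ⟨F⟩ := (inferInstance : Nonempty (Family b))
  obtain ⟨p, -⟩ := exists_ge (w := w) G F
  exact ⟨p⟩

variable (a b f f₁ w)

omit [IsAffineHom a] [IsAffineHom b] [QuasiSeparatedSpace X₁] [QuasiSeparatedSpace Y₁]
  [CompactSpace X₁] [CompactSpace Y₁] in
lemma monotone_F : Monotone (fun p : PairModel a b f f₁ w ↦ p.F) := fun _ _ h ↦ h.2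

omit [IsAffineHom a] [IsAffineHom b] [QuasiSeparatedSpace X₁] [QuasiSeparatedSpace Y₁]
  [CompactSpace X₁] [CompactSpace Y₁] in
lemma monotone_G : Monotone (fun p : PairModel a b f f₁ w ↦ p.G) := fun _ _ h ↦ h.1

instance : (monotone_F a b f f₁ w).functor.Final :=
  (Monotone.final_functor_iff _).mpr fun F ↦ by
    obtain ⟨G⟩ := (inferInstance : Nonempty (Family a))
    obtain ⟨p, -, hp⟩ := exists_ge (w := w) G F
    exact ⟨p, hp⟩

instance : (monotone_G a b f f₁ w).functor.Final :=
  (Monotone.final_functor_iff _).mpr fun G ↦ by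
    obtain ⟨F⟩ := (inferInstance : Nonempty (Family b))
    obtain ⟨p, hp, -⟩ := exists_ge (w := w) G F
    exact ⟨p, hp⟩

/-- The diagram of models of `Y`. -/
noncomputable def srcDiagram : (PairModel a b f f₁ w)ᵒᵖ ⥤ Scheme.{u} :=
  (monotone_F a b f f₁ w).functor.op ⋙ Family.diagram b

/-- The diagram of models of `X`. -/
noncomputable def tgtDiagram : (PairModel a b f f₁ w)ᵒᵖ ⥤ Scheme.{u} :=
  (monotone_G a b f f₁ w).functor.op ⋙ Family.diagram a

instance {p q : (PairModel a b f f₁ w)ᵒᵖ} (g : p ⟶ q) :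
    IsAffineHom ((srcDiagram a b f f₁ w).map g) :=
  Family.isAffineHom_map (h := b) ((monotone_F a b f f₁ w).functor.op.map g)

instance {p q : (PairModel a b f f₁ w)ᵒᵖ} (g : p ⟶ q) :
    IsAffineHom ((tgtDiagram a b f f₁ w).map g) :=
  Family.isAffineHom_map (h := a) ((monotone_G a b f f₁ w).functor.op.map g)

/-- A transition map of models of `Y`. -/
noncomputable def srcMap {p q : (PairModel a b f f₁ w)ᵒᵖ} (g : p ⟶ q) :
    p.unop.F.alg.spec ⟶ q.unop.F.alg.spec :=
  (srcDiagram a b f f₁ w).map g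

/-- A transition map of models of `X`. -/
noncomputable def tgtMap {p q : (PairModel a b f f₁ w)ᵒᵖ} (g : p ⟶ q) :
    p.unop.G.alg.spec ⟶ q.unop.G.alg.spec :=
  (tgtDiagram a b f f₁ w).map g

lemma srcMap_π {p q : (PairModel a b f f₁ w)ᵒᵖ} (g : p ⟶ q) :
    srcMap a b f f₁ w g ≫ q.unop.F.alg.π = p.unop.F.alg.π :=
  RelSpec.QCAlg.specMap_π _

lemma tgtMap_π {p q : (PairModel a b f f₁ w)ᵒᵖ} (g : p ⟶ q) :
    tgtMap a b f f₁ w g ≫ q.unop.G.alg.π = p.unop.G.alg.π :=
  RelSpec.QCAlg.specMap_π _

lemma toModel_srcMap {p q : (PairModel a b f f₁ w)ᵒᵖ} (g : p ⟶ q) :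
    p.unop.F.toModel ≫ srcMap a b f f₁ w g = q.unop.F.toModel :=
  (Family.cone b).w ((monotone_F a b f f₁ w).functor.op.map g)

lemma toModel_tgtMap {p q : (PairModel a b f f₁ w)ᵒᵖ} (g : p ⟶ q) :
    p.unop.G.toModel ≫ tgtMap a b f f₁ w g = q.unop.G.toModel :=
  (Family.cone a).w ((monotone_G a b f f₁ w).functor.op.map g)

lemma srcMap_comp_hom {p q : (PairModel a b f f₁ w)ᵒᵖ} (g : p ⟶ q) :
    srcMap a b f f₁ w g ≫ q.unop.compat.hom = p.unop.compat.hom ≫ tgtMap a b f f₁ w g := by
  have : IsAffineHom q.unop.G.alg.π := q.unop.G.alg.isAffineHom_π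
  refine ext_of_app_injective p.unop.F.toModel _ _ q.unop.G.alg.π ?_
    p.unop.F.toModel_app_injective ?_
  · rw [Category.assoc, Category.assoc, Compat.hom_π, tgtMap_π, Compat.hom_π, ← Category.assoc,
      srcMap_π]
  · rw [← Category.assoc, toModel_srcMap, Compat.toModel_hom, ← Category.assoc,
      Compat.toModel_hom, Category.assoc, toModel_tgtMap]

/-- The morphisms of models. -/
noncomputable def modelHom : srcDiagram a b f f₁ w ⟶ tgtDiagram a b f f₁ w where
  app p := p.unop.compat.hom
  naturality _ _ g := srcMap_comp_hom a b f f₁ w g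

/-- The cone of `Y`. -/
noncomputable def srcCone : Cone (srcDiagram a b f f₁ w) :=
  (Family.cone b).whisker (monotone_F a b f f₁ w).functor.op

/-- The cone of `X`. -/
noncomputable def tgtCone : Cone (tgtDiagram a b f f₁ w) :=
  (Family.cone a).whisker (monotone_G a b f f₁ w).functor.op

theorem isLimit_srcCone : Nonempty (IsLimit (srcCone a b f f₁ w)) :=
  ⟨(Functor.Initial.isLimitWhiskerEquiv (monotone_F a b f f₁ w).functor.op _).symm
    (Family.isLimit_cone b).some⟩

theorem isLimit_tgtCone : Nonempty (IsLimit (tgtCone a b f f₁ w)) :=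
  ⟨(Functor.Initial.isLimitWhiskerEquiv (monotone_G a b f f₁ w).functor.op _).symm
    (Family.isLimit_cone a).some⟩

lemma cone_modelHom (p : (PairModel a b f f₁ w)ᵒᵖ) :
    (srcCone a b f f₁ w).π.app p ≫ (modelHom a b f f₁ w).app p =
      f ≫ (tgtCone a b f f₁ w).π.app p :=
  p.unop.compat.toModel_hom

/-- The structure map of the model of `Y` over `X`. -/
noncomputable def overHom (p : PairModel a b f f₁ w) : pullback p.compat.hom p.G.toModel ⟶ X :=
  pullback.snd _ _

/-- The map from `Y`. -/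
noncomputable def overLift (p : PairModel a b f f₁ w) : Y ⟶ pullback p.compat.hom p.G.toModel :=
  pullback.lift p.F.toModel f p.compat.toModel_hom

@[reassoc]
lemma overLift_hom (p : PairModel a b f f₁ w) : overLift a b f f₁ w p ≫ overHom a b f f₁ w p = f :=
  pullback.lift_snd _ _ _

@[reassoc]
lemma overLift_fst (p : PairModel a b f f₁ w) :
    overLift a b f f₁ w p ≫ pullback.fst p.compat.hom p.G.toModel = p.F.toModel :=
  pullback.lift_fst _ _ _

instance (p : PairModel a b f f₁ w) : IsAffineHom (overLift a b f f₁ w p) := by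
  have h0 : IsAffineHom p.G.toModel := inferInstance
  have h1 : IsAffineHom (pullback.fst p.compat.hom p.G.toModel) :=
    MorphismProperty.pullback_fst (P := @IsAffineHom) _ _ h0
  refine MorphismProperty.of_postcomp (W := @IsAffineHom) (W' := @IsSeparated) _
    (pullback.fst p.compat.hom p.G.toModel) inferInstance ?_
  rw [overLift_fst]
  infer_instance

/-- The transition map over `X`. -/
noncomputable def overMap {p q : (PairModel a b f f₁ w)ᵒᵖ} (g : p ⟶ q) :
    pullback p.unop.compat.hom p.unop.G.toModel ⟶ pullback q.unop.compat.hom q.unop.G.toModel :=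
  pullback.lift (pullback.fst _ _ ≫ srcMap a b f f₁ w g) (pullback.snd _ _) (by
    rw [Category.assoc, srcMap_comp_hom, pullback.condition_assoc, toModel_tgtMap])

lemma overMap_fst {p q : (PairModel a b f f₁ w)ᵒᵖ} (g : p ⟶ q) :
    overMap a b f f₁ w g ≫ pullback.fst _ _ = pullback.fst _ _ ≫ srcMap a b f f₁ w g :=
  pullback.lift_fst _ _ _

lemma overMap_snd {p q : (PairModel a b f f₁ w)ᵒᵖ} (g : p ⟶ q) :
    overMap a b f f₁ w g ≫ pullback.snd _ _ = pullback.snd _ _ :=
  pullback.lift_snd _ _ _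

/-- The diagram over `X`. -/
noncomputable def overDiagram : (PairModel a b f f₁ w)ᵒᵖ ⥤ Over X where
  obj p := Over.mk (overHom a b f f₁ w p.unop)
  map g := Over.homMk (overMap a b f f₁ w g) (overMap_snd a b f f₁ w g)
  map_id p := by
    ext
    change overMap a b f f₁ w (𝟙 p) = 𝟙 _
    apply pullback.hom_ext
    · rw [overMap_fst, Category.id_comp,
        show srcMap a b f f₁ w (𝟙 p) = 𝟙 _ from (srcDiagram a b f f₁ w).map_id p, Category.comp_id]
    · rw [overMap_snd, Category.id_comp]
  map_comp {p q r} g g' := by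
    ext
    change overMap a b f f₁ w (g ≫ g') = overMap a b f f₁ w g ≫ overMap a b f f₁ w g'
    apply pullback.hom_ext
    · rw [Category.assoc, overMap_fst, overMap_fst, ← Category.assoc (overMap a b f f₁ w g),
        overMap_fst, Category.assoc]
      exact congrArg _ ((srcDiagram a b f f₁ w).map_comp g g')
    · rw [Category.assoc, overMap_snd, overMap_snd, overMap_snd]

lemma overLift_overMap {p q : (PairModel a b f f₁ w)ᵒᵖ} (g : p ⟶ q) :
    overLift a b f f₁ w p.unop ≫ overMap a b f f₁ w g = overLift a b f f₁ w q.unop := by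
  apply pullback.hom_ext
  · rw [Category.assoc, overMap_fst, overLift_fst_assoc, toModel_srcMap, overLift_fst]
  · rw [Category.assoc, overMap_snd]
    exact (overLift_hom a b f f₁ w _).trans (overLift_hom a b f f₁ w _).symm

/-- The cone over `X`. -/
noncomputable def overCone : Cone (overDiagram a b f f₁ w) where
  pt := Over.mk f
  π := { app := fun p ↦ Over.homMk (overLift a b f f₁ w p.unop) (overLift_hom a b f f₁ w _)
         naturality := fun p q g ↦ by
           ext
           change 𝟙 Y ≫ overLift a b f f₁ w q.unop =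
             overLift a b f f₁ w p.unop ≫ overMap a b f f₁ w g
           rw [Category.id_comp, overLift_overMap] }

/-- `Y` is the limit over `X` of its models. -/
theorem isLimit_overCone : Nonempty (IsLimit (overCone a b f f₁ w)) := by
  obtain ⟨hY⟩ := isLimit_srcCone a b f f₁ w
  obtain ⟨hX⟩ := isLimit_tgtCone a b f f₁ w
  let m : ∀ (s : Cone (overDiagram a b f f₁ w)) (p : (PairModel a b f f₁ w)ᵒᵖ),
      s.pt.left ⟶ pullback p.unop.compat.hom p.unop.G.toModel := fun s p ↦ (s.π.app p).left
  have hm2 : ∀ s p, m s p ≫ pullback.snd _ _ = s.pt.hom := fun s p ↦ Over.w (s.π.app p)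
  have hmw : ∀ s {p q : (PairModel a b f f₁ w)ᵒᵖ} (g : p ⟶ q),
      (m s p ≫ pullback.fst _ _) ≫ srcMap a b f f₁ w g = m s q ≫ pullback.fst _ _ :=
    fun s p q g ↦ by
      have h := congr(($(s.w g)).left)
      change m s p ≫ overMap a b f f₁ w g = m s q at h
      rw [← h, Category.assoc, Category.assoc, overMap_fst]
  let sY : ∀ s : Cone (overDiagram a b f f₁ w), Cone (srcDiagram a b f f₁ w) := fun s ↦
    { pt := s.pt.left
      π := { app := fun p ↦ m s p ≫ pullback.fst _ _
             naturality := fun p q g ↦ (Category.id_comp _).trans (hmw s g).symm } }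
  let l : ∀ s : Cone (overDiagram a b f f₁ w), s.pt.left ⟶ Y := fun s ↦ hY.lift (sY s)
  have hlF : ∀ s p, l s ≫ p.unop.F.toModel = m s p ≫ pullback.fst _ _ := fun s p ↦ hY.fac (sY s) p
  have hl : ∀ s, l s ≫ f = s.pt.hom := fun s ↦ hX.hom_ext fun p ↦ by
    change (l s ≫ f) ≫ p.unop.G.toModel = s.pt.hom ≫ p.unop.G.toModel
    rw [Category.assoc, ← p.unop.compat.toModel_hom, reassoc_of% (hlF s p), pullback.condition,
      reassoc_of% (hm2 s p)]
  exact ⟨
    { lift := fun s ↦ Over.homMk (l s) (hl s)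
      fac := fun s p ↦ by
        ext
        change l s ≫ overLift a b f f₁ w p.unop = m s p
        apply pullback.hom_ext
        · rw [Category.assoc, overLift_fst, hlF]
        · rw [Category.assoc, hm2]
          exact (congrArg (l s ≫ ·) (overLift_hom a b f f₁ w _)).trans (hl s)
      uniq := fun s k h ↦ by
        ext
        refine hY.uniq (sY s) k.left fun p ↦ ?_
        let k' : s.pt.left ⟶ Y := k.left
        have h' : k' ≫ overLift a b f f₁ w p.unop = m s p := congr(($(h p)).left)
        change k' ≫ p.unop.F.toModel = m s p ≫ pullback.fst _ _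
        rw [← h', Category.assoc, overLift_fst] }⟩

variable [IsLocallyNoetherian X₁] [LocallyOfFiniteType f₁]

omit [CompactSpace X₁] [CompactSpace Y₁] in
lemma isLocallyNoetherian_tgt (p : PairModel a b f f₁ w) : IsLocallyNoetherian p.G.alg.spec :=
  LocallyOfFiniteType.isLocallyNoetherian p.G.alg.π

omit [CompactSpace X₁] [CompactSpace Y₁] in
lemma isLocallyNoetherian_src (p : PairModel a b f f₁ w) : IsLocallyNoetherian p.F.alg.spec :=
  LocallyOfFiniteType.isLocallyNoetherian (p.F.alg.π ≫ f₁)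

omit [CompactSpace X₁] [CompactSpace Y₁] in
lemma locallyOfFinitePresentation_hom (p : PairModel a b f f₁ w) :
    LocallyOfFinitePresentation p.compat.hom := by
  have := isLocallyNoetherian_tgt a b f f₁ w p
  have : LocallyOfFiniteType (p.compat.hom ≫ p.G.alg.π) := by
    rw [Compat.hom_π]; infer_instance
  have := locallyOfFiniteType_of_comp p.compat.hom p.G.alg.π
  exact LocallyOfFinitePresentation.iff_locallyOfFiniteType.mpr this

omit [CompactSpace X₁] in
lemma quasiCompact_quasiSeparated_hom (p : PairModel a b f f₁ w) :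
    QuasiCompact p.compat.hom ∧ QuasiSeparated p.compat.hom := by
  have := isLocallyNoetherian_tgt a b f f₁ w p
  have := isLocallyNoetherian_src a b f f₁ w p
  have : IsAffineHom p.F.alg.π := p.F.alg.isAffineHom_π
  have : CompactSpace p.F.alg.spec := QuasiCompact.compactSpace_of_compactSpace p.F.alg.π
  exact ⟨quasiCompact_of_compactSpace _, inferInstance⟩

omit [CompactSpace X₁] in
lemma overHom_props (p : PairModel a b f f₁ w) :
    LocallyOfFinitePresentation (overHom a b f f₁ w p) ∧ QuasiCompact (overHom a b f f₁ w p) ∧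
      QuasiSeparated (overHom a b f f₁ w p) :=
  ⟨MorphismProperty.pullback_snd (P := @LocallyOfFinitePresentation) _ _
      (locallyOfFinitePresentation_hom a b f f₁ w p),
    MorphismProperty.pullback_snd (P := @QuasiCompact) _ _
      (quasiCompact_quasiSeparated_hom a b f f₁ w p).1,
    MorphismProperty.pullback_snd (P := @QuasiSeparated) _ _
      (quasiCompact_quasiSeparated_hom a b f f₁ w p).2⟩

/-- If `f` is separated, some model is separated. -/
lemma exists_isSeparated_overHom [IsSeparated f] :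
    ∃ p, IsSeparated (overHom a b f f₁ w p) := by
  obtain ⟨hY⟩ := isLimit_srcCone a b f f₁ w
  let t : srcDiagram a b f f₁ w ⟶ (Functor.const _).obj X₁ :=
    { app := fun p ↦ p.unop.F.alg.π ≫ f₁
      naturality := fun p q g ↦ by
        change srcMap a b f f₁ w g ≫ q.unop.F.alg.π ≫ f₁ = (p.unop.F.alg.π ≫ f₁) ≫ 𝟙 X₁
        rw [Category.comp_id, ← Category.assoc, srcMap_π] }
  have : ∀ p, CompactSpace ((srcDiagram a b f f₁ w).obj p) := fun p ↦
    show CompactSpace p.unop.F.alg.spec from
      haveI : IsAffineHom p.unop.F.alg.π := p.unop.F.alg.isAffineHom_π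
      QuasiCompact.compactSpace_of_compactSpace p.unop.F.alg.π
  have : ∀ p, QuasiSeparatedSpace ((srcDiagram a b f f₁ w).obj p) := fun p ↦
    show QuasiSeparatedSpace p.unop.F.alg.spec from
      haveI := isLocallyNoetherian_src a b f f₁ w p.unop
      inferInstance
  have : IsSeparated (b ≫ f₁) := by rw [w]; infer_instance
  let s' : (srcCone a b f f₁ w).pt ⟶ X₁ := b ≫ f₁
  have : IsSeparated s' := this
  obtain ⟨p, hp⟩ := exists_forall_isSeparated t (s := s') (fun p ↦ by
    change p.unop.F.toModel ≫ p.unop.F.alg.π ≫ f₁ = b ≫ f₁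
    rw [Family.toModel_π_assoc]) hY
  refine ⟨p.unop, MorphismProperty.pullback_snd (P := @IsSeparated) _ _ ?_⟩
  have h1 : IsSeparated (p.unop.compat.hom ≫ p.unop.G.alg.π) := by
    rw [Compat.hom_π]
    exact hp p (𝟙 p)
  exact IsSeparated.of_comp p.unop.compat.hom p.unop.G.alg.π

end PairModel

end Groth.Agent.H8Lim
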