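import Mathlib

/-!
Closed subsets of a base change `X ×_S T` avoiding a fibre descend to a base `T'` locally of finite
presentation over `S`: the affine core.
-/

set_option autoImplicit false
set_option backward.isDefEq.respectTransparency.types false

universe u

open CategoryTheory CategoryTheory.Limits AlgebraicGeometry TensorProduct

namespace Groth.Agent.H8Lim.AvoidFibre

section Algebra

variable {R C A : Type u} [CommRing R] [CommRing C] [CommRing A] [Algebra R C] [Algebra R A]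

/-- Every element of a tensor product lifts along any map whose range contains a fixed finite
set. -/
theorem exists_finset_mem_range (y : C ⊗[R] A) :
    ∃ F : Finset A, ∀ (P : Type u) [CommRing P] [Algebra R P] (x : P →ₐ[R] A),
      ↑F ⊆ Set.range x → ∃ y' : C ⊗[R] P, Algebra.TensorProduct.map (AlgHom.id R C) x y' = y := by
  classical
  induction y using TensorProduct.induction_on with
  | zero => exact ⟨∅, fun P _ _ x _ => ⟨0, map_zero _⟩⟩
  | tmul c a =>
    refine ⟨{a}, fun P _ _ x hx => ?_⟩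
    obtain ⟨a', ha'⟩ := hx (Finset.mem_coe.mpr (Finset.mem_singleton_self a))
    exact ⟨c ⊗ₜ a', by simp [ha']⟩
  | add y₁ y₂ h₁ h₂ =>
    obtain ⟨F₁, hF₁⟩ := h₁
    obtain ⟨F₂, hF₂⟩ := h₂
    refine ⟨F₁ ∪ F₂, fun P _ _ x hx => ?_⟩
    rw [Finset.coe_union, Set.union_subset_iff] at hx
    obtain ⟨y₁', rfl⟩ := hF₁ P x hx.1
    obtain ⟨y₂', rfl⟩ := hF₂ P x hx.2
    exact ⟨y₁' + y₂', map_add _ _ _⟩

/-- If no prime of `C ⊗ A` containing `J` lies over the prime `p` of `A`, then, after lifting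
along any map `x : P → A` whose range contains a fixed finite set, some element of `C ⊗ P` mapping
into `J` is nonzero at every prime over `x⁻¹ p`. -/
theorem exists_finset_lift (J : Ideal (C ⊗[R] A)) (p : Ideal A) [p.IsPrime]
    (h : ∀ q : Ideal (C ⊗[R] A), q.IsPrime → J ≤ q →
      q.comap (Algebra.TensorProduct.includeRight : A →ₐ[R] C ⊗[R] A) = p → False) :
    ∃ F : Finset A, ∀ (P : Type u) [CommRing P] [Algebra R P] (x : P →ₐ[R] A),
      ↑F ⊆ Set.range x → ∃ j : C ⊗[R] P, Algebra.TensorProduct.map (AlgHom.id R C) x j ∈ J ∧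
        ∀ q : Ideal (C ⊗[R] P), q.IsPrime →
          q.comap (Algebra.TensorProduct.includeRight : P →ₐ[R] C ⊗[R] P) = p.comap x →
          j ∉ q := by
  classical
  let inr : A →ₐ[R] C ⊗[R] A := Algebra.TensorProduct.includeRight
  let S : Submonoid (C ⊗[R] A) := p.primeCompl.map (inr : A →* C ⊗[R] A)
  have hmeet : ¬ Disjoint ((J ⊔ p.map inr : Ideal (C ⊗[R] A)) : Set (C ⊗[R] A)) (S : Set _) := by
    intro hd
    obtain ⟨q, hq, hle, hqS⟩ := Ideal.exists_le_prime_disjoint _ S hd
    refine h q hq (le_trans le_sup_left hle) (le_antisymm (fun a ha => ?_) ?_)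
    · by_contra hap
      exact Set.disjoint_left.mp hqS (Ideal.mem_comap.mp ha)
        (Submonoid.mem_map_of_mem (inr : A →* C ⊗[R] A) hap)
    · exact Ideal.map_le_iff_le_comap.mp (le_trans le_sup_right hle)
  obtain ⟨e, he, heS⟩ := Set.not_disjoint_iff.mp hmeet
  obtain ⟨s, hs, rfl⟩ := Submonoid.mem_map.mp heS
  obtain ⟨j₀, hj₀, i, hi, hji⟩ := Submodule.mem_sup.mp he
  -- finite lifting data for `i`
  have hlift : ∃ F : Finset A, ∀ (P : Type u) [CommRing P] [Algebra R P] (x : P →ₐ[R] A),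
      ↑F ⊆ Set.range x → ∃ i' ∈ (p.comap x).map
        (Algebra.TensorProduct.includeRight : P →ₐ[R] C ⊗[R] P),
        Algebra.TensorProduct.map (AlgHom.id R C) x i' = i := by
    refine Submodule.span_induction (p := fun i _ => ∃ F : Finset A, ∀ (P : Type u) [CommRing P]
      [Algebra R P] (x : P →ₐ[R] A), ↑F ⊆ Set.range x → ∃ i' ∈ (p.comap x).map
        (Algebra.TensorProduct.includeRight : P →ₐ[R] C ⊗[R] P),
        Algebra.TensorProduct.map (AlgHom.id R C) x i' = i) ?_ ?_ ?_ ?_ hi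
    · rintro _ ⟨a, ha, rfl⟩
      refine ⟨{a}, fun P _ _ x hx => ?_⟩
      obtain ⟨a', ha'⟩ := hx (Finset.mem_coe.mpr (Finset.mem_singleton_self a))
      exact ⟨_, Ideal.mem_map_of_mem _ (show a' ∈ p.comap x by rw [Ideal.mem_comap, ha']; exact ha),
        by simp [inr, ha']⟩
    · exact ⟨∅, fun P _ _ x _ => ⟨0, Ideal.zero_mem _, map_zero _⟩⟩
    · rintro y₁ y₂ - - ⟨F₁, hF₁⟩ ⟨F₂, hF₂⟩
      refine ⟨F₁ ∪ F₂, fun P _ _ x hx => ?_⟩
      rw [Finset.coe_union, Set.union_subset_iff] at hx
      obtain ⟨y₁', hm₁, rfl⟩ := hF₁ P x hx.1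
      obtain ⟨y₂', hm₂, rfl⟩ := hF₂ P x hx.2
      exact ⟨y₁' + y₂', Ideal.add_mem _ hm₁ hm₂, map_add _ _ _⟩
    · rintro c y - ⟨F₁, hF₁⟩
      obtain ⟨F₂, hF₂⟩ := exists_finset_mem_range c
      refine ⟨F₁ ∪ F₂, fun P _ _ x hx => ?_⟩
      rw [Finset.coe_union, Set.union_subset_iff] at hx
      obtain ⟨y', hm, rfl⟩ := hF₁ P x hx.1
      obtain ⟨c', rfl⟩ := hF₂ P x hx.2
      exact ⟨c' * y', Ideal.mul_mem_left _ c' hm, by rw [map_mul, smul_eq_mul]⟩
  obtain ⟨F, hF⟩ := hlift
  refine ⟨insert s F, fun P _ _ x hx => ?_⟩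
  obtain ⟨s', hs'⟩ := hx (Finset.mem_coe.mpr (Finset.mem_insert_self s F))
  obtain ⟨i', hi', hmap⟩ := hF P x fun a ha =>
    hx (Finset.mem_coe.mpr (Finset.mem_insert_of_mem (Finset.mem_coe.mp ha)))
  refine ⟨(1 : C) ⊗ₜ s' - i', ?_, ?_⟩
  · have : Algebra.TensorProduct.map (AlgHom.id R C) x ((1 : C) ⊗ₜ s' - i') = j₀ := by
      rw [map_sub, hmap, Algebra.TensorProduct.map_tmul, hs', AlgHom.id_apply, sub_eq_iff_eq_add]
      exact hji.symm
    rw [this]
    exact hj₀
  · intro q hq hqc hj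
    have hi'q : i' ∈ q := by
      refine Ideal.map_le_iff_le_comap.mpr ?_ hi'
      rw [hqc]
    have h1 : (1 : C) ⊗ₜ[R] s' ∈ q := by simpa using Ideal.add_mem _ hj hi'q
    have h2 : s' ∈ p.comap x := by
      rw [← hqc, Ideal.mem_comap]
      exact h1
    rw [Ideal.mem_comap, hs'] at h2
    exact hs h2

end Algebra

section Piece

variable {R : Type u} [CommRing R] {X S : Scheme.{u}} {f : X ⟶ S} (w : Spec (.of R) ⟶ S) [Mono w]
  {B : Type u} [CommRing B] [Algebra R B] {C : Type u} [CommRing C] [Algebra R C]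
  {T : Scheme.{u}} {h : T ⟶ S} (θ : T ≅ Spec (.of B))
  (hh : θ.hom ≫ Spec.map (CommRingCat.ofHom (algebraMap R B)) ≫ w = h)
  (fC : Spec (.of C) ⟶ X) (hC : fC ≫ f = Spec.map (CommRingCat.ofHom (algebraMap R C)) ≫ w)

/-- The chart `Spec (C ⊗ B) → X ×_S T`. -/
noncomputable def piece : Spec (.of (C ⊗[R] B)) ⟶ pullback f h :=
  pullback.lift
    (Spec.map (CommRingCat.ofHom (R := C) (S := C ⊗[R] B)
      Algebra.TensorProduct.includeLeftRingHom) ≫ fC)
    (Spec.map (CommRingCat.ofHom (R := B) (S := C ⊗[R] B)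
      (Algebra.TensorProduct.includeRight : B →ₐ[R] C ⊗[R] B).toRingHom) ≫ θ.inv)
    (by
      have hp := (isPullback_SpecMap_of_isPushout _ _ _ _
        (CommRingCat.isPushout_tensorProduct R C B)).w
      rw [Category.assoc, hC, Category.assoc, ← hh, Iso.inv_hom_id_assoc, ← Category.assoc, hp,
        Category.assoc])

omit [Mono w] in
theorem piece_fst : piece w θ hh fC hC ≫ pullback.fst f h =
    Spec.map (CommRingCat.ofHom (R := C) (S := C ⊗[R] B)
      Algebra.TensorProduct.includeLeftRingHom) ≫ fC :=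
  pullback.lift_fst _ _ _

omit [Mono w] in
theorem piece_snd : piece w θ hh fC hC ≫ pullback.snd f h =
    Spec.map (CommRingCat.ofHom (R := B) (S := C ⊗[R] B)
      (Algebra.TensorProduct.includeRight : B →ₐ[R] C ⊗[R] B).toRingHom) ≫ θ.inv :=
  pullback.lift_snd _ _ _

theorem piece_isPullback :
    IsPullback (piece w θ hh fC hC)
      (Spec.map (CommRingCat.ofHom (R := C) (S := C ⊗[R] B)
        Algebra.TensorProduct.includeLeftRingHom))
      (pullback.fst f h) fC := by
  have h1 := isPullback_SpecMap_of_isPushout _ _ _ _ (CommRingCat.isPushout_tensorProduct R C B)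
  have h2 := h1.paste_vert (IsPullback.of_vert_isIso_mono
    (fst := Spec.map (CommRingCat.ofHom (algebraMap R B))) (snd := 𝟙 (Spec (.of B)))
    (f := w) (g := Spec.map (CommRingCat.ofHom (algebraMap R B)) ≫ w) ⟨(Category.id_comp _).symm⟩)
  rw [Category.comp_id] at h2
  have h3 := h2.of_iso (e₁ := Iso.refl _) (e₂ := Iso.refl _) (e₃ := θ.symm) (e₄ := Iso.refl _)
    (fst' := Spec.map (CommRingCat.ofHom (R := C) (S := C ⊗[R] B)
      Algebra.TensorProduct.includeLeftRingHom))
    (snd' := piece w θ hh fC hC ≫ pullback.snd f h) (f' := fC ≫ f) (g' := h)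
    (by simp) (by rw [piece_snd, Iso.refl_hom, Category.id_comp, Iso.symm_hom])
    (by rw [Iso.refl_hom, Iso.refl_hom, Category.comp_id, Category.id_comp, hC])
    (by rw [Iso.refl_hom, Category.comp_id, Iso.symm_hom, ← hh, Iso.inv_hom_id_assoc])
  exact IsPullback.of_right h3.flip (piece_fst w θ hh fC hC)
    (IsPullback.of_hasPullback f h).flip

theorem range_piece : Set.range (piece w θ hh fC hC) =
    (pullback.fst f h) ⁻¹' Set.range fC := by
  refine le_antisymm ?_ fun z hz => ?_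
  · rintro _ ⟨y, rfl⟩
    exact ⟨Spec.map (CommRingCat.ofHom (R := C) (S := C ⊗[R] B)
      Algebra.TensorProduct.includeLeftRingHom) y, by
        rw [← Scheme.Hom.comp_apply, ← Scheme.Hom.comp_apply, piece_fst]⟩
  · obtain ⟨c, hc⟩ := hz
    obtain ⟨y, hy, -⟩ := Scheme.exists_preimage_of_isPullback
      (piece_isPullback w θ hh fC hC) z c hc.symm
    exact ⟨y, hy⟩

theorem isOpenImmersion_piece [IsOpenImmersion fC] : IsOpenImmersion (piece w θ hh fC hC) :=
  MorphismProperty.of_isPullback (P := @IsOpenImmersion) (piece_isPullback w θ hh fC hC).flip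
    inferInstance

end Piece

section Core

open MvPolynomial in
/-- Affine core: a closed subset of `X ×_S T`, `T` affine over the affine monomorphism `w`, avoiding
the fibre over `t`, is contained near the fibre in the preimage of a closed subset of `X ×_S T'`
avoiding the fibre over the image of `t`, with `T'` affine and finitely presented over `w`. -/
theorem exists_lfp_closed_avoiding {R : Type u} [CommRing R] {X S T : Scheme.{u}} (f : X ⟶ S)
    (w : Spec (.of R) ⟶ S) [IsOpenImmersion w] {A : Type u} [CommRing A] [Algebra R A] (h : T ⟶ S)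
    (θ : T ≅ Spec (.of A)) (hh : θ.hom ≫ Spec.map (CommRingCat.ofHom (algebraMap R A)) ≫ w = h)
    {ι : Type} [Finite ι] (C : ι → Type u) [∀ k, CommRing (C k)] [∀ k, Algebra R (C k)]
    (fC : ∀ k, Spec (.of (C k)) ⟶ X) [∀ k, IsOpenImmersion (fC k)]
    (hC : ∀ k, fC k ≫ f = Spec.map (CommRingCat.ofHom (algebraMap R (C k))) ≫ w)
    (hcover : ∀ x : X, f x ∈ Set.range w → ∃ k, x ∈ Set.range (fC k))
    (t : T) (Z : Set ↥(pullback f h)) (hZ : IsClosed Z)
    (hZt : ∀ z ∈ Z, pullback.snd f h z ≠ t) :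
    ∃ (T' : Scheme.{u}) (b : T' ⟶ S) (a : T ⟶ T') (m : pullback f h ⟶ pullback f b)
      (Z' : Set ↥(pullback f b)),
      IsAffine T' ∧ LocallyOfFinitePresentation b ∧ a ≫ b = h ∧
      m ≫ pullback.fst f b = pullback.fst f h ∧ m ≫ pullback.snd f b = pullback.snd f h ≫ a ∧
      IsClosed Z' ∧ (∀ z' ∈ Z', pullback.snd f b z' ≠ a t) ∧
      ∀ z, z ∈ Z → m z ∈ Z' := by
  classical
  let πA := fun k => piece w θ hh (fC k) (hC k)
  let p : Ideal A := (θ.hom t).asIdeal
  have hfib : ∀ k, ∀ q : Ideal (C k ⊗[R] A), q.IsPrime →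
      PrimeSpectrum.vanishingIdeal (πA k ⁻¹' Z) ≤ q →
      q.comap (Algebra.TensorProduct.includeRight : A →ₐ[R] C k ⊗[R] A) = p → False := by
    intro k q hq hJq hqp
    let Q : ↥(Spec (CommRingCat.of (C k ⊗[R] A))) := ⟨q, hq⟩
    have hQ : πA k Q ∈ Z := by
      have : Q ∈ PrimeSpectrum.zeroLocus
          (PrimeSpectrum.vanishingIdeal (πA k ⁻¹' Z) : Set (C k ⊗[R] A)) := hJq
      rw [PrimeSpectrum.zeroLocus_vanishingIdeal_eq_closure] at this
      have e : closure (πA k ⁻¹' Z) = πA k ⁻¹' Z := (hZ.preimage (πA k).continuous).closure_eq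
      exact e.le this
    refine hZt _ hQ ?_
    rw [← Scheme.Hom.comp_apply, piece_snd, Scheme.Hom.comp_apply]
    have e : Spec.map (CommRingCat.ofHom (R := A) (S := C k ⊗[R] A)
        (Algebra.TensorProduct.includeRight : A →ₐ[R] C k ⊗[R] A).toRingHom) Q = θ.hom t :=
      PrimeSpectrum.ext hqp
    rw [e, ← Scheme.Hom.comp_apply, Iso.hom_inv_id]
    rfl
  choose F hF using fun k => exists_finset_lift _ p (hfib k)
  have : Fintype ι := Fintype.ofFinite ι
  let G : Finset A := Finset.univ.biUnion F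
  let P := MvPolynomial G R
  let x : P →ₐ[R] A := aeval Subtype.val
  have hG : ∀ k, (↑(F k) : Set A) ⊆ Set.range x := fun k a ha =>
    ⟨MvPolynomial.X ⟨a, Finset.mem_biUnion.mpr ⟨k, Finset.mem_univ k, ha⟩⟩, aeval_X _ _⟩
  choose j hjJ hjq using fun k => hF k P x (hG k)
  let b : Spec (.of P) ⟶ S := Spec.map (CommRingCat.ofHom (algebraMap R P)) ≫ w
  let a : T ⟶ Spec (.of P) := θ.hom ≫ Spec.map (CommRingCat.ofHom (R := P) (S := A) x.toRingHom)
  have hab : a ≫ b = h := by
    rw [← hh, Category.assoc, ← Category.assoc _ _ w, ← Spec.map_comp, ← CommRingCat.ofHom_comp,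
      show x.toRingHom.comp (algebraMap R P) = algebraMap R A from x.comp_algebraMap]
  have hb : LocallyOfFinitePresentation b := by
    have : LocallyOfFinitePresentation (Spec.map (CommRingCat.ofHom (algebraMap R P))) :=
      (HasRingHomProperty.Spec_iff (P := @LocallyOfFinitePresentation)).mpr
        (RingHom.finitePresentation_algebraMap.mpr inferInstance)
    infer_instance
  let m : pullback f h ⟶ pullback f b := pullback.lift (pullback.fst f h) (pullback.snd f h ≫ a)
    (by rw [Category.assoc, hab]; exact pullback.condition)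
  let πP := fun k => piece w (Iso.refl (Spec (.of P)))
    (h := b) (by simp [b]) (fC k) (hC k)
  have hP : ∀ k, IsOpenImmersion (πP k) := fun k => isOpenImmersion_piece _ _ _ _ _
  have hnat : ∀ k, πA k ≫ m = Spec.map (CommRingCat.ofHom (R := C k ⊗[R] P) (S := C k ⊗[R] A)
      (Algebra.TensorProduct.map (AlgHom.id R (C k)) x).toRingHom) ≫ πP k := by
    intro k
    apply pullback.hom_ext
    · simp only [πA, πP, m, Category.assoc, pullback.lift_fst, piece_fst, ← Spec.map_comp_assoc,
        ← CommRingCat.ofHom_comp]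
      congr 3
      ext c
      simp
    · simp only [πA, πP, m, a, Category.assoc, pullback.lift_snd, piece_snd, Iso.refl_inv,
        Category.comp_id]
      rw [← Category.assoc (piece _ _ _ _ _), piece_snd, Category.assoc,
        Iso.inv_hom_id_assoc, ← Spec.map_comp, ← Spec.map_comp,
        ← CommRingCat.ofHom_comp, ← CommRingCat.ofHom_comp]
      congr 2
  let O : Set ↥(pullback f b) := ⋃ k, πP k '' (PrimeSpectrum.zeroLocus {j k})ᶜ
  have hO : IsOpen O := isOpen_iUnion fun k =>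
    (hP k).base_open.isOpenMap _ (PrimeSpectrum.isClosed_zeroLocus {j k}).isOpen_compl
  refine ⟨Spec (.of P), b, a, m, Oᶜ, inferInstance, hb, hab, pullback.lift_fst _ _ _,
    pullback.lift_snd _ _ _, hO.isClosed_compl, ?_, ?_⟩
  · intro z' hz' hzt
    have hw : f (pullback.fst f b z') ∈ Set.range w := by
      rw [← Scheme.Hom.comp_apply, pullback.condition, Scheme.Hom.comp_apply, Scheme.Hom.comp_apply]
      exact ⟨_, rfl⟩
    obtain ⟨k, hk⟩ := hcover _ hw
    obtain ⟨q, rfl⟩ : z' ∈ Set.range (πP k) := by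
      rw [range_piece]
      exact hk
    refine hz' (Set.mem_iUnion.mpr ⟨k, q, ?_, rfl⟩)
    intro hjmem
    refine hjq k q.asIdeal q.2 ?_ (hjmem rfl)
    rw [← Scheme.Hom.comp_apply, piece_snd] at hzt
    simp only [Iso.refl_inv, Category.comp_id, a, Scheme.Hom.comp_apply] at hzt
    exact congrArg PrimeSpectrum.asIdeal hzt
  · intro z hz hzO
    obtain ⟨k, q', hq', hq'z⟩ := Set.mem_iUnion.mp hzO
    obtain ⟨q, rfl⟩ : z ∈ Set.range (πA k) := by
      rw [range_piece]
      refine ⟨Spec.map (CommRingCat.ofHom (R := C k) (S := C k ⊗[R] P)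
        Algebra.TensorProduct.includeLeftRingHom) q', ?_⟩
      rw [← Scheme.Hom.comp_apply, ← piece_fst w (Iso.refl (Spec (.of P))) (h := b) (by simp [b])
        (fC k) (hC k), Scheme.Hom.comp_apply, hq'z, ← Scheme.Hom.comp_apply, pullback.lift_fst]
    have e : q' = Spec.map (CommRingCat.ofHom (R := C k ⊗[R] P) (S := C k ⊗[R] A)
        (Algebra.TensorProduct.map (AlgHom.id R (C k)) x).toRingHom) q := by
      apply (hP k).base_open.injective
      show πP k q' = πP k _
      rw [← Scheme.Hom.comp_apply, ← hnat, Scheme.Hom.comp_apply]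
      exact hq'z
    have hJq : PrimeSpectrum.vanishingIdeal (πA k ⁻¹' Z) ≤ q.asIdeal := fun y hy =>
      (PrimeSpectrum.mem_vanishingIdeal _ _).mp hy q hz
    subst e
    exact hq' fun y hy => by rw [Set.mem_singleton_iff.mp hy]; exact hJq (hjJ k)

end Core

end Groth.Agent.H8Lim.AvoidFibre
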