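import Groth.Agent.RelVALib.Chow

/-!
# Chow's construction with given targets

Adapted from `Groth.Agent.RelVALib.Chow.exists_chow`: the projective targets of the pieces and their product
are arbitrary proper schemes over the base, and the immersion into the product is returned.
-/

set_option autoImplicit false
set_option backward.isDefEq.respectTransparency.types false

universe u

open CategoryTheory CategoryTheory.Limits AlgebraicGeometry TopologicalSpace
open Groth.Agent.RelVALib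

namespace Groth.Agent.H8Lim

/-- Chow's construction, with given immersions of the pieces. -/
theorem exists_chow_into {X S : Scheme.{u}} (f : X ⟶ S) [CompactSpace S] [QuasiSeparatedSpace S] [IsSeparated f]
    [LocallyOfFiniteType f] [QuasiCompact f] {k : ℕ} (V : Fin k → X.Opens)
    (hcov : ∀ x : X, ∃ i, x ∈ V i) (U : X.Opens) (hUc : IsCompact (U : Set X)) (hUV : ∀ i, U ≤ V i)
    {P : Fin k → Scheme.{u}} (p : ∀ i, P i ⟶ S) (hp : ∀ i, IsSeparated (p i))
    (j : ∀ i, (V i : Scheme.{u}) ⟶ P i) (hj : ∀ i, IsImmersion (j i)) (hjp : ∀ i, j i ≫ p i = (V i).ι ≫ f)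
    {Q : Scheme.{u}} (s : Q ⟶ S) (hsp : IsProper s) (l : (U : Scheme.{u}) ⟶ Q) (hl : l ≫ s = U.ι ≫ f)
    (q : ∀ i, Q ⟶ P i) (hq : ∀ i, l ≫ q i = (X.homOfLE (hUV i) ≫ j i) ∧ q i ≫ p i = s) :
    ∃ (X' : Scheme.{u}) (π : X' ⟶ X) (ρ : X' ⟶ Q),
      IsProper π ∧ IsImmersion ρ ∧ ρ ≫ s = π ≫ f ∧ IsIso (π ∣_ U) ∧ Dense ((π ⁻¹ᵁ U : X'.Opens) : Set X') ∧
      (U : Set X) ⊆ Set.range π := by
  classical
  let jU : ∀ i, (U : Scheme.{u}) ⟶ P i := fun i => X.homOfLE (hUV i) ≫ j i
  have : CompactSpace (U : Scheme.{u}) := isCompact_iff_compactSpace.1 hUc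
  have : QuasiSeparatedSpace X := quasiSeparatedSpace_of_quasiSeparated f
  let T := pullback f s
  have : QuasiSeparatedSpace T := quasiSeparatedSpace_of_quasiSeparated (pullback.fst f s)
  let φ : (U : Scheme.{u}) ⟶ T := pullback.lift U.ι l hl.symm
  have : QuasiCompact φ := QuasiCompact.of_comp φ (pullback.fst f s ≫ f)
  let σ := φ.toImage
  have hσ := isSchemeTheoreticallyDominant_toImage φ
  let π : φ.image ⟶ X := φ.imageι ≫ pullback.fst f s
  let ρ : φ.image ⟶ Q := φ.imageι ≫ pullback.snd f s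
  have hρ : ρ ≫ s = π ≫ f := by simp [ρ, π, pullback.condition]
  have hσπ : σ ≫ π = U.ι := by
    rw [← Category.assoc, Scheme.Hom.toImage_imageι, pullback.lift_fst]
  have hσρ : σ ≫ ρ = l := by
    rw [← Category.assoc, Scheme.Hom.toImage_imageι, pullback.lift_snd]
  have hπp : IsProper π := inferInstanceAs (IsProper (φ.imageι ≫ pullback.fst f s))
  -- the open pieces of the target
  have := fun i => hj i
  let W : Fin k → Q.Opens := fun i => q i ⁻¹ᵁ (j i).coborderRange
  have hρW : ∀ i, π ⁻¹ᵁ V i ≤ ρ ⁻¹ᵁ W i := fun i z hz => by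
    have hsep : IsSeparated (p i) := hp i
    have key : (π ⁻¹ᵁ V i).ι ≫ ρ ≫ q i = (π ∣_ V i) ≫ j i := by
      refine eq_of_schDominant σ (π ⁻¹ᵁ V i) (p i) ?_ ?_
      · rw [Category.assoc, Category.assoc, (hq i).2, hρ, Category.assoc (π ∣_ V i), hjp, morphismRestrict_ι_assoc]
      · rw [morphismRestrict_ι_assoc, reassoc_of% hσρ, (hq i).1]
        simp only [jU, ← Category.assoc]
        congr 1
        rw [← cancel_mono (V i).ι]
        simp only [Category.assoc, Scheme.homOfLE_ι, morphismRestrict_ι, morphismRestrict_ι_assoc, hσπ]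
    have h2 := congrArg (fun m : (π ⁻¹ᵁ V i : Scheme.{u}) ⟶ P i => m ⟨z, hz⟩) key
    show q i (ρ z) ∈ (j i).coborderRange
    simp only [Scheme.Hom.comp_apply] at h2
    rw [show (π ⁻¹ᵁ V i).ι ⟨z, hz⟩ = z from rfl] at h2
    rw [h2]
    exact subset_coborder ⟨_, rfl⟩
  have hWimm : ∀ i, IsClosedImmersion (ρ ∣_ W i) := fun i => by
    let R := (j i).coborderRange
    let a : (q i ⁻¹ᵁ R : Scheme.{u}) ⟶ S := (W i).ι ≫ s
    let g := pullback.fst (q i ∣_ R) (j i).liftCoborder
    let e : pullback (q i ∣_ R) (j i).liftCoborder ⟶ X := pullback.snd _ _ ≫ (V i).ι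
    have hge : g ≫ (W i).ι ≫ s = e ≫ f := by
      show pullback.fst _ _ ≫ _ = (pullback.snd _ _ ≫ _) ≫ f
      have hj' : (j i).liftCoborder ≫ R.ι ≫ p i = (V i).ι ≫ f := by
        rw [← Category.assoc, Scheme.Hom.liftCoborder_ι, hjp]
      rw [Category.assoc, ← hj', ← pullback.condition_assoc, morphismRestrict_ι_assoc, (hq i).2]
    let G : pullback (q i ∣_ R) (j i).liftCoborder ⟶ pullback f a := pullback.lift e g hge.symm
    have hG : IsClosedImmersion G := by
      have hfac : G = pullback.lift e (𝟙 _) (by rw [Category.id_comp, hge]) ≫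
          pullback.map f (g ≫ a) f a (𝟙 X) g (𝟙 S) (by simp) (by simp [a]) := by
        refine pullback.hom_ext ?_ ?_
        · simp only [G, pullback.map, Category.assoc, pullback.lift_fst, pullback.lift_fst_assoc, Category.comp_id]
        · simp only [G, pullback.map, Category.assoc, pullback.lift_snd, pullback.lift_snd_assoc, Category.id_comp]
      have h1 : IsClosedImmersion (pullback.lift (f := f) (g := g ≫ a) e (𝟙 _) (by rw [Category.id_comp, hge])) := by
        have h0 : pullback.lift (f := f) (g := g ≫ a) e (𝟙 _) (by rw [Category.id_comp, hge]) ≫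
            pullback.snd f (g ≫ a) = 𝟙 _ := pullback.lift_snd _ _ _
        have : IsClosedImmersion (pullback.lift (f := f) (g := g ≫ a) e (𝟙 _) (by rw [Category.id_comp, hge]) ≫
            pullback.snd f (g ≫ a)) := by rw [h0]; infer_instance
        exact IsClosedImmersion.of_comp _ (pullback.snd f (g ≫ a))
      have h2 : IsClosedImmersion (pullback.map f (g ≫ a) f a (𝟙 X) g (𝟙 S) (by simp) (by simp [a])) :=
        MorphismProperty.pullback_map (P := @IsClosedImmersion) inferInstance inferInstance (by simp) rfl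
      rw [hfac]
      infer_instance
    let m : (ρ ⁻¹ᵁ W i : Scheme.{u}) ⟶ pullback f a :=
      pullback.lift ((ρ ⁻¹ᵁ W i).ι ≫ π) (ρ ∣_ W i) (by
        rw [Category.assoc, ← hρ, morphismRestrict_ι_assoc])
    let b₁ := (σ ⁻¹ᵁ (ρ ⁻¹ᵁ W i)).ι ≫ X.homOfLE (hUV i)
    have hb : ((σ ∣_ ρ ⁻¹ᵁ W i) ≫ (ρ ∣_ W i)) ≫ (q i ∣_ R) = b₁ ≫ (j i).liftCoborder := by
      rw [← cancel_mono R.ι]
      simp only [Category.assoc, morphismRestrict_ι, morphismRestrict_ι_assoc, Scheme.Hom.liftCoborder_ι, b₁, W, R]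
      rw [reassoc_of% hσρ, (hq i).1]
    obtain ⟨t, ht⟩ := exists_lift_of_schDominant σ (ρ ⁻¹ᵁ W i) m G (pullback.lift _ _ hb) (by
      refine pullback.hom_ext ?_ ?_
      · simp only [Category.assoc, m, G, e, b₁, pullback.lift_fst, pullback.lift_snd_assoc, Scheme.homOfLE_ι,
          morphismRestrict_ι_assoc, hσπ]
      · simp only [Category.assoc, m, G, g, pullback.lift_snd, pullback.lift_fst])
    have hm : IsClosedImmersion m := by
      let ν : (ρ ⁻¹ᵁ W i : Scheme.{u}) ⟶ T := (ρ ⁻¹ᵁ W i).ι ≫ φ.imageι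
      let κ := pullback.map f a f s (𝟙 X) (W i).ι (𝟙 S) (by simp) (by simp [a])
      have hsq : IsPullback (ρ ⁻¹ᵁ W i).ι m φ.imageι κ := by
        refine IsPullback.of_bot (v₂₁ := pullback.snd f a) (v₂₂ := pullback.snd f s) (h₃₁ := (W i).ι) ?_ ?_ ?_
        · have hm2 : m ≫ pullback.snd f a = ρ ∣_ W i := pullback.lift_snd _ _ _
          rw [hm2]
          exact (isPullback_morphismRestrict ρ (W i)).flip
        · refine pullback.hom_ext ?_ ?_
          · simp only [m, κ, π, pullback.map, Category.assoc, pullback.lift_fst, pullback.lift_fst_assoc, Category.comp_id]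
          · simp only [m, κ, ρ, pullback.map, Category.assoc, pullback.lift_snd, pullback.lift_snd_assoc]
            exact (morphismRestrict_ι ρ (W i)).symm
        · refine IsPullback.of_right (h₁₂ := pullback.fst f s) (h₂₂ := s) (v₁₃ := f) ?_ (pullback.lift_snd _ _ _) (IsPullback.of_hasPullback f s)
          have : κ ≫ pullback.fst f s = pullback.fst f a := (pullback.lift_fst _ _ _).trans (Category.comp_id _)
          rw [this]
          exact IsPullback.of_hasPullback f a
      exact MorphismProperty.of_isPullback (P := @IsClosedImmersion) hsq inferInstance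
    have htt : t ≫ g = ρ ∣_ W i := by
      have := congrArg (· ≫ pullback.snd f a) ht
      simp only [Category.assoc, G, m, pullback.lift_snd] at this
      exact this
    have : IsClosedImmersion (t ≫ G) := by rw [ht]; exact hm
    have : IsClosedImmersion t := IsClosedImmersion.of_comp t G
    rw [← htt]
    infer_instance
  have hρimm : IsImmersion ρ := by
    let O : Q.Opens := ⨆ i, W i
    have hrO : ρ ⁻¹ᵁ O = ⊤ := top_le_iff.1 fun z _ => by
      obtain ⟨i, hi⟩ := hcov (π z)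
      exact Opens.mem_iSup.2 ⟨i, hρW i hi⟩
    have hcl : IsClosedImmersion (ρ ∣_ O) := by
      refine IsZariskiLocalAtTarget.of_iSup_eq_top (fun i => O.ι ⁻¹ᵁ W i) (top_le_iff.1 fun z _ => ?_) fun i => ?_
      · obtain ⟨i, hi⟩ := Opens.mem_iSup.1 z.2
        exact Opens.mem_iSup.2 ⟨i, hi⟩
      · have hle : W i ≤ O := le_iSup W i
        rw [MorphismProperty.arrow_mk_iso_iff @IsClosedImmersion (morphismRestrictRestrict ρ O (O.ι ⁻¹ᵁ W i))]
        have : O.ι ''ᵁ O.ι ⁻¹ᵁ W i = W i := by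
          rw [Scheme.Hom.image_preimage_eq_opensRange_inf, Scheme.Opens.opensRange_ι, inf_eq_right.2 hle]
        rw [this]
        exact hWimm i
    have : IsImmersion ((ρ ∣_ O) ≫ O.ι) := inferInstance
    rw [morphismRestrict_ι] at this
    have hiso : IsIso (ρ ⁻¹ᵁ O).ι := by rw [hrO, ← Scheme.topIso_hom]; infer_instance
    exact (MorphismProperty.cancel_left_of_respectsIso @IsImmersion (ρ ⁻¹ᵁ O).ι ρ).1 this
  refine ⟨φ.image, π, ρ, hπp, hρimm, hρ, ?_, ?_, ?_⟩
  · have hUπ : σ ⁻¹ᵁ π ⁻¹ᵁ U = ⊤ := top_le_iff.1 fun y _ => by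
      show π (σ y) ∈ U
      rw [← Scheme.Hom.comp_apply, hσπ]
      exact y.2
    let σU : (U : Scheme.{u}) ⟶ (π ⁻¹ᵁ U : Scheme.{u}) :=
      IsOpenImmersion.lift (π ⁻¹ᵁ U).ι σ (by
        rw [Scheme.Opens.range_ι]; rintro _ ⟨y, rfl⟩; exact hUπ.ge (show y ∈ (⊤ : (U : Scheme.{u}).Opens) from trivial))
    have h1 : σU ≫ (π ⁻¹ᵁ U).ι = σ := IsOpenImmersion.lift_fac _ _ _
    have h2 : σU ≫ (π ∣_ U) = 𝟙 _ := by
      rw [← cancel_mono U.ι, Category.assoc, morphismRestrict_ι, ← Category.assoc, h1, hσπ, Category.id_comp]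
    have : IsSeparated (π ∣_ U) := inferInstance
    have : IsClosedImmersion (σU ≫ (π ∣_ U)) := by rw [h2]; infer_instance
    have hcl : IsClosedImmersion σU := IsClosedImmersion.of_comp σU (π ∣_ U)
    obtain ⟨r, hr⟩ := exists_lift_of_schDominant σ (π ⁻¹ᵁ U) (𝟙 _) σU (σ ⁻¹ᵁ (π ⁻¹ᵁ U)).ι (by
      rw [Category.comp_id, ← cancel_mono (π ⁻¹ᵁ U).ι, morphismRestrict_ι, Category.assoc, h1])
    have : IsIso σU := ⟨r, by rw [← cancel_mono σU, Category.assoc, hr, Category.comp_id, Category.id_comp], hr⟩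
    have : π ∣_ U = inv σU := by rw [← cancel_epi σU, h2, IsIso.hom_inv_id]
    rw [this]
    infer_instance
  · refine Dense.mono ?_ σ.denseRange
    rintro _ ⟨y, rfl⟩
    show π (σ y) ∈ U
    rw [← Scheme.Hom.comp_apply, hσπ]
    exact y.2
  · intro x hx
    exact ⟨σ ⟨x, hx⟩, by rw [← Scheme.Hom.comp_apply, hσπ]; rfl⟩

end Groth.Agent.H8Lim
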