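import Groth.Agent.H8Lim.ClosedIntoStage
import Mathlib.AlgebraicGeometry.IdealSheaf.Subscheme

/-!
# Scheme-theoretic images in the stages of a limit

A closed subscheme of a limit is the limit of its scheme-theoretic images in the stages.
-/

set_option autoImplicit false
set_option backward.isDefEq.respectTransparency.types false

universe u

open CategoryTheory Limits AlgebraicGeometry

namespace Groth.Agent.H8Lim

lemma app_eq_zero_congr {X Y : Scheme.{u}} {f g : X ⟶ Y} (h : f = g) (U : Y.Opens) (x : Γ(Y, U)) :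
    f.app U x = 0 ↔ g.app U x = 0 := by
  subst h; rfl

lemma appLE_eq_zero_iff {X Y : Scheme.{u}} (f : X ⟶ Y) (U : Y.Opens) (V : X.Opens)
    (hV : V = f ⁻¹ᵁ U) (e : V ≤ f ⁻¹ᵁ U) (x : Γ(Y, U)) : f.appLE U V e x = 0 ↔ f.app U x = 0 := by
  subst hV
  rw [Scheme.Hom.appLE_eq_app]

lemma imageι_app_eq_zero {X Y : Scheme.{u}} (f : X ⟶ Y) [QuasiCompact f] {U : Y.Opens}
    (hU : IsAffineOpen U) {x : Γ(Y, U)} (hx : f.app U x = 0) : f.imageι.app U x = 0 := by
  have h : x ∈ f.ker.ideal ⟨U, hU⟩ := by rw [Scheme.Hom.ker_apply]; exact hx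
  rwa [← Scheme.IdealSheafData.ker_subschemeι_app] at h

variable {I : Type u} [SmallCategory I] {D : I ⥤ Scheme.{u}} (c : Cone D)
  [∀ {i j} (f : i ⟶ j), IsAffineHom (D.map f)] {X : Scheme.{u}} (g : X ⟶ c.pt)
  [∀ i, QuasiCompact (g ≫ c.π.app i)]

lemma imageTrans_le {i j : I} (φ : j ⟶ i) :
    (g ≫ c.π.app i).imageι.ker ≤ ((g ≫ c.π.app j).imageι ≫ D.map φ).ker := fun U x hx => by
  rw [Scheme.IdealSheafData.ker_subschemeι, Scheme.Hom.ker_apply, RingHom.mem_ker] at hx
  rw [Scheme.Hom.ker_apply, RingHom.mem_ker]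
  have h := (app_eq_zero_congr (show g ≫ c.π.app i = (g ≫ c.π.app j) ≫ D.map φ by
    rw [Category.assoc, c.w]) U x).mp hx
  rw [Scheme.Hom.comp_app] at h ⊢
  exact imageι_app_eq_zero (g ≫ c.π.app j) (U.2.preimage (D.map φ)) h

/-- The transition maps between the images. -/
noncomputable def imageTrans {i j : I} (φ : j ⟶ i) :
    (g ≫ c.π.app j).image ⟶ (g ≫ c.π.app i).image :=
  IsClosedImmersion.lift (g ≫ c.π.app i).imageι ((g ≫ c.π.app j).imageι ≫ D.map φ)
    (imageTrans_le c g φ)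

@[reassoc (attr := simp)]
lemma imageTrans_ι {i j : I} (φ : j ⟶ i) :
    imageTrans c g φ ≫ (g ≫ c.π.app i).imageι = (g ≫ c.π.app j).imageι ≫ D.map φ :=
  IsClosedImmersion.lift_fac _ _ _

/-- The system of images. -/
noncomputable def imageDiagram : I ⥤ Scheme.{u} where
  obj i := (g ≫ c.π.app i).image
  map φ := imageTrans c g φ
  map_id i := by rw [← cancel_mono (g ≫ c.π.app i).imageι, imageTrans_ι]; simp
  map_comp {i j k} φ ψ := by rw [← cancel_mono (g ≫ c.π.app k).imageι, imageTrans_ι]; simp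

/-- The inclusions of the images. -/
noncomputable def imageIncl : imageDiagram c g ⟶ D where
  app i := (g ≫ c.π.app i).imageι
  naturality _ _ φ := imageTrans_ι c g φ

instance (i : I) : IsClosedImmersion ((imageIncl c g).app i) :=
  inferInstanceAs (IsClosedImmersion (g ≫ c.π.app i).imageι)

lemma isAffineHom_imageTrans {i j : I} (φ : j ⟶ i) : IsAffineHom ((imageDiagram c g).map φ) := by
  have : IsAffineHom (imageTrans c g φ ≫ (g ≫ c.π.app i).imageι) := by
    rw [imageTrans_ι]; infer_instance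
  exact IsAffineHom.of_comp (imageTrans c g φ) (g ≫ c.π.app i).imageι

/-- The cone of `X` over the images. -/
noncomputable def imageCone : Cone (imageDiagram c g) where
  pt := X
  π :=
    { app := fun i => (g ≫ c.π.app i).toImage
      naturality := fun i j φ => by
        show 𝟙 _ ≫ (g ≫ c.π.app j).toImage = (g ≫ c.π.app i).toImage ≫ imageTrans c g φ
        rw [← cancel_mono (g ≫ c.π.app j).imageι, Category.id_comp, Category.assoc, imageTrans_ι,
          Scheme.Hom.toImage_imageι, Scheme.Hom.toImage_imageι_assoc, Category.assoc, c.w] }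

variable {c} [IsCofiltered I] (hc : IsLimit c) [IsClosedImmersion g]

include hc in
lemma exists_lift_of_isAffine {T : Scheme.{u}} (m : T ⟶ c.pt) [QuasiCompact m]
    (hm : ∀ i, ∃ k : T ⟶ (g ≫ c.π.app i).image, k ≫ (g ≫ c.π.app i).imageι = m ≫ c.π.app i) :
    ∃ l : T ⟶ X, l ≫ g = m := by
  refine ⟨IsClosedImmersion.lift g m ?_, IsClosedImmersion.lift_fac _ _ _⟩
  obtain ⟨i⟩ := IsCofiltered.nonempty (C := I)
  have : IsAffineHom (c.π.app i) := isAffineHom_π_app D c hc i
  refine Scheme.IdealSheafData.le_of_iSup_eq_top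
    (fun U : (D.obj i).affineOpens => ⟨c.π.app i ⁻¹ᵁ U, U.2.preimage _⟩)
    (((c.π.app i).preimage_iSup _).symm.trans
      ((congrArg (c.π.app i ⁻¹ᵁ ·) (iSup_affineOpens_eq_top _)).trans rfl)) fun U x hx => ?_
  rw [Scheme.Hom.ker_apply, RingHom.mem_ker] at hx ⊢
  obtain ⟨j, φ, y, rfl⟩ := exists_appLE_π_eq hc U.2 x
  have hV : c.π.app i ⁻¹ᵁ U.1 = c.π.app j ⁻¹ᵁ D.map φ ⁻¹ᵁ U.1 := by
    rw [← Scheme.Hom.comp_preimage, c.w]
  have key : ∀ {W : Scheme.{u}} (f : W ⟶ c.pt),
      f.app (c.π.app i ⁻¹ᵁ U.1) ((c.π.app j).appLE _ _ (le_preimage_π φ U.1) y) = 0 ↔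
        (f ≫ c.π.app j).app (D.map φ ⁻¹ᵁ U.1) y = 0 := fun {W} f => by
    rw [← appLE_eq_zero_iff (f ≫ c.π.app j) _ (f ⁻¹ᵁ c.π.app i ⁻¹ᵁ U.1)
      (by rw [Scheme.Hom.comp_preimage, ← hV]) (by rw [Scheme.Hom.comp_preimage, ← hV]),
      Scheme.Hom.app_eq_appLE, ← CommRingCat.comp_apply, Scheme.Hom.appLE_comp_appLE]
  rw [key] at hx ⊢
  obtain ⟨k, hk⟩ := hm j
  rw [app_eq_zero_congr hk.symm, Scheme.Hom.comp_app]
  show k.app _ ((g ≫ c.π.app j).imageι.app _ y) = 0
  rw [imageι_app_eq_zero _ (U.2.preimage _) hx]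
  exact map_zero _

variable [∀ i, QuasiSeparatedSpace (D.obj i)]

include hc in
lemma exists_lift_imageCone {T : Scheme.{u}} (m : T ⟶ c.pt)
    (hm : ∀ i, ∃ k : T ⟶ (g ≫ c.π.app i).image, k ≫ (g ≫ c.π.app i).imageι = m ≫ c.π.app i) :
    ∃ l : T ⟶ X, l ≫ g = m := by
  obtain ⟨i⟩ := IsCofiltered.nonempty (C := I)
  have : IsAffineHom (c.π.app i) := isAffineHom_π_app D c hc i
  have : QuasiSeparatedSpace c.pt := quasiSeparatedSpace_of_quasiSeparated (c.π.app i)
  let p := pullback.snd g m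
  have : IsIso p := by
    refine (IsZariskiLocalAtTarget.iff_of_openCover (P := MorphismProperty.isomorphisms Scheme.{u})
      T.affineCover (f := p)).mpr fun k => ?_
    show IsIso (pullback.snd p (T.affineCover.f k))
    obtain ⟨l, hl⟩ := exists_lift_of_isAffine g hc (T.affineCover.f k ≫ m) fun i => by
      obtain ⟨a, ha⟩ := hm i
      exact ⟨T.affineCover.f k ≫ a, by rw [Category.assoc, ha, Category.assoc]⟩
    have hq := (IsPullback.of_hasPullback p (T.affineCover.f k)).paste_horiz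
      (IsPullback.of_hasPullback g m)
    have : IsSplitEpi (pullback.snd p (T.affineCover.f k)) :=
      ⟨⟨⟨pullback.lift (pullback.lift l (T.affineCover.f k) hl) (𝟙 _)
        ((pullback.lift_snd _ _ _).trans (Category.id_comp _).symm), pullback.lift_snd _ _ _⟩⟩⟩
    exact isIso_of_mono_of_isSplitEpi _
  exact ⟨inv p ≫ pullback.fst g m, by
    rw [Category.assoc, pullback.condition, ← Category.assoc, IsIso.inv_hom_id, Category.id_comp]⟩

include hc in
/-- A closed subscheme of a limit is the limit of its images. -/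
theorem nonempty_isLimit_imageCone : Nonempty (IsLimit (imageCone c g)) := by
  refine ⟨IsLimit.ofExistsUnique fun s => ?_⟩
  obtain ⟨l, hl⟩ := exists_lift_imageCone g hc
    (hc.lift ((Cones.postcompose (imageIncl c g)).obj s)) fun i =>
    ⟨s.π.app i, (hc.fac ((Cones.postcompose (imageIncl c g)).obj s) i).symm⟩
  refine ⟨l, fun i => ?_, fun l' hl' => ?_⟩
  · show l ≫ (g ≫ c.π.app i).toImage = s.π.app i
    rw [← cancel_mono (g ≫ c.π.app i).imageι, Category.assoc, Scheme.Hom.toImage_imageι,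
      ← Category.assoc, hl]
    exact hc.fac _ i
  · refine (cancel_mono g).mp (Eq.trans ?_ hl.symm)
    refine hc.uniq ((Cones.postcompose (imageIncl c g)).obj s) _ fun i => ?_
    show (l' ≫ g) ≫ c.π.app i = s.π.app i ≫ (g ≫ c.π.app i).imageι
    rw [← hl' i, Category.assoc, Category.assoc]
    exact (congrArg (l' ≫ ·) (Scheme.Hom.toImage_imageι _)).symm

end Groth.Agent.H8Lim
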