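import Mathlib
import Groth.Agent.H8Lim.Constructible
import Groth.Agent.H8Lim.TopologicalProps
import Groth.Agent.H8Lim.MaxPoints

/-!
# Irreducible and connected components of a limit (EGA IV 8.4)
-/

set_option backward.isDefEq.respectTransparency.types false

universe u

open CategoryTheory Limits AlgebraicGeometry TopologicalSpace Topology

namespace Groth.Agent.H8Lim

variable {I : Type u} [SmallCategory I] [IsCofiltered I] {D : I ⥤ Scheme.{u}} {c : Cone D}
  (hc : IsLimit c) [∀ {i j} (f : i ⟶ j), IsAffineHom (D.map f)]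

include hc in
theorem isEmbedding_π_of_isEmbedding (i : I)
    (he : ∀ (j : I) (φ : j ⟶ i), IsEmbedding (D.map φ)) : IsEmbedding (c.π.app i) := by
  refine ⟨⟨le_antisymm (c.π.app i).continuous.le_induced fun U hU ↦ ?_⟩, fun p q hpq ↦ ?_⟩
  · refine (@isOpen_iff_forall_mem_open _ (_) _).mpr fun p hp ↦ ?_
    obtain ⟨j, V, -, hpV, hVU⟩ := exists_mem_preimage_subset hc hU hp
    obtain ⟨O, hO, hOV⟩ := (he _ (IsCofiltered.minToLeft i j)).isInducing.isOpen_iff.mp
      (D.map (IsCofiltered.minToRight i j) ⁻¹ᵁ V).2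
    have key : ∀ q, c.π.app i q ∈ O ↔ c.π.app j q ∈ V := fun q ↦ by
      have h1 := Set.ext_iff.mp hOV (c.π.app (IsCofiltered.min i j) q)
      rw [Set.mem_preimage, π_app_apply (D := D) (IsCofiltered.minToLeft i j) q] at h1
      refine h1.trans ?_
      change D.map (IsCofiltered.minToRight i j) (c.π.app (IsCofiltered.min i j) q) ∈ V ↔ _
      rw [π_app_apply (D := D) (IsCofiltered.minToRight i j) q]
    exact ⟨c.π.app i ⁻¹' O, fun q hq ↦ hVU ((key q).mp hq), isOpen_induced hO, (key p).mpr hpV⟩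
  · refine ext_of_forall_π hc fun j ↦ ?_
    have h : c.π.app (IsCofiltered.min i j) p = c.π.app (IsCofiltered.min i j) q :=
      (he _ (IsCofiltered.minToLeft i j)).injective (by
        rw [π_app_apply (D := D), π_app_apply (D := D), hpq])
    rw [← π_app_apply (D := D) (IsCofiltered.minToRight i j) p, h, π_app_apply (D := D)]

include hc in
/-- With Noetherian stages, the projections are eventually dense, transition maps being embeddings. -/
theorem exists_denseRange_π_of_isEmbedding (i : I) [NoetherianSpace (D.obj i)]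
    (he : ∀ (a b : I) (φ : a ⟶ b), IsEmbedding (D.map φ)) :
    ∃ (j : I) (_ : j ⟶ i), ∀ k, (k ⟶ j) → DenseRange (c.π.app k) := by
  let R := closure (Set.range (c.π.app i))
  have hR : IsConstructible R := by
    rw [← compl_compl R]
    exact (IsRetrocompact.isConstructible isClosed_closure.isOpen_compl
      (fun K _ _ ↦ NoetherianSpace.isCompact _)).compl
  obtain ⟨j, φ, hj⟩ := exists_preimage_eq hc hR IsConstructible.univ
    (Set.eq_univ_of_forall fun p ↦ subset_closure ⟨p, rfl⟩)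
  refine ⟨j, φ, fun k ψ ↦ ?_⟩
  have hind := (he _ _ (ψ ≫ φ)).isInducing
  intro x
  rw [hind.closure_eq_preimage_closure_image]
  have hx : D.map φ (D.map ψ x) ∈ R := by
    have := Set.ext_iff.mp hj (D.map ψ x)
    exact this.mpr trivial
  have hc' : D.map (ψ ≫ φ) '' Set.range (c.π.app k) = Set.range (c.π.app i) := by
    rw [← Set.range_comp]
    exact congrArg _ (funext fun p ↦ π_app_apply (D := D) (ψ ≫ φ) p)
  rw [Set.mem_preimage, hc', D.map_comp, Scheme.Hom.comp_apply]
  exact hx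

/-- Bijection of irreducible components along a dense map separating generizations. -/
theorem bijOn_irreducibleComponents {X Y : Scheme.{u}} (p : X ⟶ Y) [NoetherianSpace X]
    (hd : DenseRange p) (hsep : ∀ a b : X, IsMaxPt a → IsMaxPt b → p a ⤳ p b → a ⤳ b) :
    Set.BijOn (fun Z : Set X => closure (p '' Z)) (irreducibleComponents X)
      (irreducibleComponents Y) := by
  have hfin := NoetherianSpace.finite_irreducibleComponents (α := X)
  have hgen : ∀ Z ∈ irreducibleComponents X, ∃ η, IsMaxPt η ∧ closure {η} = Z := fun Z hZ ↦ by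
    obtain ⟨η, hη⟩ := QuasiSober.sober hZ.1 (isClosed_of_mem_irreducibleComponents Z hZ)
    refine ⟨η, fun z hz ↦ ?_, hη.def⟩
    have h1 : Z ⊆ closure {z} := by rw [← hη.def]; exact specializes_iff_closure_subset.mp hz
    have h2 : closure {z} ⊆ Z := hZ.2 isIrreducible_singleton.closure h1
    exact (hz.antisymm (specializes_iff_closure_subset.mpr (h2.trans hη.def.ge))).eq
  have himg : ∀ Z η, closure {η} = Z → closure (p '' Z) = closure {p η} := fun Z η h ↦ by
    rw [← h, closure_image_closure p.continuous, Set.image_singleton]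
  have hle : ∀ Z ∈ irreducibleComponents X, ∀ Z' ∈ irreducibleComponents X,
      closure (p '' Z) ⊆ closure (p '' Z') → Z = Z' := fun Z hZ Z' hZ' h ↦ by
    obtain ⟨a, ha, ea⟩ := hgen Z hZ
    obtain ⟨b, hb, eb⟩ := hgen Z' hZ'
    rw [himg Z a ea, himg Z' b eb] at h
    have := hsep b a hb ha (specializes_iff_closure_subset.mpr h)
    rw [← ea, ← eb, ha b this]
  have hcov : ∀ T : Set Y, IsIrreducible T → ∃ Z ∈ irreducibleComponents X, T ⊆ closure (p '' Z) := by
    intro T hT
    have : Finite (irreducibleComponents X) := hfin.to_subtype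
    have hu : ⋃₀ ((fun Z : Set X => closure (p '' Z)) '' irreducibleComponents X) = Set.univ := by
      refine Set.univ_subset_iff.mp ?_
      rw [← hd.closure_range, Set.sUnion_image]
      refine (IsClosed.closure_subset_iff (hfin.isClosed_biUnion fun _ _ ↦ isClosed_closure)).mpr ?_
      rintro _ ⟨x, rfl⟩
      exact Set.mem_biUnion (irreducibleComponent_mem_irreducibleComponents x)
        (subset_closure ⟨x, mem_irreducibleComponent, rfl⟩)
    obtain ⟨_, hC, hTC⟩ := isIrreducible_iff_sUnion_isClosed.mp hT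
      (hfin.image fun Z : Set X => closure (p '' Z)).toFinset
      (fun t ht ↦ by
        obtain ⟨Z, -, rfl⟩ := (hfin.image _).mem_toFinset.mp ht
        exact isClosed_closure)
      (by rw [Set.Finite.coe_toFinset, hu]; exact Set.subset_univ _)
    obtain ⟨Z, hZ, rfl⟩ := (hfin.image _).mem_toFinset.mp hC
    exact ⟨Z, hZ, hTC⟩
  refine ⟨fun Z hZ ↦ ⟨(hZ.1.image _ p.continuous.continuousOn).closure, fun T hT hle' ↦ ?_⟩,
    fun Z hZ Z' hZ' h ↦ hle Z hZ Z' hZ' h.le, fun T hT ↦ ?_⟩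
  · obtain ⟨Z', hZ', hT'⟩ := hcov T hT
    obtain rfl := hle Z hZ Z' hZ' (hle'.trans hT')
    exact hT'
  · obtain ⟨Z, hZ, hTZ⟩ := hcov T hT.1
    exact ⟨Z, hZ, (hTZ.antisymm (hT.2 (hZ.1.image _ p.continuous.continuousOn).closure hTZ)).symm⟩

include hc in
theorem eventually_bijOn_irreducibleComponents (i : I) [NoetherianSpace c.pt]
    (hd : ∀ j, (j ⟶ i) → DenseRange (c.π.app j)) :
    ∃ (k : I) (_ : k ⟶ i), ∀ j, (j ⟶ k) →
      Set.BijOn (fun Y : Set c.pt => closure (c.π.app j '' Y)) (irreducibleComponents c.pt)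
        (irreducibleComponents (D.obj j)) := by
  have hfin : {a : c.pt | IsMaxPt a}.Finite := by
    refine Set.Finite.of_finite_image (f := fun a ↦ closure ({a} : Set c.pt))
      ((NoetherianSpace.finite_irreducibleComponents (α := c.pt)).subset ?_) ?_
    · rintro _ ⟨a, ha, rfl⟩
      obtain ⟨η, hη⟩ := QuasiSober.sober (isIrreducible_irreducibleComponent (x := a))
        isClosed_irreducibleComponent
      have : η = a := ha η (specializes_iff_mem_closure.mpr (hη.def.symm ▸ mem_irreducibleComponent))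
      show closure ({a} : Set c.pt) ∈ _
      rw [← this, hη.def]
      exact irreducibleComponent_mem_irreducibleComponents a
    · intro a _ b _ h
      exact (specializes_iff_closure_subset.mpr h.symm.subset).antisymm
        (specializes_iff_closure_subset.mpr h.subset) |>.eq
  have : Finite {a : c.pt | IsMaxPt a} := hfin.to_subtype
  have hpair : ∀ ab : {a : c.pt | IsMaxPt a} × {a : c.pt | IsMaxPt a}, ∃ (k : I) (_ : k ⟶ i),
      c.π.app k ab.1.1 ⤳ c.π.app k ab.2.1 → ab.1.1 ⤳ ab.2.1 := fun ⟨a, b⟩ ↦ by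
    by_contra! H
    refine (H i (𝟙 i)).2 (specializes_of_forall_π hc fun l ↦ ?_)
    have := (H (IsCofiltered.min l i) (IsCofiltered.minToRight l i)).1
    rw [← π_app_apply (D := D) (IsCofiltered.minToLeft l i) a.1,
      ← π_app_apply (D := D) (IsCofiltered.minToLeft l i) b.1]
    exact this.map (D.map _).continuous
  choose k φ hk using hpair
  cases nonempty_fintype ({a : c.pt | IsMaxPt a} × {a : c.pt | IsMaxPt a})
  obtain ⟨m, g, gm, -⟩ := IsCofiltered.wideCospan φ
  refine ⟨m, g, fun j ψ ↦ bijOn_irreducibleComponents _ (hd j (ψ ≫ g)) fun a b ha hb h ↦ ?_⟩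
  refine hk (⟨a, ha⟩, ⟨b, hb⟩) ?_
  rw [← π_app_apply (D := D) (ψ ≫ gm (⟨a, ha⟩, ⟨b, hb⟩)) a,
    ← π_app_apply (D := D) (ψ ≫ gm (⟨a, ha⟩, ⟨b, hb⟩)) b]
  exact h.map (D.map _).continuous

include hc in
theorem eventually_bijOn_connectedComponents (i : I) [CompactSpace (D.obj i)]
    [NoetherianSpace c.pt] (hd : ∀ j, (j ⟶ i) → DenseRange (c.π.app j)) :
    ∃ (k : I) (_ : k ⟶ i), ∀ j, (j ⟶ k) →
      Set.BijOn (fun C : Set c.pt => closure (c.π.app j '' C))
        (Set.range (connectedComponent : c.pt → Set c.pt))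
        (Set.range (connectedComponent : D.obj j → Set (D.obj j))) := by
  let ι := ↥(Set.range (connectedComponent : c.pt → Set c.pt))
  have hfin : Finite ι := by
    refine (Set.Finite.subset ((NoetherianSpace.finite_irreducibleComponents (α := c.pt)).image
      (fun Z ↦ ⋃ x ∈ Z, connectedComponent x)) ?_).to_subtype
    rintro _ ⟨x, rfl⟩
    refine ⟨_, irreducibleComponent_mem_irreducibleComponents x,
      Set.Subset.antisymm (Set.iUnion₂_subset fun y hy ↦ ?_)
        (Set.subset_biUnion_of_mem (u := fun y ↦ connectedComponent y) mem_irreducibleComponent)⟩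
    exact (connectedComponent_eq
      (isIrreducible_irreducibleComponent.isConnected.subset_connectedComponent
        mem_irreducibleComponent hy)).ge
  have hopen : ∀ C : ι, IsOpen C.1 := fun C ↦ by
    have : C.1 = (⋃ C' ∈ {C' : ι | C' ≠ C}, C'.1)ᶜ := by
      ext x
      simp only [Set.mem_compl_iff, Set.mem_iUnion, not_exists]
      obtain ⟨_, y, rfl⟩ := C
      constructor
      · rintro hx ⟨_, z, rfl⟩ hne hxz
        exact hne (Subtype.ext ((connectedComponent_eq hxz).trans (connectedComponent_eq hx).symm))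
      · intro h
        by_contra hx
        exact h ⟨_, x, rfl⟩ (fun e ↦ hx (congr(Subtype.val $e) ▸ mem_connectedComponent))
          mem_connectedComponent
    rw [this]
    exact ((Set.toFinite _).isClosed_biUnion fun C' _ ↦ by
      obtain ⟨_, z, rfl⟩ := C'
      exact isClosed_connectedComponent).isOpen_compl
  have := compactSpace_pt hc (i := i)
  have hV : ∀ C : ι, ∃ (j : I) (_ : j ⟶ i) (V : (D.obj j).Opens),
      c.π.app j ⁻¹' V = C.1 := fun C ↦ by
    obtain ⟨j, φ, V, -, hV⟩ := exists_opens_eq_over hc i ⟨C.1, hopen C⟩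
      (NoetherianSpace.isCompact _)
    exact ⟨j, φ, V, congr($(hV).1)⟩
  choose kC φ V hV using hV
  cases nonempty_fintype ι
  obtain ⟨m, g, gm, -⟩ := IsCofiltered.wideCospan φ
  have hU : ∀ (j : I) (ψ : j ⟶ m) (C : ι), c.π.app j ⁻¹' (D.map (ψ ≫ gm C) ⁻¹' (V C)) = C.1 :=
    fun j ψ C ↦ (preimage_π (ψ ≫ gm C) _).trans (hV C)
  let U : (D.obj m).Opens := ⨆ C : ι, D.map (gm C) ⁻¹ᵁ V C
  obtain ⟨k, χ, hk⟩ : ∃ (k : I) (χ : k ⟶ m), D.map χ ⁻¹ᵁ U = ⊤ := by
    let hc' := (Functor.Initial.isLimitWhiskerEquiv (Over.forget m) c).symm hc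
    have : ∀ j : Over m, CompactSpace ((Over.forget m ⋙ D).obj j) := fun j ↦
      compactSpace_obj_of_hom (D := D) (j.hom ≫ g)
    have : ∀ {a b : Over m} (f : a ⟶ b), IsAffineHom ((Over.forget m ⋙ D).map f) :=
      fun f ↦ inferInstanceAs (IsAffineHom (D.map f.left))
    obtain ⟨j, f, hj⟩ := exists_map_eq_top (Over.forget m ⋙ D) _ hc' (i := Over.mk (𝟙 m)) U (by
      refine top_le_iff.mp fun p _ ↦ ?_
      obtain ⟨C, hC⟩ : ∃ C : ι, p ∈ C.1 := ⟨⟨_, p, rfl⟩, mem_connectedComponent⟩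
      refine Opens.mem_iSup.mpr ⟨C, ?_⟩
      show c.π.app m p ∈ D.map (gm C) ⁻¹ᵁ V C
      show D.map (gm C) (c.π.app m p) ∈ V C
      rw [π_app_apply (D := D)]
      rw [← hV C] at hC
      exact hC)
    refine ⟨j.left, f.left, hj⟩
  refine ⟨k, χ ≫ g, fun j ψ ↦ ?_⟩
  have hdj : DenseRange (c.π.app j) := hd j (ψ ≫ χ ≫ g)
  let W : ι → Set (D.obj j) := fun C ↦ D.map ((ψ ≫ χ) ≫ gm C) ⁻¹' (V C)
  have hWo : ∀ C, IsOpen (W C) := fun C ↦ (V C).2.preimage (D.map _).continuous
  have hWpre : ∀ C, c.π.app j ⁻¹' W C = C.1 := fun C ↦ hU j (ψ ≫ χ) C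
  have hWcov : ∀ x, ∃ C, x ∈ W C := fun x ↦ by
    have hx : D.map ψ x ∈ D.map χ ⁻¹ᵁ U := hk ▸ trivial
    obtain ⟨C, hC⟩ := Opens.mem_iSup.mp hx
    refine ⟨C, ?_⟩
    show D.map ((ψ ≫ χ) ≫ gm C) x ∈ V C
    simpa [Functor.map_comp, Scheme.Hom.comp_apply] using hC
  have hWdisj : ∀ C C' : ι, (W C ∩ W C').Nonempty → C = C' := fun C C' h ↦ by
    obtain ⟨p, hp⟩ := hdj.exists_mem_open ((hWo C).inter (hWo C')) h
    obtain ⟨_, a, rfl⟩ := C
    obtain ⟨_, b, rfl⟩ := C'
    have ha : p ∈ connectedComponent a := (hWpre ⟨_, a, rfl⟩).le hp.1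
    have hb : p ∈ connectedComponent b := (hWpre ⟨_, b, rfl⟩).le hp.2
    exact Subtype.ext ((connectedComponent_eq ha).trans (connectedComponent_eq hb).symm)
  have hWcl : ∀ C, IsClosed (W C) := fun C ↦ by
    refine ⟨isOpen_iff_forall_mem_open.mpr fun x hx ↦ ?_⟩
    obtain ⟨C', hC'⟩ := hWcov x
    exact ⟨W C', fun y hy hy' ↦ hx (hWdisj C C' ⟨y, hy', hy⟩ ▸ hC'), hWo C', hC'⟩
  have hWeq : ∀ C : ι, closure (c.π.app j '' C.1) = W C := fun C ↦ by
    refine Set.Subset.antisymm ((hWcl C).closure_subset_iff.mpr (Set.image_subset_iff.mpr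
      (hWpre C).ge)) fun x hx ↦ ?_
    rw [← hWpre C, Set.image_preimage_eq_inter_range, mem_closure_iff]
    intro O hO hxO
    obtain ⟨p, hp⟩ := hdj.exists_mem_open (hO.inter (hWo C)) ⟨x, hxO, hx⟩
    exact ⟨_, hp.1, hp.2, p, rfl⟩
  have hcc : ∀ (C : ι) (x : D.obj j), x ∈ W C → connectedComponent x = W C := fun C x hx ↦ by
    refine Set.Subset.antisymm (IsClopen.connectedComponent_subset ⟨hWcl C, hWo C⟩ hx) ?_
    refine IsPreconnected.subset_connectedComponent ?_ hx
    rw [← hWeq C]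
    obtain ⟨_, a, rfl⟩ := C
    exact (isPreconnected_connectedComponent.image _
      (c.π.app j).continuous.continuousOn).closure
  refine ⟨?_, ?_, ?_⟩
  · rintro C hC
    obtain ⟨a, ha⟩ : C.Nonempty := by obtain ⟨a, rfl⟩ := hC; exact ⟨a, mem_connectedComponent⟩
    refine ⟨c.π.app j a, ?_⟩
    have h1 := hWeq ⟨C, hC⟩
    rw [hcc ⟨C, hC⟩ _ ((hWpre ⟨C, hC⟩).ge ha)]
    exact h1.symm
  · intro C hC C' hC' h
    have h1 : W ⟨C, hC⟩ = W ⟨C', hC'⟩ := (hWeq ⟨C, hC⟩).symm.trans (h.trans (hWeq ⟨C', hC'⟩))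
    exact (hWpre ⟨C, hC⟩).symm.trans ((congrArg _ h1).trans (hWpre ⟨C', hC'⟩))
  · rintro _ ⟨x, rfl⟩
    obtain ⟨C, hC⟩ := hWcov x
    exact ⟨C.1, C.2, (hWeq C).trans (hcc C x hC).symm⟩

end Groth.Agent.H8Lim
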