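import Groth.Agent.Et18.ChowSep
import Groth.Agent.ValExtLib.Criterion
import Groth.Agent.Props12.KerReduced
import Groth.Agent.H8Top.SchemeBasic
import Groth.Agent.H8Lim.DescentProper

/-!
# Refined discrete valuative criteria over a Noetherian base

EGA II 7.3.10 / Stacks 0208, 0CMA: properness and separatedness are tested by discrete valuation
rings at the generic points, or through a morphism with dense image.
-/

set_option autoImplicit false
set_option backward.isDefEq.respectTransparency.types false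
set_option backward.isDefEq.respectTransparency false
set_option maxHeartbeats 1000000
set_option synthInstance.maxHeartbeats 100000

universe u

open CategoryTheory Limits AlgebraicGeometry IsLocalRing TopologicalSpace

namespace Groth.Agent.H8Lim

/-- Existence of lifts over the discrete valuation rings of `K` at the `K`-point `x`. -/
def LiftsAt {X S : Scheme.{u}} (f : X ⟶ S) {K : Type u} [Field K]
    (x : Spec (CommRingCat.of K) ⟶ X) : Prop :=
  ∀ (V : ValuationSubring K), IsDiscreteValuationRing V → ∀ y : Spec (CommRingCat.of V) ⟶ S,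
    Spec.map (CommRingCat.ofHom V.subtype) ≫ y = x ≫ f →
      ∃ l : Spec (CommRingCat.of V) ⟶ X, l ≫ f = y ∧ Spec.map (CommRingCat.ofHom V.subtype) ≫ l = x

/-- Uniqueness of lifts over the discrete valuation rings of `K` at the `K`-point `x`. -/
def UniqueAt {X S : Scheme.{u}} (f : X ⟶ S) {K : Type u} [Field K]
    (x : Spec (CommRingCat.of K) ⟶ X) : Prop :=
  ∀ (V : ValuationSubring K), IsDiscreteValuationRing V → ∀ l₁ l₂ : Spec (CommRingCat.of V) ⟶ X,
    l₁ ≫ f = l₂ ≫ f → Spec.map (CommRingCat.ofHom V.subtype) ≫ l₁ = x →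
      Spec.map (CommRingCat.ofHom V.subtype) ≫ l₂ = x → l₁ = l₂

/-- The generic points are tested by some point of a scheme of finite type. -/
def GenericLifts {X S : Scheme.{u}} (f : X ⟶ S) : Prop :=
  ∀ η : X, (∀ x : X, x ⤳ η → x = η) → ∀ (Z' : Scheme.{u}) (ρ : Z' ⟶ X) [LocallyOfFiniteType ρ]
    (ξ : Z'), ρ ξ = η → IsIso (ρ.residueFieldMap ξ) →
      ∃ (Q : Scheme.{u}) (a : Q ⟶ Z') (q : Q), LocallyOfFiniteType a ∧ a q = ξ ∧
        LiftsAt f (Q.fromSpecResidueField q ≫ a ≫ ρ)

variable {X S : Scheme.{u}} {f : X ⟶ S}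

/-- The fraction field of a valuation subring. -/
lemma exists_fracIso {K : Type u} [Field K] (V : ValuationSubring K) :
    ∃ e : CommRingCat.of K ≅ CommRingCat.of (FractionRing V),
      CommRingCat.ofHom V.subtype ≫ e.hom = CommRingCat.ofHom (algebraMap V (FractionRing V)) :=
  ⟨(FractionRing.algEquiv V K).symm.toRingEquiv.toCommRingCatIso,
    CommRingCat.hom_ext (RingHom.ext fun v => (FractionRing.algEquiv V K).symm.commutes v)⟩

lemma exists_mem_irreducibleComponents_and_generic (η : X) (hη : ∀ x : X, x ⤳ η → x = η) :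
    closure {η} ∈ irreducibleComponents (X : Type u) := by
  have h := irreducibleComponent_mem_irreducibleComponents η
  have hg := isIrreducible_irreducibleComponent (x := η).isGenericPoint_genericPoint
    isClosed_irreducibleComponent
  have e := hη _ (hg.specializes mem_irreducibleComponent)
  rwa [← hg.def, e] at h

lemma forall_specializes_of_mem_irreducibleComponents (η : X)
    (hη : closure {η} ∈ irreducibleComponents (X : Type u)) : ∀ x : X, x ⤳ η → x = η := by
  intro x hx
  have h1 : closure {η} ⊆ closure {x} := specializes_iff_closure_subset.mp hx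
  have h2 : closure {x} ⊆ closure {η} := hη.2 isIrreducible_singleton.closure h1
  exact (hx.antisymm (specializes_iff_closure_subset.mpr h2)).eq

lemma isIrreducible_univ_of_image {A B : Type*} [TopologicalSpace A] [TopologicalSpace B]
    {g : A → B} (hg : Topology.IsInducing g) (h : IsIrreducible (g '' Set.univ)) :
    IsIrreducible (Set.univ : Set A) := by
  refine ⟨h.1.of_image, fun u v hu hv ⟨a, _, ha⟩ ⟨b, _, hb⟩ => ?_⟩
  obtain ⟨U, hU, rfl⟩ := hg.isOpen_iff.mp hu
  obtain ⟨W, hW, rfl⟩ := hg.isOpen_iff.mp hv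
  obtain ⟨_, ⟨x, -, rfl⟩, hx1, hx2⟩ := h.2 U W hU hW ⟨g a, ⟨a, trivial, rfl⟩, ha⟩
    ⟨g b, ⟨b, trivial, rfl⟩, hb⟩
  exact ⟨x, trivial, hx1, hx2⟩

lemma isIso_residueFieldMap_of_isPreimmersion {X Y : Scheme.{u}} (g : X ⟶ Y) [IsPreimmersion g]
    (x : X) : IsIso (g.residueFieldMap x) := by
  refine (ConcreteCategory.isIso_iff_bijective _).mpr ⟨(g.residueFieldMap x).hom.injective, fun z => ?_⟩
  obtain ⟨a, rfl⟩ := X.residue_surjective x z
  obtain ⟨b, rfl⟩ := g.stalkMap_surjective x a
  exact ⟨Y.residue (g x) b, ConcreteCategory.congr_hom (Scheme.residue_residueFieldMap g x) b⟩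

/-- A morphism from a reduced scheme set-theoretically inside a closed subscheme factors. -/
lemma exists_factor {Z T : Scheme.{u}} [IsReduced T] (ι : Z ⟶ X) [IsClosedImmersion ι] (l : T ⟶ X)
    (h : Set.range l ⊆ Set.range ι) : ∃ k : T ⟶ Z, k ≫ ι = l := by
  let p := pullback.snd ι l
  have : IsClosedImmersion p := MorphismProperty.pullback_snd (P := @IsClosedImmersion) _ _ ‹_›
  have : Surjective p := ⟨fun t => by
    obtain ⟨z, hz⟩ := h ⟨t, rfl⟩
    obtain ⟨w, -, hw⟩ := Scheme.Pullback.exists_preimage_pullback (f := ι) (g := l) z t hz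
    exact ⟨w, hw⟩⟩
  have := isIso_of_isClosedImmersion_of_surjective p
  exact ⟨inv p ≫ pullback.fst ι l, by
    rw [Category.assoc, pullback.condition, ← Category.assoc, IsIso.inv_hom_id, Category.id_comp]⟩

lemma LiftsAt.of_isPullback {W T : Scheme.{u}} {a : W ⟶ X} {g : W ⟶ T} {b : T ⟶ S}
    (sq : IsPullback a g f b) [Mono b] {K : Type u} [Field K] {x : Spec (CommRingCat.of K) ⟶ W}
    (H : LiftsAt f (x ≫ a)) : LiftsAt g x := by
  intro V hV y hy
  obtain ⟨l, hl, hlg⟩ := H V hV (y ≫ b) (by rw [reassoc_of% hy, Category.assoc, sq.w])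
  refine ⟨sq.lift l y hl, sq.lift_snd _ _ _, sq.hom_ext ?_ ?_⟩
  · rw [Category.assoc, sq.lift_fst, hlg]
  · rw [Category.assoc, sq.lift_snd, hy]

lemma GenericLifts.of_isPullback {W T : Scheme.{u}} {a : W ⟶ X} {g : W ⟶ T} {b : T ⟶ S}
    (sq : IsPullback a g f b) [IsOpenImmersion a] [Mono b] (H : GenericLifts f) :
    GenericLifts g := by
  intro η hη Z' ρ _ ξ hξ hiso
  have hgen : ∀ x : X, x ⤳ a η → x = a η := fun x hx => by
    obtain ⟨w, rfl⟩ : x ∈ Set.range a := hx.mem_open a.opensRange.2 ⟨η, rfl⟩
    rw [hη w (a.isOpenEmbedding.isInducing.specializes_iff.mp hx)]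
  obtain ⟨Q, q₁, q, h1, h2, h3⟩ := H (a η) hgen Z' (ρ ≫ a) ξ (by rw [Scheme.Hom.comp_apply, hξ])
    (by rw [Scheme.residueFieldMap_comp]; exact IsIso.comp_isIso' inferInstance hiso)
  refine ⟨Q, q₁, q, h1, h2, LiftsAt.of_isPullback sq ?_⟩
  simpa only [Category.assoc] using h3

lemma isIso_residueFieldMap_of_isIso_restrict {Z' Z : Scheme.{u}} (π : Z' ⟶ Z) (U : Z.Opens)
    [IsIso (π ∣_ U)] (ξ : Z') (hξ : π ξ ∈ U) : IsIso (π.residueFieldMap ξ) := by
  let i := (π ⁻¹ᵁ U).ι
  have e : i ≫ π = (π ∣_ U) ≫ U.ι := (morphismRestrict_ι π U).symm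
  have : IsPreimmersion (i ≫ π) := by rw [e]; infer_instance
  have h := isIso_residueFieldMap_of_isPreimmersion (i ≫ π) ⟨ξ, hξ⟩
  rw [Scheme.residueFieldMap_comp] at h
  have hi : IsIso (i.residueFieldMap ⟨ξ, hξ⟩) := inferInstance
  exact @IsIso.of_isIso_comp_right _ _ _ _ _ (π.residueFieldMap (i ⟨ξ, hξ⟩)) (i.residueFieldMap ⟨ξ, hξ⟩) hi h

/-- The key case: a component over an affine Noetherian base. -/
lemma universallyClosed_component {A : Type u} [CommRing A] [IsNoetherianRing A] {X : Scheme.{u}}
    (f : X ⟶ Spec (CommRingCat.of A)) [IsSeparated f] [LocallyOfFiniteType f] [QuasiCompact f]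
    (H : GenericLifts f) {Z : Scheme.{u}} [IsIntegral Z] (ι : Z ⟶ X) [IsClosedImmersion ι]
    (hη : ∀ x : X, x ⤳ ι (genericPoint Z) → x = ι (genericPoint Z)) :
    UniversallyClosed (ι ≫ f) := by
  obtain ⟨Z', Zb, π, j, gb, U₀, hZ', hπ, hU₀, hiso, hj, hZb, hgb, hjg⟩ :=
    Et18.ChowSep.exists_compactification (ι ≫ f)
  let ξ := genericPoint Z'
  have hUsub : (U₀ : Set Z) ⊆ Set.range π := fun z hz => by
    obtain ⟨w, hw⟩ := (π ∣_ U₀).surjective ⟨z, hz⟩
    refine ⟨(π ⁻¹ᵁ U₀).ι w, ?_⟩
    rw [← Scheme.Hom.comp_apply, ← morphismRestrict_ι, Scheme.Hom.comp_apply, hw]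
    rfl
  have : Surjective π := ⟨fun z => by
    have hc : IsClosed (Set.range π) := π.isClosedMap.isClosed_range
    have hd : genericPoint Z ∈ Set.range π :=
      hUsub ((genericPoint_spec Z).mem_open_set_iff U₀.2 |>.2 (by simpa using hU₀))
    exact (genericPoint_specializes z).mem_closed hc hd⟩
  have hπξ : π ξ = genericPoint Z := by
    obtain ⟨w, hw⟩ := π.surjective (genericPoint Z)
    exact ((genericPoint_specializes (π ξ)).antisymm
      (hw ▸ (genericPoint_specializes w).map π.continuous)).eq.symm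
  have : IsIso (π.residueFieldMap ξ) := isIso_residueFieldMap_of_isIso_restrict π U₀ ξ
    (hπξ ▸ (genericPoint_spec Z).mem_open_set_iff U₀.2 |>.2 (by simpa using hU₀))
  have hres : IsIso ((π ≫ ι).residueFieldMap ξ) := by
    have := isIso_residueFieldMap_of_isPreimmersion ι (π ξ)
    rw [Scheme.residueFieldMap_comp]; infer_instance
  obtain ⟨Q, a, q, ha, haq, hlift⟩ := H _ hη Z' (π ≫ ι) ξ
    (by rw [Scheme.Hom.comp_apply, hπξ]) hres
  have hsurj : Surjective j := ⟨fun w => by
    by_contra hw
    have : IsLocallyNoetherian Zb := LocallyOfFiniteType.isLocallyNoetherian gb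
    have hjξ : j ξ = genericPoint Zb :=
      ((genericPoint_spec Z').image j.continuous).eq (by
        convert! genericPoint_spec Zb
        rw [Set.image_univ]
        exact (j.opensRange.2.dense ⟨j ξ, ξ, rfl⟩).closure_eq)
    have hqw : (a ≫ j) q ⤳ w := by
      rw [Scheme.Hom.comp_apply, haq, hjξ]; exact genericPoint_specializes w
    obtain ⟨V, hb, hV, hc, hgen⟩ := ValExtLib.exists_dvr_valuationSubring (a ≫ j) q hqw
      (fun e => hw ⟨a q, by rw [e, Scheme.Hom.comp_apply]⟩)
    obtain ⟨l, hl, hlg⟩ := hlift V hV (hb ≫ gb) (by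
      rw [reassoc_of% hgen]
      simp only [Category.assoc, hjg])
    have hlr : Set.range l ⊆ Set.range ι := by
      rintro _ ⟨v, rfl⟩
      have hg0 : ∃ k, Spec.map (CommRingCat.ofHom V.subtype) k ⤳ v := by
        refine ⟨closedPoint (Q.residueField q), ?_⟩
        have hbot : (Spec.map (CommRingCat.ofHom V.subtype) (closedPoint (Q.residueField q))).asIdeal
            = ⊥ := by
          show (maximalIdeal (Q.residueField q)).comap V.subtype = ⊥
          rw [IsLocalRing.maximalIdeal_eq_bot, ← RingHom.ker_eq_comap_bot]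
          exact (RingHom.injective_iff_ker_eq_bot _).mp Subtype.coe_injective
        exact (PrimeSpectrum.le_iff_specializes _ _).mp (hbot.le.trans bot_le)
      obtain ⟨k, hk⟩ := hg0
      refine (hk.map l.continuous).mem_closed ι.isClosedEmbedding.isClosed_range ?_
      rw [show l ((Spec.map (CommRingCat.ofHom V.subtype)) k) =
        (Spec.map (CommRingCat.ofHom V.subtype) ≫ l) k from rfl, hlg]
      exact ⟨π (a q), (congrArg (fun e => ι (π (a e))) (Scheme.fromSpecResidueField_apply q k)).symm⟩
    obtain ⟨lZ, hlZ⟩ := exists_factor ι l hlr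
    let Sq : ValuativeCommSq π :=
      { R := V, K := Q.residueField q, i₁ := Q.fromSpecResidueField q ≫ a, i₂ := lZ
        commSq := ⟨by
          rw [← cancel_mono ι, Category.assoc, Category.assoc, Category.assoc, hlZ]
          exact hlg.symm⟩ }
    have hE : ValuativeCriterion.Existence π :=
      ((iff_of_eq (congrFun (congrFun (congrFun UniversallyClosed.eq_valuativeCriterion _) _) π)).mp
        inferInstance).1
    obtain ⟨l', hl'1, hl'2⟩ := (hE Sq).exists_lift.some
    have := ValExtLib.isDominant_spec_of_injective (CommRingCat.ofHom V.subtype) Subtype.coe_injective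
    have e : l' ≫ j = hb := by
      refine ext_of_isDominant_of_isSeparated gb ?_ (Spec.map (CommRingCat.ofHom V.subtype)) ?_
      · rw [Category.assoc, hjg, reassoc_of% hl'2, reassoc_of% hlZ, hl]
      · rw [hgen, ← Category.assoc, ← Category.assoc]
        exact congrArg (· ≫ j) hl'1
    exact hw ⟨l' (closedPoint V), by rw [← Scheme.Hom.comp_apply, e, hc]⟩⟩
  have : Epi j.base := (TopCat.epi_iff_surjective j.base).mpr hsurj.surj
  have : IsIso j := IsOpenImmersion.isIso j
  have : UniversallyClosed (π ≫ ι ≫ f) := by rw [← hjg]; infer_instance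
  exact UniversallyClosed.of_comp_surjective π (ι ≫ f)

/-- A separated morphism of finite type with lifts at the generic points is universally closed. -/
theorem universallyClosed_of_genericLifts [IsLocallyNoetherian S] (f : X ⟶ S) [IsSeparated f]
    [LocallyOfFiniteType f] [QuasiCompact f] (H : GenericLifts f) : UniversallyClosed f := by
  refine IsZariskiLocalAtTarget.of_iSup_eq_top (P := @UniversallyClosed)
    (fun U : S.affineOpens => U.1) (iSup_affineOpens_eq_top S) fun U => ?_
  have hU : IsAffineOpen U.1 := U.2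
  let W := (f ⁻¹ᵁ U.1).toScheme
  let g : W ⟶ Spec Γ(S, U.1) := (f ∣_ U.1) ≫ hU.isoSpec.hom
  have : IsNoetherianRing Γ(S, U.1) := IsLocallyNoetherian.component_noetherian U
  have sq : IsPullback (f ⁻¹ᵁ U.1).ι g f hU.fromSpec :=
    (isPullback_morphismRestrict f U.1).flip.of_iso (Iso.refl _) (Iso.refl _) hU.isoSpec (Iso.refl _)
      (by simp) (by simp [g]) (by simp) (by
        rw [Iso.refl_hom, Category.comp_id]; exact (hU.isoSpec_hom_fromSpec).symm)
  have hg : GenericLifts g := H.of_isPullback sq
  have : CompactSpace W := QuasiCompact.compactSpace_of_compactSpace g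
  have : IsLocallyNoetherian W := LocallyOfFiniteType.isLocallyNoetherian g
  have : AlgebraicGeometry.IsNoetherian W := {}
  have hfin : (irreducibleComponents (W : Type u)).Finite :=
    NoetherianSpace.finite_irreducibleComponents
  have := hfin.to_subtype
  let I : irreducibleComponents (W : Type u) → W.IdealSheafData := fun c =>
    Scheme.IdealSheafData.vanishingIdeal ⟨c.1, isClosed_of_mem_irreducibleComponents _ c.2⟩
  have hr : ∀ c, Set.range (I c).subschemeι = c.1 := fun c => by
    rw [Scheme.IdealSheafData.range_subschemeι, Scheme.IdealSheafData.coe_support_vanishingIdeal]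
    rfl
  have : UniversallyClosed g := by
    have huc : ∀ c, UniversallyClosed ((I c).subschemeι ≫ g) := fun c => by
      have : IsReduced (I c).subscheme := Props12.isReduced_subscheme_vanishingIdeal _
      have hirr : IsIrreducible (Set.range (I c).subschemeι) := (hr c).symm ▸ c.2.1
      have : IrreducibleSpace (I c).subscheme := by
        have := hirr
        rw [← Set.image_univ] at this
        have : IsIrreducible (Set.univ : Set (I c).subscheme) :=
          isIrreducible_univ_of_image (I c).subschemeι.isEmbedding.isInducing this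
        exact { toPreirreducibleSpace := ⟨this.2⟩, toNonempty := ⟨this.1.some⟩ }
      have : IsIntegral (I c).subscheme := isIntegral_of_irreducibleSpace_of_isReduced _
      refine universallyClosed_component g hg (I c).subschemeι ?_
      have hgen := (genericPoint_spec (I c).subscheme).image (I c).subschemeι.continuous
      rw [Set.image_univ, hr c, IsClosed.closure_eq (isClosed_of_mem_irreducibleComponents _ c.2)]
        at hgen
      exact forall_specializes_of_mem_irreducibleComponents _ (hgen.def.symm ▸ c.2)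
    refine universallyClosed_of_finite_cover g _ (fun c => (I c).subschemeι) fun w => ?_
    exact ⟨⟨_, irreducibleComponent_mem_irreducibleComponents w⟩,
      (hr _).symm ▸ mem_irreducibleComponent⟩
  have e : f ∣_ U.1 = g ≫ hU.isoSpec.inv := by simp [g]
  rw [e]
  infer_instance

/-- Uniqueness at enough points gives separatedness. -/
theorem isSeparated_of_uniqueAt [IsLocallyNoetherian S] (f : X ⟶ S) [LocallyOfFiniteType f]
    (H : ∀ w ∈ closure (Set.range (pullback.diagonal f)), ∃ (Z : Scheme.{u}) (h : Z ⟶ X) (z : Z),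
      LocallyOfFiniteType h ∧ pullback.diagonal f (h z) ⤳ w ∧
        UniqueAt f (Z.fromSpecResidueField z ≫ h)) :
    IsSeparated f := by
  have : IsLocallyNoetherian X := LocallyOfFiniteType.isLocallyNoetherian f
  have : LocallyOfFiniteType (pullback.fst f f ≫ f) := inferInstance
  have : IsLocallyNoetherian (pullback f f) :=
    LocallyOfFiniteType.isLocallyNoetherian (pullback.fst f f ≫ f)
  constructor
  refine .of_isPreimmersion _ ?_
  refine closure_subset_iff_isClosed.mp fun w hw => ?_
  obtain ⟨Z, h, z, hh, hsp, huniq⟩ := H w hw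
  rcases eq_or_ne w ((h ≫ pullback.diagonal f) z) with rfl | hne
  · exact ⟨h z, by simp⟩
  obtain ⟨V, hb, hV, hc, hgen⟩ := ValExtLib.exists_dvr_valuationSubring (h ≫ pullback.diagonal f) z
    (by simpa using hsp) hne
  have e : hb ≫ pullback.fst f f = hb ≫ pullback.snd f f := huniq V hV _ _
    ((Category.assoc _ _ _).trans ((congrArg (hb ≫ ·) pullback.condition).trans
      (Category.assoc _ _ _).symm))
    ((Category.assoc _ _ _).symm.trans ((congrArg (· ≫ pullback.fst f f) hgen).trans (by simp)))
    ((Category.assoc _ _ _).symm.trans ((congrArg (· ≫ pullback.snd f f) hgen).trans (by simp)))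
  have hh' : (hb ≫ pullback.fst f f) ≫ pullback.diagonal f = hb := by
    apply pullback.hom_ext
    · simp
    · rw [Category.assoc, pullback.diagonal_snd, Category.comp_id, e]
  exact ⟨(hb ≫ pullback.fst f f) (closedPoint V), by rw [← Scheme.Hom.comp_apply, hh', hc]⟩

/-- Generic points are in the image of a quasi-compact morphism with dense image. -/
lemma exists_apply_eq_generic {U : Scheme.{u}} (h : U ⟶ X) [QuasiCompact h] (hd : DenseRange h)
    (η : X) (hη : ∀ x : X, x ⤳ η → x = η) : ∃ z : U, h z = η := by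
  obtain ⟨z, hz⟩ := H8Top.exists_specializes_of_mem_closure_range h (y := η)
    (by rw [hd.closure_eq]; trivial)
  exact ⟨z, hη _ hz⟩

/-- Lifts through a dense morphism give lifts at generic points. -/
lemma genericLifts_of_dense {U : Scheme.{u}} (h : U ⟶ X) [LocallyOfFiniteType h] [QuasiCompact h]
    (hd : DenseRange h)
    (H : ∀ {K : Type u} [Field K] (x : Spec (CommRingCat.of K) ⟶ U), LiftsAt f (x ≫ h)) :
    GenericLifts f := by
  intro η hη Z' ρ _ ξ hξ _
  obtain ⟨z, hz⟩ := exists_apply_eq_generic h hd η hη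
  obtain ⟨q, -, hq⟩ := Scheme.Pullback.exists_preimage_pullback (f := h) (g := ρ) z ξ (hz.trans hξ.symm)
  refine ⟨pullback h ρ, pullback.snd h ρ, q, inferInstance, hq, ?_⟩
  rw [← pullback.condition, ← Category.assoc]
  exact H _

/-- Lifts at generic points of components give `GenericLifts`. -/
lemma genericLifts_of_residueField
    (H : ∀ η : X, closure {η} ∈ irreducibleComponents (X : Type u) →
      LiftsAt f (X.fromSpecResidueField η)) :
    GenericLifts f := by
  intro η hη Z' ρ _ ξ hξ hiso
  refine ⟨Z', 𝟙 Z', ξ, inferInstance, rfl, ?_⟩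
  rw [Category.id_comp]
  subst hξ
  intro V hV y hy
  let r := ρ.residueFieldMap ξ
  have hr : Z'.fromSpecResidueField ξ ≫ ρ = Spec.map r ≫ X.fromSpecResidueField (ρ ξ) :=
    (Scheme.Hom.SpecMap_residueFieldMap_fromSpecResidueField ρ ξ).symm
  let e := (asIso r).commRingCatIsoToRingEquiv
  let V' : ValuationSubring (X.residueField (ρ ξ)) := V.comap r.hom
  let σ : V' ≃+* V :=
    { toFun := fun a => ⟨e a.1, a.2⟩
      invFun := fun b => ⟨e.symm b.1, by
        show e (e.symm b.1) ∈ V
        rw [e.apply_symm_apply]; exact b.2⟩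
      left_inv := fun a => Subtype.ext (e.symm_apply_apply _)
      right_inv := fun b => Subtype.ext (e.apply_symm_apply _)
      map_mul' := fun a b => Subtype.ext (map_mul e _ _)
      map_add' := fun a b => Subtype.ext (map_add e _ _) }
  have : IsDiscreteValuationRing V' := by
    have := hV
    exact IsDiscreteValuationRing.RingEquivClass.isDiscreteValuationRing σ.symm
  let s : CommRingCat.of V' ≅ CommRingCat.of V := σ.toCommRingCatIso
  have hs : CommRingCat.ofHom V'.subtype ≫ r = s.hom ≫ CommRingCat.ofHom V.subtype := rfl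
  have hsi : Spec.map s.inv ≫ Spec.map s.hom = 𝟙 _ := by
    rw [← Spec.map_comp, s.hom_inv_id, Spec.map_id]
  obtain ⟨l, hl, hlg⟩ := H (ρ ξ) (exists_mem_irreducibleComponents_and_generic _ hη) V'
    ‹IsDiscreteValuationRing V'› (Spec.map s.inv ≫ y) (by
      rw [← cancel_epi (Spec.map r), ← Spec.map_comp_assoc, hs, Spec.map_comp_assoc,
        ← Spec.map_comp_assoc s.inv, s.inv_hom_id, Spec.map_id, Category.id_comp, hy, hr,
        Category.assoc])
  refine ⟨Spec.map s.hom ≫ l, ?_, ?_⟩
  · rw [Category.assoc, hl, ← Spec.map_comp_assoc, s.inv_hom_id, Spec.map_id, Category.id_comp]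
  · rw [← Spec.map_comp_assoc, ← hs, Spec.map_comp_assoc, hlg, hr]

/-- The `FractionRing` form of the lifting hypothesis. -/
lemma liftsAt_of_fractionRing {U : Scheme.{u}} (h : U ⟶ X)
    (H : ∀ (A : Type u) [CommRing A] [IsDomain A] [IsDiscreteValuationRing A]
      (v : Spec (CommRingCat.of (FractionRing A)) ⟶ U) (y : Spec (CommRingCat.of A) ⟶ S),
      v ≫ h ≫ f = Spec.map (CommRingCat.ofHom (algebraMap A (FractionRing A))) ≫ y →
        ∃ l : Spec (CommRingCat.of A) ⟶ X, l ≫ f = y ∧
          Spec.map (CommRingCat.ofHom (algebraMap A (FractionRing A))) ≫ l = v ≫ h)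
    {K : Type u} [Field K] (x : Spec (CommRingCat.of K) ⟶ U) : LiftsAt f (x ≫ h) := by
  intro V hV y hy
  obtain ⟨e, he⟩ := exists_fracIso V
  obtain ⟨l, hl, hlg⟩ := H V (Spec.map e.hom ≫ x) y (by
    rw [← he, Spec.map_comp_assoc, hy, Category.assoc, Category.assoc])
  refine ⟨l, hl, ?_⟩
  rw [← cancel_epi (Spec.map e.hom), ← Spec.map_comp_assoc, he, hlg, Category.assoc]

/-- The `FractionRing` form of the uniqueness hypothesis. -/
lemma uniqueAt_of_fractionRing {U : Scheme.{u}} (h : U ⟶ X)
    (H : ∀ (A : Type u) [CommRing A] [IsDomain A] [IsDiscreteValuationRing A]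
      (v : Spec (CommRingCat.of (FractionRing A)) ⟶ U) (y : Spec (CommRingCat.of A) ⟶ S),
      v ≫ h ≫ f = Spec.map (CommRingCat.ofHom (algebraMap A (FractionRing A))) ≫ y →
        ∀ l₁ l₂ : Spec (CommRingCat.of A) ⟶ X, l₁ ≫ f = y →
          Spec.map (CommRingCat.ofHom (algebraMap A (FractionRing A))) ≫ l₁ = v ≫ h →
          l₂ ≫ f = y →
          Spec.map (CommRingCat.ofHom (algebraMap A (FractionRing A))) ≫ l₂ = v ≫ h → l₁ = l₂)
    {K : Type u} [Field K] (x : Spec (CommRingCat.of K) ⟶ U) : UniqueAt f (x ≫ h) := by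
  intro V hV l₁ l₂ e12 h1 h2
  obtain ⟨e, he⟩ := exists_fracIso V
  refine H V (Spec.map e.hom ≫ x) (l₁ ≫ f) ?_ l₁ l₂ rfl ?_ e12.symm ?_
  · rw [← he, Spec.map_comp_assoc, reassoc_of% h1, Category.assoc]
  · rw [← he, Spec.map_comp_assoc, h1, Category.assoc]
  · rw [← he, Spec.map_comp_assoc, h2, Category.assoc]

end Groth.Agent.H8Lim
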