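import Groth.Agent.H8Lim.FibreDimModel
import Groth.Agent.H8Lim.FibreDimStage

/-!
# Fibre dimensions in systems with closed immersion transition maps (Stacks 094M)
-/

set_option autoImplicit false
set_option maxHeartbeats 1600000
set_option backward.isDefEq.respectTransparency.types false
set_option linter.style.haveILetI false

universe u

open CategoryTheory CategoryTheory.Limits AlgebraicGeometry TopologicalSpace Topology

namespace Groth.Agent.H8Lim

/-- Some stage has the same fibre over a given point as the limit. -/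
theorem exists_stage_fiber_dim_le' {S : Scheme.{u}} {I : Type u} [SmallCategory I] [IsCofiltered I]
    (D : I ⥤ Over S) (c : Cone D) (hc : IsLimit c) (hD : ∀ (i j : I) (a : i ⟶ j), IsClosedImmersion (D.map a).left)
    (hπ : ∀ i, IsClosedImmersion (c.π.app i).left) (hlft : ∀ i, LocallyOfFiniteType (D.obj i).hom)
    (hqc : ∀ i, QuasiCompact (D.obj i).hom) (y : S) (d : ℕ)
    (hd : topologicalKrullDim ↥(c.pt.hom.fiber y) ≤ d) :
    ∃ k, topologicalKrullDim ↥((D.obj k).hom.fiber y) ≤ d := by
  obtain ⟨i⟩ := IsCofiltered.nonempty (C := I)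
  let g := (D.obj i).hom
  haveI : LocallyOfFiniteType g := hlft i
  haveI : QuasiCompact g := hqc i
  haveI : LocallyOfFiniteType (g.fiberToSpecResidueField y) :=
    inferInstanceAs (LocallyOfFiniteType (pullback.snd g (S.fromSpecResidueField y)))
  haveI : QuasiCompact (g.fiberToSpecResidueField y) :=
    inferInstanceAs (QuasiCompact (pullback.snd g (S.fromSpecResidueField y)))
  haveI : CompactSpace (g.fiber y) := QuasiCompact.compactSpace_of_compactSpace (g.fiberToSpecResidueField y)
  haveI : IsLocallyNoetherian (g.fiber y) :=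
    LocallyOfFiniteType.isLocallyNoetherian (g.fiberToSpecResidueField y)
  haveI : AlgebraicGeometry.IsNoetherian (g.fiber y) := {}
  haveI : NoetherianSpace (g.fiber y) := inferInstance
  let C : Over i → Closeds (g.fiber y) := fun a =>
    ⟨(g.fiberι y) ⁻¹' Set.range (D.map a.hom).left,
      (hD _ _ a.hom).base_closed.isClosed_range.preimage (g.fiberι y).continuous⟩
  obtain ⟨_, ⟨a₀, rfl⟩, hmin⟩ := (wellFounded_lt (α := Closeds (g.fiber y))).has_min (Set.range C)
    ⟨C (Over.mk (𝟙 i)), Set.mem_range_self _⟩
  let k := a₀.left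
  refine ⟨k, ?_⟩
  let gk := (D.obj k).hom
  have hsurj : ∀ z : (D.obj k).left, gk z = y → z ∈ Set.range (c.π.app k).left := by
    intro z hz
    have hpre : ∀ b : Over k, ∃ w, (D.map b.hom).left w = z := by
      intro b
      let ab : Over i := Over.mk (b.hom ≫ a₀.hom)
      have hle : C ab ≤ C a₀ := by
        rintro w ⟨v, hv⟩
        refine ⟨(D.map b.hom).left v, ?_⟩
        rw [← hv]
        show _ = (D.map (b.hom ≫ a₀.hom)).left v
        rw [D.map_comp, Over.comp_left, Scheme.Hom.comp_apply]
      have heq : C ab = C a₀ := hle.eq_of_not_lt (hmin _ (Set.mem_range_self ab))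
      obtain ⟨w, hw⟩ : (D.map a₀.hom).left z ∈ Set.range (g.fiberι y) := by
        rw [g.range_fiberι]
        show g ((D.map a₀.hom).left z) = y
        rw [← Scheme.Hom.comp_apply, show (D.map a₀.hom).left ≫ g = gk from Over.w _, hz]
      have hwmem : w ∈ C a₀ := ⟨z, hw.symm⟩
      rw [← heq] at hwmem
      obtain ⟨v, hv⟩ := hwmem
      refine ⟨v, (hD _ _ a₀.hom).base_closed.injective ?_⟩
      refine Eq.trans ?_ (hv.trans hw)
      show _ = (D.map (b.hom ≫ a₀.hom)).left v
      rw [D.map_comp, Over.comp_left, Scheme.Hom.comp_apply]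
    choose w hw using hpre
    let E : Over k ⥤ Scheme.{u} := Over.forget k ⋙ D ⋙ Over.forget S
    haveI : IsConnected I := IsCofiltered.isConnected _
    let cE : Cone E := ((Over.forget S).mapCone c).whisker (Over.forget k)
    have hcE : IsLimit cE := (Functor.Initial.isLimitWhiskerEquiv (Over.forget k) _).symm
      (isLimitOfPreserves (Over.forget S) hc)
    haveI : ∀ {a b : Over k} (φ : a ⟶ b), IsAffineHom (E.map φ) := fun {a b} φ =>
      haveI := hD _ _ φ.left
      inferInstanceAs (IsAffineHom (D.map φ.left).left)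
    obtain ⟨p, hp'⟩ := exists_of_compatible hcE w fun {a b} φ => by
      refine (hD _ _ b.hom).base_closed.injective ?_
      rw [hw b]
      refine Eq.trans ?_ (hw a)
      show (D.map b.hom).left ((D.map φ.left).left (w a)) = (D.map a.hom).left (w a)
      rw [← Scheme.Hom.comp_apply, ← Over.comp_left, ← D.map_comp, Over.w φ]
    refine ⟨p, ?_⟩
    have h1 := hw (Over.mk (𝟙 k))
    rw [← hp' (Over.mk (𝟙 k))] at h1
    rw [← h1]
    show _ = (D.map (𝟙 k)).left ((c.π.app k).left p)
    rw [D.map_id]
    rfl
  let Z := (gk ⁻¹' {y} : Set (D.obj k).left)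
  choose m hm using fun z : Z => hsurj z.1 z.2
  have hmy : ∀ z : Z, c.pt.hom (m z) = y := fun z => by
    rw [show c.pt.hom = (c.π.app k).left ≫ gk from (Over.w _).symm, Scheme.Hom.comp_apply, hm]
    exact z.2
  let m' : Z → (c.pt.hom ⁻¹' {y} : Set c.pt.left) := fun z => ⟨m z, hmy z⟩
  haveI := hπ k
  have hmc : Continuous m := ((c.π.app k).left.isEmbedding.isInducing.continuous_iff).2 (by
    rw [show (c.π.app k).left ∘ m = Subtype.val from funext hm]
    exact continuous_subtype_val)
  have hm' : Topology.IsInducing m' :=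
    Topology.IsInducing.of_comp (g := fun v : (c.pt.hom ⁻¹' {y} : Set c.pt.left) => (c.π.app k).left v.1)
      (hmc.subtype_mk _)
      ((c.π.app k).left.continuous.comp continuous_subtype_val) (by
      rw [show (fun v => (c.π.app k).left v.1) ∘ m' = Subtype.val from funext hm]
      exact Topology.IsInducing.subtypeVal)
  exact ((gk.fiberHomeo y).isInducing.topologicalKrullDim_le).trans (hm'.topologicalKrullDim_le.trans
    (((c.pt.hom.fiberHomeo y).symm.isInducing.topologicalKrullDim_le).trans hd))

variable {I : Type u} [SmallCategory I] [IsCofiltered I]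

/-- The points of the base with fibre of dimension at most `d` form an ind-constructible set. -/
theorem isIndConstructible_setOf_fiber_dim_le {X S : Scheme.{u}} (f : X ⟶ S) [LocallyOfFiniteType f]
    [QuasiCompact f] (d : ℕ) :
    ProCons.IsIndConstructible {s : S | topologicalKrullDim ↥(f.fiber s) ≤ (d : WithBot ℕ∞)} := by
  let E : Set X := {x | FlatMor.fibreDimAt f x ≤ (d : WithBot ℕ∞)}
  have he : {s : S | topologicalKrullDim ↥(f.fiber s) ≤ (d : WithBot ℕ∞)} = (f '' Eᶜ)ᶜ := by
    ext s
    have : LocallyOfFiniteType (f.fiberToSpecResidueField s) :=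
      inferInstanceAs (LocallyOfFiniteType (pullback.snd f (S.fromSpecResidueField s)))
    show topologicalKrullDim ↥(f.fiber s) ≤ _ ↔ _
    rw [DimLib.topologicalKrullDim_eq_iSup (k := S.residueField s) (f.fiberToSpecResidueField s), iSup_le_iff]
    constructor
    · rintro h ⟨x, hx, rfl⟩
      refine hx ((FlatMorDim.localDim_le_iff (k := S.residueField (f x)) (f.fiberToSpecResidueField (f x))
        (f.asFiber x) d).2 fun w _ => ?_)
      exact_mod_cast h w
    · intro h z
      have hz : f (f.fiberι s z) = s := (f.range_fiberι s).le ⟨z, rfl⟩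
      have hx : f.fiberι s z ∈ E := by
        by_contra hx; exact h ⟨_, hx, hz⟩
      have := (FlatMorDim.fibreDimAt_le_iff f _ d).1 hx _ rfl specializes_rfl
      rw [← EGA43.FibDepth.ptDim_fiber] at this
      exact_mod_cast this
  rw [he, ← H8ProCons.isProConstructible_iff_compl]
  refine H8ProCons.isProConstructible_image f ?_
  rw [H8ProCons.isProConstructible_iff_compl, compl_compl]
  exact H8ProCons.isIndConstructible_of_isOpen (FlatMorDim.isOpen_fibreDimAt_le f d)

/-- Fibre dimension at most `d` holds at a stage of a system of morphisms. -/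
theorem exists_stage_fiber_dim_le_of_system (DX DS : I ⥤ Scheme.{u}) (φ : DX ⟶ DS) (cX : Cone DX)
    (cS : Cone DS) (hX : IsLimit cX) (hS : IsLimit cS) [∀ (i j : I) (a : i ⟶ j), IsAffineHom (DS.map a)]
    [∀ i, CompactSpace (DS.obj i)] [∀ i, QuasiSeparatedSpace (DS.obj i)]
    [∀ i, LocallyOfFiniteType (φ.app i)] [∀ i, QuasiCompact (φ.app i)]
    (hcl : ∀ (i j : I) (a : i ⟶ j), IsClosedImmersion (pullback.lift (DX.map a) (φ.app i) (φ.naturality a)))
    (f : cX.pt ⟶ cS.pt) (hf : ∀ i, f ≫ cS.π.app i = cX.π.app i ≫ φ.app i) (d : ℕ)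
    (hd : ∀ s : cS.pt, topologicalKrullDim ↥(f.fiber s) ≤ d) :
    ∃ i : I, ∀ s : DS.obj i, topologicalKrullDim ↥((φ.app i).fiber s) ≤ d := by
  classical
  have : ∀ {i j : I} (a : i ⟶ j), IsAffineHom (DS.map a) := fun a => inferInstance
  -- the base changes to the limit
  let W : I ⥤ Over cS.pt :=
    { obj := fun j => Over.mk (pullback.snd (φ.app j) (cS.π.app j))
      map := fun {i j} a => Over.homMk (pullback.lift (pullback.fst (φ.app i) (cS.π.app i) ≫ DX.map a)
        (pullback.snd (φ.app i) (cS.π.app i)) (by
          rw [Category.assoc, φ.naturality, ← Category.assoc, pullback.condition, Category.assoc, cS.w]))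
        (pullback.lift_snd _ _ _)
      map_id := fun j => by
        apply Over.OverMorphism.ext
        apply pullback.hom_ext <;> simp
      map_comp := fun a b => by
        apply Over.OverMorphism.ext
        show _ = pullback.lift _ _ _ ≫ pullback.lift _ _ _
        apply pullback.hom_ext
        · simp only [Over.homMk_left, Category.assoc, pullback.lift_fst, pullback.lift_fst_assoc, Functor.map_comp]
        · simp only [Over.homMk_left, Category.assoc, pullback.lift_snd] }
  have hW : ∀ (i j : I) (a : i ⟶ j), IsClosedImmersion (W.map a).left := fun i j a => by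
    have hm : (pullback.fst (φ.app j) (cS.π.app j)) ≫ φ.app j =
        (pullback.snd (φ.app j) (cS.π.app j) ≫ cS.π.app i) ≫ DS.map a := by
      rw [Category.assoc, cS.w, pullback.condition]
    let m := pullback.lift (f := φ.app j) (g := DS.map a) _ _ hm
    have hbot : IsPullback m (pullback.snd (φ.app j) (cS.π.app j)) (pullback.snd (φ.app j) (DS.map a))
        (cS.π.app i) :=
      IsPullback.of_right (by rw [pullback.lift_fst, cS.w]; exact IsPullback.of_hasPullback _ _)
        (pullback.lift_snd _ _ _) (IsPullback.of_hasPullback _ _)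
    have hsq : IsPullback (pullback.fst (φ.app i) (cS.π.app i)) (W.map a).left
        (pullback.lift (DX.map a) (φ.app i) (φ.naturality a)) m := by
      refine IsPullback.of_bot ?_ ?_ hbot
      · rw [pullback.lift_snd]
        show IsPullback _ (pullback.lift _ _ _ ≫ pullback.snd _ _) _ _
        rw [pullback.lift_snd]
        exact IsPullback.of_hasPullback (φ.app i) (cS.π.app i)
      · show _ ≫ pullback.lift _ _ _ = pullback.lift _ _ _ ≫ pullback.lift _ _ _
        apply pullback.hom_ext
        · simp only [Category.assoc, pullback.lift_fst, pullback.lift_fst_assoc]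
        · simp only [Category.assoc, pullback.lift_snd, pullback.lift_snd_assoc, pullback.condition]
          
    exact MorphismProperty.of_isPullback hsq (hcl i j a)
  let cW : Cone W :=
    { pt := Over.mk f
      π :=
        { app := fun j => Over.homMk (pullback.lift (cX.π.app j) f (hf j).symm) (pullback.lift_snd _ _ _)
          naturality := fun i j a => by
            apply Over.OverMorphism.ext
            show 𝟙 cX.pt ≫ pullback.lift (cX.π.app j) f _ = pullback.lift (cX.π.app i) f _ ≫ (W.map a).left
            show 𝟙 cX.pt ≫ pullback.lift (cX.π.app j) f _ = pullback.lift (cX.π.app i) f _ ≫ pullback.lift _ _ _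
            apply pullback.hom_ext
            · simp only [Category.id_comp, Category.assoc, pullback.lift_fst, pullback.lift_fst_assoc, cX.w]
            · simp only [Category.id_comp, Category.assoc, pullback.lift_snd, pullback.lift_snd_assoc] } }
  have : CategoryTheory.IsConnected I := IsCofiltered.isConnected _
  have hWw : ∀ {T : Cone W} {i j : I} (a : i ⟶ j), ((T.π.app i).left ≫ pullback.fst (φ.app i) (cS.π.app i)) ≫ DX.map a =
      (T.π.app j).left ≫ pullback.fst (φ.app j) (cS.π.app j) := fun {T i j} a => by
    rw [← T.w a, Over.comp_left, Category.assoc, Category.assoc]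
    exact congrArg ((T.π.app i).left ≫ ·) (pullback.lift_fst _ _ _).symm
  let cT : Cone W → Cone DX := fun T =>
    { pt := T.pt.left
      π :=
        { app := fun j => (T.π.app j).left ≫ pullback.fst (φ.app j) (cS.π.app j)
          naturality := fun i j a => (Category.id_comp _).trans (hWw a).symm } }
  have hlift : ∀ T : Cone W, hX.lift (cT T) ≫ f = T.pt.hom := fun T => hS.hom_ext fun j => by
    rw [Category.assoc, hf, hX.fac_assoc]
    show ((T.π.app j).left ≫ pullback.fst _ _) ≫ φ.app j = _
    rw [Category.assoc, pullback.condition, ← Category.assoc]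
    exact congrArg (· ≫ cS.π.app j) (Over.w (T.π.app j))
  have hlimW : IsLimit cW :=
    { lift := fun T => Over.homMk (hX.lift (cT T)) (hlift T)
      fac := fun T j => by
        apply Over.OverMorphism.ext
        show hX.lift (cT T) ≫ pullback.lift (cX.π.app j) f _ = (T.π.app j).left
        apply pullback.hom_ext
        · rw [Category.assoc, pullback.lift_fst]; exact hX.fac (cT T) j
        · rw [Category.assoc, pullback.lift_snd, hlift]; exact (Over.w (T.π.app j)).symm
      uniq := fun T g hg => by
        apply Over.OverMorphism.ext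
        refine hX.hom_ext fun j => ?_
        show g.left ≫ cX.π.app j = hX.lift (cT T) ≫ cX.π.app j
        rw [hX.fac]
        show _ = (T.π.app j).left ≫ pullback.fst _ _
        rw [← hg j, Over.comp_left, Category.assoc]
        exact (congrArg (g.left ≫ ·) (pullback.lift_fst _ _ _)).symm }
  have hπW : ∀ j, IsClosedImmersion (cW.π.app j).left := fun j => by
    have : ∀ {i k : I} (a : i ⟶ k), IsClosedImmersion ((W ⋙ Over.forget cS.pt).map a) := fun a => hW _ _ a
    exact isClosedImmersion_π_app (isLimitOfPreserves (Over.forget cS.pt) hlimW) j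
  -- some stage works at each point
  let G : ∀ i, Set (DS.obj i) := fun i => {t | topologicalKrullDim ↥((φ.app i).fiber t) ≤ (d : WithBot ℕ∞)}
  have hpt : ∀ s : cS.pt, ∃ k, cS.π.app k s ∈ G k := fun s => by
    obtain ⟨k, hk⟩ := exists_stage_fiber_dim_le' W cW hlimW hW hπW
      (fun j => MorphismProperty.pullback_snd (φ.app j) (cS.π.app j) inferInstance)
      (fun j => MorphismProperty.pullback_snd (φ.app j) (cS.π.app j) inferInstance) s d (hd s)
    refine ⟨k, ?_⟩
    change topologicalKrullDim ↥((pullback.snd (φ.app k) (cS.π.app k)).fiber s) ≤ _ at hk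
    rw [FlatMorDim.fiber_dim_baseChange (IsPullback.of_hasPullback (φ.app k) (cS.π.app k)) s] at hk
    exact hk
  have hmono : ∀ {i j : I} (a : j ⟶ i) (t : DS.obj j), DS.map a t ∈ G i → t ∈ G j := fun {i j} a t ht => by
    let k := pullback.lift (DX.map a) (φ.app j) (φ.naturality a)
    have : IsClosedImmersion k := hcl j i a
    have h1 : topologicalKrullDim ↥((pullback.snd (φ.app i) (DS.map a)).fiber t) ≤ (d : WithBot ℕ∞) := by
      rw [FlatMorDim.fiber_dim_baseChange (IsPullback.of_hasPullback (φ.app i) (DS.map a)) t]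
      exact ht
    refine le_trans ?_ h1
    have hk : k ≫ pullback.snd (φ.app i) (DS.map a) = φ.app j := pullback.lift_snd _ _ _
    let m : ↥(⇑(φ.app j) ⁻¹' {t}) → ↥(⇑(pullback.snd (φ.app i) (DS.map a)) ⁻¹' {t}) :=
      fun z => ⟨k z.1, by
        show pullback.snd (φ.app i) (DS.map a) (k z.1) ∈ ({t} : Set _)
        rw [← Scheme.Hom.comp_apply, hk]; exact z.2⟩
    have hm : IsInducing m := by
      refine IsInducing.of_comp ((k.continuous.comp continuous_subtype_val).subtype_mk _)
        continuous_subtype_val ?_
      exact k.isEmbedding.isInducing.comp IsInducing.subtypeVal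
    exact ((φ.app j).fiberHomeo t).isInducing.topologicalKrullDim_le.trans
      (hm.topologicalKrullDim_le.trans
        ((pullback.snd (φ.app i) (DS.map a)).fiberHomeo t).symm.isInducing.topologicalKrullDim_le)
  -- compactness
  obtain ⟨i₀⟩ := IsCofiltered.nonempty (C := I)
  have : CompactSpace cS.pt := compactSpace_pt hS (i := i₀)
  have : QuasiSeparatedSpace cS.pt := quasiSeparatedSpace_pt hS (i := i₀)
  have hopen : ∀ k, IsOpen[constructibleTopology cS.pt] (cS.π.app k ⁻¹' G k) := fun k =>
    H8ProCons.isOpen_cons_iff_isIndConstructible.2 (H8ProCons.isIndConstructible_preimage (cS.π.app k)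
      (isIndConstructible_setOf_fiber_dim_le (φ.app k) d))
  have hcpt : @IsCompact cS.pt (constructibleTopology cS.pt) Set.univ :=
    H8ProCons.isCompact_cons (@isClosed_univ _ (constructibleTopology cS.pt))
  obtain ⟨T, hT⟩ := @IsCompact.elim_finite_subcover cS.pt (constructibleTopology cS.pt) _ _ hcpt
    (fun k => cS.π.app k ⁻¹' G k) hopen (fun s _ => Set.mem_iUnion.2 (hpt s))
  obtain ⟨k, hk⟩ := IsCofiltered.inf_objs_exists T
  have hall : cS.π.app k ⁻¹' (G k)ᶜ ⊆ cS.π.app k ⁻¹' ∅ := fun s hs => by
    obtain ⟨j, hj, hsj⟩ := Set.mem_iUnion₂.1 (hT (Set.mem_univ s))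
    refine hs (hmono (hk hj).some _ ?_)
    rw [← Scheme.Hom.comp_apply, cS.w]
    exact hsj
  obtain ⟨j, a, hj⟩ := exists_preimage_subset_of_isProConstructible hS (P := (G k)ᶜ) (C := ∅)
    (H8ProCons.isProConstructible_iff_compl.2
      (by rw [compl_compl]; exact isIndConstructible_setOf_fiber_dim_le (φ.app k) d))
    IsConstructible.empty hall
  exact ⟨j, fun t => hmono a t (not_not.1 fun h => hj h)⟩

end Groth.Agent.H8Lim
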