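import Groth.Agent.H8Lim.StalkLimit

/-!
A property of schemes over a base compatible with thickenings, limits and open-closed
decompositions holds at some field-valued point.
-/

set_option autoImplicit false
set_option backward.isDefEq.respectTransparency.types false
set_option backward.isDefEq.respectTransparency false

universe u

open CategoryTheory CategoryTheory.Limits AlgebraicGeometry TopologicalSpace

namespace Groth.Agent.H8Lim.FieldPoint

variable {T : Scheme.{u}}

/-- The closed subschemes of a directed family of ideal sheaves, as a diagram over `T`. -/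
noncomputable def chainDiagram (c : Set T.IdealSheafData) : (↥c)ᵒᵖ ⥤ Over T :=
  (Monotone.functor (f := fun J : ↥c => J.1) fun _ _ h => h).op ⋙
    Scheme.IdealSheafData.subschemeFunctor T

/-- The cone of the subscheme of the supremum. -/
noncomputable def chainCone (c : Set T.IdealSheafData) : Cone (chainDiagram c) where
  pt := Over.mk (sSup c).subschemeι
  π :=
    { app := fun J => Over.homMk (Scheme.IdealSheafData.inclusion (le_sSup J.unop.2))
        (Scheme.IdealSheafData.inclusion_subschemeι _)
      naturality := fun J K f => by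
        ext : 1
        refine (Category.id_comp _).trans ?_
        exact (Scheme.IdealSheafData.inclusion_comp _ _).symm }

/-- The subscheme of the supremum is the limit. -/
theorem isLimit_chainCone (c : Set T.IdealSheafData) : Nonempty (IsLimit (chainCone c)) := by
  refine ⟨{ lift := fun s => Over.homMk
              (IsClosedImmersion.lift (sSup c).subschemeι s.pt.hom ?_)
              (IsClosedImmersion.lift_fac _ _ _),
            fac := fun s J => ?_, uniq := fun s m hm => ?_ }⟩
  · rw [Scheme.IdealSheafData.ker_subschemeι]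
    refine sSup_le fun J hJ => ?_
    have h : (s.π.app ⟨⟨J, hJ⟩⟩).left ≫ J.subschemeι = s.pt.hom := Over.w (s.π.app ⟨⟨J, hJ⟩⟩)
    rw [← h]
    exact le_of_eq_of_le J.ker_subschemeι.symm (Scheme.Hom.le_ker_comp _ _)
  · ext : 1
    rw [← cancel_mono J.unop.1.subschemeι]
    refine Eq.trans ?_ (Over.w (s.π.app J)).symm
    show (IsClosedImmersion.lift (sSup c).subschemeι s.pt.hom _ ≫
      Scheme.IdealSheafData.inclusion (le_sSup J.unop.2)) ≫ J.unop.1.subschemeι = _
    rw [Category.assoc, Scheme.IdealSheafData.inclusion_subschemeι, IsClosedImmersion.lift_fac]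
    rfl
  · ext : 1
    rw [← cancel_mono (sSup c).subschemeι]
    exact (Over.w m).trans (IsClosedImmersion.lift_fac _ _ _).symm

variable [CompactSpace T] [QuasiSeparatedSpace T] [Nonempty T]
  (P : ∀ ⦃T' : Scheme.{u}⦄, (T' ⟶ T) → Prop)
  (h1 : ∀ ⦃T' T'' : Scheme.{u}⦄ (a : T' ⟶ T) (t : T'' ⟶ T') [IsClosedImmersion t] [Surjective t]
    [CompactSpace T'] [QuasiSeparatedSpace T'] [CompactSpace T''] [QuasiSeparatedSpace T''],
    P (t ≫ a) ↔ P a)
  (h2 : ∀ ⦃I : Type u⦄ [SmallCategory I] [IsCofiltered I] (D : I ⥤ Over T) (c : Limits.Cone D)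
    (_ : Limits.IsLimit c), (∀ (i j : I) (m : i ⟶ j), IsAffineHom (D.map m).left) →
    (∀ i, CompactSpace (D.obj i).left ∧ QuasiSeparatedSpace (D.obj i).left) →
    (∀ i, P (D.obj i).hom) → P c.pt.hom)
  (h3 : ∀ ⦃T' Z V : Scheme.{u}⦄ (a : T' ⟶ T) [CompactSpace T'] [QuasiSeparatedSpace T'] (i : Z ⟶ T')
    [IsClosedImmersion i] (j : V ⟶ T') [IsOpenImmersion j] [CompactSpace V],
    Set.range j = (Set.range i)ᶜ → P a → P (j ≫ a) ∨ P (i ≫ a))
  (hT : P (𝟙 T))

include h1 h2 hT in
/-- A minimal nonempty closed subscheme with the property. -/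
theorem exists_maximal : ∃ I : T.IdealSheafData, (P I.subschemeι ∧ Nonempty ↥I.subscheme) ∧
    ∀ J : T.IdealSheafData, P J.subschemeι → Nonempty ↥J.subscheme → I ≤ J → J = I := by
  let 𝒮 : Set T.IdealSheafData := {I | P I.subschemeι ∧ Nonempty ↥I.subscheme}
  have hbot : (⊥ : T.IdealSheafData) ∈ 𝒮 := by
    let e : (⊥ : T.IdealSheafData).subscheme ⟶ T := Scheme.IdealSheafData.subschemeι ⊥
    have : CompactSpace ↥((⊥ : T.IdealSheafData).subscheme) := QuasiCompact.compactSpace_of_compactSpace e
    have : QuasiSeparatedSpace ↥((⊥ : T.IdealSheafData).subscheme) :=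
      quasiSeparatedSpace_of_quasiSeparated e
    refine ⟨?_, ⟨inv e (Classical.arbitrary T)⟩⟩
    have := h1 (𝟙 T) e
    rw [Category.comp_id] at this
    exact this.mpr hT
  obtain ⟨I, -, hI⟩ := zorn_le_nonempty₀ 𝒮 (fun c hc hch x hx => by
    refine ⟨sSup c, ?_, fun J hJ => le_sSup hJ⟩
    have : Nonempty ↥c := ⟨⟨x, hx⟩⟩
    have : IsDirected ↥c (· ≤ ·) := ⟨fun a b => by
      obtain ⟨d, hd, had, hbd⟩ := hch.directedOn a.1 a.2 b.1 b.2
      exact ⟨⟨d, hd⟩, had, hbd⟩⟩
    obtain ⟨hlim⟩ := isLimit_chainCone c
    have haff : ∀ (i j : (↥c)ᵒᵖ) (m : i ⟶ j), IsAffineHom ((chainDiagram c).map m).left := fun i j m =>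
      inferInstanceAs (IsAffineHom (Scheme.IdealSheafData.inclusion _))
    have hqc : ∀ i, CompactSpace ((chainDiagram c).obj i).left ∧
        QuasiSeparatedSpace ((chainDiagram c).obj i).left := fun i =>
      ⟨QuasiCompact.compactSpace_of_compactSpace i.unop.1.subschemeι,
        quasiSeparatedSpace_of_quasiSeparated i.unop.1.subschemeι⟩
    refine ⟨h2 _ _ hlim haff hqc fun i => (hc i.unop.2).1, ?_⟩
    have : IsConnected (↥c)ᵒᵖ := IsCofiltered.isConnected _
    have : ∀ {i j : (↥c)ᵒᵖ} (f : i ⟶ j),
        IsAffineHom ((chainDiagram c ⋙ Over.forget T).map f) := fun f => haff _ _ f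
    have : ∀ i, Nonempty ↥((chainDiagram c ⋙ Over.forget T).obj i) := fun i => (hc i.unop.2).2
    have : ∀ i, CompactSpace ↥((chainDiagram c ⋙ Over.forget T).obj i) := fun i => (hqc i).1
    exact Scheme.nonempty_of_isLimit _ _ (isLimitOfPreserves (Over.forget T) hlim)) ⊥ hbot
  exact ⟨I, hI.1, fun J hJ hJne hle => le_antisymm (hI.2 ⟨hJ, hJne⟩ hle) hle⟩

include h1 h2 h3 hT in
/-- Some field-valued point has the property. -/
theorem exists_field_point_of_property :
    ∃ (K : Type u) (_ : Field K) (t : Spec (CommRingCat.of K) ⟶ T), P t := by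
  obtain ⟨I, ⟨hPI, hne⟩, hmax⟩ := exists_maximal P h1 h2 hT
  let Z := I.subscheme
  let a : Z ⟶ T := I.subschemeι
  have : CompactSpace Z := QuasiCompact.compactSpace_of_compactSpace a
  have : QuasiSeparatedSpace Z := quasiSeparatedSpace_of_quasiSeparated a
  obtain ⟨z₀⟩ := hne
  obtain ⟨η, hη⟩ := QuasiSober.sober (isIrreducible_irreducibleComponent (x := z₀))
    isClosed_irreducibleComponent
  have hηmax : ∀ z : Z, z ⤳ η → z = η := by
    intro z hz
    have h1 : irreducibleComponent z₀ ⊆ closure {z} := by
      rw [← hη.def]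
      exact closure_minimal (Set.singleton_subset_iff.mpr hz.mem_closure) isClosed_closure
    have h2 : irreducibleComponent z₀ = closure {z} :=
      (irreducibleComponent_mem_irreducibleComponents z₀).2 isIrreducible_singleton.closure h1
        |> fun h => le_antisymm h1 h
    exact (IsGenericPoint.eq (show IsGenericPoint z (irreducibleComponent z₀) from h2.symm) hη)
  have hopen : ∀ V : Z.Opens, IsCompact (V : Set Z) → η ∈ V → P (V.ι ≫ a) := by
    intro V hV hηV
    have : CompactSpace V := isCompact_iff_compactSpace.mp hV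
    let J := Scheme.IdealSheafData.vanishingIdeal (⟨(V : Set Z)ᶜ, V.2.isClosed_compl⟩ : Closeds Z)
    let i := J.subschemeι
    have hri : Set.range i = (V : Set Z)ᶜ := by
      rw [Scheme.IdealSheafData.range_subschemeι, Scheme.IdealSheafData.coe_support_vanishingIdeal]
      rfl
    rcases h3 a i V.ι (by rw [hri, compl_compl, Scheme.Opens.range_ι]) hPI with hP | hP
    · exact hP
    have : CompactSpace ↥J.subscheme := QuasiCompact.compactSpace_of_compactSpace i
    have : QuasiSeparatedSpace ↥J.subscheme := quasiSeparatedSpace_of_quasiSeparated i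
    by_cases hJ : Nonempty ↥J.subscheme
    · let b := i ≫ a
      let K := b.ker
      let e := b.toImage
      have he : e ≫ K.subschemeι = b := b.toImage_imageι
      have : IsClosedImmersion (e ≫ K.subschemeι) := by rw [he]; infer_instance
      have : IsClosedImmersion e := IsClosedImmersion.of_comp e K.subschemeι
      have hKr : Set.range K.subschemeι = Set.range b := by
        rw [Scheme.IdealSheafData.range_subschemeι, Scheme.Hom.support_ker]
        exact b.isClosedEmbedding.isClosed_range.closure_eq
      have : Surjective e := ⟨fun y => by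
        obtain ⟨x, hx⟩ := hKr.le ⟨y, rfl⟩
        exact ⟨x, K.subschemeι.isClosedEmbedding.injective (by
          rw [← Scheme.Hom.comp_apply, he]; exact hx)⟩⟩
      have : CompactSpace ↥K.subscheme := QuasiCompact.compactSpace_of_compactSpace K.subschemeι
      have : QuasiSeparatedSpace ↥K.subscheme := quasiSeparatedSpace_of_quasiSeparated K.subschemeι
      have hPK : P K.subschemeι := (h1 K.subschemeι e).mp (by rw [he]; exact hP)
      have hIK : I ≤ K := by
        refine le_of_eq_of_le I.ker_subschemeι.symm ?_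
        exact Scheme.Hom.le_ker_comp i a
      have hKI : K = I := hmax K hPK ⟨e (Classical.choice hJ)⟩ hIK
      have hmem : a η ∈ Set.range b := by
        rw [← hKr, hKI]
        exact ⟨η, rfl⟩
      obtain ⟨x, hx⟩ := hmem
      have : i x = η := a.isClosedEmbedding.injective ((Scheme.Hom.comp_apply _ _ _).symm.trans hx)
      exact absurd hηV (hri.le ⟨x, this⟩)
    · have hV : Function.Surjective V.ι := fun z => by
        have : z ∈ Set.range V.ι := by
          rw [Scheme.Opens.range_ι]
          by_contra hz
          obtain ⟨x, -⟩ := hri.ge hz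
          exact hJ ⟨x⟩
        exact this
      have : Surjective V.ι := ⟨hV⟩
      have : IsIso V.ι := (isIso_iff_isOpenImmersion_and_surjective _).mpr ⟨inferInstance, this⟩
      have : QuasiSeparatedSpace V := quasiSeparatedSpace_of_quasiSeparated V.ι
      exact (h1 a V.ι).mpr hPI
  let D₀ := StalkLimit.diagram η
  let D : StalkLimit.AffNhd η ⥤ Over T :=
    { obj := fun V => Over.mk (StalkLimit.incMap η V ≫ a)
      map := fun f => Over.homMk (D₀.map f) (by
        show D₀.map f ≫ StalkLimit.incMap η _ ≫ a = StalkLimit.incMap η _ ≫ a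
        rw [← Category.assoc, StalkLimit.map_incMap])
      map_id := fun V => by ext; exact D₀.map_id V
      map_comp := fun f g => by ext; exact D₀.map_comp f g }
  let c : Cone D :=
    { pt := Over.mk (Z.fromSpecStalk η ≫ a)
      π :=
        { app := fun V => Over.homMk ((StalkLimit.cone η).π.app V) (by
            show _ ≫ StalkLimit.incMap η V ≫ a = Z.fromSpecStalk η ≫ a
            rw [← Category.assoc, StalkLimit.cone_incMap])
          naturality := fun V W f => by ext; exact (StalkLimit.cone η).π.naturality f } }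
  have : IsConnected (StalkLimit.AffNhd η) := IsCofiltered.isConnected _
  have hc : IsLimit c := isLimitOfReflects (Over.forget T) (StalkLimit.isLimitCone η)
  have hP : P (Z.fromSpecStalk η ≫ a) := by
    refine h2 D c hc (fun i j m => inferInstanceAs (IsAffineHom (D₀.map m))) (fun i => ?_) fun V => ?_
    · exact ⟨inferInstanceAs (CompactSpace ↥(Spec _)), inferInstanceAs (QuasiSeparatedSpace ↥(Spec _))⟩
    · have hV := hopen V.1 V.2.1.isCompact V.2.2
      have : CompactSpace V.1 := isCompact_iff_compactSpace.mp V.2.1.isCompact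
      have : QuasiSeparatedSpace V.1 :=
        quasiSeparatedSpace_of_quasiSeparated V.2.1.isoSpec.hom
      have := h1 (V.1.ι ≫ a) V.2.1.isoSpec.inv
      rw [← Category.assoc, V.2.1.isoSpec_inv_ι] at this
      exact this.mpr hV
  let t := Spec.map (Z.residue η)
  have : Surjective t := ⟨fun y => by
    have hy : Z.fromSpecStalk η y ⤳ η := by
      have : Z.fromSpecStalk η y ∈ Set.range (Z.fromSpecStalk η) := ⟨y, rfl⟩
      rwa [Scheme.range_fromSpecStalk] at this
    refine ⟨default, (Z.fromSpecStalk η).isEmbedding.injective ?_⟩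
    rw [hηmax _ hy, ← Scheme.Hom.comp_apply]
    exact Scheme.fromSpecResidueField_apply η default⟩
  exact ⟨Z.residueField η, inferInstance, t ≫ Z.fromSpecStalk η ≫ a,
    (h1 (Z.fromSpecStalk η ≫ a) t).mpr hP⟩

end Groth.Agent.H8Lim.FieldPoint
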