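import Groth.Agent.H8Lim.RelAmpleStage
import Groth.Agent.AmpleLib.Counit
import Groth.Agent.AmpleLib.CounitEpi

/-!
# Relative generation of invertible modules descends along limits (EGA IV 8.5.7, Stacks 09MT)
-/

set_option autoImplicit false
set_option maxHeartbeats 800000
set_option backward.isDefEq.respectTransparency.types false
set_option linter.style.haveILetI false

universe u

open CategoryTheory CategoryTheory.Limits AlgebraicGeometry Opposite TopologicalSpace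
open Groth.Agent.Coherent Groth.Agent.PicLib Groth.Agent.AmpleLib

namespace Groth.Agent.H8Lim

/-- Every point lies in the generation locus of a global section. -/
def HasGen {X : Scheme.{u}} (M : X.Modules) : Prop := ∀ x : X, ∃ c : Γ(M, ⊤), x ∈ glocus M c

theorem hasGen_of_iso {X : Scheme.{u}} {M N : X.Modules} (e : M ≅ N) (h : HasGen M) : HasGen N :=
  fun x => by
    obtain ⟨c, hc⟩ := h x
    exact ⟨e.hom.app ⊤ c, by rw [glocus_map_iso]; exact hc⟩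

theorem hasGen_pullback {X Y : Scheme.{u}} (σ : Y ⟶ X) {M : X.Modules} (hM : PicF.IsInvertible M)
    (h : HasGen M) : HasGen ((Scheme.Modules.pullback σ).obj M) := fun y => by
  obtain ⟨c, hc⟩ := h (σ y)
  refine ⟨pullSec σ c, ?_⟩
  rw [glocus_pullSec σ hM]
  exact hc

theorem hasGen_congr {X Y : Scheme.{u}} {p q : Y ⟶ X} (e : p = q) {M : X.Modules}
    (h : HasGen ((Scheme.Modules.pullback p).obj M)) :
    HasGen ((Scheme.Modules.pullback q).obj M) :=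
  e ▸ h

theorem hasGen_comp_iff {X Y Z : Scheme.{u}} (p : Z ⟶ Y) (q : Y ⟶ X) {M : X.Modules} :
    HasGen ((Scheme.Modules.pullback p).obj ((Scheme.Modules.pullback q).obj M)) ↔
      HasGen ((Scheme.Modules.pullback (p ≫ q)).obj M) :=
  ⟨hasGen_of_iso ((Scheme.Modules.pullbackComp p q).app M),
    hasGen_of_iso ((Scheme.Modules.pullbackComp p q).app M).symm⟩

variable {I : Type u} [SmallCategory I] [IsCofiltered I] {D : I ⥤ Scheme.{u}} {c : Cone D}
  [∀ {i j : I} (f : i ⟶ j), IsAffineHom (D.map f)] (hc : IsLimit c)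

include hc in
/-- Generation by global sections descends to a stage. -/
theorem exists_stage_hasGen [∀ i, CompactSpace (D.obj i)] [∀ i, QuasiSeparatedSpace (D.obj i)]
    {i : I} (G : (D.obj i).Modules) (hG : PicF.IsInvertible G)
    (h : HasGen ((Scheme.Modules.pullback (c.π.app i)).obj G)) :
    ∃ (j : I) (φ : j ⟶ i), HasGen ((Scheme.Modules.pullback (D.map φ)).obj G) := by
  have := isQCoh_of_isInvertible hG
  have : IsAffineHom (c.π.app i) := isAffineHom_π_app D c hc i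
  have : CompactSpace c.pt := QuasiCompact.compactSpace_of_compactSpace (c.π.app i)
  have key : ∀ x : c.pt, ∃ (j : I) (φ : j ⟶ i) (b : Γ((Scheme.Modules.pullback (D.map φ)).obj G, ⊤)),
      x ∈ c.π.app j ⁻¹ᵁ glocus _ b := fun x => by
    obtain ⟨b', hb'⟩ := h x
    obtain ⟨j, φ, b, hb⟩ := exists_stage_section hc G b'
    refine ⟨j, φ, b, ?_⟩
    rw [← hb, glocus_pullback_iso (c.π.app j) (PicLoc.isInvertible_pullback _ hG)] at hb'
    exact hb'
  choose j φ b hb using key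
  obtain ⟨t, ht⟩ := isCompact_univ.elim_finite_subcover
    (fun x => ((c.π.app (j x) ⁻¹ᵁ glocus _ (b x) : c.pt.Opens) : Set c.pt))
    (fun x => (c.π.app (j x) ⁻¹ᵁ glocus _ (b x)).2) fun x _ => Set.mem_iUnion.2 ⟨x, hb x⟩
  obtain ⟨J, g, gk, hg⟩ := IsCofiltered.wideCospan fun x : t => φ x.1
  obtain ⟨K, ψ, hK⟩ := exists_map_eq_top D c hc (⨆ x : t, D.map (gk x) ⁻¹ᵁ glocus _ (b x.1)) (by
    refine eq_top_iff.2 fun p _ => ?_
    obtain ⟨x, hx, hp⟩ := Set.mem_iUnion₂.1 (ht (Set.mem_univ p))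
    simp only [Scheme.Hom.preimage_iSup, ← Scheme.Hom.comp_preimage, c.w]
    exact Opens.mem_iSup.2 ⟨⟨x, hx⟩, hp⟩)
  refine ⟨K, ψ ≫ g, fun y => ?_⟩
  have hy : y ∈ D.map ψ ⁻¹ᵁ (⨆ x : t, D.map (gk x) ⁻¹ᵁ glocus _ (b x.1)) := by
    rw [hK]; trivial
  obtain ⟨x, hx⟩ := Opens.mem_iSup.1 hy
  have e' : (ψ ≫ gk x) ≫ φ x.1 = ψ ≫ g := by rw [Category.assoc, hg]
  let E := (pullCompIso (φ x.1) (ψ ≫ gk x)).app G ≪≫
    (Scheme.Modules.pullbackCongr (congrArg D.map e')).app G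
  refine ⟨E.hom.app ⊤ (pullSec (D.map (ψ ≫ gk x)) (b x.1)), ?_⟩
  rw [glocus_pullback_iso _ (PicLoc.isInvertible_pullback _ hG), D.map_comp, Scheme.Hom.comp_preimage]
  exact hx

include hc in
/-- Generation by global sections on a base change to the limit holds at all late stages. -/
theorem exists_stage_hasGen_baseChange {i₀ : I} {P : Scheme.{u}} [CompactSpace P]
    [QuasiSeparatedSpace P] (p : P ⟶ D.obj i₀) (L : P.Modules) (hL : PicF.IsInvertible L)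
    {X : Scheme.{u}} {q : X ⟶ P} {f : X ⟶ c.pt} (sq : IsPullback q f p (c.π.app i₀))
    (h : HasGen ((Scheme.Modules.pullback q).obj L)) :
    ∃ (j : I) (φ : j ⟶ i₀), ∀ (k : I) (ψ : k ⟶ j) {W : Scheme.{u}} (a : W ⟶ P) (b : W ⟶ D.obj k),
      IsPullback a b p (D.map (ψ ≫ φ)) → HasGen ((Scheme.Modules.pullback a).obj L) := by
  have := fun {j k : Over i₀} (g : j ⟶ k) =>
    (inferInstance : IsAffineHom ((stage D p).map g))
  let top : Over i₀ := Over.mk (𝟙 i₀)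
  let L' := (Scheme.Modules.pullback (stageFst D p top)).obj L
  have h' : HasGen ((Scheme.Modules.pullback ((stageCone p c q f sq).π.app top)).obj L') := by
    rw [hasGen_comp_iff]
    exact hasGen_congr (stageProj_fst p c q f sq top).symm h
  obtain ⟨j, g, hj⟩ := exists_stage_hasGen (isLimitStageCone p q f sq hc) L'
    (PicLoc.isInvertible_pullback _ hL) h'
  rw [hasGen_comp_iff] at hj
  have hj' := hasGen_congr (stageMap_fst D p g) hj
  refine ⟨j.left, j.hom, fun k ψ W a b hW => ?_⟩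
  let k' : Over i₀ := Over.mk (ψ ≫ j.hom)
  let m : k' ⟶ j := Over.homMk ψ
  let e := hW.isoIsPullback _ _ (isPullback_stage D p k')
  have h1 := hasGen_pullback ((stage D p).map m) (PicLoc.isInvertible_pullback _ hL) hj'
  rw [hasGen_comp_iff] at h1
  have h2 := hasGen_pullback e.hom (PicLoc.isInvertible_pullback _ hL)
    (hasGen_congr (stageMap_fst D p m) h1)
  rw [hasGen_comp_iff] at h2
  exact hasGen_congr (hW.isoIsPullback_hom_fst _ _ _) h2

include hc in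
/-- An epimorphic counit over the limit gives epimorphic counits at every late stage. -/
theorem exists_stage_epi_counit {i₀ : I} {X₀ Y₀ : Scheme.{u}} [CompactSpace Y₀]
    (f₀ : X₀ ⟶ Y₀) (g₀ : Y₀ ⟶ D.obj i₀) [QuasiCompact f₀] [QuasiSeparated f₀]
    (L₀ : X₀.Modules) (hL₀ : PicF.IsInvertible L₀)
    {X Y : Scheme.{u}} (f : X ⟶ Y) (g : Y ⟶ c.pt) (qY : Y ⟶ Y₀) (qX : X ⟶ X₀)
    (hY : IsPullback qY g g₀ (c.π.app i₀)) (hX : IsPullback qX f f₀ qY)
    (h : Epi ((Scheme.Modules.pullbackPushforwardAdjunction f).counit.app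
      ((Scheme.Modules.pullback qX).obj L₀))) :
    ∃ (j : I) (φ : j ⟶ i₀), ∀ (k : I) (ψ : k ⟶ j) {Xk Yk : Scheme.{u}} (fk : Xk ⟶ Yk)
      (gk : Yk ⟶ D.obj k) (pY : Yk ⟶ Y₀) (pX : Xk ⟶ X₀),
      IsPullback pY gk g₀ (D.map (ψ ≫ φ)) → IsPullback pX fk f₀ pY →
        Epi ((Scheme.Modules.pullbackPushforwardAdjunction fk).counit.app
          ((Scheme.Modules.pullback pX).obj L₀)) := by
  classical
  have hπ : IsAffineHom (c.π.app i₀) := isAffineHom_π_app D c hc i₀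
  have hqY : IsAffineHom qY := MorphismProperty.of_isPullback hY.flip hπ
  have : QuasiCompact f := MorphismProperty.of_isPullback hX ‹QuasiCompact f₀›
  have : QuasiSeparated f := MorphismProperty.of_isPullback hX ‹QuasiSeparated f₀›
  obtain ⟨t, ht⟩ := isCompact_univ.elim_finite_subcover
    (fun V : Y₀.affineOpens => (V.1 : Set Y₀)) (fun V => V.1.2) (fun y _ => by
      obtain ⟨V, hV, hy, -⟩ := exists_isAffineOpen_mem_and_subset (x := y) (U := ⊤) trivial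
      exact Set.mem_iUnion.2 ⟨⟨V, hV⟩, hy⟩)
  have key : ∀ V : t, ∃ (j : I) (φ : j ⟶ i₀), ∀ (k : I) (ψ : k ⟶ j) {W : Scheme.{u}}
      (a : W ⟶ f₀ ⁻¹ᵁ V.1.1) (b : W ⟶ D.obj k),
      IsPullback a b ((f₀ ⁻¹ᵁ V.1.1).ι ≫ f₀ ≫ g₀) (D.map (ψ ≫ φ)) →
        HasGen ((Scheme.Modules.pullback a).obj
          ((Scheme.Modules.pullback (f₀ ⁻¹ᵁ V.1.1).ι).obj L₀)) := fun V => by
    have : IsAffine (V.1.1 : Scheme.{u}) := V.1.2
    have : CompactSpace (f₀ ⁻¹ᵁ V.1.1 : Scheme.{u}) :=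
      QuasiCompact.compactSpace_of_compactSpace (f₀ ∣_ V.1.1)
    have : QuasiSeparatedSpace (f₀ ⁻¹ᵁ V.1.1 : Scheme.{u}) := by
      have : QuasiSeparated (f₀ ∣_ V.1.1) := IsZariskiLocalAtTarget.restrict ‹_› _
      exact quasiSeparatedSpace_of_quasiSeparated (f₀ ∣_ V.1.1)
    refine exists_stage_hasGen_baseChange hc ((f₀ ⁻¹ᵁ V.1.1).ι ≫ f₀ ≫ g₀)
      ((Scheme.Modules.pullback (f₀ ⁻¹ᵁ V.1.1).ι).obj L₀) (PicLoc.isInvertible_pullback _ hL₀)
      ((isPullback_morphismRestrict qX (f₀ ⁻¹ᵁ V.1.1)).paste_vert (hX.paste_vert hY)) ?_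
    have hle : qX ⁻¹ᵁ (f₀ ⁻¹ᵁ V.1.1) = f ⁻¹ᵁ (qY ⁻¹ᵁ V.1.1) := by
      rw [← Scheme.Hom.comp_preimage, hX.w, Scheme.Hom.comp_preimage]
    rw [hasGen_comp_iff]
    refine hasGen_congr (morphismRestrict_ι qX (f₀ ⁻¹ᵁ V.1.1)).symm ?_
    rw [← hasGen_comp_iff, hle]
    have hVY : IsAffineOpen (qY ⁻¹ᵁ V.1.1) := V.1.2.preimage qY
    have : IsAffine (qY ⁻¹ᵁ V.1.1 : Scheme.{u}) := hVY
    have : CompactSpace (f ⁻¹ᵁ (qY ⁻¹ᵁ V.1.1) : Scheme.{u}) :=
      QuasiCompact.compactSpace_of_compactSpace (f ∣_ (qY ⁻¹ᵁ V.1.1))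
    have : QuasiSeparatedSpace (f ⁻¹ᵁ (qY ⁻¹ᵁ V.1.1) : Scheme.{u}) := by
      have : QuasiSeparated (f ∣_ (qY ⁻¹ᵁ V.1.1)) := IsZariskiLocalAtTarget.restrict ‹_› _
      exact quasiSeparatedSpace_of_quasiSeparated (f ∣_ (qY ⁻¹ᵁ V.1.1))
    exact exists_glocus_of_counit_epi f (PicLoc.isInvertible_pullback qX hL₀) hVY
  choose j φ hj using key
  obtain ⟨J, g', gk', hg⟩ := IsCofiltered.wideCospan φ
  refine ⟨J, g', fun k ψ Xk Yk fk gk pY pX hYk hXk => ?_⟩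
  have hN := PicLoc.isInvertible_pullback pX hL₀
  refine epi_counit_of_globallyGenerated fk _ fun x => ?_
  obtain ⟨V, hV, hy⟩ := Set.mem_iUnion₂.1 (ht (Set.mem_univ (pY (fk x))))
  refine ⟨pY ⁻¹ᵁ V.1, hy, ?_⟩
  refine globallyGenerated_of_iso
    ((Scheme.Modules.restrictFunctorIsoPullback (fk ⁻¹ᵁ (pY ⁻¹ᵁ V.1)).ι).app _).symm ?_
  refine globallyGenerated_of_glocus (PicLoc.isInvertible_pullback _ hN) ?_
  have hsq := (isPullback_morphismRestrict pX (f₀ ⁻¹ᵁ V.1)).paste_vert (hXk.paste_vert hYk)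
  have e : D.map ((ψ ≫ gk' ⟨V, hV⟩) ≫ φ ⟨V, hV⟩) = D.map (ψ ≫ g') := by rw [Category.assoc, hg]
  rw [← e] at hsq
  have hA := hj ⟨V, hV⟩ k (ψ ≫ gk' ⟨V, hV⟩) _ _ hsq
  rw [hasGen_comp_iff] at hA
  have hA' := hasGen_congr (morphismRestrict_ι pX (f₀ ⁻¹ᵁ V.1)) hA
  rw [← hasGen_comp_iff] at hA'
  have hle : pX ⁻¹ᵁ (f₀ ⁻¹ᵁ V.1) = fk ⁻¹ᵁ (pY ⁻¹ᵁ V.1) := by
    rw [← Scheme.Hom.comp_preimage, hXk.w, Scheme.Hom.comp_preimage]
  rw [hle] at hA'
  exact hA'

end Groth.Agent.H8Lim
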