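import Groth.Agent.H8Lim.StalkLimit
import Mathlib

/-!
# Gluing morphisms near a closed point
-/

set_option autoImplicit false
set_option linter.style.haveILetI false
set_option backward.isDefEq.respectTransparency.types false

universe u

open CategoryTheory Limits AlgebraicGeometry TopologicalSpace Opposite

namespace Groth.Agent.H8Lim

/-- Morphisms agreeing on all local schemes are equal. -/
theorem hom_ext_fromSpecStalk {X Y : Scheme.{u}} (g₁ g₂ : X ⟶ Y)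
    (h : ∀ z : X, X.fromSpecStalk z ≫ g₁ = X.fromSpecStalk z ≫ g₂) : g₁ = g₂ := by
  have hpt : ∀ z, g₁ z = g₂ z := fun z => by
    have := congrArg (fun m : Spec (X.presheaf.stalk z) ⟶ Y => m (IsLocalRing.closedPoint _)) (h z)
    simpa [Scheme.fromSpecStalk_closedPoint] using this
  refine Scheme.hom_ext_of_forall _ _ fun z => ?_
  obtain ⟨V, hV, hzV, -⟩ := exists_isAffineOpen_mem_and_subset (X := Y) (x := g₁ z) (U := ⊤) trivial
  obtain ⟨W, hW, hzW, hle⟩ := exists_isAffineOpen_mem_and_subset (X := X) (x := z)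
    (U := g₁ ⁻¹ᵁ V ⊓ g₂ ⁻¹ᵁ V) ⟨hzV, (hpt z ▸ hzV :)⟩
  have hle1 : W ≤ g₁ ⁻¹ᵁ V := fun x hx => (hle hx).1
  have hle2 : W ≤ g₂ ⁻¹ᵁ V := fun x hx => (hle hx).2
  refine ⟨W, hzW, ?_⟩
  have hkey : g₁.appLE V W hle1 = g₂.appLE V W hle2 := by
    ext r
    refine TopCat.Presheaf.section_ext X.sheaf W _ _ fun y hy => ?_
    have e : ∀ (g : X ⟶ Y) (i : W ≤ g ⁻¹ᵁ V),
        Spec.map (g.appLE V W i ≫ X.presheaf.germ W y hy) ≫ hV.fromSpec = X.fromSpecStalk y ≫ g := fun g i => by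
      rw [Spec.map_comp, Category.assoc, IsAffineOpen.SpecMap_appLE_fromSpec g hV hW i,
        ← hW.fromSpecStalk_eq_fromSpecStalk hy, IsAffineOpen.fromSpecStalk, Category.assoc]
    have e2 := ((e g₁ hle1).trans (h y)).trans (e g₂ hle2).symm
    rw [cancel_mono hV.fromSpec] at e2
    exact congrArg (fun φ : Γ(Y, V) ⟶ X.presheaf.stalk y => φ r) (Spec.map_injective e2)
  rw [← cancel_epi hW.isoSpec.inv, ← Category.assoc, ← Category.assoc, IsAffineOpen.isoSpec_inv_ι,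
    ← IsAffineOpen.SpecMap_appLE_fromSpec g₁ hV hW hle1, ← IsAffineOpen.SpecMap_appLE_fromSpec g₂ hV hW hle2, hkey]

/-- Gluing near a point whose punctured complement is retrocompact. -/
theorem exists_glue_closedPoint {X Y S : Scheme.{u}} (p : X ⟶ S) (q : Y ⟶ S) [LocallyOfFinitePresentation q]
    (x : X) (U : X.Opens) (hU : (U : Set X) = {x}ᶜ) [QuasiCompact U.ι] (a : U.toScheme ⟶ Y)
    (b : Spec (X.presheaf.stalk x) ⟶ Y) (ha : a ≫ q = U.ι ≫ p) (hb : b ≫ q = X.fromSpecStalk x ≫ p)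
    (hab : (X.fromSpecStalk x ⁻¹ᵁ U).ι ≫ b = (X.fromSpecStalk x ∣_ U) ≫ a) :
    ∃ g : X ⟶ Y, g ≫ q = p ∧ U.ι ≫ g = a ∧ X.fromSpecStalk x ≫ g = b := by
  let D := StalkLimit.diagram x
  let c := StalkLimit.cone x
  let t : D ⟶ (Functor.const _).obj S :=
    { app := fun V => StalkLimit.incMap x V ≫ p
      naturality := fun V W f => by
        simp only [Functor.const_obj_obj, Functor.const_obj_map, Category.comp_id, ← Category.assoc, D,
          StalkLimit.map_incMap] }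
  obtain ⟨W, b', hb', hb'q⟩ := Scheme.exists_π_app_comp_eq_of_locallyOfFinitePresentation D t q c
    (StalkLimit.isLimitCone x) b (by
      ext V
      change c.π.app V ≫ StalkLimit.incMap x V ≫ p = b ≫ q
      rw [← Category.assoc, StalkLimit.cone_incMap, hb]
      rfl)
  let m := StalkLimit.incMap x W
  let O₀ : (D.obj W).Opens := m ⁻¹ᵁ U
  have hO₀ : IsCompact (O₀ : Set (D.obj W)) := by
    rw [m.isOpenEmbedding.isInducing.isCompact_iff]
    show IsCompact (m '' (m ⁻¹' (U : Set X)))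
    rw [Set.image_preimage_eq_inter_range, show Set.range m = (W.1 : Set X) from W.2.1.range_fromSpec]
    rw [show (U : Set X) ∩ (W.1 : Set X) = U.ι '' (U.ι ⁻¹' (W.1 : Set X)) by
      rw [Set.image_preimage_eq_inter_range, Scheme.Opens.range_ι, Set.inter_comm]]
    exact (QuasiCompact.isCompact_preimage (f := U.ι) _ W.1.2 W.2.1.isCompact).image U.ι.continuous
  let E := opensDiagram D W O₀
  have hE := isLimitOpensCone D c (StalkLimit.isLimitCone x) W O₀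
  haveI : ∀ j, CompactSpace (E.obj j) := fun j ↦
    isCompact_iff_compactSpace.mp (QuasiCompact.isCompact_preimage (f := D.map j.hom) _ O₀.2 hO₀)
  haveI : ∀ j, QuasiSeparatedSpace (E.obj j) := fun j ↦
    QuasiSeparatedSpace.of_isOpenEmbedding (Scheme.Opens.ι _).isOpenEmbedding
  haveI : ∀ {i j : Over W} (f : i ⟶ j), IsAffineHom (E.map f) := fun f => inferInstance
  let aW : O₀.toScheme ⟶ Y := (m ∣_ U) ≫ a
  let bW : O₀.toScheme ⟶ Y := O₀.ι ≫ b'
  have htop : D.map (𝟙 W) ⁻¹ᵁ O₀ = O₀ := by rw [D.map_id]; rfl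
  let eW : (D.map (𝟙 W) ⁻¹ᵁ O₀).toScheme ⟶ O₀.toScheme := ((D.obj W).isoOfEq htop).hom
  have heW : eW ≫ O₀.ι = (D.map (𝟙 W) ⁻¹ᵁ O₀).ι := Scheme.isoOfEq_hom_ι _ _
  have haq : (eW ≫ aW) ≫ q = (D.map (𝟙 W) ⁻¹ᵁ O₀).ι ≫ m ≫ p := by
    simp only [aW, Category.assoc, ha]
    rw [← heW, Category.assoc]
    exact congrArg (eW ≫ ·) (morphismRestrict_ι_assoc m U p)
  have hbq : (eW ≫ bW) ≫ q = (D.map (𝟙 W) ⁻¹ᵁ O₀).ι ≫ m ≫ p := by
    simp only [bW, Category.assoc, hb'q]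
    rw [← heW, Category.assoc]
  let κ : Spec (X.presheaf.stalk x) ⟶ D.obj W := c.π.app W
  have hκ : κ ≫ m = X.fromSpecStalk x := StalkLimit.cone_incMap x W
  have hκb : κ ≫ b' = b := hb'
  have hpre : κ ⁻¹ᵁ O₀ = X.fromSpecStalk x ⁻¹ᵁ U := by
    show κ ⁻¹ᵁ (m ⁻¹ᵁ U) = _
    rw [← Scheme.Hom.comp_preimage, hκ]
  let π₀ : (κ ⁻¹ᵁ O₀).toScheme ⟶ (D.map (𝟙 W) ⁻¹ᵁ O₀).toScheme :=
    (opensCone D c W O₀).π.app (Over.mk (𝟙 W))
  have hπ₀ : π₀ ≫ eW ≫ O₀.ι = (κ ⁻¹ᵁ O₀).ι ≫ κ := by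
    rw [heW]
    exact Scheme.Hom.resLE_comp_ι _ _
  let σ : (κ ⁻¹ᵁ O₀).toScheme ⟶ (X.fromSpecStalk x ⁻¹ᵁ U).toScheme := ((Spec (X.presheaf.stalk x)).isoOfEq hpre).hom
  have hσ : σ ≫ (X.fromSpecStalk x ⁻¹ᵁ U).ι = (κ ⁻¹ᵁ O₀).ι := Scheme.isoOfEq_hom_ι _ _
  have hlim : π₀ ≫ eW ≫ aW = π₀ ≫ eW ≫ bW := by
    have eb : π₀ ≫ eW ≫ bW = σ ≫ (X.fromSpecStalk x ⁻¹ᵁ U).ι ≫ b := by
      rw [show π₀ ≫ eW ≫ bW = (π₀ ≫ eW ≫ O₀.ι) ≫ b' by simp only [bW, Category.assoc], hπ₀, Category.assoc, hκb,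
        reassoc_of% hσ]
    refine Eq.trans ?_ eb.symm
    rw [hab]
    simp only [aW, ← Category.assoc]
    congr 1
    rw [← cancel_mono U.ι, Category.assoc, Category.assoc, Category.assoc, morphismRestrict_ι, morphismRestrict_ι,
      ← Category.assoc eW, ← Category.assoc π₀, hπ₀, Category.assoc, hκ, reassoc_of% hσ]
  obtain ⟨j, hj, hjeq⟩ := Scheme.exists_hom_comp_eq_comp_of_locallyOfFiniteType E
    (opensDiagramι D W O₀ ≫ (Over.forget W).whiskerLeft t) q (opensCone D c W O₀) hE (i := Over.mk (𝟙 W))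
    (eW ≫ aW) (eW ≫ bW) haq.symm hbq.symm hlim
  -- glue
  let m' : D.obj j.left ⟶ X := StalkLimit.incMap x j.left
  let b'' : D.obj j.left ⟶ Y := D.map j.hom ≫ b'
  have hm' : D.map j.hom ≫ m = m' := StalkLimit.map_incMap x j.hom
  let 𝒰 : X.OpenCover := Scheme.openCoverOfIsOpenCover X (fun k : Bool => bif k then U else m'.opensRange) (by
    rw [TopologicalSpace.IsOpenCover, eq_top_iff]
    intro z _
    by_cases hz : z = x
    · exact Opens.mem_iSup.mpr ⟨false, hz ▸ StalkLimit.mem_range_incMap x j.left⟩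
    · exact Opens.mem_iSup.mpr ⟨true, (hU.ge hz : z ∈ (U : Set X))⟩)
  have hagree : ∀ {T : Scheme.{u}} (s : T ⟶ U.toScheme) (r : T ⟶ D.obj j.left),
      s ≫ U.ι = r ≫ m' → s ≫ a = r ≫ b'' := fun {T} s r hsr => by
    let P : (D.obj j.left).Opens := D.map j.hom ⁻¹ᵁ O₀
    let r' : T ⟶ P.toScheme := IsOpenImmersion.lift P.ι r (by
      rintro _ ⟨z, rfl⟩
      rw [Scheme.Opens.range_ι]
      show m (D.map j.hom (r z)) ∈ U
      rw [← Scheme.Hom.comp_apply, hm', ← Scheme.Hom.comp_apply, ← hsr]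
      exact (s z).2)
    have hr' : r' ≫ P.ι = r := IsOpenImmersion.lift_fac _ _ _
    let e₀ : P.toScheme ⟶ (D.map (𝟙 W) ⁻¹ᵁ O₀).toScheme := E.map hj
    have he₀ : e₀ ≫ eW ≫ O₀.ι = P.ι ≫ D.map j.hom := by
      rw [heW]
      refine (Scheme.Hom.resLE_comp_ι _ _).trans ?_
      rw [show hj.left = j.hom from (Category.comp_id _).symm.trans (Over.w hj)]
    have e1 : r ≫ b'' = r' ≫ e₀ ≫ eW ≫ bW := by
      simp only [bW, b'']
      rw [← hr', Category.assoc, ← reassoc_of% he₀]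
    rw [e1, show e₀ ≫ eW ≫ bW = e₀ ≫ eW ≫ aW from hjeq.symm]
    simp only [aW, ← Category.assoc]
    congr 1
    rw [← cancel_mono U.ι, hsr]
    simp only [Category.assoc, morphismRestrict_ι]
    change _ = r' ≫ e₀ ≫ _ ≫ O₀.ι ≫ m
    rw [← Category.assoc _ O₀.ι m, ← Category.assoc e₀, he₀, Category.assoc, hm', ← Category.assoc, hr']
  let fam : ∀ k, 𝒰.X k ⟶ Y := fun k => match k with
    | true => a
    | false => m'.isoOpensRange.inv ≫ b''
  have hag : ∀ {T : Scheme.{u}} (s : T ⟶ U.toScheme) (r : T ⟶ m'.opensRange.toScheme),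
      s ≫ U.ι = r ≫ m'.opensRange.ι → s ≫ a = r ≫ m'.isoOpensRange.inv ≫ b'' := fun {T} s r h => by
    rw [hagree s (r ≫ m'.isoOpensRange.inv) (by rw [h, Category.assoc, Scheme.Hom.isoOpensRange_inv_comp]),
      Category.assoc]
  have hfam : ∀ k l, pullback.fst (𝒰.f k) (𝒰.f l) ≫ fam k = pullback.snd (𝒰.f k) (𝒰.f l) ≫ fam l := by
    intro k l
    have hc := pullback.condition (f := 𝒰.f k) (g := 𝒰.f l)
    rcases k with _ | _ <;> rcases l with _ | _
    · exact congrArg (fun e => e ≫ fam _) ((cancel_mono _).1 hc)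
    · exact (hag _ _ hc.symm).symm
    · exact hag _ _ hc
    · exact congrArg (fun e => e ≫ fam _) ((cancel_mono _).1 hc)
  let g : X ⟶ Y := 𝒰.glueMorphisms fam hfam
  have hgU : U.ι ≫ g = a := 𝒰.ι_glueMorphisms fam hfam true
  have hgm : m' ≫ g = b'' := by
    rw [← Scheme.Hom.isoOpensRange_hom_ι m', Category.assoc,
      show m'.opensRange.ι ≫ g = fam false from 𝒰.ι_glueMorphisms fam hfam false]
    exact Iso.hom_inv_id_assoc _ _
  refine ⟨g, 𝒰.hom_ext _ _ fun k => ?_, hgU, ?_⟩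
  · rcases k with _ | _
    · change m'.opensRange.ι ≫ g ≫ q = m'.opensRange.ι ≫ p
      rw [← cancel_epi m'.isoOpensRange.hom, ← Category.assoc, Scheme.Hom.isoOpensRange_hom_ι, ← Category.assoc, hgm,
        Scheme.Hom.isoOpensRange_hom_ι_assoc]
      simp only [b'', Category.assoc, hb'q]
      exact t.naturality j.hom |>.trans (Category.comp_id _)
    · change U.ι ≫ g ≫ q = U.ι ≫ p
      rw [← Category.assoc, hgU, ha]
  · let κ' : Spec (X.presheaf.stalk x) ⟶ D.obj j.left := c.π.app j.left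
    have e1 : κ' ≫ m' = X.fromSpecStalk x := StalkLimit.cone_incMap x j.left
    have e2 : κ' ≫ D.map j.hom = κ := c.w j.hom
    rw [← e1, Category.assoc, hgm, show κ' ≫ b'' = (κ' ≫ D.map j.hom) ≫ b' from (Category.assoc _ _ _).symm, e2, hκb]

end Groth.Agent.H8Lim
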