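import Mathlib

/-!
# An algebra whose `Hom` preserves directed colimits is of finite presentation (EGA IV 8.14.2.2)
-/

universe u

open CategoryTheory Limits

namespace Groth.Agent.H8Lim.HomPreserves

variable {A : CommRingCat.{u}} {B : Type u} [CommRing B] [Algebra A B]

/-- A morphism out of `mkUnder A C` as an algebra homomorphism. -/
def ofUnder {C : Type u} [CommRing C] [Algebra A C] {W : Under A}
    (f : CommRingCat.mkUnder A C ⟶ W) : C →ₐ[A] W where
  toRingHom := f.right.hom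
  commutes' a := (CommRingCat.toAlgHom f).commutes a

/-- A morphism between `mkUnder`s as an algebra homomorphism. -/
def ofUnder' {C C' : Type u} [CommRing C] [Algebra A C] [CommRing C'] [Algebra A C']
    (f : CommRingCat.mkUnder A C ⟶ CommRingCat.mkUnder A C') : C →ₐ[A] C' where
  toRingHom := f.right.hom
  commutes' a := (CommRingCat.toAlgHom f).commutes a

/-- The hypothesis. -/
def Preserves (A : CommRingCat.{u}) (B : Type u) [CommRing B] [Algebra A B] : Prop :=
  ∀ (J : Type u) [Preorder J] [IsDirected J (· ≤ ·)] [Nonempty J] (F : J ⥤ Under A),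
    PreservesColimit F (coyoneda.obj (Opposite.op (CommRingCat.mkUnder A B)))

omit [Algebra A B] in
lemma exists_factor [Algebra A B] (h : Preserves A B) {J : Type u} [Preorder J] [IsDirected J (· ≤ ·)] [Nonempty J]
    {F : J ⥤ Under A} (c : Cocone F) (hc : IsColimit c) (φ : CommRingCat.mkUnder A B ⟶ c.pt) :
    ∃ (j : J) (g : CommRingCat.mkUnder A B ⟶ F.obj j), g ≫ c.ι.app j = φ := by
  have := h J F
  obtain ⟨j, g, hg⟩ := Types.jointly_surjective _
    (isColimitOfPreserves (coyoneda.obj (Opposite.op (CommRingCat.mkUnder A B))) hc) φ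
  exact ⟨j, g, hg⟩

lemma finiteType_of_preserves (h : Preserves A B) : Algebra.FiniteType A B := by
  classical
  let K : Finset B → Subalgebra A B := fun s ↦ Algebra.adjoin A (s : Set B)
  have hK : Monotone K := fun s t hst ↦ Algebra.adjoin_mono (Finset.coe_subset.mpr hst)
  let F : Finset B ⥤ Under A :=
    { obj := fun s ↦ CommRingCat.mkUnder A (K s)
      map := fun {s t} hst ↦ (Subalgebra.inclusion (hK (leOfHom hst))).toUnder
      map_id := fun s ↦ CommRingCat.mkUnder_ext fun a ↦ rfl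
      map_comp := fun _ _ ↦ CommRingCat.mkUnder_ext fun a ↦ rfl }
  let c : Cocone F :=
    { pt := CommRingCat.mkUnder A B
      ι := { app := fun s ↦ (K s).val.toUnder
             naturality := fun s t hst ↦ CommRingCat.mkUnder_ext fun a ↦ rfl } }
  have htop : iSup K = ⊤ := top_le_iff.mp fun b _ ↦
    le_iSup K {b} (Algebra.subset_adjoin (Finset.mem_singleton_self b))
  have hcomm : ∀ (σ : Cocone F) (s t : Finset B) (hst : K s ≤ K t),
      ofUnder (σ.ι.app s) = (ofUnder (σ.ι.app t)).comp (Subalgebra.inclusion hst) := by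
    intro σ s t hst
    ext ⟨x, hx⟩
    have h₁ := congr((ofUnder $(σ.w (homOfLE (Finset.subset_union_left : s ⊆ s ∪ t)))) ⟨x, hx⟩)
    have h₂ := congr((ofUnder $(σ.w (homOfLE (Finset.subset_union_right : t ⊆ s ∪ t)))) ⟨x, hst hx⟩)
    exact h₁.symm.trans h₂
  let lift : ∀ σ : Cocone F, B →ₐ[A] σ.pt := fun σ ↦
    (Subalgebra.iSupLift K (Monotone.directed_le hK) (fun s ↦ ofUnder (σ.ι.app s))
      (hcomm σ) ⊤ htop.ge).comp Subalgebra.topEquiv.symm.toAlgHom
  have hlift : ∀ (σ : Cocone F) (s : Finset B) (a : B) (ha : a ∈ K s),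
      lift σ a = ofUnder (σ.ι.app s) ⟨a, ha⟩ := fun σ s a ha ↦
    Subalgebra.iSupLift_of_mem K (dir := Monotone.directed_le hK) (f := fun s ↦ ofUnder (σ.ι.app s))
      (hf := hcomm σ) (hT := htop.ge) (⟨a, trivial⟩ : (⊤ : Subalgebra A B)) ha
  have hc : IsColimit c :=
    { desc := fun σ ↦ Under.homMk (CommRingCat.ofHom (lift σ).toRingHom)
        (CommRingCat.hom_ext (RingHom.ext fun a ↦ (lift σ).commutes a))
      fac := fun σ s ↦ by
        refine CommRingCat.mkUnder_ext fun a ↦ ?_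
        exact hlift σ s a.1 a.2
      uniq := fun σ m hm ↦ by
        refine CommRingCat.mkUnder_ext fun a ↦ ?_
        obtain ⟨s, hs⟩ : ∃ s : Finset B, a ∈ K s := ⟨{a}, Algebra.subset_adjoin (Finset.mem_singleton_self a)⟩
        refine (congr((Under.Hom.right $(hm s)) ⟨a, hs⟩)).trans ?_
        exact (hlift σ s a hs).symm }
  obtain ⟨s, g, hg⟩ := exists_factor h c hc (𝟙 _)
  refine ⟨⟨s, eq_top_iff.mpr fun b _ ↦ ?_⟩⟩
  have : (Under.Hom.right g b).1 = b := congr((Under.Hom.right $hg) b)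
  exact this ▸ (Under.Hom.right g b).2

lemma finitePresentation_of_retract {C : Type u} [CommRing C] [Algebra A C]
    [Algebra.FinitePresentation A C] (r : C →ₐ[A] B) (g : B →ₐ[A] C) (hrg : r.comp g = AlgHom.id A B) :
    Algebra.FinitePresentation A B := by
  classical
  have hr : Function.Surjective r := fun b ↦ ⟨g b, congr($hrg b)⟩
  obtain ⟨s, hs⟩ := (Algebra.FiniteType.out : (⊤ : Subalgebra A C).FG)
  let K : Ideal C := Ideal.span (s.image fun x ↦ x - g (r x) : Finset C)
  have hK : RingHom.ker r.toRingHom = K := by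
    refine le_antisymm (fun z hz ↦ ?_) (Ideal.span_le.mpr fun z hz ↦ ?_)
    · have key : (Ideal.Quotient.mkₐ A K).comp (g.comp r) = Ideal.Quotient.mkₐ A K := by
        refine AlgHom.ext_of_adjoin_eq_top hs fun x hx ↦ (Ideal.Quotient.mk_eq_mk_iff_sub_mem _ _).mpr ?_
        rw [← neg_sub]
        exact K.neg_mem (Ideal.subset_span (Finset.mem_coe.mpr (Finset.mem_image_of_mem _ hx)))
      have := congr($key z)
      rw [AlgHom.comp_apply, AlgHom.comp_apply, show r z = 0 from hz, map_zero, map_zero] at this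
      exact Ideal.Quotient.eq_zero_iff_mem.mp this.symm
    · obtain ⟨x, -, rfl⟩ := Finset.mem_image.mp (Finset.mem_coe.mp hz)
      show r (x - g (r x)) = 0
      rw [map_sub, sub_eq_zero]
      exact congr($hrg (r x)).symm
  exact Algebra.FinitePresentation.of_surjective hr (hK ▸ ⟨_, rfl⟩)

lemma finitePresentation_of_preserves (h : Preserves A B) : Algebra.FinitePresentation A B := by
  classical
  have := finiteType_of_preserves h
  obtain ⟨n, π, hπ⟩ := Algebra.FiniteType.iff_quotient_mvPolynomial''.mp this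
  let P := MvPolynomial (Fin n) A
  let J := {I : Ideal P // I.FG ∧ I ≤ RingHom.ker π.toRingHom}
  have : Nonempty J := ⟨⟨⊥, Submodule.fg_bot, bot_le⟩⟩
  have : IsDirected J (· ≤ ·) :=
    ⟨fun a b ↦ ⟨⟨a.1 ⊔ b.1, Submodule.FG.sup a.2.1 b.2.1, sup_le a.2.2 b.2.2⟩, (le_sup_left : a.1 ≤ a.1 ⊔ b.1), (le_sup_right : b.1 ≤ a.1 ⊔ b.1)⟩⟩
  let F : J ⥤ Under A :=
    { obj := fun I ↦ CommRingCat.mkUnder A (P ⧸ I.1)
      map := fun {I I'} h ↦ (Ideal.Quotient.factorₐ A (leOfHom h : I ≤ I')).toUnder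
      map_id := fun I ↦ CommRingCat.mkUnder_ext fun a ↦ by
        obtain ⟨a, rfl⟩ := Ideal.Quotient.mk_surjective a; rfl
      map_comp := fun _ _ ↦ CommRingCat.mkUnder_ext fun a ↦ by
        obtain ⟨a, rfl⟩ := Ideal.Quotient.mk_surjective a; rfl }
  let c : Cocone F :=
    { pt := CommRingCat.mkUnder A B
      ι := { app := fun I ↦ (Ideal.Quotient.liftₐ I.1 π fun x hx ↦ I.2.2 hx).toUnder
             naturality := fun I I' h ↦ CommRingCat.mkUnder_ext fun a ↦ by
              obtain ⟨a, rfl⟩ := Ideal.Quotient.mk_surjective a; rfl } }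
  let bot : J := ⟨⊥, Submodule.fg_bot, bot_le⟩
  have hσ : ∀ (σ : Cocone F) (I : J) (p : P),
      ofUnder (σ.ι.app I) (Ideal.Quotient.mk I.1 p) =
        ofUnder (σ.ι.app bot) (Ideal.Quotient.mk bot.1 p) := fun σ I p ↦
    (congr((ofUnder $(σ.w (homOfLE (bot_le (a := I.1)) : bot ⟶ I))) (Ideal.Quotient.mk bot.1 p))).trans rfl
  have hker : ∀ σ : Cocone F, RingHom.ker π.toRingHom ≤
      RingHom.ker ((ofUnder (σ.ι.app bot)).comp (Ideal.Quotient.mkₐ A bot.1)).toRingHom := fun σ p hp ↦ by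
    let I : J := ⟨Ideal.span {p}, Submodule.fg_span (Set.finite_singleton p), (Ideal.span_singleton_le_iff_mem _).mpr hp⟩
    show ofUnder (σ.ι.app bot) (Ideal.Quotient.mk bot.1 p) = 0
    rw [← hσ σ I, Ideal.Quotient.eq_zero_iff_mem.mpr (Ideal.mem_span_singleton_self p), map_zero]
  let lift : ∀ σ : Cocone F, B →ₐ[A] σ.pt := fun σ ↦
    AlgHom.liftOfSurjective π hπ _ (hker σ)
  have hl : ∀ σ p, lift σ (π p) = ofUnder (σ.ι.app bot) (Ideal.Quotient.mk bot.1 p) := fun σ p ↦
    AlgHom.liftOfSurjective_apply π hπ _ (hker σ) p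
  have hc : IsColimit c :=
    { desc := fun σ ↦ Under.homMk (CommRingCat.ofHom (lift σ).toRingHom)
        (CommRingCat.hom_ext (RingHom.ext fun a ↦ (lift σ).commutes a))
      fac := fun σ I ↦ by
        refine CommRingCat.mkUnder_ext fun a ↦ ?_
        obtain ⟨p, rfl⟩ := Ideal.Quotient.mk_surjective a
        exact (hl σ p).trans (hσ σ I p).symm
      uniq := fun σ m hm ↦ by
        refine CommRingCat.mkUnder_ext fun a ↦ ?_
        obtain ⟨p, rfl⟩ := hπ a
        exact (congr((Under.Hom.right $(hm bot)) (Ideal.Quotient.mk bot.1 p))).trans (hl σ p).symm }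
  obtain ⟨I, g, hg⟩ := exists_factor h c hc (𝟙 _)
  have : Algebra.FinitePresentation A (P ⧸ I.1) := Algebra.FinitePresentation.quotient I.2.1
  exact finitePresentation_of_retract (C := P ⧸ I.1) (Ideal.Quotient.liftₐ I.1 π fun x hx ↦ I.2.2 hx)
    (ofUnder' g) (AlgHom.ext fun b ↦ congr((Under.Hom.right $hg) b))

end Groth.Agent.H8Lim.HomPreserves
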