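import Mathlib
import Groth.Agent.H8Lim.BaseChange

/-!
# Morphisms out of a limit into schemes locally of finite type

Gluing of local lifts to a stage of a morphism `lim D → X`, where `X` is only locally of finite
type; and the resulting statement for directed unions of subalgebras (EGA IV 8.8.2, injective case).
-/

universe u

set_option backward.isDefEq.respectTransparency false
set_option backward.isDefEq.respectTransparency.types false

open CategoryTheory Limits AlgebraicGeometry

namespace Groth.Agent.H8Lim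

variable {I : Type u} [SmallCategory I] [IsCofiltered I] {D : I ⥤ Scheme.{u}} {c : Cone D}
  (hc : IsLimit c) [∀ {i j} (f : i ⟶ j), IsAffineHom (D.map f)]

include hc in
/-- Local lifts of `g : lim D → X` to a stage glue at a later stage. -/
theorem exists_hom_of_openCover {X S : Scheme.{u}} (f : X ⟶ S) [LocallyOfFiniteType f] {i : I}
    [QuasiSeparatedSpace (D.obj i)] (ti : D.obj i ⟶ S) (g : c.pt ⟶ X)
    (hg : g ≫ f = c.π.app i ≫ ti) (𝒰 : (D.obj i).OpenCover) [Finite 𝒰.I₀]
    [∀ k, CompactSpace (𝒰.X k)] (a : ∀ k, 𝒰.X k ⟶ X) (ha : ∀ k, a k ≫ f = 𝒰.f k ≫ ti)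
    (hga : ∀ k, pullback.snd (c.π.app i) (𝒰.f k) ≫ a k = pullback.fst (c.π.app i) (𝒰.f k) ≫ g) :
    ∃ (j : I) (φ : j ⟶ i) (g' : D.obj j ⟶ X),
      g' ≫ f = D.map φ ≫ ti ∧ c.π.app j ≫ g' = g := by
  classical
  have key : ∀ k l : 𝒰.I₀, ∃ (j : I) (φ : j ⟶ i),
      pullback.fst (pullback.fst (𝒰.f k) (𝒰.f l) ≫ 𝒰.f k) (D.map φ) ≫ pullback.fst _ _ ≫ a k =
      pullback.fst (pullback.fst (𝒰.f k) (𝒰.f l) ≫ 𝒰.f k) (D.map φ) ≫ pullback.snd _ _ ≫ a l := by
    intro k l
    let e : pullback (𝒰.f k) (𝒰.f l) ⟶ D.obj i := pullback.fst _ _ ≫ 𝒰.f k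
    have : CompactSpace ↥(pullback (𝒰.f k) (𝒰.f l)) := inferInstance
    have : QuasiSeparatedSpace ↥(pullback (𝒰.f k) (𝒰.f l)) :=
      QuasiSeparatedSpace.of_isOpenEmbedding e.isOpenEmbedding
    let t' : stage D e ⟶ (Functor.const (Over i)).obj S :=
      { app := fun j ↦ stageFst D e j ≫ e ≫ ti
        naturality := fun j j' ψ ↦ by simp }
    have sq := IsPullback.of_hasPullback e (c.π.app i)
    have hl : pullback.fst e (c.π.app i) ≫ pullback.fst _ _ ≫ a k =
        pullback.fst e (c.π.app i) ≫ pullback.snd _ _ ≫ a l := by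
      let v : pullback e (c.π.app i) ⟶ pullback (c.π.app i) (𝒰.f k) :=
        pullback.lift (pullback.snd _ _) (pullback.fst _ _ ≫ pullback.fst _ _) (by
          rw [Category.assoc]; exact pullback.condition.symm)
      let w : pullback e (c.π.app i) ⟶ pullback (c.π.app i) (𝒰.f l) :=
        pullback.lift (pullback.snd _ _) (pullback.fst _ _ ≫ pullback.snd _ _) (by
          rw [Category.assoc, ← pullback.condition (f := 𝒰.f k) (g := 𝒰.f l)]; exact pullback.condition.symm)
      have h1 := congr(v ≫ $(hga k))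
      have h2 := congr(w ≫ $(hga l))
      simp only [v, w, pullback.lift_snd_assoc, pullback.lift_fst_assoc, Category.assoc] at h1 h2
      exact h1.trans h2.symm
    obtain ⟨m, ψ, hm⟩ := Scheme.exists_hom_comp_eq_comp_of_locallyOfFiniteType (stage D e) t' f
      (stageCone e c _ _ sq) (isLimitStageCone e _ _ sq hc) (i := Over.mk (𝟙 i))
      (stageFst D e _ ≫ pullback.fst _ _ ≫ a k) (stageFst D e _ ≫ pullback.snd _ _ ≫ a l)
      (by simp [t', e, ha]) (by simp [t', e, ha, pullback.condition_assoc])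
      (by
        show stageProj e c _ _ sq _ ≫ _ = stageProj e c _ _ sq _ ≫ _
        rw [stageProj_fst_assoc, stageProj_fst_assoc]; exact hl)
    refine ⟨m.left, m.hom, ?_⟩
    rw [stageMap_fst_assoc, stageMap_fst_assoc] at hm
    exact hm
  choose J Φ hJ using key
  obtain ⟨j, φ, Ψ, hΨ⟩ := IsCofiltered.wideCospan (I := 𝒰.I₀ × 𝒰.I₀) fun x ↦ Φ x.1 x.2
  let 𝒲 := 𝒰.pullback₁ (D.map φ)
  let p := fun k : 𝒰.I₀ ↦ pullback.fst (D.map φ) (𝒰.f k)
  have hF : ∀ k l : 𝒰.I₀, pullback.fst (p k) (p l) ≫ pullback.snd (D.map φ) (𝒰.f k) ≫ a k =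
      pullback.snd (p k) (p l) ≫ pullback.snd (D.map φ) (𝒰.f l) ≫ a l := by
    intro k l
    let u : pullback (p k) (p l) ⟶ pullback (𝒰.f k) (𝒰.f l) :=
      pullback.lift (pullback.fst _ _ ≫ pullback.snd _ _) (pullback.snd _ _ ≫ pullback.snd _ _) (by
        rw [Category.assoc, Category.assoc, ← pullback.condition (f := D.map φ) (g := 𝒰.f k),
          ← pullback.condition (f := D.map φ) (g := 𝒰.f l)]
        exact pullback.condition_assoc (f := p k) (g := p l) (D.map φ))
    let v : pullback (p k) (p l) ⟶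
        pullback (pullback.fst (𝒰.f k) (𝒰.f l) ≫ 𝒰.f k) (D.map (Φ k l)) :=
      pullback.lift u (pullback.fst _ _ ≫ pullback.fst _ _ ≫ D.map (Ψ (k, l))) (by
        rw [← Category.assoc u, pullback.lift_fst, Category.assoc, Category.assoc, Category.assoc,
          ← D.map_comp, hΨ, ← pullback.condition (f := D.map φ) (g := 𝒰.f k)])
    have e1 : v ≫ pullback.fst _ _ = u := pullback.lift_fst _ _ _
    have e2 : u ≫ pullback.fst _ _ = pullback.fst (p k) (p l) ≫ pullback.snd _ _ := pullback.lift_fst _ _ _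
    have e3 : u ≫ pullback.snd _ _ = pullback.snd (p k) (p l) ≫ pullback.snd _ _ := pullback.lift_snd _ _ _
    have h := congr(v ≫ $(hJ k l))
    rw [reassoc_of% e1, reassoc_of% e1, reassoc_of% e2, reassoc_of% e3] at h
    exact h
  obtain ⟨F, hF'⟩ : ∃ F : D.obj j ⟶ X, ∀ k : 𝒰.I₀, 𝒲.f k ≫ F = pullback.snd (D.map φ) (𝒰.f k) ≫ a k :=
    ⟨Scheme.Cover.glueMorphisms 𝒲 (fun k ↦ pullback.snd (D.map φ) (𝒰.f k) ≫ a k) hF,
      Scheme.Cover.ι_glueMorphisms 𝒲 _ _⟩
  refine ⟨j, φ, F, Scheme.Cover.hom_ext 𝒲 _ _ fun (k : 𝒰.I₀) ↦ ?_, Scheme.Cover.hom_ext (𝒰.pullback₁ (c.π.app i)) _ _ fun (k : 𝒰.I₀) ↦ ?_⟩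
  · rw [reassoc_of% hF' k, ha]
    exact (pullback.condition_assoc (f := D.map φ) (g := 𝒰.f k) ti).symm
  · let m : pullback (c.π.app i) (𝒰.f k) ⟶ pullback (D.map φ) (𝒰.f k) :=
      pullback.lift (pullback.fst _ _ ≫ c.π.app j) (pullback.snd _ _) (by
        rw [Category.assoc, c.w]; exact pullback.condition)
    show pullback.fst _ _ ≫ c.π.app j ≫ F = pullback.fst _ _ ≫ g
    have h1 : m ≫ pullback.fst (D.map φ) (𝒰.f k) ≫ F = m ≫ pullback.snd _ _ ≫ a k := congr(m ≫ $(hF' k))
    rw [← hga k]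
    exact ((pullback.lift_fst_assoc _ _ _ F).trans (Category.assoc _ _ _)).symm.trans
      (h1.trans (pullback.lift_snd_assoc _ _ _ _))

section Subalgebras

/-- A morphism from the spectrum of a directed union of subalgebras to a scheme of finite type
factors through some member. -/
theorem exists_hom_from_subalgebra {ι : Type u} (A C : Type u) [CommRing A] [CommRing C] [Algebra A C]
    (S : ι → Subalgebra A C) (hdir : Directed (· ≤ ·) S) (hcov : ∀ c : C, ∃ i, c ∈ S i)
    (X : Scheme.{u}) (f : X ⟶ Spec (CommRingCat.of A)) [LocallyOfFiniteType f]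
    (g : Spec (CommRingCat.of C) ⟶ X)
    (hg : g ≫ f = Spec.map (CommRingCat.ofHom (algebraMap A C))) :
    ∃ (i : ι) (g' : Spec (CommRingCat.of (S i)) ⟶ X),
      g' ≫ f = Spec.map (CommRingCat.ofHom (algebraMap A (S i))) ∧
      Spec.map (CommRingCat.ofHom (S i).val.toRingHom) ≫ g' = g := by
  classical
  let : Preorder ι := Preorder.lift S
  have : IsDirected ι (· ≤ ·) := ⟨fun a b ↦ hdir a b⟩
  have : Nonempty ι := ⟨(hcov 0).choose⟩
  have hfin : ∀ s : Finset C, ∃ i, ∀ x ∈ s, x ∈ S i := fun s ↦ by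
    choose k hk using hcov
    obtain ⟨i, hi⟩ := (s.image k).exists_le (α := ι)
    exact ⟨i, fun x hx ↦ hi (k x) (Finset.mem_image_of_mem k hx) (hk x)⟩
  let R : ι ⥤ CommRingCat.{u} :=
    { obj := fun i ↦ CommRingCat.of (S i)
      map := fun h ↦ CommRingCat.ofHom (Subalgebra.inclusion (leOfHom h)).toRingHom
      map_id := fun _ ↦ rfl
      map_comp := fun _ _ ↦ rfl }
  let cR : Cocone R :=
    { pt := CommRingCat.of C
      ι := { app := fun i ↦ CommRingCat.ofHom (S i).val.toRingHom
             naturality := fun i j h ↦ rfl } }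
  have hcR : IsColimit cR := by
    have : ReflectsColimit R (forget CommRingCat.{u}) :=
      reflectsColimit_of_reflectsIsomorphisms _ _
    refine isColimitOfReflects (forget CommRingCat.{u}) (Types.FilteredColimit.isColimitOf _ _ ?_ ?_)
    · intro x
      obtain ⟨i, hi⟩ := hcov x
      exact ⟨i, ⟨x, hi⟩, rfl⟩
    · intro i j xi xj h
      obtain ⟨k, hik, hjk⟩ := exists_ge_ge i j
      exact ⟨k, homOfLE hik, homOfLE hjk, Subtype.ext h⟩
  let D : ιᵒᵖ ⥤ Scheme.{u} := R.op ⋙ Scheme.Spec
  let c : Cone D := Scheme.Spec.mapCone cR.op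
  have hc : IsLimit c := isLimitOfPreserves Scheme.Spec hcR.op
  have : ∀ {i j : ιᵒᵖ} (f : i ⟶ j), IsAffineHom (D.map f) := fun f ↦
    inferInstanceAs (IsAffineHom (Spec.map _))
  -- local lifts
  have hloc : ∀ p : Spec (CommRingCat.of C), ∃ h : C, p ∈ PrimeSpectrum.basicOpen h ∧
      ∃ s : Finset C, ∀ i : ι, ∀ hi : h ∈ S i, (∀ x ∈ s, x ∈ S i) →
        ∃ a : Spec (CommRingCat.of (Localization.Away (⟨h, hi⟩ : S i))) ⟶ X,
          a ≫ f = Spec.map (CommRingCat.ofHom (algebraMap (S i) (Localization.Away (⟨h, hi⟩ : S i)))) ≫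
            Spec.map (CommRingCat.ofHom (algebraMap A (S i))) ∧
          pullback.snd (Spec.map (CommRingCat.ofHom (S i).val.toRingHom))
              (Spec.map (CommRingCat.ofHom (algebraMap (S i) (Localization.Away (⟨h, hi⟩ : S i))))) ≫ a =
            pullback.fst _ _ ≫ g := by
    intro p
    obtain ⟨_, ⟨V, hV, rfl⟩, hpV, -⟩ :=
      X.isBasis_affineOpens.exists_subset_of_mem_open (Set.mem_univ (g p)) isOpen_univ
    obtain ⟨_, ⟨h, rfl⟩, hph, hle⟩ := PrimeSpectrum.isTopologicalBasis_basic_opens.exists_subset_of_mem_open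
      (show p ∈ (g ⁻¹ᵁ V : Set (Spec (CommRingCat.of C))) from hpV) (g ⁻¹ᵁ V).isOpen
    let j : Spec (CommRingCat.of (Localization.Away h)) ⟶ Spec (CommRingCat.of C) :=
      Spec.map (CommRingCat.ofHom (algebraMap C (Localization.Away h)))
    have hj : Set.range j = (PrimeSpectrum.basicOpen h : Set (PrimeSpectrum C)) :=
      PrimeSpectrum.localization_away_comap_range _ h
    have hjV : Set.range (j ≫ g) ⊆ Set.range hV.fromSpec := by
      rw [hV.range_fromSpec]
      rintro _ ⟨q, rfl⟩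
      exact hle (hj.le ⟨q, rfl⟩)
    let φ := Spec.preimage (hV.fromSpec ≫ f)
    let ψ := Spec.preimage (IsOpenImmersion.lift hV.fromSpec (j ≫ g) hjV)
    have hψ : Spec.map ψ ≫ hV.fromSpec = j ≫ g := by
      rw [Spec.map_preimage, IsOpenImmersion.lift_fac]
    have hφψ : φ ≫ ψ = CommRingCat.ofHom (algebraMap A (Localization.Away h)) := by
      apply Spec.map_injective
      rw [Spec.map_comp, show Spec.map φ = hV.fromSpec ≫ f from Spec.map_preimage _, reassoc_of% hψ, hg,
        ← Spec.map_comp, ← CommRingCat.ofHom_comp, ← IsScalarTower.algebraMap_eq]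
    have hφft : φ.hom.FiniteType := (HasRingHomProperty.Spec_iff (P := @LocallyOfFiniteType)).mp
      (by rw [Spec.map_preimage]; infer_instance)
    let : Algebra A Γ(X, V) := φ.hom.toAlgebra
    have : Algebra.FiniteType A Γ(X, V) := hφft
    let ψ' : Γ(X, V) →ₐ[A] Localization.Away h :=
      { ψ.hom with commutes' := fun a ↦ congr(($hφψ).hom a) }
    obtain ⟨s, hs⟩ := (Algebra.FiniteType.out : (⊤ : Subalgebra A Γ(X, V)).FG)
    choose num hnum using fun x : Γ(X, V) ↦ IsLocalization.surj (Submonoid.powers h) (ψ' x)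
    refine ⟨h, hph, s.image fun x ↦ (num x).1, fun i hi hsi ↦ ?_⟩
    let h' : S i := ⟨h, hi⟩
    let L := Localization.Away h'
    have hh : h' ∈ (Submonoid.powers h).comap (S i).val.toRingHom := Submonoid.mem_powers h
    have hmap : (Submonoid.powers h').map (S i).val.toRingHom = Submonoid.powers h := Submonoid.map_powers _ _
    have : IsLocalization ((Submonoid.powers h').map (S i).val.toRingHom) (Localization.Away h) := by
      rw [hmap]; infer_instance
    let μ : L →ₐ[A] Localization.Away h :=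
      { IsLocalization.map (Localization.Away h) (S i).val.toRingHom
          (Submonoid.le_comap_map (Submonoid.powers h')) with
        commutes' := fun a ↦ by
          show IsLocalization.map (Localization.Away h) _ _ (algebraMap A L a) = _
          rw [IsScalarTower.algebraMap_apply A (S i) L, IsLocalization.map_eq]
          rfl }
    have hμ : Function.Injective μ :=
      @IsLocalization.map_injective_of_injective (S i) _ (Submonoid.powers h') L _ _ C _ _
        (S i).val.toRingHom (Localization.Away h) _ _ Subtype.val_injective this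
    have hμalg : μ.toRingHom.comp (algebraMap (S i) L) = (algebraMap C _).comp (S i).val.toRingHom :=
      IsLocalization.map_comp (Submonoid.le_comap_map (f := (S i).val.toRingHom) (Submonoid.powers h'))
    have hrange : ∀ x, ψ' x ∈ μ.range := by
      intro x
      have hx : x ∈ Algebra.adjoin A (s : Set Γ(X, V)) := hs ▸ trivial
      induction hx using Algebra.adjoin_induction with
      | mem x hx =>
        obtain ⟨m, hm⟩ := (num x).2.2
        refine ⟨IsLocalization.mk' L (⟨(num x).1, hsi _ (Finset.mem_image_of_mem _ hx)⟩ : S i) (⟨h' ^ m, m, rfl⟩ : Submonoid.powers h'), ?_⟩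
        refine (IsLocalization.map_mk' (Submonoid.le_comap_map (f := (S i).val.toRingHom) (Submonoid.powers h')) _ _).trans ((IsLocalization.mk'_eq_iff_eq_mul).mpr ?_)
        exact (hnum x).symm.trans (congrArg (fun z : C ↦ ψ' x * algebraMap C (Localization.Away h) z) hm.symm)
      | algebraMap r => exact ⟨algebraMap A L r, (μ.commutes r).trans (ψ'.commutes r).symm⟩
      | add x y _ _ hx hy => rw [map_add]; exact add_mem hx hy
      | mul x y _ _ hx hy => rw [map_mul]; exact mul_mem hx hy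
    let α : Γ(X, V) →ₐ[A] L := (AlgEquiv.ofInjective μ hμ).symm.toAlgHom.comp (ψ'.codRestrict μ.range hrange)
    have hα : μ.comp α = ψ' := by
      ext x
      exact congr(($((AlgEquiv.ofInjective μ hμ).apply_symm_apply ⟨ψ' x, hrange x⟩)).1)
    refine ⟨Spec.map (CommRingCat.ofHom α.toRingHom) ≫ hV.fromSpec, ?_, ?_⟩
    · rw [Category.assoc, ← Spec.map_preimage (hV.fromSpec ≫ f), ← Spec.map_comp, ← Spec.map_comp]
      congr 1
      ext r
      exact α.commutes r
    · let w := pullback.fst (Spec.map (CommRingCat.ofHom (S i).val.toRingHom))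
        (Spec.map (CommRingCat.ofHom (algebraMap (S i) L)))
      have hw : Set.range w ⊆ Set.range j := by
        rw [Scheme.Pullback.range_fst, hj]
        rintro q hq
        rw [Set.mem_preimage] at hq
        obtain ⟨q', hq'⟩ := hq
        have : Spec.map (CommRingCat.ofHom (S i).val.toRingHom) q ∈ PrimeSpectrum.basicOpen h' := by
          rw [← hq']
          exact (PrimeSpectrum.localization_away_comap_range L h').le ⟨q', rfl⟩
        exact this
      let l := IsOpenImmersion.lift j w hw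
      have hl : l ≫ j = w := IsOpenImmersion.lift_fac _ _ _
      have hsnd : pullback.snd _ _ = l ≫ Spec.map (CommRingCat.ofHom μ.toRingHom) := by
        rw [← cancel_mono (Spec.map (CommRingCat.ofHom (algebraMap (S i) L))), Category.assoc,
          ← Spec.map_comp, ← CommRingCat.ofHom_comp, hμalg, CommRingCat.ofHom_comp, Spec.map_comp,
          reassoc_of% hl]
        exact pullback.condition.symm
      rw [hsnd, Category.assoc, ← Spec.map_comp_assoc, ← CommRingCat.ofHom_comp]
      have : CommRingCat.ofHom (μ.toRingHom.comp α.toRingHom) = ψ := by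
        ext x; exact congr($hα x)
      rw [this, hψ, reassoc_of% hl]
  choose h hmem s ha using hloc
  obtain ⟨T, hT⟩ := isCompact_univ.elim_finite_subcover
    (fun p : Spec (CommRingCat.of C) ↦ (PrimeSpectrum.basicOpen (h p) : Set (PrimeSpectrum C)))
    (fun p ↦ (PrimeSpectrum.basicOpen (h p)).isOpen) (fun p _ ↦ Set.mem_iUnion.mpr ⟨p, hmem p⟩)
  have hspan : Ideal.span (Set.range fun p : T ↦ h p) = ⊤ := by
    rw [← PrimeSpectrum.iSup_basicOpen_eq_top_iff]
    refine top_le_iff.mp fun q _ ↦ ?_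
    obtain ⟨p, hp, hq⟩ := Set.mem_iUnion₂.mp (hT (Set.mem_univ q))
    exact TopologicalSpace.Opens.mem_iSup.mpr ⟨⟨p, hp⟩, hq⟩
  obtain ⟨e, he⟩ := Ideal.mem_span_range_iff_exists_fun.mp (hspan.ge (Submodule.mem_top (x := (1 : C))))
  obtain ⟨i, hi⟩ := hfin ((T.image h ∪ T.biUnion s) ∪ Finset.univ.image e)
  have hhi : ∀ p : T, h p ∈ S i := fun p ↦ hi _ (by simp; exact Or.inl ⟨p, p.2, rfl⟩)
  have hei : ∀ p : T, e p ∈ S i := fun p ↦ hi _ (by simp)
  have hspan' : Ideal.span (Set.range fun p : T ↦ (⟨h p, hhi p⟩ : S i)) = ⊤ := by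
    rw [Ideal.eq_top_iff_one, Ideal.mem_span_range_iff_exists_fun]
    exact ⟨fun p ↦ ⟨e p, hei p⟩, Subtype.ext (by simpa using he)⟩
  let 𝒰 := (Scheme.affineOpenCoverOfSpanRangeEqTop (R := CommRingCat.of (S i))
    (fun p : T ↦ (⟨h p, hhi p⟩ : S i)) hspan').openCover
  choose a ha₁ ha₂ using fun p : T ↦ ha p i (hhi p) (fun x hx ↦ hi x (by simp; exact Or.inr (Or.inl ⟨p, p.2, hx⟩)))
  have : Finite 𝒰.I₀ := inferInstanceAs (Finite T)
  have : ∀ k, CompactSpace (𝒰.X k) := fun k ↦ inferInstanceAs (CompactSpace (Spec _))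
  have : QuasiSeparatedSpace (D.obj (Opposite.op i)) := inferInstanceAs (QuasiSeparatedSpace (Spec _))
  obtain ⟨j, φ, g', hg'₁, hg'₂⟩ := exists_hom_of_openCover hc (i := Opposite.op i) f
    (Spec.map (CommRingCat.ofHom (algebraMap A (S i)))) g
    (by
      rw [hg]
      show _ = Spec.map _ ≫ Spec.map _
      rw [← Spec.map_comp]; rfl) 𝒰 a ha₁ ha₂
  refine ⟨j.unop, g', ?_, hg'₂⟩
  rw [hg'₁]
  show Spec.map _ ≫ Spec.map _ = _
  rw [← Spec.map_comp]; rfl

end Subalgebras

end Groth.Agent.H8Lim
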