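import Groth.Agent.H8Lim.SchemeDescent
import Groth.Agent.H8Lim.DescentMore
import Groth.Agent.H8Lim.HomDescent
import Groth.Agent.H8Lim.NormalizationImmersion
import Groth.Agent.H8Lim.StalkLimit

/-!
A factorization immersion–finite over a local scheme spreads out to a neighbourhood, and the
existence of such a factorization is local on the base.
-/

set_option autoImplicit false
set_option backward.isDefEq.respectTransparency.types false
set_option backward.isDefEq.respectTransparency false

universe u

open CategoryTheory CategoryTheory.Limits AlgebraicGeometry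

namespace Groth.Agent.H8Lim.LocalFactor

/-- Spreading out an immersion into a finite scheme over a local scheme. -/
theorem exists_spread {X Y : Scheme.{u}} (f : X ⟶ Y) [IsNoetherian Y] [LocallyOfFiniteType f]
    [QuasiCompact f] (y : Y) {Z : Scheme.{u}} (g : pullback f (Y.fromSpecStalk y) ⟶ Z)
    (u : Z ⟶ Spec (Y.presheaf.stalk y)) [hg : IsImmersion g] [hu : IsFinite u]
    (e : g ≫ u = pullback.snd f (Y.fromSpecStalk y)) :
    ∃ (V : Scheme.{u}) (t : V ⟶ Y) (Z' : Scheme.{u}) (g' : pullback f t ⟶ Z') (u' : Z' ⟶ V),
      IsOpenImmersion t ∧ y ∈ Set.range t ∧ IsImmersion g' ∧ IsFinite u' ∧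
        g' ≫ u' = pullback.snd f t := by
  let D := StalkLimit.diagram y
  let c := StalkLimit.cone y
  have hc : IsLimit c := StalkLimit.isLimitCone y
  have haff : ∀ {i j} (φ : i ⟶ j), IsAffineHom (D.map φ) := fun φ => inferInstance
  have : ∀ i, IsAffine (D.obj i) := fun i => inferInstance
  obtain ⟨i₀⟩ : Nonempty (StalkLimit.AffNhd y) := IsCofiltered.nonempty
  have : IsAffine Z := isAffine_of_isAffineHom u
  have : IsLocallyNoetherian (Spec (Y.presheaf.stalk y)) := inferInstance
  have : LocallyOfFinitePresentation u := inferInstance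
  obtain ⟨j, Zj, h, q, hlfp, hqc, hqs, sq⟩ :=
    descendable_affine (D := D) (c := c) hc (V := Z) u i₀ (isAffineOpen_top (D.obj i₀))
      (fun x _ => trivial)
  obtain ⟨k, φ, hk⟩ := descends_isFinite D c hc haff j h inferInstance u q sq hu
  let hk' := pullback.snd h (D.map φ)
  have : IsFinite hk' := hk
  have hqw : q ≫ h = (u ≫ c.π.app k) ≫ D.map φ := by rw [Category.assoc, c.w]; exact sq.w
  let qk : Z ⟶ pullback h (D.map φ) := pullback.lift q (u ≫ c.π.app k) hqw
  have sqk : IsPullback qk u hk' (c.π.app k) := by
    refine IsPullback.of_right ?_ (pullback.lift_snd _ _ _) (IsPullback.of_hasPullback h (D.map φ))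
    rw [pullback.lift_fst]
    exact (c.w φ).symm ▸ sq
  let tk := StalkLimit.incMap y k
  have hlk : IsLocallyNoetherian (D.obj k) := isLocallyNoetherian_of_isOpenImmersion tk
  have : LocallyOfFinitePresentation hk' := inferInstance
  let xi := pullback.snd f tk
  let qX : pullback f (Y.fromSpecStalk y) ⟶ pullback f tk :=
    pullback.lift (pullback.fst _ _) (pullback.snd _ _ ≫ c.π.app k)
      (by rw [Category.assoc, StalkLimit.cone_incMap, pullback.condition])
  have hX : IsPullback qX (pullback.snd f (Y.fromSpecStalk y)) xi (c.π.app k) := by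
    refine IsPullback.of_right ?_ (pullback.lift_snd _ _ _) (IsPullback.of_hasPullback f tk)
    rw [pullback.lift_fst]
    exact (StalkLimit.cone_incMap y k).symm ▸ IsPullback.of_hasPullback f (Y.fromSpecStalk y)
  have : CompactSpace (D.obj k) := inferInstance
  have : QuasiSeparatedSpace (D.obj k) := inferInstance
  have := LocallyOfFiniteType.isLocallyNoetherian f
  have : QuasiSeparated f := inferInstance
  have : CompactSpace ↥(pullback f tk) := QuasiCompact.compactSpace_of_compactSpace xi
  have : QuasiSeparatedSpace ↥(pullback f tk) := quasiSeparatedSpace_of_quasiSeparated xi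
  obtain ⟨l, ψ, gl, s, hgl, hs1, hs2, hs3⟩ := exists_stage_hom hc hX (yi := hk') (g ≫ qk) (by
    rw [Category.assoc, pullback.lift_snd, ← Category.assoc, e]
    exact hX.w.symm)
  let g₀ := pullback.snd hk' (D.map ψ)
  let a : pullback xi (D.map ψ) ⟶ pullback hk' (D.map ψ) :=
    pullback.lift gl (pullback.snd _ _) (hgl.trans pullback.condition)
  have hYq : qk ≫ hk' = (u ≫ c.π.app l) ≫ D.map ψ := by rw [Category.assoc, c.w]; exact sqk.w
  let qY : Z ⟶ pullback hk' (D.map ψ) := pullback.lift qk (u ≫ c.π.app l) hYq
  have hY : IsPullback qY u g₀ (c.π.app l) := by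
    refine IsPullback.of_right ?_ (pullback.lift_snd _ _ _) (IsPullback.of_hasPullback hk' (D.map ψ))
    rw [pullback.lift_fst]
    exact (c.w ψ).symm ▸ sqk
  have hs : IsPullback s (pullback.snd f (Y.fromSpecStalk y)) (pullback.snd xi (D.map ψ))
      (c.π.app l) := by
    refine IsPullback.of_right ?_ hs2 (IsPullback.of_hasPullback xi (D.map ψ))
    rw [hs1]
    exact (c.w ψ).symm ▸ hX
  have hXa : IsPullback s g a qY := by
    refine IsPullback.of_bot ?_ ?_ hY
    · rw [e, show a ≫ g₀ = pullback.snd xi (D.map ψ) from pullback.lift_snd _ _ _]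
      exact hs
    · apply pullback.hom_ext
      · rw [Category.assoc, Category.assoc, pullback.lift_fst, pullback.lift_fst]
        exact hs3
      · rw [Category.assoc, Category.assoc, pullback.lift_snd, pullback.lift_snd, hs2, ← e,
          Category.assoc]
  have : IsLocallyNoetherian (D.obj l) := isLocallyNoetherian_of_isOpenImmersion (StalkLimit.incMap y l)
  have : CompactSpace ↥(pullback hk' (D.map ψ)) := QuasiCompact.compactSpace_of_compactSpace g₀
  have hlft : LocallyOfFiniteType a := by
    have : LocallyOfFiniteType (a ≫ g₀) := by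
      rw [show a ≫ g₀ = pullback.snd xi (D.map ψ) from pullback.lift_snd _ _ _]; infer_instance
    exact locallyOfFiniteType_of_comp a g₀
  have : IsAffineHom g₀ := inferInstance
  have : QuasiCompact a := by
    have : QuasiCompact (a ≫ g₀) := by
      rw [show a ≫ g₀ = pullback.snd xi (D.map ψ) from pullback.lift_snd _ _ _]; infer_instance
    exact QuasiCompact.of_comp a g₀
  have : QuasiSeparated a := by
    have : QuasiSeparated (a ≫ g₀) := by
      rw [show a ≫ g₀ = pullback.snd xi (D.map ψ) from pullback.lift_snd _ _ _]; infer_instance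
    exact QuasiSeparated.of_comp a g₀
  obtain ⟨i, χ, Xi, Yi, fi, gi, pY, pX, hYi, hXi, hfi⟩ :=
    descends_isImmersion.exists_stage hc hY hXa hlft hg
  have : IsFinite gi := MorphismProperty.of_isPullback hYi (inferInstanceAs (IsFinite g₀))
  let ti := StalkLimit.incMap y i
  have hfin : IsPullback ((pX ≫ pullback.fst xi (D.map ψ)) ≫ pullback.fst f tk) (fi ≫ gi) f ti := by
    have h1 := hXi.paste_vert hYi
    rw [show a ≫ g₀ = pullback.snd xi (D.map ψ) from pullback.lift_snd _ _ _] at h1
    have h2 := h1.paste_horiz (IsPullback.of_hasPullback xi (D.map ψ))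
    have h3 := h2.paste_horiz (IsPullback.of_hasPullback f tk)
    have e' : (D.map χ ≫ D.map ψ) ≫ tk = ti := by
      rw [Category.assoc, show D.map ψ ≫ tk = StalkLimit.incMap y l from StalkLimit.map_incMap y ψ]
      exact StalkLimit.map_incMap y χ
    exact e' ▸ h3
  refine ⟨D.obj i, ti, Yi, hfin.isoPullback.inv ≫ fi, gi, inferInstance,
    StalkLimit.mem_range_incMap y i, ?_, inferInstance, ?_⟩
  · have : IsImmersion fi := hfi
    infer_instance
  · rw [Category.assoc]
    exact hfin.isoPullback_inv_snd

/-- An immersion–finite factorization is local on the base. -/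
theorem isImmersion_toNormalization_of_local {X Y : Scheme.{u}} (f : X ⟶ Y) [QuasiCompact f]
    [QuasiSeparated f]
    (h : ∀ y : Y, ∃ (V : Scheme.{u}) (t : V ⟶ Y) (Z : Scheme.{u}) (g : pullback f t ⟶ Z)
      (u : Z ⟶ V), IsOpenImmersion t ∧ y ∈ Set.range t ∧ IsImmersion g ∧ IsFinite u ∧
        g ≫ u = pullback.snd f t) :
    IsImmersion f.toNormalization := by
  choose V t Z g u ht hy hg hu e using h
  let 𝒰 : Y.OpenCover := {
    I₀ := Y
    X := V
    f := t
    mem₀ := by
      rw [Scheme.ofArrows_mem_precoverage_iff]
      exact ⟨fun y => ⟨y, hy y⟩, ht⟩ }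
  refine IsZariskiLocalAtTarget.of_openCover (P := @IsImmersion)
    (𝒰.pullback₁ f.fromNormalization) fun y => ?_
  have := ht y
  let p := pullback.snd f (t y)
  have : IsImmersion p.toNormalization := by
    have h2 : IsImmersion (p.toNormalization ≫ p.normalizationDesc (g y) (u y) (e y).symm) := by
      rw [Scheme.Hom.toNormalization_normalizationDesc]; exact hg y
    exact IsImmersion.of_comp p.toNormalization (p.normalizationDesc (g y) (u y) (e y).symm)
  let m : pullback f (t y) ⟶ pullback f.fromNormalization (t y) :=
    p.toNormalization ≫ f.normalizationPullback (t y)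
  have : IsImmersion m := inferInstance
  have hm : IsPullback (pullback.fst f (t y)) m f.toNormalization
      (pullback.fst f.fromNormalization (t y)) := by
    refine IsPullback.of_bot ?_ ?_ (IsPullback.of_hasPullback f.fromNormalization (t y))
    · rw [f.toNormalization_fromNormalization, Category.assoc, f.normalizationPullback_snd,
        Scheme.Hom.toNormalization_fromNormalization]
      exact IsPullback.of_hasPullback f (t y)
    · rw [Category.assoc, Scheme.Hom.toNormalization_normalizationPullback_fst]
  rw [← MorphismProperty.cancel_left_of_respectsIso @IsImmersion hm.isoPullback.hom]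
  exact (hm.isoPullback_hom_snd).symm ▸ ‹IsImmersion m›

end Groth.Agent.H8Lim.LocalFactor
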