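import Groth.Agent.H8Lim.ModEq
import Groth.Agent.H8Lim.Stalk
import Groth.Agent.Coherent.SupportPullback
import Groth.Agent.Desc19b.ModStFibGrpd

/-!
# EGA IV 8.5.2/8.5.6: isomorphisms and exactness of pullbacks hold at a stage
-/

set_option autoImplicit false
set_option backward.isDefEq.respectTransparency false

universe u

open CategoryTheory CategoryTheory.Limits AlgebraicGeometry Opposite TopologicalSpace
open Groth.Agent.Coherent Groth.Agent.PicLib

namespace Groth.Agent.H8Lim

section Abstract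

variable {A B : Type*} [Category A] [Category B] [Abelian A] [Abelian B]

/-- The sequence `a`, `b`, `0` is exact after applying `F`. -/
def RExact (F : A ⥤ B) [F.PreservesZeroMorphisms] {L M N : A} (a : L ⟶ M) (b : M ⟶ N) : Prop :=
  ∃ w : F.map a ≫ F.map b = 0, (ShortComplex.mk _ _ w).Exact ∧ Epi (F.map b)

theorem RExact.of_iso {F G : A ⥤ B} [F.PreservesZeroMorphisms] [G.PreservesZeroMorphisms]
    (e : F ≅ G) {L M N : A} {a : L ⟶ M} {b : M ⟶ N} (h : RExact F a b) : RExact G a b := by
  obtain ⟨w, hex, hepi⟩ := h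
  have w' : G.map a ≫ G.map b = 0 := by
    rw [← cancel_epi (e.hom.app L), ← Category.assoc, ← e.hom.naturality, Category.assoc,
      ← e.hom.naturality, ← Category.assoc, w, zero_comp, comp_zero]
  refine ⟨w', ?_, ?_⟩
  · exact (ShortComplex.exact_iff_of_iso (ShortComplex.isoMk (S₁ := ShortComplex.mk _ _ w)
      (S₂ := ShortComplex.mk _ _ w') (e.app L) (e.app M) (e.app N)
      (e.hom.naturality a).symm (e.hom.naturality b).symm)).1 hex
  · exact epi_of_epi_fac (e.hom.naturality b).symm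

theorem rexact_iff_isIso_map_desc (F : A ⥤ B) [F.Additive] [PreservesFiniteColimits F]
    {L M N : A} (a : L ⟶ M) (b : M ⟶ N) (w : a ≫ b = 0) :
    RExact F a b ↔ IsIso (F.map (cokernel.desc a b w)) := by
  have w' : F.map a ≫ F.map b = 0 := by rw [← F.map_comp, w, F.map_zero]
  have key : (ShortComplex.mk _ _ w').Exact ∧ Epi (F.map b) ↔
      IsIso (cokernel.desc (F.map a) (F.map b) w') := by
    refine (ShortComplex.exact_and_epi_g_iff_g_is_cokernel _).trans ⟨fun ⟨h⟩ => ?_, fun h => ?_⟩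
    · have e : cokernel.desc (F.map a) (F.map b) w' =
          ((cokernelIsCokernel (F.map a)).coconePointUniqueUpToIso h).hom :=
        coequalizer.hom_ext ((cokernel.π_desc _ _ _).trans
          (IsColimit.comp_coconePointUniqueUpToIso_hom (cokernelIsCokernel (F.map a)) h
            WalkingParallelPair.one).symm)
      rw [e]
      infer_instance
    · exact ⟨IsColimit.ofIsoColimit (cokernelIsCokernel (F.map a))
        (Cofork.ext (asIso (cokernel.desc (F.map a) (F.map b) w')) (cokernel.π_desc _ _ _))⟩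
  have e : F.map (cokernel.desc a b w) =
      (PreservesCokernel.iso F a).hom ≫ cokernel.desc (F.map a) (F.map b) w' := by
    rw [← cancel_epi (F.map (cokernel.π a)), ← F.map_comp, cokernel.π_desc, ← Category.assoc,
      PreservesCokernel.π_iso_hom, cokernel.π_desc]
  rw [e, isIso_comp_left_iff, ← key]
  exact ⟨fun ⟨_, h⟩ => h, fun h => ⟨w', h⟩⟩

/-- A right exact functor maps `b` through `p` iff it kills `ker p ≫ b`. -/
theorem factors_iff_map_kernel_eq_zero (F : A ⥤ B) [F.Additive] [PreservesFiniteColimits F]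
    {L M N : A} (p : L ⟶ M) [Epi p] (b : L ⟶ N) :
    (∃ k : F.obj M ⟶ F.obj N, F.map p ≫ k = F.map b) ↔ F.map (kernel.ι p ≫ b) = 0 := by
  constructor
  · rintro ⟨k, hk⟩
    rw [F.map_comp, ← hk, ← Category.assoc, ← F.map_comp, kernel.condition, F.map_zero, zero_comp]
  · intro h
    have hc := CokernelCofork.mapIsColimit _
      (Abelian.epiIsCokernelOfKernel _ (kernelIsKernel p)) F
    obtain ⟨k, hk⟩ := CokernelCofork.IsColimit.desc' hc (F.map b) (by
      rw [← F.map_comp]; exact h)
    exact ⟨k, hk⟩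

theorem mono_map_iff_map_kernel_eq_zero (F : A ⥤ B) [F.Additive] [PreservesFiniteLimits F]
    {L M : A} (f : L ⟶ M) : Mono (F.map f) ↔ F.map (kernel.ι f) = 0 := by
  constructor
  · intro _
    rw [← cancel_mono (F.map f), ← F.map_comp, kernel.condition, F.map_zero, zero_comp]
  · intro h
    refine Preadditive.mono_of_kernel_zero ?_
    rw [← cancel_epi (PreservesKernel.iso F f).hom]
    rw [PreservesKernel.iso_hom, kernelComparison_comp_ι, h, comp_zero]

theorem exact_map_iff (F : A ⥤ B) [F.Additive] [PreservesFiniteLimits F] [PreservesFiniteColimits F]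
    {L M N : A} (f : L ⟶ M) (g : M ⟶ N) :
    (∃ w : F.map f ≫ F.map g = 0, (ShortComplex.mk _ _ w).Exact) ↔
      F.map (image.ι f ≫ g) = 0 ∧ F.map (kernel.ι g ≫ cokernel.π f) = 0 := by
  have h1 : F.map f ≫ F.map g = 0 ↔ F.map (image.ι f ≫ g) = 0 := by
    have : Epi (F.map (factorThruImage f)) := inferInstance
    rw [← cancel_epi (F.map (factorThruImage f)) (g := F.map (image.ι f ≫ g)), comp_zero,
      ← F.map_comp, ← F.map_comp, image.fac_assoc]
  have h2 : ∀ w : F.map f ≫ F.map g = 0,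
      (ShortComplex.mk _ _ w).Exact ↔ F.map (kernel.ι g ≫ cokernel.π f) = 0 := by
    intro w
    rw [ShortComplex.exact_iff_kernel_ι_comp_cokernel_π_zero,
      ← cancel_epi (PreservesKernel.iso F g).hom, ← cancel_mono (PreservesCokernel.iso F f).inv,
      comp_zero, zero_comp]
    simp only [Category.assoc]
    rw [PreservesKernel.iso_hom, ← Category.assoc, kernelComparison_comp_ι,
      show cokernel.π (F.map f) ≫ (PreservesCokernel.iso F f).inv = F.map (cokernel.π f) by simp,
      F.map_comp]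
  exact ⟨fun ⟨w, h⟩ => ⟨h1.1 w, (h2 w).1 h⟩, fun ⟨h, h'⟩ => ⟨h1.2 h, (h2 _).2 h'⟩⟩

end Abstract

variable {I : Type u} [SmallCategory I] [IsCofiltered I] {D : I ⥤ Scheme.{u}} {c : Cone D}
  [∀ {i j : I} (f : i ⟶ j), IsAffineHom (D.map f)] (hc : IsLimit c) {i : I}

/-- The pullback to the limit, through a stage. -/
noncomputable def pullStageIso (c : Cone D) {j : I} (φ : j ⟶ i) :
    Scheme.Modules.pullback (D.map φ) ⋙ Scheme.Modules.pullback (c.π.app j) ≅
      Scheme.Modules.pullback (c.π.app i) :=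
  Scheme.Modules.pullbackComp (c.π.app j) (D.map φ) ≪≫ Scheme.Modules.pullbackCongr (c.w φ)

/-- Transition pullbacks compose. -/
noncomputable def pullCompIso {j k : I} (φ : j ⟶ i) (ψ : k ⟶ j) :
    Scheme.Modules.pullback (D.map φ) ⋙ Scheme.Modules.pullback (D.map ψ) ≅
      Scheme.Modules.pullback (D.map (ψ ≫ φ)) :=
  Scheme.Modules.pullbackComp (D.map ψ) (D.map φ) ≪≫
    Scheme.Modules.pullbackCongr (D.map_comp ψ φ).symm

theorem compactSpace_of_hom {j : I} (φ : j ⟶ i) [CompactSpace (D.obj i)] : CompactSpace (D.obj j) :=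
  QuasiCompact.compactSpace_of_compactSpace (D.map φ)

include hc in
/-- Isomorphisms descend. -/
theorem isIso_iff_eventually [CompactSpace (D.obj i)] {F G : (D.obj i).Modules} [Coh.IsQCoh F]
    [Coh.IsQCoh G] (hF : CohB1.IsFT F) (hG : CohB1.IsFP G) (f : F ⟶ G) :
    IsIso ((Scheme.Modules.pullback (c.π.app i)).map f) ↔
      ∃ (j : I) (φ : j ⟶ i), IsIso ((Scheme.Modules.pullback (D.map φ)).map f) := by
  constructor
  · intro h
    obtain ⟨j, φ, hepi⟩ := (epi_iff_eventually hc (haveI := hG; inferInstance : CohB1.IsFT G) f).1 inferInstance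
    have := compactSpace_of_hom (D := D) φ
    set fj := (Scheme.Modules.pullback (D.map φ)).map f
    have : Coh.IsQCoh ((Scheme.Modules.pullback (D.map φ)).obj F) :=
      EGA43.InjFibre.isQCoh_pullback _ _
    have : Coh.IsQCoh ((Scheme.Modules.pullback (D.map φ)).obj G) :=
      EGA43.InjFibre.isQCoh_pullback _ _
    have hFj := isFT_pullback_qcoh (D.map φ) ‹Coh.IsQCoh F› hF
    have hGj := Desc19b.ModStFib.isFP_pullback (D.map φ) G hG
    have hker := isFT_kernel_of_fp fj hFj hGj
    have : Coh.IsQCoh (kernel fj) := isQCoh_kernel fj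
    have hiso : IsIso ((Scheme.Modules.pullback (c.π.app j)).map fj) :=
      (NatIso.isIso_map_iff (pullStageIso c φ) f).2 h
    have h0 : (Scheme.Modules.pullback (c.π.app j)).map (kernel.ι fj) = 0 := by
      rw [← cancel_mono ((Scheme.Modules.pullback (c.π.app j)).map fj), ← Functor.map_comp,
        kernel.condition, Functor.map_zero, zero_comp]
    obtain ⟨k, ψ, hk⟩ := exists_stage_map_eq_zero hc hker _ h0
    refine ⟨k, ψ ≫ φ, (NatIso.isIso_map_iff (pullCompIso φ ψ) f).1 ?_⟩
    exact CokernelCofork.IsColimit.isIso_π _ (CokernelCofork.mapIsColimit _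
      (Abelian.epiIsCokernelOfKernel _ (kernelIsKernel fj)) (Scheme.Modules.pullback (D.map ψ))) hk
  · rintro ⟨j, φ, h⟩
    exact (NatIso.isIso_map_iff (pullStageIso c φ) f).1
      (inferInstanceAs (IsIso ((Scheme.Modules.pullback (c.π.app j)).map _)))

include hc in
/-- Right exact sequences descend. -/
theorem rexact_iff_eventually [CompactSpace (D.obj i)] {F G H : (D.obj i).Modules} [Coh.IsQCoh F]
    [Coh.IsQCoh G] [Coh.IsQCoh H] (hF : CohB1.IsFT F) (hG : CohB1.IsFT G) (hH : CohB1.IsFP H)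
    (a : F ⟶ G) (b : G ⟶ H) :
    RExact (Scheme.Modules.pullback (c.π.app i)) a b ↔
      ∃ (j : I) (φ : j ⟶ i), RExact (Scheme.Modules.pullback (D.map φ)) a b := by
  constructor
  · intro h
    obtain ⟨j, φ, hw⟩ := (map_eq_zero_iff_eventually hc hF (a ≫ b)).1 (by
      rw [Functor.map_comp]; exact h.1)
    have := compactSpace_of_hom (D := D) φ
    set P := Scheme.Modules.pullback (D.map φ)
    have : Coh.IsQCoh (P.obj G) := EGA43.InjFibre.isQCoh_pullback _ _
    have : Coh.IsQCoh (P.obj F) := EGA43.InjFibre.isQCoh_pullback _ _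
    have : Coh.IsQCoh (P.obj H) := EGA43.InjFibre.isQCoh_pullback _ _
    have w : P.map a ≫ P.map b = 0 := by rw [← P.map_comp, hw]
    have : Coh.IsQCoh (cokernel (P.map a)) := isQCoh_cokernel _
    have h' : IsIso ((Scheme.Modules.pullback (c.π.app j)).map
        (cokernel.desc (P.map a) (P.map b) w)) :=
      (rexact_iff_isIso_map_desc _ _ _ w).1
        (show RExact (P ⋙ Scheme.Modules.pullback (c.π.app j)) a b from
          h.of_iso (pullStageIso c φ).symm)
    obtain ⟨k, ψ, hk⟩ := (isIso_iff_eventually hc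
      (isFT_cokernel (P.map a) (isFT_pullback_qcoh (D.map φ) ‹Coh.IsQCoh G› hG))
      (Desc19b.ModStFib.isFP_pullback (D.map φ) H hH) _).1 h'
    have hk' : RExact (P ⋙ Scheme.Modules.pullback (D.map ψ)) a b :=
      (rexact_iff_isIso_map_desc (Scheme.Modules.pullback (D.map ψ)) _ _ w).2 hk
    exact ⟨k, ψ ≫ φ, hk'.of_iso (pullCompIso φ ψ)⟩
  · rintro ⟨j, φ, h⟩
    obtain ⟨w, hex, hepi⟩ := h
    set P := Scheme.Modules.pullback (D.map φ)
    have hiso : IsIso ((𝟭 _).map (cokernel.desc (P.map a) (P.map b) w)) :=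
      (rexact_iff_isIso_map_desc (𝟭 _) _ _ w).1 ⟨w, hex, hepi⟩
    have : IsIso (cokernel.desc (P.map a) (P.map b) w) := hiso
    have h' : RExact (P ⋙ Scheme.Modules.pullback (c.π.app j)) a b :=
      (rexact_iff_isIso_map_desc (Scheme.Modules.pullback (c.π.app j)) _ _ w).2 inferInstance
    exact h'.of_iso (pullStageIso c φ)

include hc in
/-- Factorizations of quotients descend. -/
theorem factors_iff_eventually [CompactSpace (D.obj i)] {F G₁ G₂ : (D.obj i).Modules} [Coh.IsQCoh F]
    [Coh.IsQCoh G₁] [Coh.IsQCoh G₂] (hF : CohB1.IsFT F) (hG : CohB1.IsFP G₁) (p : F ⟶ G₁) [Epi p]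
    (q : F ⟶ G₂) :
    (∃ k, (Scheme.Modules.pullback (c.π.app i)).map p ≫ k =
        (Scheme.Modules.pullback (c.π.app i)).map q) ↔
      ∃ (j : I) (φ : j ⟶ i) (k : (Scheme.Modules.pullback (D.map φ)).obj G₁ ⟶
          (Scheme.Modules.pullback (D.map φ)).obj G₂),
        (Scheme.Modules.pullback (D.map φ)).map p ≫ k =
          (Scheme.Modules.pullback (D.map φ)).map q := by
  have : Coh.IsQCoh (kernel p) := isQCoh_kernel p
  simp only [factors_iff_map_kernel_eq_zero]
  exact map_eq_zero_iff_eventually hc (isFT_kernel_of_fp p hF hG) _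

include hc in
/-- Monomorphisms descend along flat transition maps. -/
theorem mono_iff_eventually [CompactSpace (D.obj i)] (hfl : ∀ {j k} (φ : j ⟶ k), Flat (D.map φ))
    {F G : (D.obj i).Modules} [Coh.IsQCoh F] [Coh.IsQCoh G] (f : F ⟶ G)
    (hker : CohB1.IsFT (kernel f)) :
    Mono ((Scheme.Modules.pullback (c.π.app i)).map f) ↔
      ∃ (j : I) (φ : j ⟶ i), Mono ((Scheme.Modules.pullback (D.map φ)).map f) := by
  have := flat_π hc i fun j φ => hfl φ
  have : ∀ {j k : I} (φ : j ⟶ k), Flat (D.map φ) := fun φ => hfl φ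
  have : Coh.IsQCoh (kernel f) := isQCoh_kernel f
  simp only [mono_map_iff_map_kernel_eq_zero]
  exact map_eq_zero_iff_eventually hc hker _

include hc in
/-- Exact sequences descend along flat transition maps. -/
theorem exact_iff_eventually [CompactSpace (D.obj i)] (hfl : ∀ {j k} (φ : j ⟶ k), Flat (D.map φ))
    {F G H : (D.obj i).Modules} [Coh.IsQCoh F] [Coh.IsQCoh G] [Coh.IsQCoh H] (f : F ⟶ G) (g : G ⟶ H)
    (hIm : CohB1.IsFT (image f)) (hKer : CohB1.IsFT (kernel g)) :
    (∃ w : (Scheme.Modules.pullback (c.π.app i)).map f ≫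
        (Scheme.Modules.pullback (c.π.app i)).map g = 0, (ShortComplex.mk _ _ w).Exact) ↔
      ∃ (j : I) (φ : j ⟶ i) (w : (Scheme.Modules.pullback (D.map φ)).map f ≫
          (Scheme.Modules.pullback (D.map φ)).map g = 0), (ShortComplex.mk _ _ w).Exact := by
  have := flat_π hc i fun j φ => hfl φ
  have : ∀ {j k : I} (φ : j ⟶ k), Flat (D.map φ) := fun φ => hfl φ
  have : Coh.IsQCoh (cokernel f) := isQCoh_cokernel f
  have : Coh.IsQCoh (kernel g) := isQCoh_kernel g
  have : Coh.IsQCoh (Abelian.image f) := isQCoh_kernel (cokernel.π f)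
  have : Coh.IsQCoh (image f) := isQCoh_of_iso (Abelian.imageIsoImage f)
  simp only [exact_map_iff]
  rw [map_eq_zero_iff_eventually hc hIm, map_eq_zero_iff_eventually hc hKer]
  constructor
  · rintro ⟨⟨j, φ, hj⟩, k, ψ, hk⟩
    obtain ⟨l, a, b, hab⟩ := IsCofiltered.cospan φ ψ
    exact ⟨l, a ≫ φ, map_comp_eq_zero φ a _ hj, hab ▸ map_comp_eq_zero ψ b _ hk⟩
  · rintro ⟨j, φ, h, h'⟩
    exact ⟨⟨j, φ, h⟩, j, φ, h'⟩

end Groth.Agent.H8Lim
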