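import Groth.Agent.H8Lim.ModSections
import Groth.Agent.EGA43.InjFibre.InjLimitScheme
import Mathlib.RingTheory.TensorProduct.IsBaseChangePi
import Mathlib.Algebra.Module.FinitePresentation

/-!
# Sections of pullbacks along a limit: equality holds at a stage, maps lift to a stage

EGA IV 8.5.2 on affine opens.
-/

set_option autoImplicit false
set_option backward.isDefEq.respectTransparency false
set_option maxHeartbeats 800000

universe u

open CategoryTheory CategoryTheory.Limits AlgebraicGeometry Opposite TopologicalSpace TensorProduct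
open Groth.Agent.Coherent Groth.Agent.PicLib Groth.Agent.EGA43.InjFibre

namespace Groth.Agent.H8Lim

section Algebra

variable {R : Type u} [CommRing R] {ι : Type u} {G : ι → Type u} [∀ i, CommRing (G i)]
  [∀ i, Algebra R (G i)] {A : Type u} [CommRing A] [Algebra R A] {g : ∀ i, G i →ₐ[R] A}

/-- A map from a finitely presented module to the colimit lifts to a stage. -/
theorem exists_linearMap_lift (hs : CAlgH.ColimSys g) (M N : Type u) [AddCommGroup M] [Module R M]
    [Module.FinitePresentation R M] [AddCommGroup N] [Module R N] (l : M →ₗ[R] A ⊗[R] N) :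
    ∃ (i : ι) (li : M →ₗ[R] G i ⊗[R] N), ∀ m, (g i).toLinearMap.rTensor N (li m) = l m := by
  classical
  obtain ⟨n, K, e, hK⟩ := Module.FinitePresentation.exists_fin R M
  let ρ : (Fin n → R) →ₗ[R] M := e.symm.toLinearMap ∘ₗ K.mkQ
  have hlift : ∀ k : Fin n, ∃ i, ∃ y : G i ⊗[R] N,
      (g i).toLinearMap.rTensor N y = l (ρ (Pi.single k 1)) := fun k => hs.rTensor_surj N _
  choose i y hy using hlift
  have hub : ∀ s : Finset (Fin n), ∃ j, ∀ k ∈ s, Nonempty (CAlgH.CompatHom g (i k) j) := fun s => by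
    induction s using Finset.induction with
    | empty => exact ⟨hs.nonempty.some, by simp⟩
    | insert a s _ ih =>
      obtain ⟨j, hj⟩ := ih
      obtain ⟨m, ⟨h1⟩, ⟨h2⟩⟩ := hs.dir (i a) j
      refine ⟨m, fun k hk => ?_⟩
      rcases Finset.mem_insert.mp hk with rfl | hk
      · exact ⟨h1⟩
      · exact ⟨h2.comp (hj k hk).some⟩
  obtain ⟨j, hj⟩ := hub Finset.univ
  let v : Fin n → G j ⊗[R] N := fun k => ((hj k (Finset.mem_univ k)).some).1.toLinearMap.rTensor N (y k)
  let L : (Fin n → R) →ₗ[R] G j ⊗[R] N := Fintype.linearCombination R v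
  have hL : ∀ r, (g j).toLinearMap.rTensor N (L r) = l (ρ r) := by
    intro r
    have e' : ((g j).toLinearMap.rTensor N) ∘ₗ L = l ∘ₗ ρ := by
      refine LinearMap.pi_ext' fun k => LinearMap.ext_ring ?_
      show (g j).toLinearMap.rTensor N (L (Pi.single k 1)) = l (ρ (Pi.single k 1))
      rw [show L (Pi.single k 1) = v k by simp [L, Fintype.linearCombination_apply_single]]
      simp only [v]
      rw [← LinearMap.rTensor_comp_apply, ← AlgHom.comp_toLinearMap,
        (hj k (Finset.mem_univ k)).some.2, hy]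
    exact LinearMap.congr_fun e' r
  obtain ⟨S, hS⟩ := hK
  have hkill : ∀ r ∈ S, ∃ j', ∃ h : CAlgH.CompatHom g j j', h.1.toLinearMap.rTensor N (L r) = 0 :=
    fun r hr => hs.rTensor_kill N _ (by
      rw [hL]
      have : K.mkQ r = 0 := (Submodule.Quotient.mk_eq_zero K).mpr (hS ▸ Submodule.subset_span hr)
      simp [ρ, LinearMap.comp_apply, this])
  choose j' h' hh' using hkill
  have hub2 : ∀ s : Finset (Fin n → R), (∀ r ∈ s, r ∈ S) →
      ∃ m, ∃ h : CAlgH.CompatHom g j m, ∀ r ∈ s, h.1.toLinearMap.rTensor N (L r) = 0 := fun s => by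
    induction s using Finset.induction with
    | empty => exact fun _ => ⟨j, .refl g j, by simp⟩
    | insert a s _ ih =>
      intro hs'
      obtain ⟨m, h, hh⟩ := ih fun r hr => hs' r (Finset.mem_insert_of_mem hr)
      obtain ⟨m', h'', hh''⟩ := hs.rTensor_kill N (h.1.toLinearMap.rTensor N (L a)) (by
        rw [← LinearMap.rTensor_comp_apply, ← AlgHom.comp_toLinearMap, h.2, hL]
        have : K.mkQ a = 0 := (Submodule.Quotient.mk_eq_zero K).mpr
          (hS ▸ Submodule.subset_span (hs' a (Finset.mem_insert_self a s)))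
        simp [ρ, LinearMap.comp_apply, this])
      refine ⟨m', h''.comp h, fun r hr => ?_⟩
      show (h''.1.comp h.1).toLinearMap.rTensor N (L r) = 0
      rw [AlgHom.comp_toLinearMap, LinearMap.rTensor_comp_apply]
      rcases Finset.mem_insert.mp hr with rfl | hr
      · exact hh''
      · rw [hh r hr, map_zero]
  obtain ⟨m, h, hh⟩ := hub2 S fun r hr => hr
  let L' := h.1.toLinearMap.rTensor N ∘ₗ L
  have hKL : K ≤ LinearMap.ker L' := by
    rw [← hS, Submodule.span_le]
    exact fun r hr => hh r hr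
  refine ⟨m, K.liftQ L' hKL ∘ₗ e.toLinearMap, fun x => ?_⟩
  obtain ⟨r, hr⟩ := K.mkQ_surjective (e x)
  have hx : ρ r = x := by simp [ρ, hr]
  show (g m).toLinearMap.rTensor N (K.liftQ L' hKL (e x)) = l x
  rw [← hr, Submodule.mkQ_apply, Submodule.liftQ_apply]
  show (g m).toLinearMap.rTensor N (h.1.toLinearMap.rTensor N (L r)) = l x
  rw [← LinearMap.rTensor_comp_apply, ← AlgHom.comp_toLinearMap, h.2, hL, hx]

end Algebra

section Kill

/-- A section killed on the limit is killed at a stage: general form. -/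
theorem exists_stage_pullSec_eq_zero_aux {J : Type u} [SmallCategory J] [IsCofiltered J]
    {E : J ⥤ Scheme.{u}} [∀ {i j} (f : i ⟶ j), IsAffineHom (E.map f)] {Y X : Scheme.{u}}
    (π : ∀ j, Y ⟶ E.obj j) (hπ : ∀ {j k} (φ : j ⟶ k), π j ≫ E.map φ = π k)
    (hlim : IsLimit (Cone.mk Y ⟨fun j => π j, fun j k φ => (Category.id_comp _).trans (hπ φ).symm⟩ :
      Cone E))
    (p : ∀ j, E.obj j ⟶ X) [∀ j, IsAffineHom (p j)]
    (hp : ∀ {j k} (φ : j ⟶ k), E.map φ ≫ p k = p j) (q : Y ⟶ X) [IsAffineHom q]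
    (hp' : ∀ j, π j ≫ p j = q) (G : X.Modules) [Coh.IsQCoh G]
    {U : X.Opens} (hU : IsAffineOpen U) (x : Γ(G, U)) (hx : pullSec q x = 0) :
    ∃ j, pullSec (p j) x = 0 := by
  let _ : ∀ j, Algebra Γ(X, U) Γ(E.obj j, p j ⁻¹ᵁ U) := fun j =>
    ((p j).appLE U (p j ⁻¹ᵁ U) le_rfl).hom.toAlgebra
  let _ : Algebra Γ(X, U) Γ(Y, q ⁻¹ᵁ U) := (q.appLE U (q ⁻¹ᵁ U) le_rfl).hom.toAlgebra
  have hs := colimSys_preimage hlim p hp q hp' hU
  obtain ⟨j₀⟩ := hs.nonempty
  let _ := Module.compHom Γ((Scheme.Modules.pullback q).obj G, q ⁻¹ᵁ U)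
    (q.appLE U (q ⁻¹ᵁ U) le_rfl).hom
  have : IsScalarTower Γ(X, U) Γ(Y, q ⁻¹ᵁ U) Γ((Scheme.Modules.pullback q).obj G, q ⁻¹ᵁ U) :=
    IsScalarTower.of_algebraMap_smul fun _ _ => rfl
  obtain ⟨μ, hμ, hμm⟩ := pullMap_isBaseChange q hU (hU.preimage q) le_rfl G
  have h1 : (1 : Γ(Y, q ⁻¹ᵁ U)) ⊗ₜ[Γ(X, U)] x = 0 := by
    apply hμ.equiv.injective
    rw [hμ.equiv_tmul, one_smul, hμm, pullMap_eq_resM_pullSec, hx, map_zero, map_zero]
  obtain ⟨j, h, hh⟩ := hs.rTensor_kill Γ(G, U) (i := j₀)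
    ((1 : Γ(E.obj j₀, p j₀ ⁻¹ᵁ U)) ⊗ₜ[Γ(X, U)] x)
    (by rw [LinearMap.rTensor_tmul, AlgHom.toLinearMap_apply, map_one]; exact h1)
  rw [LinearMap.rTensor_tmul, AlgHom.toLinearMap_apply, map_one] at hh
  let _ := Module.compHom Γ((Scheme.Modules.pullback (p j)).obj G, p j ⁻¹ᵁ U)
    ((p j).appLE U (p j ⁻¹ᵁ U) le_rfl).hom
  have : IsScalarTower Γ(X, U) Γ(E.obj j, p j ⁻¹ᵁ U)
      Γ((Scheme.Modules.pullback (p j)).obj G, p j ⁻¹ᵁ U) :=
    IsScalarTower.of_algebraMap_smul fun _ _ => rfl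
  obtain ⟨ν, hν, hνm⟩ := pullMap_isBaseChange (p j) hU (hU.preimage (p j)) le_rfl G
  refine ⟨j, ?_⟩
  have h2 := congrArg hν.equiv hh
  rw [hν.equiv_tmul, one_smul, hνm, pullMap_eq_resM_pullSec, map_zero] at h2
  refine Eq.trans ?_ h2
  exact (resM_refl _ _).symm

variable {I : Type u} [SmallCategory I] [IsCofiltered I] {D : I ⥤ Scheme.{u}} {c : Cone D}
  [∀ {i j : I} (f : i ⟶ j), IsAffineHom (D.map f)] (hc : IsLimit c)

include hc in
/-- A section killed on the limit is killed at a stage. -/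
theorem exists_stage_pullSec_eq_zero {i : I} (G : (D.obj i).Modules) [Coh.IsQCoh G]
    {U : (D.obj i).Opens} (hU : IsAffineOpen U) (x : Γ(G, U))
    (hx : pullSec (c.π.app i) x = 0) :
    ∃ (j : I) (φ : j ⟶ i), pullSec (D.map φ) x = 0 := by
  have : ∀ {j k : Over i} (φ : j ⟶ k), IsAffineHom ((Over.forget i ⋙ D).map φ) := fun φ =>
    inferInstanceAs (IsAffineHom (D.map φ.left))
  have : ∀ j : Over i, IsAffineHom (D.map j.hom) := fun j => inferInstance
  have := isAffineHom_π_app D c hc i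
  obtain ⟨j, hj⟩ := exists_stage_pullSec_eq_zero_aux (E := Over.forget i ⋙ D)
    (Y := c.pt) (fun j => c.π.app j.left) (fun φ => c.w φ.left)
    (((Functor.Initial.isLimitWhiskerEquiv (Over.forget i) c).symm hc).ofIsoLimit
      (Cone.ext (Iso.refl _) (fun j => (Category.id_comp _).symm)))
    (fun j => D.map j.hom) (fun {j k} φ => by
      show D.map φ.left ≫ D.map k.hom = D.map j.hom
      rw [← D.map_comp, Over.w]) (c.π.app i) (fun j => c.w j.hom) G hU x hx
  exact ⟨j.left, j.hom, hj⟩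

end Kill

end Groth.Agent.H8Lim
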