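import Mathlib

/-!
# `Hom` out of finite / finitely presented modules and filtered colimits (EGA IV 8.5.2, algebraic form)
-/

universe u

open CategoryTheory Limits

namespace Groth.Agent.H8Lim.ModuleHom

variable {A : Type u} [CommRing A] {J : Type u} [Preorder J] [IsDirected J (· ≤ ·)] [Nonempty J]
  (N : J ⥤ ModuleCat.{u} A) (M : ModuleCat.{u} A)

lemma post_ι (j : J) (h : (N ⋙ coyoneda.obj (Opposite.op M)).obj j) :
    colimit.post N (coyoneda.obj (Opposite.op M)) (colimit.ι (N ⋙ coyoneda.obj (Opposite.op M)) j h) =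
      ((h : M ⟶ N.obj j) ≫ colimit.ι N j : M ⟶ colimit N) :=
  congr($(colimit.ι_post N (coyoneda.obj (Opposite.op M)) j) h)

lemma post_injective [Module.Finite A M] :
    Function.Injective (colimit.post N (coyoneda.obj (Opposite.op M))) := by
  classical
  intro a b hab
  obtain ⟨i, a, rfl⟩ := Types.jointly_surjective' a
  obtain ⟨i', b, rfl⟩ := Types.jointly_surjective' b
  let a : M ⟶ N.obj i := a
  let b : M ⟶ N.obj i' := b
  rw [post_ι, post_ι] at hab
  obtain ⟨s, hs⟩ := (Module.Finite.fg_top (R := A) (M := M))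
  have h : ∀ x : M, ∃ (k : J) (f : i ⟶ k) (g : i' ⟶ k), N.map f (a x) = N.map g (b x) := fun x ↦
    Concrete.colimit_exists_of_rep_eq (F := N) (a x) (b x) congr($hab x)
  choose k f g hfg using h
  obtain ⟨l, hl⟩ := IsFiltered.sup_objs_exists (insert i (insert i' (s.image k)))
  have hi : i ⟶ l := (hl (by simp)).some
  have hi' : i' ⟶ l := (hl (by simp)).some
  have key : a ≫ N.map hi = b ≫ N.map hi' := by
    refine ModuleCat.hom_ext (LinearMap.ext_on hs fun x hx ↦ ?_)
    have hk : k x ⟶ l := (hl (Finset.mem_insert_of_mem (Finset.mem_insert_of_mem (Finset.mem_image_of_mem k hx)))).some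
    show N.map hi (a x) = N.map hi' (b x)
    rw [Subsingleton.elim hi (f x ≫ hk), Subsingleton.elim hi' (g x ≫ hk), N.map_comp, N.map_comp]
    exact congrArg (N.map hk) (hfg x)
  have hw : ∀ {i : J} (a : M ⟶ N.obj i) {l : J} (hi : i ⟶ l),
      colimit.ι (N ⋙ coyoneda.obj (Opposite.op M)) l (a ≫ N.map hi) =
        colimit.ι (N ⋙ coyoneda.obj (Opposite.op M)) i a := fun a _ hi ↦
    congr($(colimit.w (N ⋙ coyoneda.obj (Opposite.op M)) hi) a)
  exact (hw a hi).symm.trans (key ▸ hw b hi')

lemma post_surjective [Module.FinitePresentation A M] :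
    Function.Surjective (colimit.post N (coyoneda.obj (Opposite.op M))) := by
  classical
  intro φ
  let φ : M ⟶ colimit N := φ
  obtain ⟨n, m, q, r, hq, hrq⟩ := Module.FinitePresentation.exists_fin' (R := A) (M := M)
  choose k y hy using fun t : Fin n ↦ Concrete.colimit_exists_rep N (φ (q (Pi.single t 1)))
  obtain ⟨l, hl⟩ := IsFiltered.sup_objs_exists (Finset.univ.image k)
  have hkl : ∀ t, k t ⟶ l := fun t ↦ (hl (Finset.mem_image_of_mem k (Finset.mem_univ t))).some
  let p : (Fin n → A) →ₗ[A] N.obj l := Fintype.linearCombination A (fun t ↦ N.map (hkl t) (y t))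
  have hp : (colimit.ι N l).hom.comp p = φ.hom.comp q := by
    refine (Pi.basisFun A (Fin n)).ext fun t ↦ ?_
    simp only [Pi.basisFun_apply, LinearMap.comp_apply, p, Fintype.linearCombination_apply_single, one_smul]
    exact (congr($(colimit.w N (hkl t)) (y t))).trans (hy t)
  have h : ∀ z : Fin m, ∃ (k : J) (f g : l ⟶ k), N.map f (p (r (Pi.single z 1))) = N.map g 0 := fun z ↦ by
    refine Concrete.colimit_exists_of_rep_eq (F := N) _ _ ?_
    rw [map_zero]
    refine (congr($hp (r (Pi.single z 1)))).trans ?_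
    simp [hrq.apply_apply_eq_zero]
  choose k' f' g' hfg using h
  obtain ⟨l', hl'⟩ := IsFiltered.sup_objs_exists (insert l (Finset.univ.image k'))
  have hll : l ⟶ l' := (hl' (by simp)).some
  let p' : (Fin n → A) →ₗ[A] N.obj l' := (N.map hll).hom.comp p
  have hp' : LinearMap.ker q ≤ LinearMap.ker p' := by
    rw [hrq.linearMap_ker_eq, LinearMap.range_eq_map, ← (Pi.basisFun A (Fin m)).span_eq,
      Submodule.map_span, Submodule.span_le]
    rintro _ ⟨_, ⟨z, rfl⟩, rfl⟩
    have hk : k' z ⟶ l' :=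
      (hl' (Finset.mem_insert_of_mem (Finset.mem_image_of_mem k' (Finset.mem_univ z)))).some
    show N.map hll (p (r (Pi.basisFun A (Fin m) z))) = 0
    rw [Pi.basisFun_apply, Subsingleton.elim hll (f' z ≫ hk), N.map_comp]
    refine (congrArg (N.map hk) (hfg z)).trans ?_
    rw [map_zero, map_zero]
  let ψ : M →ₗ[A] N.obj l' := (LinearMap.ker q).liftQ p' hp' ∘ₗ (q.quotKerEquivOfSurjective hq).symm.toLinearMap
  refine ⟨colimit.ι (N ⋙ coyoneda.obj (Opposite.op M)) l' (ModuleCat.ofHom ψ), ?_⟩
  rw [post_ι]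
  refine ModuleCat.hom_ext (LinearMap.ext fun x ↦ ?_)
  obtain ⟨v, rfl⟩ := hq x
  have hv : ψ (q v) = p' v := by
    have : (q.quotKerEquivOfSurjective hq).symm (q v) = Submodule.Quotient.mk v := by
      rw [LinearEquiv.symm_apply_eq]; rfl
    simp only [ψ, LinearMap.comp_apply, LinearEquiv.coe_coe, this, Submodule.liftQ_apply]
  show colimit.ι N l' (ψ (q v)) = φ (q v)
  rw [hv]
  exact (congr($(colimit.w N hll) (p v))).trans congr($hp v)

end Groth.Agent.H8Lim.ModuleHom
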