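import Groth.Agent.H8Lim.NagataCurveAlg
import Groth.Agent.CAlgH.NagataFiniteType
import Mathlib

/-!
# Curves detecting closedness of images over a Nagata base

Stacks 0CM7.
-/

set_option autoImplicit false
set_option backward.isDefEq.respectTransparency.types false
set_option linter.style.haveILetI false
set_option maxHeartbeats 800000

universe u

open CategoryTheory AlgebraicGeometry TopologicalSpace

namespace Groth.Agent.H8Lim.NagataCurve

theorem isLocallyNoetherian_of_nagata {S : Scheme.{u}} (hS : ∀ W : S.affineOpens, CAlg.IsNagata Γ(S, W)) :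
    IsLocallyNoetherian S :=
  ⟨fun W => (hS W).1⟩

/-- If the image of a morphism of finite type between schemes locally of finite type over a Nagata scheme is
not closed, a curve shows it. -/
theorem exists_curve_scheme {S X Y : Scheme.{u}} (hS : ∀ W : S.affineOpens, CAlg.IsNagata Γ(S, W)) (φ : X ⟶ Y)
    [LocallyOfFiniteType φ] [QuasiCompact φ] (q : Y ⟶ S) [LocallyOfFiniteType q]
    (h : ¬ IsClosed (Set.range φ)) :
    ∃ (C : Scheme.{u}) (r : C ⟶ S) (_ : IsIntegral C) (_ : LocallyOfFiniteType r) (_ : QuasiCompact r),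
      (∀ x : C, IsIntegrallyClosed (C.presheaf.stalk x)) ∧ ∃ (c : C), IsClosed ({c} : Set C) ∧
        ringKrullDim (C.presheaf.stalk c) = 1 ∧ ∃ (U : C.Opens), (U : Set C) = {c}ᶜ ∧
        ∃ (u : (U : Scheme.{u}) ⟶ X) (g : C ⟶ Y), g ≫ q = r ∧ u ≫ φ = U.ι ≫ g ∧ g c ∉ Set.range φ := by
  classical
  haveI := isLocallyNoetherian_of_nagata hS
  obtain ⟨y, hy, hyn⟩ : ∃ y, y ∈ closure (Set.range φ) ∧ y ∉ Set.range φ := by
    by_contra hh
    push Not at hh
    exact h (closure_subset_iff_isClosed.1 hh)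
  obtain ⟨V, hV, hyV, -⟩ := exists_isAffineOpen_mem_and_subset (x := q y) (U := (⊤ : S.Opens)) trivial
  obtain ⟨W, hW, hyW, hWV⟩ := exists_isAffineOpen_mem_and_subset (x := y) (U := q ⁻¹ᵁ V) hyV
  have hB : CAlg.IsNagata Γ(Y, W) := by
    letI := (q.appLE V W hWV).hom.toAlgebra
    haveI : Algebra.FiniteType Γ(S, V) Γ(Y, W) := q.finiteType_appLE hV hW hWV
    exact CAlgH.isNagata_of_finiteType (hS ⟨V, hV⟩) Γ(Y, W)
  obtain ⟨t, htfin, ht⟩ := (isCompact_iff_finite_and_eq_biUnion_affineOpens (X := X) (U := φ ⁻¹ᵁ W)).1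
    (QuasiCompact.isCompact_preimage (f := φ) _ W.2 hW.isCompact)
  haveI : Finite t := htfin.to_subtype
  have hle : ∀ i : t, i.1.1 ≤ φ ⁻¹ᵁ W := fun i => ht.ge.trans' (le_iSup₂_of_le i.1 i.2 le_rfl)
  let ψ : ∀ i : t, Γ(Y, W) →+* Γ(X, i.1.1) := fun i => (φ.appLE W i.1.1 (hle i)).hom
  have key : ∀ i : t, Spec.map (φ.appLE W i.1.1 (hle i)) ≫ hW.fromSpec = i.1.2.fromSpec ≫ φ := fun i =>
    IsAffineOpen.SpecMap_appLE_fromSpec φ hW i.1.2 (hle i)
  have hmem : ∀ p : Spec Γ(Y, W), hW.fromSpec p ∈ Set.range φ ↔ p ∈ ⋃ i, Set.range (PrimeSpectrum.comap (ψ i)) := by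
    intro p
    constructor
    · rintro ⟨x, hx⟩
      have hxW : x ∈ φ ⁻¹ᵁ W := by
        show φ x ∈ W
        rw [hx]
        exact hW.range_fromSpec.le ⟨p, rfl⟩
      obtain ⟨i, hxi⟩ := Opens.mem_iSup.1 (ht.le hxW)
      obtain ⟨hi, hxi⟩ := Opens.mem_iSup.1 hxi
      obtain ⟨z, hz⟩ := i.2.range_fromSpec.ge hxi
      refine Set.mem_iUnion.2 ⟨⟨i, hi⟩, z, hW.fromSpec.isOpenEmbedding.injective ?_⟩
      rw [← hx, ← hz]
      exact congr(($(key ⟨i, hi⟩)) z)
    · intro hp
      obtain ⟨i, z, rfl⟩ := Set.mem_iUnion.1 hp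
      exact ⟨i.1.2.fromSpec z, congr(($(key i)) z).symm⟩
  have hT : ¬ IsClosed (⋃ i, Set.range (PrimeSpectrum.comap (ψ i))) := fun hc => by
    obtain ⟨p, rfl⟩ := hW.range_fromSpec.ge hyW
    refine hyn ((hmem p).2 ?_)
    rw [← hc.closure_eq]
    have e : hW.fromSpec ⁻¹' Set.range φ = ⋃ i, Set.range (PrimeSpectrum.comap (ψ i)) := Set.ext hmem
    have h1 := hW.fromSpec.isOpenEmbedding.isOpenMap.preimage_closure_eq_closure_preimage
      hW.fromSpec.continuous (Set.range φ)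
    exact (congrArg closure e).le (h1.le hy)
  obtain ⟨R, _, _, γ, c, i, s, η, hnorm, hγ, hcmax, hc1, hcT, hη, hs⟩ :=
    exists_curve hB (fun i : t => Γ(X, i.1.1)) ψ (fun i => φ.finiteType_appLE hW i.1.2 (hle i)) hT
  let g : Spec (.of R) ⟶ Y := Spec.map (CommRingCat.ofHom γ) ≫ hW.fromSpec
  haveI hg : LocallyOfFiniteType (Spec.map (CommRingCat.ofHom γ)) :=
    (HasRingHomProperty.Spec_iff (P := @LocallyOfFiniteType)).2 hγ
  haveI : LocallyOfFiniteType g := inferInstance
  haveI : QuasiCompact (g ≫ q) := quasiCompact_of_compactSpace _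
  haveI : IsDomain (CommRingCat.of R) := ‹IsDomain R›
  refine ⟨Spec (.of R), g ≫ q, inferInstance, inferInstance, inferInstance, fun x => ?_, c, ?_, ?_, ⟨{c}ᶜ, ?_⟩,
    rfl, ?_⟩
  · show IsIntegrallyClosed ((AlgebraicGeometry.Spec.structureSheaf R).presheaf.stalk x)
    exact isIntegrallyClosed_of_isLocalization ((AlgebraicGeometry.Spec.structureSheaf R).presheaf.stalk x)
      (PrimeSpectrum.asIdeal x).primeCompl (PrimeSpectrum.asIdeal x).primeCompl_le_nonZeroDivisors
  · exact (PrimeSpectrum.isClosed_singleton_iff_isMaximal c).2 hcmax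
  · show ringKrullDim ((AlgebraicGeometry.Spec.structureSheaf R).presheaf.stalk c) = 1
    rw [IsLocalization.AtPrime.ringKrullDim_eq_height (PrimeSpectrum.asIdeal c)
      ((AlgebraicGeometry.Spec.structureSheaf R).presheaf.stalk c), hc1]
    rfl
  · exact ((PrimeSpectrum.isClosed_singleton_iff_isMaximal c).2 hcmax).isOpen_compl
  let j : Spec (.of (Localization.Away s)) ⟶ Spec (.of R) :=
    Spec.map (CommRingCat.ofHom (algebraMap R (Localization.Away s)))
  haveI : IsOpenImmersion j := IsOpenImmersion.of_isLocalization (R := CommRingCat.of R) s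
  let U : (Spec (.of R)).Opens :=
    ⟨{c}ᶜ, ((PrimeSpectrum.isClosed_singleton_iff_isMaximal c).2 hcmax).isOpen_compl⟩
  let l : (U : Scheme.{u}) ⟶ Spec (.of (Localization.Away s)) := IsOpenImmersion.lift j U.ι (by
    rw [Scheme.Opens.range_ι]
    intro r hr
    exact (PrimeSpectrum.localization_away_comap_range (Localization.Away s) s).ge (hs r hr))
  refine ⟨l ≫ Spec.map (CommRingCat.ofHom η) ≫ i.1.2.fromSpec, g, rfl, ?_, fun hgc => hcT ?_⟩
  · show _ = U.ι ≫ g
    have hl : l ≫ j = U.ι := IsOpenImmersion.lift_fac _ _ _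
    rw [← hl]
    simp only [Category.assoc, g, j, ← key i]
    rw [← Spec.map_comp_assoc, ← Spec.map_comp_assoc]
    congr 3
    exact CommRingCat.hom_ext hη
  · exact (hmem _).1 hgc

end Groth.Agent.H8Lim.NagataCurve
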