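import Groth.Prelude.Def_Found
import Mathlib

/-!
# Curves through a point in the closure of a constructible set, over a Nagata ring

The algebraic core of Stacks 0CM7: if the union `T` of the images of finitely many algebras of finite
type over a Nagata ring `B` is not closed, there are a normal domain of finite type over `B`, a closed
point of height one lying over a point outside `T`, and a lift of the punctured spectrum.
-/

set_option autoImplicit false
set_option backward.isDefEq.respectTransparency.types false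
set_option linter.style.haveILetI false
set_option maxHeartbeats 800000

universe u v

open PrimeSpectrum TensorProduct

namespace Groth.Agent.H8Lim.NagataCurve

variable {R : Type u} [CommRing R] [IsNoetherianRing R]

/-- A prime maximal among those of a given set. -/
theorem exists_maximal_prime (P : Set (PrimeSpectrum R)) (h : P.Nonempty) :
    ∃ p ∈ P, ∀ r ∈ P, p.asIdeal ≤ r.asIdeal → r = p := by
  obtain ⟨_, ⟨p, hp, rfl⟩, hmax⟩ := (set_has_maximal_iff_noetherian.2 (inferInstance : IsNoetherian R R))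
    (PrimeSpectrum.asIdeal '' P) (h.image _)
  refine ⟨p, hp, fun r hr hpr => ?_⟩
  by_contra hne
  exact hmax r.asIdeal ⟨r, hr, rfl⟩ (lt_of_le_of_ne hpr fun e => hne (PrimeSpectrum.ext e.symm))

/-- A point of the closure of a basic constructible set is a specialisation of one of its points. -/
theorem exists_le_of_mem_closure (C : BasicConstructibleSetData R) {y : PrimeSpectrum R}
    (hy : y ∈ closure C.toSet) : ∃ t ∈ C.toSet, t.asIdeal ≤ y.asIdeal := by
  let M : Set (Ideal R) := {m ∈ (Ideal.span (Set.range C.g)).minimalPrimes | C.f ∉ m}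
  have hM : M.Finite :=
    ((Ideal.span (Set.range C.g)).finite_minimalPrimes_of_isNoetherianRing R).subset fun m hm => hm.1
  have hsub : C.toSet ⊆ ⋃ m ∈ M, zeroLocus (m : Set R) := by
    rintro p ⟨hp1, hp2⟩
    obtain ⟨m, hm, hmp⟩ := Ideal.exists_minimalPrimes_le
      (show Ideal.span (Set.range C.g) ≤ p.asIdeal from Ideal.span_le.2 hp1)
    exact Set.mem_biUnion ⟨hm, fun hf => hp2 (Set.singleton_subset_iff.2 (hmp hf))⟩ hmp
  obtain ⟨m, ⟨hm, hmf⟩, hmy⟩ := Set.mem_iUnion₂.1
    (closure_minimal hsub (hM.isClosed_biUnion fun m _ => isClosed_zeroLocus _) hy)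
  exact ⟨⟨m, hm.1.1⟩, ⟨Ideal.span_le.1 hm.1.2, fun h => hmf (Set.singleton_subset_iff.1 h)⟩, hmy⟩

/-- If all nonzero primes inside `p` contain the nonzero `f`, none lies strictly between `0` and `p`. -/
theorem eq_bot_of_lt [IsDomain R] {p : Ideal R} [p.IsPrime] {f : R} (hf : f ≠ 0)
    (H : ∀ r : Ideal R, r.IsPrime → r ≤ p → r ≠ ⊥ → f ∈ r) (r : Ideal R) [r.IsPrime] (hr : r < p) :
    r = ⊥ := by
  classical
  have hfin := (Ideal.span {f}).finite_minimalPrimes_of_isNoetherianRing R
  let M := hfin.toFinset.filter fun m => m ≤ p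
  have hne : ∀ {m : Ideal R} {a : R}, a ≠ 0 → m ∈ (Ideal.span {a}).minimalPrimes → m ≠ ⊥ := by
    intro m a ha hm e
    exact ha ((Submodule.mem_bot R).1 (e ▸ hm.1.2 (Ideal.mem_span_singleton_self a)))
  have key : ∀ x ∈ p, x ≠ 0 → ∃ m ∈ M, x ∈ m := by
    intro x hx hx0
    obtain ⟨m, hm, hmp⟩ := Ideal.exists_minimalPrimes_le
      (show Ideal.span {x} ≤ p from (Ideal.span_singleton_le_iff_mem _).2 hx)
    haveI := hm.1.1
    obtain ⟨m', hm', hm'm⟩ := Ideal.exists_minimalPrimes_le
      (show Ideal.span {f} ≤ m from (Ideal.span_singleton_le_iff_mem _).2 (H m hm.1.1 hmp (hne hx0 hm)))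
    haveI := hm'.1.1
    refine ⟨m', Finset.mem_filter.2 ⟨hfin.mem_toFinset.2 hm', hm'm.trans hmp⟩, ?_⟩
    by_contra hxm
    have hlt : m' < m := lt_of_le_of_ne hm'm fun e => hxm (e ▸ hm.1.2 (Ideal.mem_span_singleton_self x))
    have h1 := Ideal.height_le_one_of_isPrincipal_of_mem_minimalPrimes (Ideal.span {x}) m hm
    have h2 := Ideal.height_add_one_le_of_lt_of_isPrime hlt
    have h3 : m'.height ≠ 0 := fun e => hne hf hm' (Ideal.height_eq_zero_iff_eq_bot.1 e)
    have h4 : m'.height + 1 ≤ 1 := h2.trans h1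
    exact h3 (by
      revert h4
      cases m'.height with
      | top => simp
      | coe n => intro h4; norm_cast at h4; simp; omega)
  have hpne : p ≠ ⊥ := fun e => not_lt_bot (e ▸ hr)
  obtain ⟨x₀, hx₀, hx₀0⟩ := p.ne_bot_iff.1 hpne
  obtain ⟨m₀, hm₀, -⟩ := key x₀ hx₀ hx₀0
  obtain ⟨m, hm, hpm⟩ := (Ideal.subset_union_prime (f := fun m => m) (s := M) m₀ m₀
    (fun m hm _ _ => (hfin.mem_toFinset.1 (Finset.mem_filter.1 hm).1).1.1)).1
    (show (p : Set R) ⊆ ⋃ m ∈ (M : Set (Ideal R)), (m : Set R) from fun x hx => by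
      rcases eq_or_ne x 0 with rfl | h
      · exact Set.mem_biUnion hm₀ (zero_mem m₀)
      · obtain ⟨m, hm, hxm⟩ := key x hx h
        exact Set.mem_biUnion hm hxm)
  obtain ⟨hm1, hm2⟩ := Finset.mem_filter.1 hm
  obtain rfl : m = p := le_antisymm hm2 hpm
  have h1 := Ideal.height_le_one_of_isPrincipal_of_mem_minimalPrimes (Ideal.span {f}) m (hfin.mem_toFinset.1 hm1)
  have h2 := (Ideal.height_add_one_le_of_lt_of_isPrime hr).trans h1
  refine Ideal.height_eq_zero_iff_eq_bot.1 ?_
  revert h2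
  cases r.height with
  | top => simp
  | coe n => intro h4; norm_cast at h4; simp; omega

theorem exists_finite_point_aux {R₀ : Type u} [CommRing R₀] [IsDomain R₀] {B A : Type u} [CommRing B]
    [CommRing A] (π : B →+* R₀) (ψ : B →+* A) (hψ : ψ.FiniteType) {F : Type u} [Field F] (a : A →+* F)
    (φ₀ : R₀ →+* F) (hinj : Function.Injective φ₀) (hφ₀ : φ₀.comp π = a.comp ψ) :
    ∃ (L : Type u) (_ : Field L) (_ : Algebra (FractionRing R₀) L) (ξ : A →+* L),
      FiniteDimensional (FractionRing R₀) L ∧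
        ξ.comp ψ = ((algebraMap (FractionRing R₀) L).comp (algebraMap R₀ (FractionRing R₀))).comp π := by
  let K := FractionRing R₀
  algebraize [ψ]
  letI : Algebra B K := ((algebraMap R₀ K).comp π).toAlgebra
  haveI : Algebra.FiniteType B A := hψ
  let φK : K →+* F := IsFractionRing.lift hinj
  letI : Algebra B F := (a.comp ψ).toAlgebra
  letI : Algebra K F := φK.toAlgebra
  haveI : IsScalarTower B K F := IsScalarTower.of_algebraMap_eq fun b => by
    show a (ψ b) = φK (algebraMap R₀ K (π b))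
    rw [IsFractionRing.lift_algebraMap, ← RingHom.comp_apply φ₀, hφ₀]
    rfl
  let aA : A →ₐ[B] F := { a with commutes' := fun b => rfl }
  haveI : Nontrivial (K ⊗[B] A) :=
    RingHom.domain_nontrivial (Algebra.TensorProduct.lift (Algebra.ofId K F) aA fun x y => mul_comm _ _).toRingHom
  obtain ⟨M, hM⟩ := Ideal.exists_maximal (K ⊗[B] A)
  letI : Field ((K ⊗[B] A) ⧸ M) := Ideal.Quotient.field M
  haveI : Algebra.FiniteType K ((K ⊗[B] A) ⧸ M) :=
    Algebra.FiniteType.of_surjective (Ideal.Quotient.mkₐ K M) (Ideal.Quotient.mkₐ_surjective K M)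
  refine ⟨_, inferInstance, inferInstance,
    (Ideal.Quotient.mk M).comp (Algebra.TensorProduct.includeRight (R := B) (A := K) (B := A)).toRingHom,
    finite_of_finite_type_of_isJacobsonRing K _, ?_⟩
  refine RingHom.ext fun b => ?_
  show Ideal.Quotient.mk M ((1 : K) ⊗ₜ[B] (algebraMap B A b)) =
    Ideal.Quotient.mk M (algebraMap B K b ⊗ₜ[B] (1 : A))
  refine congrArg (Ideal.Quotient.mk M) ?_
  rw [Algebra.algebraMap_eq_smul_one, Algebra.algebraMap_eq_smul_one, TensorProduct.smul_tmul]

/-- A field, finite over the fraction field, receiving an algebra through a point of its generic fibre. -/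
theorem exists_finite_point {R₀ : Type u} [CommRing R₀] [IsDomain R₀] {B A : Type u} [CommRing B]
    [CommRing A] (π : B →+* R₀) (ψ : B →+* A) (hψ : ψ.FiniteType)
    (Q : Ideal A) [Q.IsPrime] (hQ : Q.comap ψ = RingHom.ker π) (hπ : Function.Surjective π) :
    ∃ (L : Type u) (_ : Field L) (_ : Algebra (FractionRing R₀) L) (ξ : A →+* L),
      FiniteDimensional (FractionRing R₀) L ∧
        ξ.comp ψ = ((algebraMap (FractionRing R₀) L).comp (algebraMap R₀ (FractionRing R₀))).comp π := by
  let F := FractionRing (A ⧸ Q)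
  let a : A →+* F := (algebraMap (A ⧸ Q) F).comp (Ideal.Quotient.mk Q)
  have hker : RingHom.ker π ≤ RingHom.ker (a.comp ψ) := by
    intro b hb
    rw [← hQ, Ideal.mem_comap] at hb
    show algebraMap (A ⧸ Q) F (Ideal.Quotient.mk Q (ψ b)) = 0
    rw [Ideal.Quotient.eq_zero_iff_mem.2 hb, map_zero]
  let φ₀ : R₀ →+* F := π.liftOfSurjective hπ ⟨a.comp ψ, hker⟩
  have hφ₀ : φ₀.comp π = a.comp ψ := π.liftOfRightInverse_comp _ _ _
  have hinj : Function.Injective φ₀ := (injective_iff_map_eq_zero φ₀).2 fun r hr => by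
    obtain ⟨b, rfl⟩ := hπ r
    have h0 : a (ψ b) = 0 := by
      rw [← RingHom.comp_apply a, ← hφ₀]; exact hr
    have : b ∈ RingHom.ker π := by
      rw [← hQ]
      exact Ideal.mem_comap.2 (Ideal.Quotient.eq_zero_iff_mem.1
        ((IsFractionRing.injective (A ⧸ Q) F) (h0.trans (map_zero _).symm)))
    exact this
  clear_value a
  clear_value φ₀
  exact exists_finite_point_aux π ψ hψ a φ₀ hinj hφ₀

/-- The curve. -/
theorem exists_curve {B : Type u} [CommRing B] (hB : CAlg.IsNagata B) {ι : Type v} [Finite ι]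
    (A : ι → Type u) [∀ i, CommRing (A i)] (ψ : ∀ i, B →+* A i) (hψ : ∀ i, (ψ i).FiniteType)
    (hT : ¬ IsClosed (⋃ i, Set.range (PrimeSpectrum.comap (ψ i)))) :
    ∃ (R : Type u) (_ : CommRing R) (_ : IsDomain R) (γ : B →+* R) (c : PrimeSpectrum R) (i : ι) (s : R)
      (η : A i →+* Localization.Away s),
      IsIntegrallyClosed R ∧ γ.FiniteType ∧ c.asIdeal.IsMaximal ∧ c.asIdeal.height = 1 ∧
        PrimeSpectrum.comap γ c ∉ ⋃ i, Set.range (PrimeSpectrum.comap (ψ i)) ∧
        η.comp (ψ i) = (algebraMap R (Localization.Away s)).comp γ ∧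
        ∀ r : PrimeSpectrum R, r ≠ c → s ∉ r.asIdeal := by
  classical
  haveI := hB.1
  set T := ⋃ i, Set.range (PrimeSpectrum.comap (ψ i)) with hTdef
  have hTc : Topology.IsConstructible T := Topology.IsConstructible.iUnion fun i =>
    isConstructible_range_comap (RingHom.FinitePresentation.of_finiteType.1 (hψ i))
  obtain ⟨data, hdata⟩ := exists_constructibleSetData_iff.2 hTc
  obtain ⟨data', hdata'⟩ := exists_constructibleSetData_iff.2 hTc.compl
  obtain ⟨y₀, hy₀, hy₀T⟩ : ∃ y, y ∈ closure T ∧ y ∉ T := by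
    by_contra h
    push Not at h
    exact hT (closure_subset_iff_isClosed.1 h)
  obtain ⟨I, hI⟩ := (isClosed_iff_zeroLocus_ideal _).1 (isClosed_closure (s := T))
  obtain ⟨C', hC', hy₀C⟩ := Set.mem_iUnion₂.1 (hdata'.ge hy₀T : y₀ ∈ data'.toSet)
  -- a point of the complement closed in a basic open
  obtain ⟨y, ⟨hyI, hyg, hyf⟩, hymax⟩ := exists_maximal_prime
    {y | y ∈ zeroLocus (I : Set B) ∧ y ∈ zeroLocus (Set.range C'.g) ∧ C'.f ∉ y.asIdeal}
    ⟨y₀, hI.subset hy₀, hy₀C.1, fun h => hy₀C.2 (Set.singleton_subset_iff.2 h)⟩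
  have hyT : y ∉ T := hdata'.subset
    (Set.mem_biUnion hC' ⟨hyg, fun h => hyf (Set.singleton_subset_iff.1 h)⟩)
  -- the generization inside `T`
  have hycl : y ∈ closure data.toSet := by rw [hdata]; exact hI.ge hyI
  simp only [ConstructibleSetData.toSet] at hycl
  rw [Finset.closure_biUnion] at hycl
  obtain ⟨C₀, hC₀, hyC₀⟩ := Set.mem_iUnion₂.1 hycl
  obtain ⟨t₀, ht₀, ht₀y⟩ := exists_le_of_mem_closure C₀ hyC₀
  obtain ⟨t, ⟨htT, hty⟩, htmax⟩ := exists_maximal_prime {t | t ∈ T ∧ t.asIdeal ≤ y.asIdeal}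
    ⟨t₀, hdata.subset (Set.mem_biUnion hC₀ ht₀), ht₀y⟩
  obtain ⟨C, hC, htg, htf⟩ := Set.mem_iUnion₂.1 (hdata.ge htT : t ∈ data.toSet)
  obtain ⟨i, Q, hQ⟩ := Set.mem_iUnion.1 htT
  -- the domain `R₀`
  let R₀ := B ⧸ t.asIdeal
  let π : B →+* R₀ := Ideal.Quotient.mk t.asIdeal
  have hπ : Function.Surjective π := Ideal.Quotient.mk_surjective
  have hkπ : RingHom.ker π = t.asIdeal := Ideal.mk_ker
  have hQ' : Q.asIdeal.comap (ψ i) = RingHom.ker π :=
    (congrArg PrimeSpectrum.asIdeal hQ).trans hkπ.symm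
  let p₀ : Ideal R₀ := y.asIdeal.map π
  have hp₀c : p₀.comap π = y.asIdeal := by
    rw [Ideal.comap_map_of_surjective π hπ, ← RingHom.ker_eq_comap_bot, hkπ, sup_eq_left]
    exact hty
  haveI hp₀ : p₀.IsPrime := Ideal.map_isPrime_of_surjective hπ (hkπ.le.trans hty)
  have hcomap : ∀ r : Ideal R₀, t.asIdeal ≤ r.comap π := fun r => hkπ.ge.trans (Ideal.ker_le_comap π)
  have hf₁ : π C.f ≠ 0 := fun h => htf (Set.singleton_subset_iff.2 (Ideal.Quotient.eq_zero_iff_mem.1 h))
  have hbetween : ∀ (r : Ideal R₀) [r.IsPrime], r < p₀ → r = ⊥ := by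
    intro r _ hr
    refine eq_bot_of_lt hf₁ (fun r hr hrp hr0 => ?_) r hr
    by_contra hfr
    have hrT : (⟨r.comap π, hr.comap π⟩ : PrimeSpectrum B) ∈ T := by
      exact hdata.subset (Set.mem_biUnion hC
        ⟨fun x hx => hcomap r (htg hx), fun h => hfr (Ideal.mem_comap.1 (h (Set.mem_singleton C.f)))⟩)
    have := htmax _ ⟨hrT, (Ideal.comap_mono hrp).trans hp₀c.le⟩ (hcomap r)
    refine hr0 ?_
    rw [← Ideal.map_comap_of_surjective π hπ r, show r.comap π = t.asIdeal from congrArg PrimeSpectrum.asIdeal this]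
    exact Ideal.map_quotient_self _
  let h₀ : R₀ := π C'.f
  have hh₀ : h₀ ∉ p₀ := fun h => hyf (hp₀c.le h)
  have hmax₀ : ∀ r : Ideal R₀, r.IsPrime → p₀ ≤ r → h₀ ∉ r → r = p₀ := by
    intro r hr hpr hhr
    have := hymax ⟨r.comap π, hr.comap π⟩
      ⟨fun x hx => Ideal.comap_mono hpr (hp₀c.ge (hyI hx)),
        fun x hx => Ideal.comap_mono hpr (hp₀c.ge (hyg hx)), hhr⟩ (hp₀c.ge.trans (Ideal.comap_mono hpr))
    rw [← Ideal.map_comap_of_surjective π hπ r]
    exact congrArg (Ideal.map π) (congrArg PrimeSpectrum.asIdeal this)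
  -- the field and the normalisation
  obtain ⟨L, _, _, ξ, hfin, hξ⟩ := exists_finite_point π (ψ i) (hψ i) Q.asIdeal hQ' hπ
  letI : Algebra R₀ L := ((algebraMap (FractionRing R₀) L).comp (algebraMap R₀ (FractionRing R₀))).toAlgebra
  haveI : IsScalarTower R₀ (FractionRing R₀) L := IsScalarTower.of_algebraMap_eq fun _ => rfl
  let R' := integralClosure R₀ L
  haveI : Module.Finite R₀ R' := hB.2 t.asIdeal L hfin
  haveI : IsFractionRing R' L := IsIntegralClosure.isFractionRing_of_finite_extension R₀ (FractionRing R₀) L R'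
  haveI : IsIntegrallyClosed R' := integralClosure.isIntegrallyClosedOfFiniteExtension (FractionRing R₀)
  haveI : IsNoetherianRing R' := IsNoetherianRing.of_finite R₀ R'
  haveI : Algebra.IsIntegral R₀ R' := Algebra.IsIntegral.of_finite R₀ R'
  have hinj' : Function.Injective (algebraMap R₀ R') := fun a b h => IsFractionRing.injective R₀ (FractionRing R₀)
    ((algebraMap (FractionRing R₀) L).injective (congrArg (algebraMap R' L) h))
  obtain ⟨q, hqp, hq⟩ := Ideal.exists_ideal_over_prime_of_isIntegral p₀ (⊥ : Ideal R') (by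
    rw [Ideal.comap_bot_of_injective _ hinj']; exact bot_le) |>.imp fun q h => (⟨h.2.2, h.2.1⟩ : _ ∧ _)
  haveI := hq
  have hq0 : q ≠ ⊥ := fun e => by
    rw [e, Ideal.comap_bot_of_injective _ hinj'] at hqp
    refine hyT ?_
    rw [show y = t from PrimeSpectrum.ext (by rw [← hp₀c, ← hqp, ← RingHom.ker_eq_comap_bot, hkπ])]
    exact htT
  have hqbetween : ∀ (r : Ideal R') [r.IsPrime], r < q → r = ⊥ := by
    intro r _ hr
    refine Ideal.eq_bot_of_comap_eq_bot (R := R₀) (hbetween _ ?_)
    rw [← hqp]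
    exact Ideal.IsIntegral.comap_lt_comap hr
  have hqmax : ∀ r : Ideal R', r.IsPrime → q ≤ r → algebraMap R₀ R' h₀ ∉ r → r = q := by
    intro r hr hqr hhr
    by_contra hne
    have hlt : q < r := lt_of_le_of_ne hqr (Ne.symm hne)
    have := hmax₀ (r.comap (algebraMap R₀ R')) (hr.comap _) (hqp.ge.trans (Ideal.comap_mono hqr)) hhr
    exact (Ideal.IsIntegral.comap_lt_comap hlt).ne (hqp.trans this.symm)
  -- denominators of the lift
  obtain ⟨G, hG⟩ := (hψ i : @Algebra.FiniteType B (A i) _ _ (ψ i).toAlgebra).out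
  obtain ⟨⟨s, hs⟩, hsG⟩ := IsLocalization.exist_integer_multiples_of_finset (nonZeroDivisors R') (G.image ξ)
  have hs0 : s ≠ 0 := nonZeroDivisors.ne_zero hs
  have hM := (Ideal.span {s}).finite_minimalPrimes_of_isNoetherianRing R'
  have he : ∀ m ∈ (Ideal.span {s}).minimalPrimes, m ≠ q → ∃ x ∈ m, x ∉ q := fun m hm hmq => by
    haveI := hm.1.1
    refine SetLike.not_le_iff_exists.1 fun hle => ?_
    exact hs0 ((Submodule.mem_bot R').1 (hqbetween m (lt_of_le_of_ne hle hmq) ▸
      hm.1.2 (Ideal.mem_span_singleton_self s)))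
  choose! e he1 he2 using he
  let E : R' := ∏ m ∈ hM.toFinset.filter (fun m => m ≠ q), e m
  let f : R' := algebraMap R₀ R' h₀ * E
  have hfq : f ∉ q := fun h => by
    rcases hq.mem_or_mem h with h | h
    · exact hh₀ (hqp.le h)
    · obtain ⟨m, hm, hem⟩ := hq.prod_mem_iff.1 h
      obtain ⟨h1, h2⟩ := Finset.mem_filter.1 hm
      exact he2 m (hM.mem_toFinset.1 h1) h2 hem
  have hf0 : f ≠ 0 := fun e => hfq (e ▸ zero_mem q)
  let R'' := Localization.Away f
  have hle : Submonoid.powers f ≤ nonZeroDivisors R' := powers_le_nonZeroDivisors_of_noZeroDivisors hf0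
  haveI : IsDomain R'' := IsLocalization.isDomain_localization hle
  have hdisj : Disjoint (Submonoid.powers f : Set R') (q : Set R') := Set.disjoint_left.2 fun x hx hxq => by
    obtain ⟨n, rfl⟩ := hx
    exact hfq (hq.mem_of_pow_mem n hxq)
  let c : PrimeSpectrum R'' := ⟨q.map (algebraMap R' R''),
    IsLocalization.isPrime_of_isPrime_disjoint (Submonoid.powers f) R'' q hq hdisj⟩
  have hc : c.asIdeal.comap (algebraMap R' R'') = q :=
    IsLocalization.comap_map_of_isPrime_disjoint (Submonoid.powers f) R'' hq hdisj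
  have hprime : ∀ r : PrimeSpectrum R'', f ∉ r.asIdeal.comap (algebraMap R' R'') := fun r h =>
    r.isPrime.ne_top (Ideal.eq_top_of_isUnit_mem _ h (IsLocalization.Away.algebraMap_isUnit f))
  have hext : ∀ r : PrimeSpectrum R'', r.asIdeal.comap (algebraMap R' R'') = q → r = c := fun r hr =>
    PrimeSpectrum.ext ((IsLocalization.map_comap (Submonoid.powers f) R'' r.asIdeal).symm.trans (congrArg (Ideal.map (algebraMap R' R'')) hr))
  have hh : ∀ r : PrimeSpectrum R'', algebraMap R₀ R' h₀ ∉ r.asIdeal.comap (algebraMap R' R'') :=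
    fun r h => hprime r (Ideal.mul_mem_right _ _ h)
  refine ⟨R'', inferInstance, inferInstance, ((algebraMap R' R'').comp (algebraMap R₀ R')).comp π, c, i,
    algebraMap R' R'' s, ?_⟩
  let P := Localization.Away (algebraMap R' R'' s)
  have hsL : IsUnit (algebraMap R' L s) :=
    isUnit_iff_ne_zero.2 fun h => hs0 (IsFractionRing.injective R' L (h.trans (map_zero _).symm))
  have hfL : IsUnit (algebraMap R' L f) :=
    isUnit_iff_ne_zero.2 fun h => hf0 (IsFractionRing.injective R' L (h.trans (map_zero _).symm))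
  let μ₁ : R'' →+* L := IsLocalization.Away.lift f hfL
  have hμ₁ : Function.Injective μ₁ := (injective_iff_map_eq_zero μ₁).2 fun x hx => by
    obtain ⟨⟨a, ⟨b, hb⟩⟩, rfl⟩ := IsLocalization.mk'_surjective (Submonoid.powers f) x
    rw [show μ₁ = IsLocalization.lift _ from rfl, IsLocalization.lift_mk'_spec, mul_zero] at hx
    rw [show a = 0 from IsFractionRing.injective R' L (hx.trans (map_zero _).symm)]
    exact IsLocalization.mk'_zero _
  have hμ₁s : IsUnit (μ₁ (algebraMap R' R'' s)) := by rwa [IsLocalization.Away.lift_eq]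
  let μ : P →+* L := IsLocalization.Away.lift (algebraMap R' R'' s) hμ₁s
  have hμ : Function.Injective μ := (injective_iff_map_eq_zero μ).2 fun x hx => by
    obtain ⟨⟨a, ⟨b, hb⟩⟩, rfl⟩ := IsLocalization.mk'_surjective (Submonoid.powers (algebraMap R' R'' s)) x
    rw [show μ = IsLocalization.lift _ from rfl, IsLocalization.lift_mk'_spec, mul_zero] at hx
    rw [show a = 0 from hμ₁ (hx.trans (map_zero _).symm)]
    exact IsLocalization.mk'_zero _
  have hμR' : ∀ x : R', μ (algebraMap R'' P (algebraMap R' R'' x)) = algebraMap R' L x := fun x => by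
    rw [IsLocalization.Away.lift_eq, IsLocalization.Away.lift_eq]
  let γ : B →+* R'' := ((algebraMap R' R'').comp (algebraMap R₀ R')).comp π
  have hμγ : ∀ b, μ (algebraMap R'' P (γ b)) = ξ (ψ i b) := fun b => by
    refine (hμR' _).trans ?_
    exact (RingHom.congr_fun hξ b).symm
  have hrange : ∀ a, ξ a ∈ μ.range := by
    letI := (ψ i).toAlgebra
    intro a
    have ha : a ∈ Algebra.adjoin B (G : Set (A i)) := hG ▸ trivial
    induction ha using Algebra.adjoin_induction with
    | mem x hx =>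
      obtain ⟨n, hn⟩ := hsG (ξ x) (Finset.mem_image_of_mem ξ hx)
      obtain ⟨w, hw⟩ := (IsLocalization.Away.algebraMap_isUnit (S := P) (algebraMap R' R'' s)).exists_left_inv
      refine ⟨w * algebraMap R'' P (algebraMap R' R'' n), ?_⟩
      have h1 := congrArg μ hw
      rw [map_mul, map_one, hμR'] at h1
      rw [map_mul, hμR', hn]
      show μ w * (s • ξ x) = ξ x
      rw [Algebra.smul_def, ← mul_assoc, h1, one_mul]
    | algebraMap b => exact ⟨_, hμγ b⟩
    | add x y _ _ hx hy => rw [map_add]; exact add_mem hx hy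
    | mul x y _ _ hx hy => rw [map_mul]; exact mul_mem hx hy
  choose η₀ hη₀ using hrange
  refine ⟨{ toFun := η₀
            map_one' := hμ (by rw [hη₀, map_one, map_one])
            map_mul' := fun a b => hμ (by rw [hη₀, map_mul, map_mul, hη₀, hη₀])
            map_zero' := hμ (by rw [hη₀, map_zero, map_zero])
            map_add' := fun a b => hμ (by rw [hη₀, map_add, map_add, hη₀, hη₀]) },
    isIntegrallyClosed_of_isLocalization R'' (Submonoid.powers f) hle, ?_, ?_, ?_, ?_, ?_, ?_⟩
  · exact (RingHom.FiniteType.comp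
      (RingHom.FiniteType.comp (RingHom.finiteType_algebraMap.2 inferInstance)
        (RingHom.finiteType_algebraMap.2 inferInstance))
      (RingHom.FiniteType.of_surjective π hπ))
  · obtain ⟨M, hM', hcM⟩ := Ideal.exists_le_maximal c.asIdeal c.isPrime.ne_top
    have e := hext ⟨M, hM'.isPrime⟩ (hqmax _ (hM'.isPrime.comap _) (hc.ge.trans (Ideal.comap_mono hcM)) (hh _))
    exact (congrArg PrimeSpectrum.asIdeal e) ▸ hM'
  · haveI := c.isPrime
    refine le_antisymm (Ideal.height_le_iff.2 fun r hr hlt => ?_) (Order.one_le_iff_ne_zero.2 fun h => ?_)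
    · have hrq : r.comap (algebraMap R' R'') < q := hc ▸ lt_of_le_of_ne (Ideal.comap_mono hlt.le) fun e =>
        hlt.ne (congrArg PrimeSpectrum.asIdeal (hext ⟨r, hr⟩ (e.trans hc)))
      have hr0 : r = ⊥ := by
        exact (IsLocalization.map_comap (Submonoid.powers f) R'' r).symm.trans
          ((congrArg (Ideal.map (algebraMap R' R'')) (hqbetween _ hrq)).trans Ideal.map_bot)
      rw [hr0, Ideal.height_bot]
      exact zero_lt_one
    · refine hq0 ?_
      rw [← hc, Ideal.height_eq_zero_iff_eq_bot.1 h,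
        Ideal.comap_bot_of_injective _ (IsLocalization.injective R'' hle)]
  · convert hyT using 2
    refine PrimeSpectrum.ext ?_
    show c.asIdeal.comap γ = _
    rw [← hp₀c, ← hqp, ← hc, Ideal.comap_comap, Ideal.comap_comap]
    rfl
  · exact RingHom.ext fun b => hμ ((hη₀ _).trans (hμγ b).symm)
  · intro r hrc hsr
    haveI := r.isPrime
    obtain ⟨m, hm, hmr⟩ := Ideal.exists_minimalPrimes_le
      (show Ideal.span {s} ≤ r.asIdeal.comap (algebraMap R' R'') from (Ideal.span_singleton_le_iff_mem _).2 hsr)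
    rcases eq_or_ne m q with rfl | hmq
    · exact hrc (hext r (hqmax _ (r.isPrime.comap _) hmr (hh r)))
    · refine hprime r (Ideal.mul_mem_left _ _ ?_)
      exact Ideal.mem_of_dvd _ (Finset.dvd_prod_of_mem _ (Finset.mem_filter.2 ⟨hM.mem_toFinset.2 hm, hmq⟩))
        (hmr (he1 m hm hmq))

end Groth.Agent.H8Lim.NagataCurve
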