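import Groth.Agent.H8Lim.NagataCurve
import Groth.Agent.UCLib.AffineSpace
import Mathlib

/-!
# Valuative criteria tested on curves over a Nagata base
-/

set_option autoImplicit false
set_option backward.isDefEq.respectTransparency.types false
set_option linter.style.haveILetI false
set_option maxHeartbeats 800000

universe u

open CategoryTheory CategoryTheory.Limits AlgebraicGeometry TopologicalSpace IsLocalRing

namespace Groth.Agent.H8Lim.NagataCurve

variable {S X Y C : Scheme.{u}}

/-- The local ring of a curve at the given point is a valuation ring. -/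
theorem valuationRing_stalk [IsLocallyNoetherian C] [IsIntegral C] (c : C)
    [IsIntegrallyClosed (C.presheaf.stalk c)] (hdim : ringKrullDim (C.presheaf.stalk c) = 1) :
    ValuationRing (C.presheaf.stalk c) := by
  classical
  haveI : IsDomain (C.presheaf.stalk c) := inferInstance
  haveI : Ring.KrullDimLE 1 (C.presheaf.stalk c) := (Order.krullDimLE_iff _ _).2 hdim.le
  have h := (tfae_of_isNoetherianRing_of_isLocalRing_of_isDomain (C.presheaf.stalk c)).out 1 3
    (b := IsIntegrallyClosed (C.presheaf.stalk c) ∧ ∀ P : Ideal (C.presheaf.stalk c), P ≠ ⊥ → P.IsPrime →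
      P = maximalIdeal (C.presheaf.stalk c)) (a := ValuationRing (C.presheaf.stalk c))
  refine h.2 ⟨inferInstance, fun P hP hP' => eq_maximalIdeal ?_⟩
  refine ((Ring.krullDimLE_one_iff.1 inferInstance P hP').resolve_left fun h => hP ?_)
  rwa [IsDomain.minimalPrimes_eq_singleton_bot, Set.mem_singleton_iff] at h

/-- The generic point of the local ring lands in the punctured curve. -/
theorem exists_generic [IsIntegral C] (c : C) (hdim : ringKrullDim (C.presheaf.stalk c) = 1) (U : C.Opens)
    (hU : (U : Set C) = {c}ᶜ) :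
    ∃ k : Spec (CommRingCat.of (FractionRing (C.presheaf.stalk c))) ⟶ (U : Scheme.{u}),
      k ≫ U.ι = Spec.map (CommRingCat.ofHom (algebraMap (C.presheaf.stalk c)
        (FractionRing (C.presheaf.stalk c)))) ≫ C.fromSpecStalk c := by
  refine ⟨IsOpenImmersion.lift U.ι _ ?_, IsOpenImmersion.lift_fac _ _ _⟩
  rw [Scheme.Opens.range_ι, hU]
  rintro _ ⟨z, rfl⟩ (hz : _ = c)
  let A := C.presheaf.stalk c
  rw [Scheme.Hom.comp_apply] at hz
  have hcl : C.fromSpecStalk c (closedPoint A) = c := Scheme.fromSpecStalk_closedPoint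
  have e := (C.fromSpecStalk c).isEmbedding.injective (hz.trans hcl.symm)
  have h0 : (Spec.map (CommRingCat.ofHom (algebraMap A (FractionRing A))) z).asIdeal = ⊥ := by
    show Ideal.comap (algebraMap A (FractionRing A)) z.asIdeal = ⊥
    rw [(Ideal.eq_bot_or_top (K := FractionRing A) _).resolve_right z.isPrime.ne_top,
      Ideal.comap_bot_of_injective _ (IsFractionRing.injective A (FractionRing A))]
  rw [e] at h0
  have hfield : IsField A := (IsLocalRing.isField_iff_maximalIdeal_eq).2 h0
  have hd := ringKrullDim_eq_zero_of_isField hfield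
  rw [hdim] at hd
  exact one_ne_zero hd

set_option backward.isDefEq.respectTransparency false in
theorem existence_of_universallyClosed [IsLocallyNoetherian C] [IsIntegral C] (f : X ⟶ Y) [UniversallyClosed f]
    (c : C) [IsIntegrallyClosed (C.presheaf.stalk c)] (hdim : ringKrullDim (C.presheaf.stalk c) = 1)
    (x : Spec (CommRingCat.of (FractionRing (C.presheaf.stalk c))) ⟶ X) (y : Spec (C.presheaf.stalk c) ⟶ Y)
    (hxy : x ≫ f = Spec.map (CommRingCat.ofHom (algebraMap (C.presheaf.stalk c)
        (FractionRing (C.presheaf.stalk c)))) ≫ y) :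
    ∃ l : Spec (C.presheaf.stalk c) ⟶ X, l ≫ f = y ∧
      Spec.map (CommRingCat.ofHom (algebraMap (C.presheaf.stalk c) (FractionRing (C.presheaf.stalk c)))) ≫ l = x := by
  haveI hdom : IsDomain (C.presheaf.stalk c) := inferInstance
  haveI := valuationRing_stalk c hdim
  let Sq : ValuativeCommSq f :=
    { R := C.presheaf.stalk c, K := FractionRing (C.presheaf.stalk c), i₁ := x, i₂ := y, commSq := ⟨hxy⟩ }
  have hE : ValuativeCriterion.Existence f :=
    ((iff_of_eq (congrFun (congrFun (congrFun UniversallyClosed.eq_valuativeCriterion X) Y) f)).mp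
      inferInstance).1
  obtain ⟨l, hl, hl'⟩ := (hE Sq).exists_lift.some
  exact ⟨l, hl', hl⟩

set_option backward.isDefEq.respectTransparency false in
theorem uniqueness_of_isSeparated [IsLocallyNoetherian C] [IsIntegral C] (f : X ⟶ Y) [IsSeparated f]
    (c : C) [IsIntegrallyClosed (C.presheaf.stalk c)] (hdim : ringKrullDim (C.presheaf.stalk c) = 1)
    (x : Spec (CommRingCat.of (FractionRing (C.presheaf.stalk c))) ⟶ X) (y : Spec (C.presheaf.stalk c) ⟶ Y)
    (l l' : Spec (C.presheaf.stalk c) ⟶ X) (h1 : l ≫ f = y)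
    (h2 : Spec.map (CommRingCat.ofHom (algebraMap (C.presheaf.stalk c) (FractionRing (C.presheaf.stalk c)))) ≫ l = x)
    (h1' : l' ≫ f = y)
    (h2' : Spec.map (CommRingCat.ofHom (algebraMap (C.presheaf.stalk c) (FractionRing (C.presheaf.stalk c)))) ≫ l' = x) :
    l = l' := by
  haveI hdom : IsDomain (C.presheaf.stalk c) := inferInstance
  haveI := valuationRing_stalk c hdim
  let Sq : ValuativeCommSq f :=
    { R := C.presheaf.stalk c, K := FractionRing (C.presheaf.stalk c), i₁ := x, i₂ := y,
      commSq := ⟨by rw [← h2, Category.assoc, h1]⟩ }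
  haveI : Subsingleton Sq.commSq.LiftStruct := IsSeparated.valuativeCriterion f Sq
  exact congrArg CommSq.LiftStruct.l (Subsingleton.elim (α := Sq.commSq.LiftStruct) ⟨l, h2, h1⟩ ⟨l', h2', h1'⟩)

theorem universallyClosed_of_curves (hS : ∀ W : S.affineOpens, CAlg.IsNagata Γ(S, W)) (p : X ⟶ S) (q : Y ⟶ S)
    [LocallyOfFiniteType p] [LocallyOfFiniteType q] (f : X ⟶ Y) (hf : f ≫ q = p) [QuasiCompact f]
    (H : ∀ (C : Scheme.{u}) (r : C ⟶ S) [IsIntegral C] [LocallyOfFiniteType r] [QuasiCompact r],
        (∀ x : C, IsIntegrallyClosed (C.presheaf.stalk x)) →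
        ∀ (c : C), IsClosed ({c} : Set C) → ringKrullDim (C.presheaf.stalk c) = 1 →
        ∀ (U : C.Opens), (U : Set C) = {c}ᶜ →
        ∀ (u : (U : Scheme.{u}) ⟶ X) (g : C ⟶ Y), g ≫ q = r → u ≫ f = U.ι ≫ g →
        ∀ (k : Spec (CommRingCat.of (FractionRing (C.presheaf.stalk c))) ⟶ (U : Scheme.{u})),
          k ≫ U.ι = Spec.map (CommRingCat.ofHom (algebraMap (C.presheaf.stalk c)
            (FractionRing (C.presheaf.stalk c)))) ≫ C.fromSpecStalk c →
        ∃ l : Spec (C.presheaf.stalk c) ⟶ X, l ≫ f = C.fromSpecStalk c ≫ g ∧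
          Spec.map (CommRingCat.ofHom (algebraMap (C.presheaf.stalk c) (FractionRing (C.presheaf.stalk c)))) ≫ l =
            k ≫ u) :
    UniversallyClosed f := by
  haveI := isLocallyNoetherian_of_nagata hS
  haveI : LocallyOfFiniteType (f ≫ q) := by rw [hf]; infer_instance
  haveI : LocallyOfFiniteType f := locallyOfFiniteType_of_comp f q
  refine UCLib.universallyClosed_of_affineSpace f fun n => ?_
  let pr : 𝔸(ULift.{u} (Fin n); Y) ⟶ Y := 𝔸(ULift.{u} (Fin n); Y) ↘ Y
  intro Z hZ
  let I := Scheme.IdealSheafData.vanishingIdeal (X := pullback f pr) ⟨Z, hZ⟩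
  let ι : I.subscheme ⟶ pullback f pr := I.subschemeι
  have hrange : Set.range ι = Z := by
    rw [Scheme.IdealSheafData.range_subschemeι]
    simp [I]
  have e : pullback.snd f pr '' Z = Set.range (ι ≫ pullback.snd f pr) := by
    rw [← hrange, ← Set.range_comp]
    rfl
  show IsClosed (pullback.snd f pr '' Z)
  rw [e]
  by_contra hnc
  obtain ⟨C, r, _, _, _, hnorm, c, hc, hdim, U, hU, u, g, hgq, hug, hgc⟩ :=
    exists_curve_scheme hS (ι ≫ pullback.snd f pr) (pr ≫ q) hnc
  obtain ⟨k, hk⟩ := exists_generic c hdim U hU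
  obtain ⟨l, hl1, hl2⟩ := H C r hnorm c hc hdim U hU (u ≫ ι ≫ pullback.fst f pr) (g ≫ pr)
    (by rw [Category.assoc, hgq])
    (by rw [Category.assoc, Category.assoc, pullback.condition, reassoc_of% hug]) k hk
  let l' : Spec (C.presheaf.stalk c) ⟶ pullback f pr := pullback.lift l (C.fromSpecStalk c ≫ g) (by
    rw [hl1, Category.assoc])
  let η := Spec.map (CommRingCat.ofHom (algebraMap (C.presheaf.stalk c) (FractionRing (C.presheaf.stalk c))))
  have hgen : η ≫ l' = k ≫ u ≫ ι := by
    refine pullback.hom_ext ?_ ?_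
    · simp only [η, l', Category.assoc, pullback.lift_fst]
      exact hl2
    · simp only [η, l', Category.assoc, pullback.lift_snd]
      rw [← reassoc_of% hk, hug]
  have hmem : l' (closedPoint (C.presheaf.stalk c)) ∈ Set.range ι := by
    let z : Spec (CommRingCat.of (FractionRing (C.presheaf.stalk c))) := closedPoint _
    have hsp : η z ⤳ closedPoint (C.presheaf.stalk c) := IsLocalRing.specializes_closedPoint (η z)
    refine (hsp.map l'.continuous).mem_closed (hrange ▸ hZ) ⟨u (k z), ?_⟩
    exact (congr(($hgen) z)).symm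
  obtain ⟨z, hz⟩ := hmem
  refine hgc ⟨z, ?_⟩
  rw [Scheme.Hom.comp_apply, hz, ← Scheme.Hom.comp_apply, pullback.lift_snd, Scheme.Hom.comp_apply,
    Scheme.fromSpecStalk_closedPoint]

theorem isSeparated_of_curves (hS : ∀ W : S.affineOpens, CAlg.IsNagata Γ(S, W)) (p : X ⟶ S) (q : Y ⟶ S)
    [LocallyOfFiniteType p] [LocallyOfFiniteType q] (f : X ⟶ Y) (hf : f ≫ q = p)
    (H : ∀ (C : Scheme.{u}) (r : C ⟶ S) [IsIntegral C] [LocallyOfFiniteType r] [QuasiCompact r],
        (∀ x : C, IsIntegrallyClosed (C.presheaf.stalk x)) →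
        ∀ (c : C), IsClosed ({c} : Set C) → ringKrullDim (C.presheaf.stalk c) = 1 →
        ∀ (U : C.Opens), (U : Set C) = {c}ᶜ →
        ∀ (u : (U : Scheme.{u}) ⟶ X) (g : C ⟶ Y), g ≫ q = r → u ≫ f = U.ι ≫ g →
        ∀ (k : Spec (CommRingCat.of (FractionRing (C.presheaf.stalk c))) ⟶ (U : Scheme.{u})),
          k ≫ U.ι = Spec.map (CommRingCat.ofHom (algebraMap (C.presheaf.stalk c)
            (FractionRing (C.presheaf.stalk c)))) ≫ C.fromSpecStalk c →
        ∀ l l' : Spec (C.presheaf.stalk c) ⟶ X,
          l ≫ f = C.fromSpecStalk c ≫ g →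
          Spec.map (CommRingCat.ofHom (algebraMap (C.presheaf.stalk c) (FractionRing (C.presheaf.stalk c)))) ≫ l =
            k ≫ u →
          l' ≫ f = C.fromSpecStalk c ≫ g →
          Spec.map (CommRingCat.ofHom (algebraMap (C.presheaf.stalk c) (FractionRing (C.presheaf.stalk c)))) ≫ l' =
            k ≫ u → l = l') :
    IsSeparated f := by
  haveI := isLocallyNoetherian_of_nagata hS
  haveI : LocallyOfFiniteType (f ≫ q) := by rw [hf]; infer_instance
  haveI : LocallyOfFiniteType f := locallyOfFiniteType_of_comp f q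
  haveI : IsLocallyNoetherian X := LocallyOfFiniteType.isLocallyNoetherian p
  haveI : LocallyOfFiniteType (pullback.fst f f ≫ p) := inferInstance
  haveI : IsLocallyNoetherian (pullback f f) := LocallyOfFiniteType.isLocallyNoetherian (pullback.fst f f ≫ p)
  let δ := pullback.diagonal f
  haveI : QuasiCompact δ := inferInstance
  constructor
  refine IsClosedImmersion.of_isPreimmersion _ ?_
  by_contra hnc
  obtain ⟨C, r, _, _, _, hnorm, c, hc, hdim, U, hU, u, g, hgq, hug, hgc⟩ :=
    exists_curve_scheme hS δ (pullback.fst f f ≫ p) hnc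
  obtain ⟨k, hk⟩ := exists_generic c hdim U hU
  have hu1 : u = U.ι ≫ g ≫ pullback.fst f f := by
    rw [← reassoc_of% hug, pullback.diagonal_fst, Category.comp_id]
  have hu2 : u = U.ι ≫ g ≫ pullback.snd f f := by
    rw [← reassoc_of% hug, pullback.diagonal_snd, Category.comp_id]
  have e := H C r hnorm c hc hdim U hU u (g ≫ pullback.fst f f ≫ f)
    (by rw [Category.assoc, Category.assoc, hf, hgq]) (by rw [hu1]; simp only [Category.assoc]) k hk
    (C.fromSpecStalk c ≫ g ≫ pullback.fst f f) (C.fromSpecStalk c ≫ g ≫ pullback.snd f f)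
    (by simp only [Category.assoc]) (by rw [← reassoc_of% hk, ← hu1])
    (by simp only [Category.assoc, pullback.condition]) (by rw [← reassoc_of% hk, ← hu2])
  refine hgc ⟨(C.fromSpecStalk c ≫ g ≫ pullback.fst f f) (closedPoint _), ?_⟩
  have e2 : (C.fromSpecStalk c ≫ g ≫ pullback.fst f f) ≫ δ = C.fromSpecStalk c ≫ g := by
    refine pullback.hom_ext ?_ ?_
    · simp only [δ, Category.assoc, pullback.diagonal_fst, Category.comp_id]
    · simp only [δ, Category.assoc, pullback.diagonal_snd, Category.comp_id]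
      exact e
  rw [← Scheme.Hom.comp_apply, e2, Scheme.Hom.comp_apply, Scheme.fromSpecStalk_closedPoint]

end Groth.Agent.H8Lim.NagataCurve
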