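import Groth.Agent.H8Lim.ProjLineProd
import Groth.Agent.H8Lim.ChowPn
import Mathlib

/-!
# A finite surjection `(ℙ^1)^n → ℙ^n` over any base
-/

set_option autoImplicit false
set_option backward.isDefEq.respectTransparency.types false
set_option linter.style.haveILetI false

universe u

open CategoryTheory CategoryTheory.Limits AlgebraicGeometry
open Groth.Agent.PnEmb
open CohB1 (ProjSpaceOver)

namespace Groth.Agent.H8Lim.ProjLineProd

/-- `P^0_S ≅ S`. -/
theorem isIso_toBase_zero (S : Scheme.{u}) : IsIso (ProjSpaceOver.toBase 0 S) := by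
  let T := Spec (CommRingCat.of (ULift.{u} ℤ))
  haveI : IsAffine (PZ.{u} 0) := by
    have : chartOpen 0 (ULift.{u} ℤ) 0 = (⊤ : (PZ.{u} 0).Opens) := eq_top_iff.2 fun y _ => by
      obtain ⟨i, hi⟩ := UPLib.exists_degOne_projSpace (R := CommRingCat.of (ULift.{u} ℤ)) 0 y
      rwa [Fin.eq_zero i] at hi
    haveI : IsAffine (⊤ : (PZ.{u} 0).Opens).toScheme := this ▸ isAffineOpen_chartOpen (R := ULift.{u} ℤ) (n := 0) 0
    exact .of_isIso (PZ.{u} 0).topIso.inv
  haveI : IsClosedImmersion (CohB1.ProjSpace.toSpec 0 (ULift.{u} ℤ)) := by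
    refine IsClosedImmersion.of_surjective_of_isAffine _ (RingHom.range_eq_top.1 ?_)
    have key : ∀ (W : (PZ.{u} 0).Opens) (h : W = chartOpen 0 (ULift.{u} ℤ) 0),
        ∀ H : Subring Γ(PZ.{u} 0, W), H = ⊤ := by
      rintro W rfl H
      refine subring_quot_eq_top 0 0 H fun k => ?_
      rw [Fin.eq_zero k]
      have h := quot_smul (𝟙 (PZ.{u} 0)) 0 0 (chartOpen 0 (ULift.{u} ℤ) 0) le_rfl
      have hg : PicLib.IsGen _ (chartOpen 0 (ULift.{u} ℤ) 0)
          (Coherent.resM _ le_top (PicLib.pullSec (𝟙 (PZ.{u} 0)) (co 0))) := by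
        rw [← AmpleLib.le_glocus_iff, preimage_chart]
        exact le_rfl
      have h1 : quot.{u} 0 0 = (1 : Γ(PZ.{u} 0, chartOpen 0 (ULift.{u} ℤ) 0)) := by
        refine (hg _ le_rfl).1 ?_
        simp only [PicLib.resM_self, one_smul]
        refine Eq.trans ?_ h
        congr 1
      rw [h1]; exact one_mem _
    exact key ⊤ (eq_top_iff.2 fun y _ => by
      obtain ⟨i, hi⟩ := UPLib.exists_degOne_projSpace (R := CommRingCat.of (ULift.{u} ℤ)) 0 y
      rwa [Fin.eq_zero i] at hi).symm _
  haveI : IsClosedImmersion (ProjSpaceOver.toBase 0 S) :=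
    MorphismProperty.pullback_snd (P := @IsClosedImmersion) _ _ inferInstance
  obtain ⟨c, hc⟩ := ChowPn.exists_section 0 S
  exact ⟨c, (cancel_mono (ProjSpaceOver.toBase 0 S)).1 (by rw [Category.assoc, hc, Category.comp_id, Category.id_comp]), hc⟩

/-- The multiplication morphism over any base. -/
theorem exists_mult_over (S : Scheme.{u}) (n : ℕ) :
    ∃ Φ : pullback (ProjSpaceOver.toBase n S) (ProjSpaceOver.toBase 1 S) ⟶ ProjSpaceOver (n + 1) S,
      IsFinite Φ ∧ Surjective Φ ∧
        Φ ≫ ProjSpaceOver.toBase (n + 1) S = pullback.fst _ _ ≫ ProjSpaceOver.toBase n S := by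
  obtain ⟨ψ, hψ, hψs⟩ := exists_mult.{u} n
  let q₀ := pullback.fst (CohB1.ProjSpace.toSpec n (ULift.{u} ℤ)) (CohB1.ProjSpace.toSpec 1 (ULift.{u} ℤ)) ≫
    CohB1.ProjSpace.toSpec n (ULift.{u} ℤ)
  obtain ⟨e, he⟩ := exists_pullback_prod_iso (CohB1.ProjSpace.toSpec n (ULift.{u} ℤ))
    (CohB1.ProjSpace.toSpec 1 (ULift.{u} ℤ)) (specULiftZIsTerminal.from S)
  let Ψ : pullback q₀ (specULiftZIsTerminal.from S) ⟶ ProjSpaceOver (n + 1) S :=
    pullback.lift (pullback.fst _ _ ≫ ψ) (pullback.snd _ _) (specULiftZIsTerminal.hom_ext _ _)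
  have hsq : IsPullback (pullback.fst q₀ (specULiftZIsTerminal.from S)) Ψ ψ (pullback.fst _ _) := by
    refine IsPullback.of_bot ?_ (pullback.lift_fst _ _ _).symm (IsPullback.of_hasPullback _ _)
    rw [show Ψ ≫ pullback.snd _ _ = pullback.snd _ _ from pullback.lift_snd _ _ _,
      show ψ ≫ CohB1.ProjSpace.toSpec (n + 1) (ULift.{u} ℤ) = q₀ from specULiftZIsTerminal.hom_ext _ _]
    exact IsPullback.of_hasPullback _ _
  haveI : IsFinite Ψ := MorphismProperty.of_isPullback (P := @IsFinite) hsq hψ
  haveI : Surjective Ψ := MorphismProperty.of_isPullback (P := @Surjective) hsq hψs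
  exact ⟨e.hom ≫ Ψ, inferInstance, inferInstance,
    (Category.assoc _ _ _).trans ((congrArg (e.hom ≫ ·) (pullback.lift_snd _ _ _)).trans he)⟩

/-- Splitting off the last factor of a fibre power. -/
theorem exists_split {S P : Scheme.{u}} (p : P ⟶ S) (n : ℕ) :
    ∃ e : widePullback S (fun _ : Fin (n + 1) => P) (fun _ => p) ≅ pullback (WidePullback.base (fun _ : Fin n => p)) p,
      e.hom ≫ pullback.fst _ _ ≫ WidePullback.base (fun _ : Fin n => p) = WidePullback.base _ := by
  refine ⟨⟨pullback.lift (WidePullback.lift (WidePullback.base (fun _ : Fin (n + 1) => p))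
        (fun j => WidePullback.π (fun _ : Fin (n + 1) => p) j.castSucc) (fun j => WidePullback.π_arrow _ _))
      (WidePullback.π (fun _ : Fin (n + 1) => p) (Fin.last n))
      (by rw [WidePullback.lift_base, WidePullback.π_arrow]),
    WidePullback.lift (pullback.fst (WidePullback.base (fun _ : Fin n => p)) p ≫ WidePullback.base _)
      (Fin.lastCases (pullback.snd _ p) (fun j => pullback.fst _ p ≫ WidePullback.π (fun _ : Fin n => p) j))
      (fun j => ?_), ?_, ?_⟩, ?_⟩
  · induction j using Fin.lastCases with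
    | last => rw [Fin.lastCases_last]; exact pullback.condition.symm
    | cast j => rw [Fin.lastCases_castSucc, Category.assoc, WidePullback.π_arrow]
  · refine WidePullback.hom_ext _ _ _ (fun j => ?_) ?_
    · rw [Category.assoc, WidePullback.lift_π, Category.id_comp]
      induction j using Fin.lastCases with
      | last => rw [Fin.lastCases_last, pullback.lift_snd]
      | cast j => rw [Fin.lastCases_castSucc, pullback.lift_fst_assoc, WidePullback.lift_π]
    · exact (Category.assoc _ _ _).trans ((congrArg (_ ≫ ·) (WidePullback.lift_base _ _ _ _)).trans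
        ((pullback.lift_fst_assoc _ _ _ _).trans ((WidePullback.lift_base _ _ _ _).trans (Category.id_comp _).symm)))
  · refine pullback.hom_ext (WidePullback.hom_ext _ _ _ (fun j => ?_) ?_) ?_
    · rw [Category.assoc, Category.assoc, pullback.lift_fst_assoc, WidePullback.lift_π, WidePullback.lift_π,
        Fin.lastCases_castSucc, Category.id_comp]
    · rw [Category.assoc, Category.assoc, pullback.lift_fst_assoc, WidePullback.lift_base, WidePullback.lift_base,
        Category.id_comp]
    · rw [Category.assoc, pullback.lift_snd, WidePullback.lift_π, Fin.lastCases_last, Category.id_comp]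
  · rw [pullback.lift_fst_assoc, WidePullback.lift_base]

/-- Finite surjections `(ℙ^1)^n → ℙ^n`. -/
theorem exists_pow (S : Scheme.{u}) : ∀ n : ℕ,
    ∃ φ : widePullback S (fun _ : Fin n => ProjSpaceOver 1 S) (fun _ => ProjSpaceOver.toBase 1 S) ⟶
        ProjSpaceOver n S,
      IsFinite φ ∧ Surjective φ ∧
        φ ≫ ProjSpaceOver.toBase n S = WidePullback.base (fun _ => ProjSpaceOver.toBase 1 S) := by
  intro n
  induction n with
  | zero =>
    haveI := isIso_toBase_zero S
    haveI : IsIso (WidePullback.base (fun _ : Fin 0 => ProjSpaceOver.toBase 1 S)) :=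
      ⟨WidePullback.lift (𝟙 S) (fun j : Fin 0 => j.elim0) (fun j => j.elim0),
        WidePullback.hom_ext _ _ _ (fun j => j.elim0)
          (by rw [Category.assoc, WidePullback.lift_base, Category.comp_id, Category.id_comp]),
        WidePullback.lift_base _ _ _ _⟩
    exact ⟨WidePullback.base (fun _ : Fin 0 => ProjSpaceOver.toBase 1 S) ≫ inv (ProjSpaceOver.toBase 0 S),
      inferInstance, inferInstance, by rw [Category.assoc, IsIso.inv_hom_id, Category.comp_id]⟩
  | succ n ih =>
    obtain ⟨φ, hφ, hφs, hφb⟩ := ih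
    obtain ⟨Φ, hΦ, hΦs, hΦb⟩ := exists_mult_over S n
    obtain ⟨e, he⟩ := exists_split (ProjSpaceOver.toBase 1 S) n
    let m := pullback.map (WidePullback.base (fun _ : Fin n => ProjSpaceOver.toBase 1 S)) (ProjSpaceOver.toBase 1 S)
      (ProjSpaceOver.toBase n S) (ProjSpaceOver.toBase 1 S) φ (𝟙 _) (𝟙 _) (by rw [Category.comp_id, hφb]) (by simp)
    have hsq : IsPullback (pullback.fst _ _) m φ (pullback.fst _ _) := by
      refine IsPullback.of_bot ?_ (pullback.lift_fst _ _ _).symm (IsPullback.of_hasPullback _ _)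
      rw [show m ≫ pullback.snd _ _ = pullback.snd _ _ from (pullback.lift_snd _ _ _).trans (Category.comp_id _),
        hφb]
      exact IsPullback.of_hasPullback _ _
    haveI : IsFinite m := MorphismProperty.of_isPullback (P := @IsFinite) hsq hφ
    haveI : Surjective m := MorphismProperty.of_isPullback (P := @Surjective) hsq hφs
    refine ⟨e.hom ≫ m ≫ Φ, inferInstance, inferInstance, ?_⟩
    rw [Category.assoc, Category.assoc, hΦb, ← Category.assoc m,
      show m ≫ pullback.fst _ _ = pullback.fst _ _ ≫ φ from pullback.lift_fst _ _ _, Category.assoc, hφb, he]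

end Groth.Agent.H8Lim.ProjLineProd
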