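import Groth.Agent.PnEmb.Segre
import Groth.Agent.PnEmb.SegreOver
import Groth.Agent.PnEmb.Ample
import Groth.Agent.MorProj.QuasiAff
import Groth.Agent.Coherent.ProjSpaceBase
import Groth.Agent.Coherent.ProjSpaceFinite
import Mathlib

/-!
# The multiplication morphism `ℙ^n × ℙ^1 → ℙ^{n+1}` is finite surjective
-/

set_option autoImplicit false
set_option backward.isDefEq.respectTransparency.types false
set_option linter.style.haveILetI false
set_option maxHeartbeats 1000000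

universe u

open CategoryTheory CategoryTheory.Limits AlgebraicGeometry TopologicalSpace Opposite
open Groth.Agent.Coherent Groth.Agent.PicLib Groth.Agent.AmpleLib Groth.Agent.PnEmb

namespace Groth.Agent.H8Lim.ProjLineProd

variable {n : ℕ}

/-- Coefficients of the product of a polynomial of degree `≤ n` and a linear one. -/
def prodCoef {R : Type*} [CommRing R] (F : Fin (n + 1) → R) (v : Fin (1 + 1) → R) (k : Fin (n + 1 + 1)) : R :=
  ∑ p ∈ Finset.univ.filter (fun p : Fin (n + 1) × Fin (1 + 1) => p.1.val + p.2.val = k.val), F p.1 * v p.2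

theorem map_prodCoef {R R' : Type*} [CommRing R] [CommRing R'] (e : R →+* R') (F : Fin (n + 1) → R)
    (v : Fin (1 + 1) → R) (k : Fin (n + 1 + 1)) :
    e (prodCoef F v k) = prodCoef (fun i => e (F i)) (fun i => e (v i)) k := by
  rw [prodCoef, map_sum]
  exact Finset.sum_congr rfl fun p _ => map_mul _ _ _

theorem prodCoef_smul {R : Type*} [CommRing R] (F : Fin (n + 1) → R) (v : Fin (1 + 1) → R) (a b : R)
    (k : Fin (n + 1 + 1)) : prodCoef (fun i => a * F i) (fun i => b * v i) k = a * b * prodCoef F v k := by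
  rw [prodCoef, prodCoef, Finset.mul_sum]
  exact Finset.sum_congr rfl fun p _ => by ring

open Polynomial in
theorem coeff_mul_eq_prodCoef {R : Type*} [CommRing R] (F : Fin (n + 1) → R) (v : Fin (1 + 1) → R)
    (k : Fin (n + 1 + 1)) :
    ((∑ i, C (F i) * X ^ i.val) * (∑ j, C (v j) * X ^ j.val)).coeff k.val = prodCoef F v k := by
  rw [Finset.sum_mul_sum, ← Finset.sum_product', finsetSum_coeff, prodCoef, Finset.sum_filter,
    Finset.univ_product_univ]
  refine Finset.sum_congr rfl fun p _ => ?_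
  rw [show C (F p.1) * X ^ p.1.val * (C (v p.2) * X ^ p.2.val) = C (F p.1 * v p.2) * X ^ (p.1.val + p.2.val) by
    rw [map_mul, pow_add]; ring, coeff_C_mul_X_pow]
  exact if_congr eq_comm rfl rfl

open Polynomial in
theorem exists_prodCoef_ne_zero {R : Type*} [CommRing R] [IsDomain R] (F : Fin (n + 1) → R) (v : Fin (1 + 1) → R)
    (hF : ∃ i, F i ≠ 0) (hv : ∃ j, v j ≠ 0) : ∃ k, prodCoef F v k ≠ 0 := by
  by_contra! h
  have hP : ∀ {m : ℕ} (G : Fin (m + 1) → R), (∑ i, C (G i) * X ^ i.val).natDegree ≤ m ∧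
      ∀ i, (∑ i, C (G i) * X ^ i.val).coeff i.val = G i := fun {m} G => by
    refine ⟨natDegree_sum_le_of_forall_le _ _ fun i _ => (natDegree_C_mul_X_pow_le _ _).trans (Nat.le_of_lt_succ i.2),
      fun i => ?_⟩
    rw [finsetSum_coeff, Finset.sum_eq_single i] <;> simp [coeff_C_mul_X_pow, Fin.val_inj] <;> omega
  have hz : (∑ i, C (F i) * X ^ i.val) * (∑ j, C (v j) * X ^ j.val) = 0 := by
    ext m
    by_cases hm : m < n + 1 + 1
    · rw [coeff_mul_eq_prodCoef F v ⟨m, hm⟩, h, coeff_zero]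
    · refine (coeff_eq_zero_of_natDegree_lt ?_).trans (coeff_zero m).symm
      have h1 := (hP F).1
      have h2 := (hP v).1
      have h3 := natDegree_mul_le (p := ∑ i, C (F i) * X ^ i.val) (q := ∑ j, C (v j) * X ^ j.val)
      omega
  rcases mul_eq_zero.1 hz with h0 | h0
  · obtain ⟨i, hi⟩ := hF
    exact hi (by rw [← (hP F).2 i, h0, coeff_zero])
  · obtain ⟨i, hi⟩ := hv
    exact hi (by rw [← (hP v).2 i, h0, coeff_zero])

open Polynomial in
theorem exists_factor {K : Type*} [Field K] [IsAlgClosed K] (G : Fin (n + 1 + 1) → K) (hG : ∃ k, G k ≠ 0) :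
    ∃ (F : Fin (n + 1) → K) (v : Fin (1 + 1) → K), (∃ i, F i ≠ 0) ∧ (∃ j, v j ≠ 0) ∧
      ∀ k, prodCoef F v k = G k := by
  let g : K[X] := ∑ i, C (G i) * X ^ i.val
  have hc : ∀ k : Fin (n + 1 + 1), g.coeff k.val = G k := fun i => by
    rw [finsetSum_coeff, Finset.sum_eq_single i] <;> simp [coeff_C_mul_X_pow, Fin.val_inj] <;> omega
  have hd : g.natDegree ≤ n + 1 :=
    natDegree_sum_le_of_forall_le _ _ fun i _ => (natDegree_C_mul_X_pow_le _ _).trans (Nat.le_of_lt_succ i.2)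
  have hne : g ≠ 0 := fun h0 => by
    obtain ⟨k, hk⟩ := hG
    exact hk (by rw [← hc k, h0, coeff_zero])
  have key : ∀ (q : K[X]) (v : Fin (1 + 1) → K), q.natDegree ≤ n →
      g = q * ∑ j, C (v j) * X ^ j.val →
      (∃ i : Fin (n + 1), q.coeff i.val ≠ 0) ∧ ∀ k, prodCoef (fun i : Fin (n + 1) => q.coeff i.val) v k = G k := by
    intro q v hq e
    have hq' : (∑ i : Fin (n + 1), C (q.coeff i.val) * X ^ i.val) = q := by
      rw [Fin.sum_univ_eq_sum_range (fun i => C (q.coeff i) * X ^ i) (n + 1)]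
      exact (q.as_sum_range_C_mul_X_pow' (Nat.lt_succ_of_le hq)).symm
    refine ⟨?_, fun k => by rw [← coeff_mul_eq_prodCoef, hq', ← e, hc]⟩
    by_contra! h0
    exact hne (by rw [e, show q = 0 by rw [← hq']; simp [h0], zero_mul])
  by_cases hdeg : g.natDegree ≤ n
  · obtain ⟨h1, h2⟩ := key g ![1, 0] hdeg (by simp [Fin.sum_univ_two])
    exact ⟨_, _, h1, ⟨0, by simp⟩, h2⟩
  · obtain ⟨w, hw⟩ := IsAlgClosed.exists_root g (by
      rw [degree_eq_natDegree hne]; exact_mod_cast (by omega : g.natDegree ≠ 0))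
    obtain ⟨q, hq⟩ := dvd_iff_isRoot.2 hw
    have hq0 : q ≠ 0 := fun h0 => hne (by rw [hq, h0, mul_zero])
    have hqd : q.natDegree ≤ n := by
      rw [hq, natDegree_mul (X_sub_C_ne_zero w) hq0, natDegree_X_sub_C] at hd
      omega
    obtain ⟨h1, h2⟩ := key q ![-w, 1] hqd (by
      rw [hq]
      show _ = q * ∑ j : Fin 2, C (![-w, 1] j) * X ^ (j : ℕ)
      simp [Fin.sum_univ_two]
      ring)
    exact ⟨_, _, h1, ⟨1, by simp⟩, h2⟩

/-- The sections defining the multiplication morphism. -/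
noncomputable def sec (k : Fin (n + 1 + 1)) : Γ(O11.{u} n 1, ⊤) :=
  ∑ p ∈ Finset.univ.filter (fun p : Fin (n + 1) × Fin (1 + 1) => p.1.val + p.2.val = k.val), co11 n 1 p

/-- The coordinate functions of the first factor. -/
noncomputable def uu (p : Fin (n + 1) × Fin (1 + 1)) (c : Fin (n + 1)) : Γ(PP.{u} n 1, chart11 n 1 p) :=
  (pullback.fst (CohB1.ProjSpace.toSpec n (ULift.{u} ℤ)) (CohB1.ProjSpace.toSpec 1 (ULift.{u} ℤ))).appLE
    (chartOpen n (ULift.{u} ℤ) p.1) (chart11 n 1 p) inf_le_left (quot p.1 c)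

/-- The coordinate functions of the second factor. -/
noncomputable def vv (p : Fin (n + 1) × Fin (1 + 1)) (c : Fin (1 + 1)) : Γ(PP.{u} n 1, chart11 n 1 p) :=
  (pullback.snd (CohB1.ProjSpace.toSpec n (ULift.{u} ℤ)) (CohB1.ProjSpace.toSpec 1 (ULift.{u} ℤ))).appLE
    (chartOpen 1 (ULift.{u} ℤ) p.2) (chart11 n 1 p) inf_le_right (quot p.2 c)

theorem isGen_co11 (p : Fin (n + 1) × Fin (1 + 1)) :
    IsGen (O11.{u} n 1) (chart11 n 1 p) (resM _ le_top (co11 n 1 p)) := by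
  rw [← le_glocus_iff, glocus_co11]

theorem co11_eq (p q : Fin (n + 1) × Fin (1 + 1)) :
    resM _ (le_top : chart11.{u} n 1 p ≤ ⊤) (co11 n 1 q) =
      (uu p q.1 * vv p q.2) • resM _ le_top (co11 n 1 p) := by
  simp only [co11, resM_tmul, uu, vv, mul_smul]
  rw [← tmul_smul_right, quot_smul, ← tmul_smul_left, quot_smul]

theorem uu_mul_vv_self (p : Fin (n + 1) × Fin (1 + 1)) : uu.{u} p p.1 * vv p p.2 = 1 :=
  (isGen_co11 p _ le_rfl).1 (by simp only [resM_self]; rw [← co11_eq, one_smul])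

theorem sec_eq (p : Fin (n + 1) × Fin (1 + 1)) (k : Fin (n + 1 + 1)) :
    resM _ (le_top : chart11.{u} n 1 p ≤ ⊤) (sec k) =
      prodCoef (uu p) (vv p) k • resM _ le_top (co11 n 1 p) := by
  rw [sec, prodCoef, Finset.sum_smul, map_sum]
  exact Finset.sum_congr rfl fun q _ => co11_eq p q

theorem glocus_sec_inf (p : Fin (n + 1) × Fin (1 + 1)) (k : Fin (n + 1 + 1)) :
    glocus _ (sec k) ⊓ chart11.{u} n 1 p = (PP.{u} n 1).basicOpen (prodCoef (uu p) (vv p) k) := by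
  rw [glocus_inf (sec k) (isGen_co11 p), IsGen.coef_eq _ _ (r := prodCoef (uu p) (vv p) k)]
  rw [resM_self]
  exact (sec_eq p k).symm

theorem exists_mem_glocus_sec (x : PP.{u} n 1) : ∃ k, x ∈ glocus _ (sec k) := by
  obtain ⟨p, hp⟩ := exists_co11 n 1 x
  let ev := ((PP.{u} n 1).evaluation (chart11 n 1 p) x hp).hom
  have h1 : ev (uu p p.1) * ev (vv p p.2) = 1 := by rw [← map_mul, uu_mul_vv_self, map_one]
  obtain ⟨k, hk⟩ := exists_prodCoef_ne_zero (fun i => ev (uu p i)) (fun i => ev (vv p i))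
    ⟨p.1, left_ne_zero_of_mul_eq_one h1⟩ ⟨p.2, right_ne_zero_of_mul_eq_one h1⟩
  rw [← map_prodCoef] at hk
  exact ⟨k, ((glocus_sec_inf p k).ge (((PP.{u} n 1).evaluation_ne_zero_iff_mem_basicOpen x hp _).1 hk)).1⟩

/-- Morphisms to an affine open agree if they agree on its functions. -/
theorem hom_ext_affineOpen {T X : Scheme.{u}} {f g : T ⟶ X} {U : X.Opens} (hU : IsAffineOpen U)
    (hf : ⊤ ≤ f ⁻¹ᵁ U) (hg : ⊤ ≤ g ⁻¹ᵁ U) (h : f.appLE U ⊤ hf = g.appLE U ⊤ hg) : f = g := by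
  haveI : IsAffine U.toScheme := hU
  have hr : ∀ (m : T ⟶ X), ⊤ ≤ m ⁻¹ᵁ U → Set.range m ⊆ Set.range U.ι := fun m hm => by
    rw [Scheme.Opens.range_ι]; rintro _ ⟨t, rfl⟩; exact hm trivial
  have key : ∀ (m : T ⟶ X) (hm : ⊤ ≤ m ⁻¹ᵁ U),
      (IsOpenImmersion.lift U.ι m (hr m hm)).appTop = U.topIso.hom ≫ m.appLE U ⊤ hm := fun m hm => by
    rw [← Iso.inv_comp_eq]
    have e := IsOpenImmersion.lift_fac U.ι m (hr m hm)
    generalize IsOpenImmersion.lift U.ι m (hr m hm) = l at e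
    subst e
    have h1 : ⊤ ≤ U.ι ⁻¹ᵁ U := by rw [Scheme.Opens.ι_preimage_self]
    rw [← Scheme.Hom.appLE_comp_appLE l U.ι U ⊤ ⊤ h1 le_top, Scheme.Opens.topIso_inv]
    simp [Scheme.Hom.appLE, Scheme.Hom.appTop]
    exact (congrArg (· ≫ _) ((congrArg X.presheaf.map (Subsingleton.elim _ _)).trans (X.presheaf.map_comp _ _))).trans
      (Category.assoc _ _ _)
  rw [← IsOpenImmersion.lift_fac U.ι f (hr f hf), ← IsOpenImmersion.lift_fac U.ι g (hr g hg)]
  congr 1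
  exact ext_of_isAffine (by rw [key f hf, key g hg, h])

/-- A point of projective space with given coordinates. -/
theorem exists_point {K : Type u} [Field K] {m : ℕ} (F : Fin (m + 1) → K) (a : Fin (m + 1)) (ha : F a ≠ 0) :
    ∃ (r : Spec (CommRingCat.of K) ⟶ PZ.{u} m) (hr : ⊤ ≤ r ⁻¹ᵁ chartOpen m (ULift.{u} ℤ) a), ∀ c,
      r.appLE (chartOpen m (ULift.{u} ℤ) a) ⊤ hr (quot a c) =
        (Scheme.ΓSpecIso (CommRingCat.of K)).inv (F c / F a) := by
  let Z := Spec (CommRingCat.of K)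
  let e := (Scheme.ΓSpecIso (CommRingCat.of K)).inv
  let s : Fin (m + 1) → Γ(Coh.structureModule Z, ⊤) := fun i => (e (F i) : Γ(Z, ⊤))
  have hu : IsUnit (e (F a)) := (isUnit_iff_ne_zero.2 ha).map e.hom
  have hga : glocus _ (s a) = ⊤ :=
    (AmpleLib.glocus_structureModule (e (F a))).trans (Z.basicOpen_of_isUnit hu)
  obtain ⟨r, -, τ, hτ⟩ := UPLib.exists_hom_projSpace m (specULiftZIsTerminal.from Z)
    isInvertible_structureModule s fun x => ⟨a, by rw [hga]; trivial⟩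
  have hr : ⊤ ≤ r ⁻¹ᵁ chartOpen m (ULift.{u} ℤ) a := by rw [preimage_chartOpen r τ hτ, hga]
  refine ⟨r, hr, fun c => ?_⟩
  have h1 : r.appLE (chartOpen m (ULift.{u} ℤ) a) ⊤ hr (quot a c) • resM _ (le_rfl : (⊤ : Z.Opens) ≤ ⊤) (s a) =
      resM _ le_rfl (s c) := by
    rw [← hτ a, ← hτ c]
    have h' := congrArg (τ.hom.app ⊤) (quot_smul r a c ⊤ hr)
    exact ((congrArg (_ • ·) (app_resM τ.hom _ _)).symm.trans ((Scheme.Modules.Hom.app_smul _ _ _).symm.trans h')).trans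
      (app_resM τ.hom _ _)
  rw [resM_self, resM_self] at h1
  have h2 : r.appLE (chartOpen m (ULift.{u} ℤ) a) ⊤ hr (quot a c) * e (F a) = e (F c) := h1
  refine hu.mul_right_cancel (h2.trans ?_)
  rw [← map_mul]
  congr 1
  field_simp

/-- The multiplication morphism. -/
theorem exists_mult (n : ℕ) : ∃ ψ : PP.{u} n 1 ⟶ PZ.{u} (n + 1), IsFinite ψ ∧ Surjective ψ := by
  have hL : PicF.IsInvertible (O11.{u} n 1) := isInvertible_O11 n 1
  obtain ⟨ψ, hψ, τ, hτ⟩ := UPLib.exists_hom_projSpace (n + 1)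
    (pullback.fst _ _ ≫ CohB1.ProjSpace.toSpec n (ULift.{u} ℤ)) hL sec exists_mem_glocus_sec
  have hpre : ∀ k, ψ ⁻¹ᵁ chartOpen (n + 1) (ULift.{u} ℤ) k = glocus _ (sec k) := preimage_chartOpen ψ τ hτ
  let q0 : PP.{u} n 1 ⟶ Spec (CommRingCat.of (ULift.{u} ℤ)) :=
    pullback.fst _ _ ≫ CohB1.ProjSpace.toSpec n (ULift.{u} ℤ)
  haveI : IsProper (CohB1.ProjSpace.toSpec n (ULift.{u} ℤ)) := Coherent.isProper_projSpace_toSpec n _
  haveI : IsProper (CohB1.ProjSpace.toSpec 1 (ULift.{u} ℤ)) := Coherent.isProper_projSpace_toSpec 1 _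
  haveI : IsProper (CohB1.ProjSpace.toSpec (n + 1) (ULift.{u} ℤ)) := Coherent.isProper_projSpace_toSpec (n + 1) _
  haveI : IsProper q0 := inferInstance
  have hample : CohB1.IsAmple (O11.{u} n 1) := by
    obtain ⟨r, hr, hrs, ⟨eO⟩⟩ := exists_segre.{u} n 1
    haveI := hr
    refine isAmple_of_isRelVeryAmplePn q0 ⟨n * 1 + n + 1, pullback.lift r q0 (specULiftZIsTerminal.hom_ext _ _),
      ?_, pullback.lift_snd _ _ _, ⟨?_⟩⟩
    · haveI : IsImmersion (pullback.lift r q0 (specULiftZIsTerminal.hom_ext _ _) ≫ pullback.fst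
          (CohB1.ProjSpace.toSpec (n * 1 + n + 1) (ULift.{u} ℤ)) (specULiftZIsTerminal.from _)) := by
        rw [pullback.lift_fst]
        exact (inferInstance : IsImmersion r)
      exact @IsImmersion.of_comp _ _ _ _ _ this
    · exact eO.symm ≪≫ (Scheme.Modules.pullbackCongr (pullback.lift_fst _ _ _).symm).app _ ≪≫
        ((Scheme.Modules.pullbackComp _ _).app _).symm
  haveI : IsAffineHom ψ := isAffineHom_of_forall_exists_isAffineOpen _ fun y => by
    obtain ⟨k, hk⟩ := UPLib.exists_degOne_projSpace (R := CommRingCat.of (ULift.{u} ℤ)) (n + 1) y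
    exact ⟨chartOpen (n + 1) (ULift.{u} ℤ) k, hk, isAffineOpen_chartOpen k,
      hpre k ▸ MorProj.isAffineOpen_glocus_of_universallyClosed q0 hample _⟩
  haveI : IsProper (ψ ≫ CohB1.ProjSpace.toSpec (n + 1) (ULift.{u} ℤ)) := by rw [hψ]; infer_instance
  haveI : IsProper ψ := IsProper.of_comp ψ (CohB1.ProjSpace.toSpec (n + 1) (ULift.{u} ℤ))
  refine ⟨ψ, IsFinite.iff_isProper_and_isAffineHom.2 ⟨inferInstance, inferInstance⟩, ⟨fun y => ?_⟩⟩
  obtain ⟨a, hya⟩ := UPLib.exists_degOne_projSpace (R := CommRingCat.of (ULift.{u} ℤ)) (n + 1) y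
  let κ := (PZ.{u} (n + 1)).residueField y
  let K := AlgebraicClosure κ
  let Z := Spec (CommRingCat.of K)
  let yh : Z ⟶ PZ.{u} (n + 1) :=
    Spec.map (CommRingCat.ofHom (algebraMap κ K)) ≫ (PZ.{u} (n + 1)).fromSpecResidueField y
  have hyh : ∀ z, yh z = y := fun z => by
    rw [Scheme.Hom.comp_apply]; exact Scheme.fromSpecResidueField_apply _ _
  have hyU : ⊤ ≤ yh ⁻¹ᵁ chartOpen (n + 1) (ULift.{u} ℤ) a := fun z _ => by
    show yh z ∈ chartOpen (n + 1) (ULift.{u} ℤ) a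
    rw [hyh]; exact hya
  let e := Scheme.ΓSpecIso (CommRingCat.of K)
  let G : Fin (n + 1 + 1) → K := fun k => e.hom (yh.appLE _ ⊤ hyU (quot a k))
  have hqa : quot.{u} a a = (1 : Γ(PZ.{u} (n + 1), chartOpen (n + 1) (ULift.{u} ℤ) a)) := by
    have h := quot_smul (𝟙 (PZ.{u} (n + 1))) a a (chartOpen (n + 1) (ULift.{u} ℤ) a) le_rfl
    have hg : IsGen _ (chartOpen (n + 1) (ULift.{u} ℤ) a)
        (resM _ le_top (PicLib.pullSec (𝟙 (PZ.{u} (n + 1))) (co a))) := by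
      rw [← le_glocus_iff, preimage_chart]
      exact le_rfl
    refine (hg _ le_rfl).1 ?_
    simp only [resM_self, one_smul]
    refine Eq.trans ?_ h
    congr 1
  have hGa : G a = 1 := by simp [G, hqa]
  obtain ⟨F, v, ⟨a', ha'⟩, ⟨b', hb'⟩, hFv⟩ := exists_factor G ⟨a, by rw [hGa]; exact one_ne_zero⟩
  obtain ⟨rF, hrF, hrF'⟩ := exists_point F a' ha'
  obtain ⟨rv, hrv, hrv'⟩ := exists_point v b' hb'
  let q : Z ⟶ PP.{u} n 1 := pullback.lift rF rv (specULiftZIsTerminal.hom_ext _ _)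
  let p : Fin (n + 1) × Fin (1 + 1) := (a', b')
  have hq1 : q ≫ pullback.fst _ _ = rF := pullback.lift_fst _ _ _
  have hq2 : q ≫ pullback.snd _ _ = rv := pullback.lift_snd _ _ _
  have hqW : ⊤ ≤ q ⁻¹ᵁ chart11 n 1 p := fun z _ => by
    refine ⟨?_, ?_⟩
    · show (pullback.fst (CohB1.ProjSpace.toSpec n (ULift.{u} ℤ)) (CohB1.ProjSpace.toSpec 1 (ULift.{u} ℤ))) (q z) ∈ chartOpen n (ULift.{u} ℤ) a'
      rw [← Scheme.Hom.comp_apply, hq1]; exact hrF trivial
    · show (pullback.snd (CohB1.ProjSpace.toSpec n (ULift.{u} ℤ)) (CohB1.ProjSpace.toSpec 1 (ULift.{u} ℤ))) (q z) ∈ chartOpen 1 (ULift.{u} ℤ) b'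
      rw [← Scheme.Hom.comp_apply, hq2]; exact hrv trivial
  let ev : Γ(PP.{u} n 1, chart11 n 1 p) →+* K := e.hom.hom.comp (q.appLE _ ⊤ hqW).hom
  have hu : ∀ c, ev (uu p c) = F c / F a' := fun c => by
    show e.hom ((_ ≫ q.appLE _ ⊤ hqW) (quot a' c)) = _
    rw [Scheme.Hom.appLE_comp_appLE]
    simp only [hq1]
    rw [hrF', Iso.inv_hom_id_apply]
  have hv : ∀ c, ev (vv p c) = v c / v b' := fun c => by
    show e.hom ((_ ≫ q.appLE _ ⊤ hqW) (quot b' c)) = _
    rw [Scheme.Hom.appLE_comp_appLE]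
    simp only [hq2]
    rw [hrv', Iso.inv_hom_id_apply]
  have hC : ∀ k, ev (prodCoef (uu p) (vv p) k) = (F a')⁻¹ * (v b')⁻¹ * G k := fun k => by
    rw [map_prodCoef, ← hFv, ← prodCoef_smul]
    congr 1 <;> funext c
    · rw [hu, div_eq_inv_mul]
    · rw [hv, div_eq_inv_mul]
  -- the point lies over the chart
  have hunit : IsUnit (q.appLE _ ⊤ hqW (prodCoef (uu p) (vv p) a)) := by
    have h1 : IsUnit (ev (prodCoef (uu p) (vv p) a)) := by
      rw [hC, hGa, mul_one]; exact isUnit_iff_ne_zero.2 (mul_ne_zero (inv_ne_zero ha') (inv_ne_zero hb'))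
    have h2 := h1.map e.inv.hom
    rwa [show e.inv.hom (ev (prodCoef (uu p) (vv p) a)) = q.appLE _ ⊤ hqW (prodCoef (uu p) (vv p) a) from
      Iso.hom_inv_id_apply e _] at h2
  have hqG : ⊤ ≤ q ⁻¹ᵁ (PP.{u} n 1).basicOpen (prodCoef (uu p) (vv p) a) := by
    refine le_trans ?_ (inf_le_right (a := ⊤))
    rw [← Scheme.basicOpen_appLE q ⊤ _ hqW, Scheme.basicOpen_of_isUnit _ hunit]
  have hmem : ∀ z, q z ∈ glocus _ (sec a) ⊓ chart11.{u} n 1 p := fun z => by
    rw [glocus_sec_inf]; exact hqG trivial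
  have hqψ : ⊤ ≤ (q ≫ ψ) ⁻¹ᵁ chartOpen (n + 1) (ULift.{u} ℤ) a := fun z _ => by
    show q z ∈ ψ ⁻¹ᵁ chartOpen (n + 1) (ULift.{u} ℤ) a
    rw [hpre]; exact (hmem z).1
  have hVW : glocus _ (sec a) ⊓ chart11.{u} n 1 p ≤ ψ ⁻¹ᵁ chartOpen (n + 1) (ULift.{u} ℤ) a := by
    rw [hpre]; exact inf_le_left
  have hqV : ⊤ ≤ q ⁻¹ᵁ (glocus _ (sec a) ⊓ chart11.{u} n 1 p) := fun z _ => hmem z
  have hval : ∀ k, (q ≫ ψ).appLE _ ⊤ hqψ (quot a k) = yh.appLE _ ⊤ hyU (quot a k) := fun k => by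
    refine (ConcreteCategory.bijective_of_isIso e.hom).1 ?_
    show _ = G k
    let d := ψ.appLE _ (glocus _ (sec a) ⊓ chart11.{u} n 1 p) hVW (quot a k)
    have hd : d • resM (O11.{u} n 1) (le_top : glocus _ (sec a) ⊓ chart11.{u} n 1 p ≤ ⊤) (sec a) =
        resM (O11.{u} n 1) (le_top : glocus _ (sec a) ⊓ chart11.{u} n 1 p ≤ ⊤) (sec k) := by
      have h' := congrArg (τ.hom.app _) (quot_smul ψ a k _ hVW)
      refine Eq.trans (congrArg (fun t => d • resM (O11.{u} n 1) le_top t) (hτ a).symm)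
        (Eq.trans ?_ (congrArg (resM (O11.{u} n 1) le_top) (hτ k)))
      exact ((congrArg (_ • ·) (app_resM τ.hom _ _)).symm.trans ((Scheme.Modules.Hom.app_smul _ _ _).symm.trans h')).trans
        (app_resM τ.hom _ _)
    let ρ := (PP.{u} n 1).presheaf.map (homOfLE (inf_le_right : glocus _ (sec a) ⊓ chart11.{u} n 1 p ≤ chart11 n 1 p)).op
    have hd' : d * ρ (prodCoef (uu p) (vv p) a) = ρ (prodCoef (uu p) (vv p) k) := by
      refine ((isGen_co11 p) _ (inf_le_right)).1 ?_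
      simp only [mul_smul]
      rw [← resM_smul, ← resM_smul, ← sec_eq, ← sec_eq, resM_resM, resM_resM, hd]
    have hev := congrArg (fun t => e.hom (q.appLE _ ⊤ hqV t)) hd'
    simp only [map_mul] at hev
    have hr : ∀ t, q.appLE _ ⊤ hqV (ρ t) = q.appLE _ ⊤ hqW t := fun t =>
      ConcreteCategory.congr_hom (q.map_appLE hqV (homOfLE inf_le_right).op) t
    rw [hr, hr] at hev
    change e.hom (q.appLE _ ⊤ hqV d) * ev _ = ev _ at hev
    rw [hC, hC, hGa, mul_one] at hev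
    have : e.hom ((q ≫ ψ).appLE _ ⊤ hqψ (quot a k)) = e.hom (q.appLE _ ⊤ hqV d) := by
      rw [← Scheme.Hom.appLE_comp_appLE q ψ _ _ _ hVW hqV]
      rfl
    rw [this]
    refine mul_right_cancel₀ (mul_ne_zero (inv_ne_zero ha') (inv_ne_zero hb')) (hev.trans ?_)
    ring
  have heq : q ≫ ψ = yh := by
    refine hom_ext_affineOpen (isAffineOpen_chartOpen a) hqψ hyU (CommRingCat.hom_ext (RingHom.ext fun t => ?_))
    exact (subring_quot_eq_top (n + 1) a (RingHom.eqLocus ((q ≫ ψ).appLE _ ⊤ hqψ).hom (yh.appLE _ ⊤ hyU).hom) hval).ge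
      (Subring.mem_top t)
  let z₀ : Z := (⟨⊥, Ideal.isPrime_bot⟩ : PrimeSpectrum K)
  exact ⟨q z₀, by rw [← Scheme.Hom.comp_apply, heq, hyh]⟩

end Groth.Agent.H8Lim.ProjLineProd
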