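import Groth.Agent.H8Lim.RelApproxLimit
import Groth.Agent.H8Lim.ApproxFP
import Mathlib

/-!
# Noetherian approximation relative to a quasi-compact open (Stacks 07RN)
-/

set_option autoImplicit false
set_option backward.isDefEq.respectTransparency.types false
set_option linter.style.haveILetI false
set_option maxHeartbeats 1000000

universe u

open CategoryTheory Limits AlgebraicGeometry TopologicalSpace Opposite

namespace Groth.Agent.H8Lim.RelApprox

/-- `S` is a limit of finite type schemes extending the system `DV` along `v`. -/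
def Extends {I : Type u} [Preorder I] (DV : Iᵒᵖ ⥤ Scheme.{u}) (cV : Cone DV) {S : Scheme.{u}} (v : cV.pt ⟶ S) : Prop :=
  ∃ (J : Type u) (_ : Preorder J) (_ : IsDirected J (fun a b => a ≤ b)) (_ : Nonempty J)
    (DS : Jᵒᵖ ⥤ Scheme.{u}) (cS : Cone DS) (_ : IsLimit cS) (e : cS.pt ≅ S) (α : J →o I)
    (ι : ∀ j : J, DV.obj (op (α j)) ⟶ DS.obj (op j)),
    (∀ j, IsOpenImmersion (ι j)) ∧ (∀ (j j' : Jᵒᵖ) (a : j ⟶ j'), IsAffineHom (DS.map a)) ∧
    (∀ j, CompactSpace (DS.obj j) ∧ LocallyOfFiniteType (specULiftZIsTerminal.from (DS.obj j))) ∧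
    (∀ (j j' : J) (h : j' ≤ j), DV.map (homOfLE (α.mono h)).op ≫ ι j' = ι j ≫ DS.map (homOfLE h).op) ∧
    (∀ (j j' : J) (h : j' ≤ j) (x : DS.obj (op j)), DS.map (homOfLE h).op x ∈ Set.range (ι j') →
      x ∈ Set.range (ι j)) ∧
    (∀ j, v ≫ e.inv ≫ cS.π.app (op j) = cV.π.app (op (α j)) ≫ ι j) ∧
    (∀ (j : J) (z : S), (e.inv ≫ cS.π.app (op j)) z ∈ Set.range (ι j) → z ∈ Set.range v)

theorem quasiSeparatedSpace_of_lft {X : Scheme.{u}} (h : LocallyOfFiniteType (specULiftZIsTerminal.from X)) :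
    QuasiSeparatedSpace X := by
  haveI := isLocallyNoetherian_specULiftZ.{u}
  haveI : IsLocallyNoetherian X := LocallyOfFiniteType.isLocallyNoetherian (specULiftZIsTerminal.from X)
  infer_instance

/-- An isomorphism extends trivially. -/
theorem extends_of_isIso {I : Type u} [Preorder I] [IsDirected I (fun a b => a ≤ b)] [Nonempty I]
    {DV : Iᵒᵖ ⥤ Scheme.{u}} {cV : Cone DV} (hcV : IsLimit cV) (haff : ∀ (i i' : Iᵒᵖ) (a : i ⟶ i'), IsAffineHom (DV.map a))
    (hft : ∀ i, CompactSpace (DV.obj i) ∧ LocallyOfFiniteType (specULiftZIsTerminal.from (DV.obj i)))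
    {S : Scheme.{u}} (v : cV.pt ⟶ S) [IsIso v] : Extends DV cV v := by
  refine ⟨I, inferInstance, inferInstance, inferInstance, DV, cV, hcV, asIso v, OrderHom.id, fun j => 𝟙 _,
    fun j => inferInstanceAs (IsOpenImmersion (𝟙 _)), haff, hft, fun j j' h => ?_, fun j j' h x _ => ⟨x, rfl⟩,
    fun j => ?_, fun j z _ => ⟨inv v z, ?_⟩⟩
  · exact (Category.comp_id _).trans (Category.id_comp _).symm
  · exact (IsIso.hom_inv_id_assoc v _).trans (Category.comp_id _).symm
  · rw [← Scheme.Hom.comp_apply, IsIso.inv_hom_id]; rfl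

/-- One more affine open. -/
theorem extends_step {I : Type u} [Preorder I] [IsDirected I (fun a b => a ≤ b)] [Nonempty I]
    {DV : Iᵒᵖ ⥤ Scheme.{u}} {cV : Cone DV} (hcV : IsLimit cV) (haff : ∀ (i i' : Iᵒᵖ) (a : i ⟶ i'), IsAffineHom (DV.map a))
    (hft : ∀ i, CompactSpace (DV.obj i) ∧ LocallyOfFiniteType (specULiftZIsTerminal.from (DV.obj i)))
    {S B : Scheme.{u}} [QuasiSeparatedSpace S] [IsAffine B] (v : cV.pt ⟶ S) (u : B ⟶ S)
    [IsOpenImmersion v] [IsOpenImmersion u] [CompactSpace cV.pt]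
    (hcov : ∀ z, z ∈ Set.range v ∨ z ∈ Set.range u) : Extends DV cV v := by
  haveI : ∀ {i j : Iᵒᵖ} (φ : i ⟶ j), IsAffineHom (DV.map φ) := fun φ => haff _ _ φ
  haveI : ∀ i, CompactSpace (DV.obj i) := fun i => (hft i).1
  haveI : ∀ i, LocallyOfFiniteType (specULiftZIsTerminal.from (DV.obj i)) := fun i => (hft i).2
  haveI : ∀ i, QuasiSeparatedSpace (DV.obj i) := fun i => quasiSeparatedSpace_of_lft (hft i).2
  haveI : QuasiSeparatedSpace cV.pt := QuasiSeparatedSpace.of_isOpenEmbedding v.isOpenEmbedding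
  -- the intersection
  have hW0 : IsCompact ((v ⁻¹ᵁ u.opensRange : cV.pt.Opens) : Set cV.pt) := by
    rw [v.isOpenEmbedding.isInducing.isCompact_iff]
    show IsCompact (v '' (v ⁻¹' Set.range u))
    rw [Set.image_preimage_eq_inter_range]
    exact (isCompact_range u.continuous).inter_of_isOpen (isCompact_range v.continuous)
      u.isOpenEmbedding.isOpen_range v.isOpenEmbedding.isOpen_range
  obtain ⟨i₀, O₀, hO₀c, hO₀⟩ := _root_.AlgebraicGeometry.exists_preimage_eq DV cV hcV (v ⁻¹ᵁ u.opensRange) hW0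
  have hW0' : ∀ x, x ∈ cV.π.app i₀ ⁻¹ᵁ O₀ ↔ v x ∈ Set.range u := fun x => by rw [hO₀]; rfl
  let E := opensDiagram DV i₀ O₀
  let cE := opensCone DV cV i₀ O₀
  have hE : IsLimit cE := isLimitOpensCone DV cV hcV i₀ O₀
  haveI : ∀ j, CompactSpace (E.obj j) := fun j ↦
    isCompact_iff_compactSpace.mp (QuasiCompact.isCompact_preimage (f := DV.map j.hom) _ O₀.2 hO₀c)
  haveI : ∀ j, QuasiSeparatedSpace (E.obj j) := fun j ↦
    QuasiSeparatedSpace.of_isOpenEmbedding (Scheme.Opens.ι _).isOpenEmbedding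
  let jB₀ : (cV.π.app i₀ ⁻¹ᵁ O₀).toScheme ⟶ B :=
    IsOpenImmersion.lift u ((cV.π.app i₀ ⁻¹ᵁ O₀).ι ≫ v) (by
      rintro _ ⟨x, rfl⟩
      exact (hW0' x.1).1 x.2)
  have hjB₀ : jB₀ ≫ u = (cV.π.app i₀ ⁻¹ᵁ O₀).ι ≫ v := IsOpenImmersion.lift_fac _ _ _
  haveI : IsOpenImmersion (jB₀ ≫ u) := hjB₀ ▸ inferInstance
  haveI : IsOpenImmersion jB₀ := IsOpenImmersion.of_comp jB₀ u
  haveI : CompactSpace (cV.π.app i₀ ⁻¹ᵁ O₀).toScheme := isCompact_iff_compactSpace.mp (hO₀ ▸ hW0)
  obtain ⟨s₀, hs₀, hs₁⟩ := exists_basicOpen_cover (isAffineOpen_top B) le_top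
    (W := jB₀.opensRange) (isCompact_range jB₀.continuous)
  let g : {k // k ∈ s₀} → Γ(B, ⊤) := fun k ↦ k.1
  have hgpre : ∀ k, jB₀ ⁻¹ᵁ B.basicOpen (g k) = (cV.π.app i₀ ⁻¹ᵁ O₀).toScheme.basicOpen (jB₀.appTop (g k)) :=
    fun k ↦ Scheme.preimage_basicOpen_top _ _
  have hgcov : jB₀.opensRange ≤ ⨆ k, B.basicOpen (g k) :=
    hs₁.trans (iSup₂_le fun k hk ↦ le_iSup (fun k ↦ B.basicOpen (g k)) ⟨k, hk⟩)
  have hgO : ∀ k, B.basicOpen (g k) ≤ jB₀.opensRange := fun k ↦ hs₀ k.1 k.2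
  let t : E ⟶ (Functor.const _).obj (Spec (CommRingCat.of (ULift.{u} ℤ))) :=
    { app := fun j => specULiftZIsTerminal.from (E.obj j)
      naturality := fun _ _ _ => specULiftZIsTerminal.hom_ext _ _ }
  obtain ⟨j, σ, hσ, hσa, hσcov, -⟩ := exists_stage_data hE t (specULiftZIsTerminal.from cE.pt)
    (fun _ => specULiftZIsTerminal.hom_ext _ _) ⊤ rfl (fun k ↦ jB₀.appTop (g k)) (by
      rw [eq_top_iff]
      intro x _
      obtain ⟨k, hk⟩ := Opens.mem_iSup.mp (hgcov ⟨x, rfl⟩)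
      exact Opens.mem_iSup.mpr ⟨k, (hgpre k).le hk⟩)
    (fun k ↦ hgpre k ▸ ((isAffineOpen_top B).basicOpen (g k)).preimage_of_isOpenImmersion jB₀ (hgO k))
  let O : (DV.obj (op j.left.unop)).Opens := DV.map j.hom ⁻¹ᵁ O₀
  have hWW : cV.π.app (op j.left.unop) ⁻¹ᵁ O = cV.π.app i₀ ⁻¹ᵁ O₀ := by
    show cV.π.app j.left ⁻¹ᵁ (DV.map j.hom ⁻¹ᵁ O₀) = _
    rw [← Scheme.Hom.comp_preimage, cV.w]
  let jB : (cV.π.app (op j.left.unop) ⁻¹ᵁ O).toScheme ⟶ B := (cV.pt.isoOfEq hWW).hom ≫ jB₀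
  have hjB : jB ≫ u = (cV.π.app (op j.left.unop) ⁻¹ᵁ O).ι ≫ v := by
    simp only [jB, Category.assoc, hjB₀, Scheme.isoOfEq_hom_ι_assoc]
  have hjBr : jB.opensRange = jB₀.opensRange := by
    apply Opens.ext
    show Set.range ((cV.pt.isoOfEq hWW).hom ≫ jB₀) = Set.range jB₀
    rw [Scheme.Hom.comp_base, TopCat.coe_comp, Set.range_comp,
      Set.range_eq_univ.2 (cV.pt.isoOfEq hWW).hom.surjective, Set.image_univ]
  let π₀ : (cV.π.app i₀ ⁻¹ᵁ O₀).toScheme ⟶ O.toScheme := cE.π.app j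
  have hπ₀ : π₀ ≫ O.ι = (cV.π.app i₀ ⁻¹ᵁ O₀).ι ≫ cV.π.app (op j.left.unop) := Scheme.Hom.resLE_comp_ι _ _
  have hres : (cV.π.app (op j.left.unop)).resLE O (cV.π.app (op j.left.unop) ⁻¹ᵁ O) le_rfl =
      (cV.pt.isoOfEq hWW).hom ≫ π₀ := by
    rw [← cancel_mono O.ι, Scheme.Hom.resLE_comp_ι, Category.assoc, hπ₀]
    exact (Scheme.isoOfEq_hom_ι_assoc _ _ _).symm
  let s : Setup DV cV :=
    { i₁ := j.left.unop
      O := O
      isCompact_O := QuasiCompact.isCompact_preimage (f := DV.map j.hom) _ O₀.2 hO₀c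
      B := B
      isAffine_B := inferInstance
      jB := jB
      isOpenImmersion_jB := inferInstance
      κ := {k // k ∈ s₀}
      finite := inferInstance
      g := g
      σ := σ
      hgσ := fun k => by
        rw [hres, Scheme.Hom.comp_appTop, Scheme.Hom.comp_appTop, CommRingCat.comp_apply, CommRingCat.comp_apply]
        exact congrArg _ (hσ k)
      hgO := fun k => hjBr ▸ hgO k
      hσa := hσa
      hσcov := hσcov }
  haveI : CompactSpace s.W.toScheme := isCompact_iff_compactSpace.mp (by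
    show IsCompact ((cV.π.app (op j.left.unop) ⁻¹ᵁ O : cV.pt.Opens) : Set cV.pt)
    rw [hWW, hO₀]
    exact hW0)
  haveI : QuasiSeparatedSpace s.W.toScheme := QuasiSeparatedSpace.of_isOpenEmbedding (Scheme.Opens.ι _).isOpenEmbedding
  obtain ⟨hlim⟩ := s.isLimit_cone hcV
  have i1 : IsOpenImmersion (pushout.inl s.W.ι s.jB) :=
    inferInstanceAs (IsOpenImmersion (colimit.ι (span s.W.ι s.jB) _))
  have i2 : IsOpenImmersion (pushout.inr s.W.ι s.jB) :=
    inferInstanceAs (IsOpenImmersion (colimit.ι (span s.W.ι s.jB) _))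
  -- comparison with `S`
  let f : s.P ⟶ S := pushout.desc v u hjB.symm
  have hf1 : pushout.inl _ _ ≫ f = v := pushout.inl_desc _ _ _
  have hf2 : pushout.inr _ _ ≫ f = u := pushout.inr_desc _ _ _
  have hmemW : ∀ x, v x ∈ Set.range u → x ∈ cV.π.app (op j.left.unop) ⁻¹ᵁ O := fun x hx => by
    rw [hWW]; exact (hW0' x).2 hx
  have hv : ∀ z, f z ∈ v.opensRange ↔ z ∈ Set.range (pushout.inl s.W.ι s.jB) := fun z => by
    constructor
    · rintro ⟨x, hx⟩
      rcases s.coveredP z with h' | ⟨y, rfl⟩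
      · exact h'
      replace hx : v x = u y := by rw [← hf2, Scheme.Hom.comp_apply]; exact hx
      refine ⟨x, ?_⟩
      obtain ⟨o, rfl⟩ : ∃ o : s.W.toScheme, s.W.ι o = x := ⟨⟨x, hmemW x ⟨y, hx.symm⟩⟩, rfl⟩
      have : s.jB o = y := u.isOpenEmbedding.injective (by
        rw [← hx, ← Scheme.Hom.comp_apply, ← Scheme.Hom.comp_apply]
        exact congrArg (fun m => m o) hjB)
      rw [← this, ← Scheme.Hom.comp_apply, pushout.condition, Scheme.Hom.comp_apply]
    · rintro ⟨x, rfl⟩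
      exact ⟨x, by rw [← Scheme.Hom.comp_apply, hf1]⟩
  have hu : ∀ z, f z ∈ u.opensRange ↔ z ∈ Set.range (pushout.inr s.W.ι s.jB) := fun z => by
    constructor
    · rintro ⟨y, hy⟩
      rcases s.coveredP z with ⟨x, rfl⟩ | h'
      · replace hy : u y = v x := by rw [← hf1, Scheme.Hom.comp_apply]; exact hy
        refine ⟨y, ?_⟩
        obtain ⟨o, rfl⟩ : ∃ o : s.W.toScheme, s.W.ι o = x := ⟨⟨x, hmemW x ⟨y, hy⟩⟩, rfl⟩
        have : s.jB o = y := u.isOpenEmbedding.injective (by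
          rw [hy, ← Scheme.Hom.comp_apply, ← Scheme.Hom.comp_apply]
          exact congrArg (fun m => m o) hjB)
        rw [← this, ← Scheme.Hom.comp_apply, ← pushout.condition, Scheme.Hom.comp_apply]
      · exact h'
    · rintro ⟨y, rfl⟩
      exact ⟨y, by rw [← Scheme.Hom.comp_apply, hf2]⟩
  haveI : IsIso f := by
    refine IsZariskiLocalAtTarget.of_iSup_eq_top (P := MorphismProperty.isomorphisms Scheme)
      (fun b : Bool => bif b then v.opensRange else u.opensRange) ?_ ?_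
    · rw [eq_top_iff]
      intro z _
      rcases hcov z with hz | hz
      · exact Opens.mem_iSup.mpr ⟨true, hz⟩
      · exact Opens.mem_iSup.mpr ⟨false, hz⟩
    · intro b
      cases b
      · dsimp only [cond_false]
        exact isIso_morphismRestrict_of_chart f _ (pushout.inr _ _) hu u.isoOpensRange.hom
          (by rw [Scheme.Hom.isoOpensRange_hom_ι, hf2])
      · dsimp only [cond_true]
        exact isIso_morphismRestrict_of_chart f _ (pushout.inl _ _) hv v.isoOpensRange.hom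
          (by rw [Scheme.Hom.isoOpensRange_hom_ι, hf1])
  refine ⟨s.Mdl, inferInstance, inferInstance, inferInstance, s.diagram, s.cone, hlim, (asIso f :),
    ⟨fun m => m.idx.1, fun a b h => h.1⟩, fun m => pushout.inl (s.left m) (s.right m), fun m => inferInstanceAs (IsOpenImmersion (colimit.ι (span (s.left m) (s.right m)) _)),
    fun a b h => s.isAffineHom_stageMap (leOfHom h.unop),
    fun m => ⟨s.compactSpace_stage m.unop, s.locallyOfFiniteType_stage m.unop⟩,
    fun a b h => (s.inl_stageMap h).symm, fun a b h x hx => (s.stageMap_inl_iff h x).1 hx, fun m => ?_, fun m z hz => ?_⟩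
  · show v ≫ inv f ≫ s.proj m = _
    rw [← hf1, Category.assoc, IsIso.hom_inv_id_assoc, s.inl_proj]
    rfl
  · change (inv f ≫ s.proj m) z ∈ _ at hz
    rw [Scheme.Hom.comp_apply] at hz
    obtain ⟨x, hx⟩ := (s.proj_inl_iff m _).1 hz
    refine ⟨x, ?_⟩
    rw [← hf1, Scheme.Hom.comp_apply, hx, ← Scheme.Hom.comp_apply, IsIso.inv_hom_id]
    rfl

/-- Extensions compose. -/
theorem Extends.trans {I : Type u} [Preorder I] {DV : Iᵒᵖ ⥤ Scheme.{u}} {cV : Cone DV}
    {S S' : Scheme.{u}} (v : cV.pt ⟶ S) (w : S ⟶ S') (h : Extends DV cV v)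
    (h' : ∀ (J : Type u) (_ : Preorder J) (_ : IsDirected J (fun a b => a ≤ b)) (_ : Nonempty J)
      (DS : Jᵒᵖ ⥤ Scheme.{u}) (cS : Cone DS), IsLimit cS →
      (∀ (j j' : Jᵒᵖ) (a : j ⟶ j'), IsAffineHom (DS.map a)) →
      (∀ j, CompactSpace (DS.obj j) ∧ LocallyOfFiniteType (specULiftZIsTerminal.from (DS.obj j))) →
      ∀ e : cS.pt ≅ S, Extends DS cS (e.hom ≫ w)) : Extends DV cV (v ≫ w) := by
  obtain ⟨J, _, _, _, DS, cS, hcS, e, α, ι, hι, haff, hft, hcomm, hpre, hcone, hrange⟩ := h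
  obtain ⟨K, _, _, _, DT, cT, hcT, e', β, κ, hκ, haff', hft', hcomm', hpre', hcone', hrange'⟩ :=
    h' J inferInstance inferInstance inferInstance DS cS hcS haff hft e
  have hconeS : ∀ k, w ≫ e'.inv ≫ cT.π.app (op k) = e.inv ≫ cS.π.app (op (β k)) ≫ κ k := fun k => by
    rw [← hcone' k, Category.assoc, e.inv_hom_id_assoc]
  refine ⟨K, inferInstance, inferInstance, inferInstance, DT, cT, hcT, e', α.comp β, fun k => ι (β k) ≫ κ k,
    fun k => @IsOpenImmersion.comp _ _ _ (ι (β k)) (κ k) (hι (β k)) (hκ k), haff', hft', fun k k' hk => ?_, fun k k' hk x hx => ?_,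
    fun k => ?_, fun k z hz => ?_⟩
  · rw [Category.assoc, ← hcomm' k k' hk, ← Category.assoc, ← Category.assoc]
    exact congrArg (· ≫ _) (hcomm (β k) (β k') (β.mono hk))
  · obtain ⟨y, hy⟩ := hx
    replace hy : κ k' (ι (β k') y) = DT.map (homOfLE hk).op x := hy
    obtain ⟨x', rfl⟩ := hpre' k k' hk x ⟨_, hy⟩
    have e1 : DT.map (homOfLE hk).op (κ k x') = κ k' (DS.map (homOfLE (β.mono hk)).op x') := by
      rw [← Scheme.Hom.comp_apply, ← hcomm' k k' hk]
      rfl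
    obtain ⟨x'', hx''⟩ := hpre (β k) (β k') (β.mono hk) x' ⟨y, (hκ k').base_open.injective (hy.trans e1)⟩
    exact ⟨x'', (congrArg (κ k) hx'' :)⟩
  · show (v ≫ w) ≫ e'.inv ≫ cT.π.app (op k) = cV.π.app (op (α (β k))) ≫ ι (β k) ≫ κ k
    rw [Category.assoc, hconeS, reassoc_of% hcone (β k)]
  · obtain ⟨y, hy⟩ := hz
    rw [Scheme.Hom.comp_apply] at hy
    obtain ⟨t, ht⟩ := hrange' k z ⟨_, hy⟩
    rw [Scheme.Hom.comp_apply] at ht
    have key : (e'.inv ≫ cT.π.app (op k)) z = κ k ((e.inv ≫ cS.π.app (op (β k))) (e.hom t)) := by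
      rw [← ht, ← Scheme.Hom.comp_apply w, hconeS, ← Scheme.Hom.comp_apply (e.inv ≫ _), Category.assoc]
    obtain ⟨r, hr⟩ := hrange (β k) (e.hom t) ⟨y, (hκ k).base_open.injective (hy.trans key)⟩
    exact ⟨r, by rw [Scheme.Hom.comp_apply, hr, ht]⟩

/-- Relative Noetherian approximation. -/
theorem exists_extends {I : Type u} [Preorder I] [IsDirected I (fun a b => a ≤ b)] [Nonempty I]
    {DV : Iᵒᵖ ⥤ Scheme.{u}} {cV : Cone DV} (hcV : IsLimit cV)
    (haff : ∀ (i i' : Iᵒᵖ) (a : i ⟶ i'), IsAffineHom (DV.map a))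
    (hft : ∀ i, CompactSpace (DV.obj i) ∧ LocallyOfFiniteType (specULiftZIsTerminal.from (DV.obj i)))
    {S : Scheme.{u}} [CompactSpace S] [QuasiSeparatedSpace S] (v : cV.pt ⟶ S) [IsOpenImmersion v]
    [CompactSpace cV.pt] : Extends DV cV v := by
  classical
  choose A hA hxA using fun x : S => exists_isAffineOpen_mem_and_subset (X := S) (x := x) (U := ⊤) trivial
  obtain ⟨t, ht⟩ := isCompact_univ.elim_finite_subcover (fun x => (A x : Set S)) (fun x => (A x).2)
    fun x _ => Set.mem_iUnion.mpr ⟨x, (hxA x).1⟩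
  have hind : ∀ (t : Finset S) (U : S.Opens), U = v.opensRange ⊔ t.sup A → IsCompact (U : Set S) ∧
      ∀ v' : cV.pt ⟶ U.toScheme, v' ≫ U.ι = v → Extends DV cV v' := by
    intro t
    induction t using Finset.induction_on with
    | empty =>
      rintro U rfl
      rw [Finset.sup_empty, sup_bot_eq]
      refine ⟨isCompact_range v.continuous, fun v' hv' => ?_⟩
      haveI : IsIso v' := by
        have : v' = v.isoOpensRange.hom := by
          rw [← cancel_mono v.opensRange.ι, hv', Scheme.Hom.isoOpensRange_hom_ι]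
        rw [this]; infer_instance
      exact extends_of_isIso hcV haff hft v'
    | insert x s _ ih =>
      rintro U rfl
      obtain ⟨hUc, hU⟩ := ih _ rfl
      have e : v.opensRange ⊔ (insert x s).sup A = (v.opensRange ⊔ s.sup A) ⊔ A x := by
        rw [Finset.sup_insert, sup_comm (A x), sup_assoc]
      refine ⟨?_, fun v' hv' => ?_⟩
      · rw [e, Opens.coe_sup]
        exact hUc.union (hA x).isCompact
      let U' := v.opensRange ⊔ s.sup A
      have hle : U' ≤ v.opensRange ⊔ (insert x s).sup A := e ▸ le_sup_left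
      let v₀ : cV.pt ⟶ U'.toScheme := IsOpenImmersion.lift U'.ι v (by
        rw [Scheme.Opens.range_ι]
        exact (le_sup_left : v.opensRange ≤ U'))
      have hv₀ : v₀ ≫ U'.ι = v := IsOpenImmersion.lift_fac _ _ _
      rw [show v' = v₀ ≫ S.homOfLE hle by
        rw [← cancel_mono (Scheme.Opens.ι _), hv', Category.assoc, Scheme.homOfLE_ι, hv₀]]
      refine (hU v₀ hv₀).trans v₀ (S.homOfLE hle) fun J _ _ _ DS cS hcS haff' hft' e' => ?_
      haveI : CompactSpace U'.toScheme := isCompact_iff_compactSpace.mp hUc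
      haveI : CompactSpace cS.pt := e'.inv.homeomorph.compactSpace
      haveI : IsAffine (A x).toScheme := hA x
      haveI : QuasiSeparatedSpace (v.opensRange ⊔ (insert x s).sup A).toScheme :=
        QuasiSeparatedSpace.of_isOpenEmbedding (Scheme.Opens.ι _).isOpenEmbedding
      have hle2 : A x ≤ v.opensRange ⊔ (insert x s).sup A := by rw [e]; exact le_sup_right
      refine extends_step hcS haff' hft' (e'.hom ≫ S.homOfLE hle) (S.homOfLE hle2) fun z => ?_
      have hz : z.1 ∈ U' ⊔ A x := e.le z.2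
      rcases hz with hz | hz
      · obtain ⟨w, hw⟩ := e'.hom.surjective ⟨z.1, hz⟩
        exact Or.inl ⟨w, by rw [Scheme.Hom.comp_apply, hw]; exact Subtype.ext (S.homOfLE_apply hle _)⟩
      · exact Or.inr ⟨⟨z.1, hz⟩, Subtype.ext (S.homOfLE_apply _ _)⟩
  have htop : v.opensRange ⊔ t.sup A = ⊤ := eq_top_iff.mpr fun z _ => by
    obtain ⟨y, hy, hzy⟩ := Set.mem_iUnion₂.mp (ht (Set.mem_univ z))
    exact Or.inr (Finset.le_sup (f := A) hy hzy)
  have h := (hind t ⊤ htop.symm).2 (v ≫ S.topIso.inv) (by rw [Category.assoc]; simp)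
  have h2 := h.trans (v ≫ S.topIso.inv) S.topIso.hom fun J _ _ _ DS cS hcS haff' hft' e' => by
    haveI : IsIso (e'.hom ≫ S.topIso.hom) := inferInstance
    exact extends_of_isIso hcS haff' hft' (e'.hom ≫ S.topIso.hom)
  rwa [Category.assoc, Iso.inv_hom_id, Category.comp_id] at h2

end Groth.Agent.H8Lim.RelApprox
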