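import Groth.Agent.H8Lim.Approximation
import Groth.Agent.H8Lim.NoetherianModel
import Mathlib

/-!
# Affine models containing a given model of an open

`B` affine, `O ⊆ B` a quasi-compact open with a map `π : O → O'`, `O'` covered by affine basic opens
`D(σ k)` matching `D(g k) ⊆ B`.  A subring of `Γ(B) ×_{Γ(O)} Γ(O')` that is large enough defines an
affine scheme containing `O'` as an open.
-/

set_option autoImplicit false
set_option backward.isDefEq.respectTransparency.types false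
set_option linter.style.haveILetI false

universe u

open CategoryTheory Limits AlgebraicGeometry TopologicalSpace Opposite

namespace Groth.Agent.H8Lim.RelApprox

variable {B O O' : Scheme.{u}} (jB : O ⟶ B) (π : O ⟶ O') {κ : Type u} (g : κ → Γ(B, ⊤)) (σ : κ → Γ(O', ⊤))

/-- The fibre product of the two rings of functions. -/
noncomputable def glueRing : Subring (Γ(B, ⊤) × Γ(O', ⊤)) :=
  RingHom.eqLocus (jB.appTop.hom.comp (RingHom.fst _ _)) (π.appTop.hom.comp (RingHom.snd _ _))

variable {jB π} in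
theorem mem_glueRing (p : Γ(B, ⊤) × Γ(O', ⊤)) : p ∈ glueRing jB π ↔ jB.appTop p.1 = π.appTop p.2 := Iff.rfl

/-- Subrings large enough to contain `O'`. -/
structure IsGood (R : Subring (Γ(B, ⊤) × Γ(O', ⊤))) : Prop where
  le : R ≤ glueRing jB π
  gen_mem : ∀ k, (g k, σ k) ∈ R
  surj : ∀ k (z : Γ(O', O'.basicOpen (σ k))), ∃ (n : ℕ), ∃ p ∈ R,
    z * O'.presheaf.map (homOfLE le_top).op (σ k) ^ n = O'.presheaf.map (homOfLE le_top).op p.2

variable {jB π g σ}

theorem IsGood.mono {R R' : Subring (Γ(B, ⊤) × Γ(O', ⊤))} (h : IsGood jB π g σ R) (hle : R ≤ R')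
    (hle' : R' ≤ glueRing jB π) : IsGood jB π g σ R' :=
  ⟨hle', fun k => hle (h.gen_mem k), fun k z => by
    obtain ⟨n, p, hp, e⟩ := h.surj k z
    exact ⟨n, p, hle hp, e⟩⟩

/-- The affine model. -/
noncomputable abbrev model (R : Subring (Γ(B, ⊤) × Γ(O', ⊤))) : Scheme.{u} := Spec (CommRingCat.of R)

/-- The map of `O'` to the model. -/
noncomputable def toModelRight (R : Subring (Γ(B, ⊤) × Γ(O', ⊤))) : O' ⟶ model R :=
  O'.toSpecΓ ≫ Spec.map (CommRingCat.ofHom ((RingHom.snd _ _).comp R.subtype))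

/-- The map of `B` to the model. -/
noncomputable def toModelLeft (R : Subring (Γ(B, ⊤) × Γ(O', ⊤))) : B ⟶ model R :=
  B.toSpecΓ ≫ Spec.map (CommRingCat.ofHom ((RingHom.fst _ _).comp R.subtype))

theorem toModelRight_appTop (R : Subring (Γ(B, ⊤) × Γ(O', ⊤))) (r : R) :
    (toModelRight R).appTop ((Scheme.ΓSpecIso (CommRingCat.of R)).inv r) = r.1.2 := by
  have h : (toModelRight R).appTop = (Scheme.ΓSpecIso (CommRingCat.of R)).hom ≫
      CommRingCat.ofHom ((RingHom.snd _ _).comp R.subtype) := by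
    simp [toModelRight, Scheme.toSpecΓ_appTop, Scheme.ΓSpecIso_naturality]
  rw [h, CommRingCat.comp_apply, Iso.inv_hom_id_apply]
  rfl

theorem toModelLeft_appTop (R : Subring (Γ(B, ⊤) × Γ(O', ⊤))) (r : R) :
    (toModelLeft R).appTop ((Scheme.ΓSpecIso (CommRingCat.of R)).inv r) = r.1.1 := by
  have h : (toModelLeft R).appTop = (Scheme.ΓSpecIso (CommRingCat.of R)).hom ≫
      CommRingCat.ofHom ((RingHom.fst _ _).comp R.subtype) := by
    simp [toModelLeft, Scheme.toSpecΓ_appTop, Scheme.ΓSpecIso_naturality]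
  rw [h, CommRingCat.comp_apply, Iso.inv_hom_id_apply]
  rfl

theorem comp_toModel {R : Subring (Γ(B, ⊤) × Γ(O', ⊤))} (hR : R ≤ glueRing jB π) :
    jB ≫ toModelLeft R = π ≫ toModelRight R := by
  refine ext_of_isAffine ?_
  ext v
  obtain ⟨r, rfl⟩ := (ConcreteCategory.bijective_of_isIso (Scheme.ΓSpecIso (CommRingCat.of R)).inv).2 v
  rw [Scheme.Hom.comp_appTop, Scheme.Hom.comp_appTop, CommRingCat.comp_apply, CommRingCat.comp_apply,
    toModelLeft_appTop, toModelRight_appTop]
  exact (mem_glueRing _).1 (hR r.2)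

theorem mem_toModelLeft_preimage {R : Subring (Γ(B, ⊤) × Γ(O', ⊤))} (r : R) (x : B) :
    toModelLeft R x ∈ PrimeSpectrum.basicOpen r ↔ x ∈ B.basicOpen r.1.1 := by
  rw [← toModelLeft_appTop R r, ← Scheme.preimage_basicOpen_top]
  show _ ↔ toModelLeft R x ∈ (model R).basicOpen _
  rw [basicOpen_eq_of_affine]
  rfl

theorem preimage_toModelRight {R : Subring (Γ(B, ⊤) × Γ(O', ⊤))} (r : R) :
    toModelRight R ⁻¹ᵁ PrimeSpectrum.basicOpen r = O'.basicOpen r.1.2 := by
  rw [← toModelRight_appTop R r, ← Scheme.preimage_basicOpen_top, basicOpen_eq_of_affine]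

section

variable [IsAffine B] [IsOpenImmersion jB] [CompactSpace O'] [QuasiSeparatedSpace O']
  (hgσ : ∀ k, π.appTop (σ k) = jB.appTop (g k)) (hgO : ∀ k, B.basicOpen (g k) ≤ jB.opensRange)
  (hσa : ∀ k, IsAffineOpen (O'.basicOpen (σ k))) (hσcov : ⨆ k, O'.basicOpen (σ k) = ⊤)

include hgσ hgO in
/-- Functions on `O'` extend to `B` after multiplication by a power of `σ k`. -/
theorem exists_lift [CompactSpace O] [QuasiSeparatedSpace O] (k : κ) (s : Γ(O', ⊤)) :
    ∃ (n : ℕ) (a : Γ(B, ⊤)), (a, σ k ^ n * s) ∈ glueRing jB π := by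
  have hpre : jB ⁻¹ᵁ B.basicOpen (g k) = O.basicOpen (jB.appTop (g k)) := Scheme.preimage_basicOpen_top jB (g k)
  have hiso : Function.Bijective (jB.app (B.basicOpen (g k))) :=
    have := jB.isIso_app _ (hgO k)
    ConcreteCategory.bijective_of_isIso _
  let inst₁ := (B.presheaf.map (homOfLE (le_top : B.basicOpen (g k) ≤ ⊤)).op).hom.toAlgebra
  have := (isAffineOpen_top B).isLocalization_of_eq_basicOpen (g k) (homOfLE le_top) rfl
  let z := (O.presheaf.map (homOfLE (le_top : jB ⁻¹ᵁ B.basicOpen (g k) ≤ ⊤)).op) (π.appTop s)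
  obtain ⟨z', hz'⟩ := hiso.2 z
  obtain ⟨n, a, ha⟩ := IsLocalization.Away.surj (g k) z'
  have ha' : O.presheaf.map (homOfLE (le_top : jB ⁻¹ᵁ B.basicOpen (g k) ≤ ⊤)).op
      (π.appTop s * jB.appTop (g k) ^ n) =
      O.presheaf.map (homOfLE (le_top : jB ⁻¹ᵁ B.basicOpen (g k) ≤ ⊤)).op (jB.appTop a) := by
    have h1 := congr(jB.app (B.basicOpen (g k)) $ha)
    have hn : ∀ v, jB.app (B.basicOpen (g k)) (algebraMap Γ(B, ⊤) Γ(B, B.basicOpen (g k)) v) =
        O.presheaf.map (homOfLE (le_top : jB ⁻¹ᵁ B.basicOpen (g k) ≤ ⊤)).op (jB.appTop v) :=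
      fun v ↦ congr($(jB.naturality (homOfLE le_top).op).hom v)
    rw [map_mul, map_pow, hn, hn, hz'] at h1
    rw [map_mul, map_pow]
    exact h1
  let inst₂ := (O.presheaf.map (homOfLE (le_top : jB ⁻¹ᵁ B.basicOpen (g k) ≤ ⊤)).op).hom.toAlgebra
  have : IsLocalization.Away (jB.appTop (g k)) Γ(O, jB ⁻¹ᵁ B.basicOpen (g k)) := by
    dsimp +instances [inst₂]
    rw! (castMode := .all) [hpre]
    exact isLocalization_basicOpen_of_qcqs isCompact_univ isQuasiSeparated_univ _
  obtain ⟨m, hm⟩ := IsLocalization.Away.exists_of_eq (jB.appTop (g k)) ha'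
  refine ⟨m + n, g k ^ m * a, (mem_glueRing _).mpr ?_⟩
  simp only [map_mul, map_pow, ← hm, hgσ, pow_add]
  ring

include hgσ hgO hσa in
/-- Finitely generated large subrings exist. -/
theorem exists_isGood [CompactSpace O] [QuasiSeparatedSpace O] [Finite κ]
    (hft : LocallyOfFiniteType (specULiftZIsTerminal.from O'))
    (F : Finset (Γ(B, ⊤) × Γ(O', ⊤))) (hF : (F : Set (Γ(B, ⊤) × Γ(O', ⊤))) ⊆ (glueRing jB π : Set _)) :
    ∃ F' : Finset (Γ(B, ⊤) × Γ(O', ⊤)), F ⊆ F' ∧
      IsGood jB π g σ (Subring.closure (F' : Set (Γ(B, ⊤) × Γ(O', ⊤)))) := by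
  classical
  cases nonempty_fintype κ
  choose n a hna using exists_lift hgσ hgO
  have hsurj : ∀ k (z : Γ(O', O'.basicOpen (σ k))), ∃ (m : ℕ) (s : Γ(O', ⊤)),
      z * O'.presheaf.map (homOfLE le_top).op (σ k) ^ m = O'.presheaf.map (homOfLE le_top).op s := fun k z => by
    letI := (O'.presheaf.map (homOfLE (le_top : O'.basicOpen (σ k) ≤ ⊤)).op).hom.toAlgebra
    haveI : IsLocalization.Away (σ k) Γ(O', O'.basicOpen (σ k)) :=
      isLocalization_basicOpen_of_qcqs isCompact_univ isQuasiSeparated_univ _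
    exact IsLocalization.Away.surj (σ k) z
  choose m s hms using hsurj
  have hgens : ∀ k, ∃ T : Finset Γ(O', O'.basicOpen (σ k)), Subring.closure (T : Set Γ(O', O'.basicOpen (σ k))) = ⊤ := by
    intro k
    let Z := Spec (CommRingCat.of (ULift.{u} ℤ))
    obtain ⟨T, hT⟩ := (HasRingHomProperty.appLE @LocallyOfFiniteType (specULiftZIsTerminal.from O') hft
      ⟨⊤, isAffineOpen_top Z⟩ ⟨_, hσa k⟩ le_top).1
    letI := ((specULiftZIsTerminal.from O').appLE ⊤ (O'.basicOpen (σ k)) le_top).hom.toAlgebra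
    refine ⟨T, (Subring.eq_top_iff' _).2 fun z => ?_⟩
    have hz : z ∈ Algebra.adjoin Γ(Z, ⊤) (T : Set Γ(O', O'.basicOpen (σ k))) := hT.ge trivial
    induction hz using Algebra.adjoin_induction with
    | mem z hz => exact Subring.subset_closure hz
    | algebraMap r =>
      obtain ⟨r', rfl⟩ := (ConcreteCategory.bijective_of_isIso (Scheme.ΓSpecIso (CommRingCat.of (ULift.{u} ℤ))).inv).2 r
      obtain ⟨r'', rfl⟩ := ULift.ringEquiv.symm.surjective r'
      have e : algebraMap Γ(Z, ⊤) Γ(O', O'.basicOpen (σ k))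
          ((Scheme.ΓSpecIso (CommRingCat.of (ULift.{u} ℤ))).inv (ULift.ringEquiv.symm r'')) = ((r'' : ℤ) : _) :=
        eq_intCast (((algebraMap Γ(Z, ⊤) Γ(O', O'.basicOpen (σ k))).comp
          (Scheme.ΓSpecIso (CommRingCat.of (ULift.{u} ℤ))).inv.hom).comp
            (ULift.ringEquiv : ULift.{u} ℤ ≃+* ℤ).symm.toRingHom) r''
      rw [e]
      exact intCast_mem _ _
    | add x y _ _ hx hy => exact add_mem hx hy
    | mul x y _ _ hx hy => exact mul_mem hx hy
  choose T hT using hgens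
  let F' : Finset (Γ(B, ⊤) × Γ(O', ⊤)) := F ∪ Finset.univ.image (fun k => (g k, σ k)) ∪
    Finset.univ.biUnion fun k => (T k).image fun z => (a k (s k z), σ k ^ n k (s k z) * s k z)
  refine ⟨F', Finset.subset_union_left.trans Finset.subset_union_left, ⟨?_, ?_, ?_⟩⟩
  · rw [Subring.closure_le]
    intro p hp
    simp only [F', Finset.coe_union, Finset.coe_image, Finset.coe_biUnion, Finset.coe_univ] at hp
    rcases hp with (hp | ⟨k, -, rfl⟩) | hp
    · exact hF hp
    · exact (hgσ k).symm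
    · obtain ⟨k, -, z, -, rfl⟩ := by simpa using hp
      exact hna _ _
  · exact fun k => Subring.subset_closure (Finset.mem_coe.2 (Finset.mem_union_left _ (Finset.mem_union_right _
      (Finset.mem_image_of_mem _ (Finset.mem_univ k)))))
  · intro k z
    let res := O'.presheaf.map (homOfLE (le_top : O'.basicOpen (σ k) ≤ ⊤)).op
    have hgk : (g k, σ k) ∈ Subring.closure (F' : Set (Γ(B, ⊤) × Γ(O', ⊤))) :=
      Subring.subset_closure (Finset.mem_coe.2 (Finset.mem_union_left _ (Finset.mem_union_right _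
      (Finset.mem_image_of_mem _ (Finset.mem_univ k)))))
    have hz : z ∈ Subring.closure (T k : Set Γ(O', O'.basicOpen (σ k))) := (hT k).ge trivial
    induction hz using Subring.closure_induction with
    | mem z hz =>
      refine ⟨n k (s k z) + m k z, (a k (s k z), σ k ^ n k (s k z) * s k z),
        Subring.subset_closure ?_, ?_⟩
      · simp only [F', Finset.coe_union, Finset.coe_biUnion, Finset.coe_image]
        exact Or.inr (Set.mem_iUnion₂.2 ⟨k, Finset.mem_coe.2 (Finset.mem_univ k), z, hz, rfl⟩)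
      · show z * res (σ k) ^ _ = res _
        rw [map_mul, map_pow, ← hms, pow_add]
        ring
    | zero => exact ⟨0, 0, zero_mem _, by simp⟩
    | one => exact ⟨0, 1, one_mem _, by simp⟩
    | add x y _ _ hx hy =>
      obtain ⟨i, p, hp, ep⟩ := hx
      obtain ⟨j, q, hq, eq⟩ := hy
      refine ⟨i + j, p * (g k, σ k) ^ j + q * (g k, σ k) ^ i,
        add_mem (mul_mem hp (pow_mem hgk _)) (mul_mem hq (pow_mem hgk _)), ?_⟩
      simp only [Prod.snd_add, Prod.snd_mul, Prod.pow_snd, map_add, map_mul, map_pow, ← ep, ← eq, pow_add]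
      ring
    | neg x _ hx =>
      obtain ⟨i, p, hp, ep⟩ := hx
      exact ⟨i, -p, neg_mem hp, by simp only [Prod.snd_neg, map_neg, ← ep, neg_mul]⟩
    | mul x y _ _ hx hy =>
      obtain ⟨i, p, hp, ep⟩ := hx
      obtain ⟨j, q, hq, eq⟩ := hy
      refine ⟨i + j, p * q, mul_mem hp hq, ?_⟩
      simp only [Prod.snd_mul, map_mul, ← ep, ← eq, pow_add]
      ring

include hgσ hgO hσa in
/-- The localizations of a large subring. -/
theorem IsGood.isOpenImmersion_aux [CompactSpace O] [QuasiSeparatedSpace O]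
    {R : Subring (Γ(B, ⊤) × Γ(O', ⊤))} (hR : IsGood jB π g σ R) (k : κ) :
    IsOpenImmersion ((O'.basicOpen (σ k)).ι ≫ toModelRight R) ∧
      (PrimeSpectrum.basicOpen (⟨(g k, σ k), hR.gen_mem k⟩ : R) : Set (PrimeSpectrum R)) ⊆
        Set.range (toModelRight R) := by
  let res := O'.presheaf.map (homOfLE (le_top : O'.basicOpen (σ k) ≤ ⊤)).op
  let φ : R →+* Γ(O', O'.basicOpen (σ k)) := res.hom.comp ((RingHom.snd _ _).comp R.subtype)
  letI := φ.toAlgebra
  let G : R := ⟨(g k, σ k), hR.gen_mem k⟩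
  have hres : ∀ v, res v = 0 → ∃ N, σ k ^ N * v = 0 := fun v hv => by
    letI := res.hom.toAlgebra
    haveI : IsLocalization.Away (σ k) Γ(O', O'.basicOpen (σ k)) :=
      isLocalization_basicOpen_of_qcqs isCompact_univ isQuasiSeparated_univ _
    obtain ⟨N, hN⟩ := IsLocalization.Away.exists_of_eq (σ k) (a := v) (b := 0) (hv.trans (map_zero _).symm)
    exact ⟨N, hN.trans (mul_zero _)⟩
  have hB : ∀ a : Γ(B, ⊤), jB.appTop a = 0 → ∃ M, g k ^ M * a = 0 := fun a ha => by
    let rB := B.presheaf.map (homOfLE (le_top : B.basicOpen (g k) ≤ ⊤)).op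
    have hiso : Function.Bijective (jB.app (B.basicOpen (g k))) :=
      have := jB.isIso_app _ (hgO k)
      ConcreteCategory.bijective_of_isIso _
    have h0 : rB a = 0 := by
      refine hiso.1 ?_
      rw [map_zero, ← CommRingCat.comp_apply, jB.naturality]
      change O.presheaf.map _ (jB.appTop a) = 0
      rw [ha, map_zero]
    letI := rB.hom.toAlgebra
    haveI := (isAffineOpen_top B).isLocalization_of_eq_basicOpen (g k) (homOfLE le_top) rfl
    obtain ⟨M, hM⟩ := IsLocalization.Away.exists_of_eq (g k) (a := a) (b := 0) (h0.trans (map_zero _).symm)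
    exact ⟨M, hM.trans (mul_zero _)⟩
  haveI : IsLocalization.Away G Γ(O', O'.basicOpen (σ k)) := by
    refine IsLocalization.Away.mk G (RingedSpace.isUnit_res_basicOpen _ (σ k)) (fun z => ?_) (fun a b hab => ?_)
    · obtain ⟨N, p, hp, e⟩ := hR.surj k z
      exact ⟨N, ⟨p, hp⟩, e⟩
    · have h0 : res (a - b : R).1.2 = 0 := by
        show res (a.1.2 - b.1.2) = 0
        rw [map_sub, sub_eq_zero]
        exact hab
      obtain ⟨N, hN⟩ := hres _ h0
      have hmem := hR.le (R.mul_mem (pow_mem (hR.gen_mem k) N) (a - b).2)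
      have h1 : jB.appTop (g k ^ N * (a - b : R).1.1) = 0 := by
        refine ((mem_glueRing _).1 hmem).trans ?_
        show π.appTop (σ k ^ N * (a - b : R).1.2) = 0
        rw [hN, map_zero]
      obtain ⟨M, hM⟩ := hB _ h1
      refine ⟨M + N, Subtype.ext (sub_eq_zero.1 ?_)⟩
      refine Prod.ext ?_ ?_
      · show g k ^ (M + N) * a.1.1 - g k ^ (M + N) * b.1.1 = 0
        rw [← mul_sub, pow_add, mul_assoc]
        exact hM
      · show σ k ^ (M + N) * a.1.2 - σ k ^ (M + N) * b.1.2 = 0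
        rw [← mul_sub, pow_add, mul_assoc]
        exact (congrArg (σ k ^ M * ·) hN).trans (mul_zero _)
  have h := IsOpenImmersion.of_isLocalization (S := Γ(O', O'.basicOpen (σ k))) G
  haveI : IsAffine (O'.basicOpen (σ k)).toScheme := hσa k
  have e : (O'.basicOpen (σ k)).ι ≫ toModelRight R =
      (hσa k).isoSpec.hom ≫ Spec.map (CommRingCat.ofHom φ) := by
    rw [toModelRight, show CommRingCat.ofHom φ = CommRingCat.ofHom ((RingHom.snd _ _).comp R.subtype) ≫ res from rfl,
      Spec.map_comp, IsAffineOpen.isoSpec_hom, ← Category.assoc, ← Category.assoc,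
      ← Scheme.Opens.toSpecΓ_SpecMap_presheaf_map_top]
  haveI : IsOpenImmersion (Spec.map (CommRingCat.ofHom φ)) := h
  refine ⟨by rw [e]; infer_instance, fun y hy => ?_⟩
  obtain ⟨z, hz⟩ := (PrimeSpectrum.localization_away_comap_range Γ(O', O'.basicOpen (σ k)) G).ge hy
  refine ⟨(O'.basicOpen (σ k)).ι ((hσa k).isoSpec.inv z), ?_⟩
  rw [← Scheme.Hom.comp_apply, ← Scheme.Hom.comp_apply, e, Iso.inv_hom_id_assoc]
  exact hz

include hgσ hgO hσa hσcov in
/-- The model contains `O'` as an open. -/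
theorem IsGood.isOpenImmersion [CompactSpace O] [QuasiSeparatedSpace O]
    {R : Subring (Γ(B, ⊤) × Γ(O', ⊤))} (hR : IsGood jB π g σ R) : IsOpenImmersion (toModelRight R) := by
  have hpre : ∀ k, toModelRight R ⁻¹ᵁ PrimeSpectrum.basicOpen (⟨(g k, σ k), hR.gen_mem k⟩ : R) =
      O'.basicOpen (σ k) := fun k => preimage_toModelRight _
  refine isOpenImmersion_of_preimages _ (fun k => PrimeSpectrum.basicOpen (⟨(g k, σ k), hR.gen_mem k⟩ : R))
    ((iSup_congr hpre).trans hσcov) fun k => ?_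
  rw [hpre k]
  exact (hR.isOpenImmersion_aux hgσ hgO hσa k).1

include hgO hσcov in
/-- Only `O` lands in `O'`. -/
theorem IsGood.mem_range {R : Subring (Γ(B, ⊤) × Γ(O', ⊤))} (hR : IsGood jB π g σ R) (x : B)
    (hx : toModelLeft R x ∈ Set.range (toModelRight R)) : x ∈ Set.range jB := by
  obtain ⟨o, ho⟩ := hx
  obtain ⟨k, hk⟩ := Opens.mem_iSup.1 (hσcov.ge (Opens.mem_top o))
  refine hgO k ((mem_toModelLeft_preimage (⟨(g k, σ k), hR.gen_mem k⟩ : R) x).1 ?_)
  rw [← ho]
  exact (preimage_toModelRight (⟨(g k, σ k), hR.gen_mem k⟩ : R)).ge hk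

end

/-- Finitely generated models are of finite type over the integers. -/
theorem locallyOfFiniteType_model {T : Type u} [CommRing T] (F : Finset T) :
    LocallyOfFiniteType (specULiftZIsTerminal.from (Spec (CommRingCat.of (Subring.closure (F : Set T))))) := by
  let R := Subring.closure (F : Set T)
  let φ : ULift.{u} ℤ →+* R := (Int.castRingHom R).comp ULift.ringEquiv.toRingHom
  rw [specULiftZIsTerminal.hom_ext (specULiftZIsTerminal.from _) (Spec.map (CommRingCat.ofHom φ))]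
  refine (HasRingHomProperty.Spec_iff (P := @LocallyOfFiniteType)).2 ?_
  classical
  letI := φ.toAlgebra
  refine ⟨⟨F.attach.image fun x => ⟨x.1, Subring.subset_closure x.2⟩, eq_top_iff.2 fun z _ => ?_⟩⟩
  have hle : R ≤ (Algebra.adjoin (ULift.{u} ℤ) (SetLike.coe (F.attach.image fun x =>
      (⟨x.1, Subring.subset_closure x.2⟩ : R)))).toSubring.map R.subtype :=
    Subring.closure_le.2 fun p hp => ⟨⟨p, Subring.subset_closure hp⟩,
      Algebra.subset_adjoin (Finset.mem_image.2 ⟨⟨p, hp⟩, Finset.mem_attach _ _, rfl⟩), rfl⟩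
  obtain ⟨v, hv, hvz⟩ := hle z.2
  exact (Subtype.ext hvz : v = z) ▸ hv

end Groth.Agent.H8Lim.RelApprox
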