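import Groth.Agent.H8Lim.RelApproxStep
import Mathlib

/-!
# The new system has the bigger scheme as its limit
-/

set_option autoImplicit false
set_option backward.isDefEq.respectTransparency.types false
set_option linter.style.haveILetI false
set_option linter.unusedSectionVars false
set_option maxHeartbeats 1000000

universe u

open CategoryTheory Limits AlgebraicGeometry TopologicalSpace Opposite

namespace Groth.Agent.H8Lim.RelApprox

/-- A morphism is an isomorphism over an open when a chart of the preimage maps isomorphically. -/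
theorem isIso_morphismRestrict_of_chart {A X Y : Scheme.{u}} (f : X ⟶ Y) (O : Y.Opens) (a : A ⟶ X)
    [IsOpenImmersion a] (hr : ∀ x, f x ∈ O ↔ x ∈ Set.range a) (b : A ⟶ O.toScheme) [IsIso b]
    (hb : b ≫ O.ι = a ≫ f) : IsIso (f ∣_ O) := by
  have e : f ⁻¹ᵁ O = a.opensRange := Opens.ext (Set.ext hr)
  let c : A ⟶ (f ⁻¹ᵁ O).toScheme := a.isoOpensRange.hom ≫ (X.isoOfEq e).inv
  have hc : c ≫ (f ⁻¹ᵁ O).ι = a := by simp [c, Scheme.Hom.isoOpensRange_hom_ι]
  have h1 : c ≫ f ∣_ O = b := by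
    rw [← cancel_mono O.ι, Category.assoc, morphismRestrict_ι, reassoc_of% hc, hb]
  haveI : IsIso (c ≫ f ∣_ O) := h1 ▸ inferInstance
  exact IsIso.of_isIso_comp_left c _

namespace Setup

variable {I : Type u} [Preorder I] [IsDirected I (· ≤ ·)] {DV : Iᵒᵖ ⥤ Scheme.{u}} {cV : Cone DV}
  (s : Setup DV cV) [hV : ∀ {i j : Iᵒᵖ} (φ : i ⟶ j), IsAffineHom (DV.map φ)]
  [∀ i : Iᵒᵖ, CompactSpace (DV.obj i)] [∀ i : Iᵒᵖ, QuasiSeparatedSpace (DV.obj i)]
  [hft : ∀ i : Iᵒᵖ, LocallyOfFiniteType (specULiftZIsTerminal.from (DV.obj i))]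
  [CompactSpace s.W.toScheme] [QuasiSeparatedSpace s.W.toScheme]

instance : IsDirected s.Mdl (· ≤ ·) := ⟨fun a b => s.directed_mdl a b⟩

theorem nonempty_mdl : Nonempty s.Mdl :=
  ⟨(s.exists_mdl ⟨s.i₁, le_rfl⟩ ∅ (by simp)).choose⟩

instance : Nonempty s.Mdl := s.nonempty_mdl

theorem exists_mdl_ge (i : I) : ∃ m : s.Mdl, i ≤ m.idx.1 := by
  obtain ⟨i', h, h'⟩ := _root_.exists_ge_ge i s.i₁
  obtain ⟨m, e, -⟩ := s.exists_mdl ⟨i', h'⟩ ∅ (by simp)
  exact ⟨m, h.trans e⟩

/-- The big scheme. -/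
noncomputable abbrev P : Scheme.{u} := pushout s.W.ι s.jB

instance : IsOpenImmersion (pushout.inl s.W.ι s.jB) :=
  inferInstanceAs (IsOpenImmersion (colimit.ι (span s.W.ι s.jB) _))

instance : IsOpenImmersion (pushout.inr s.W.ι s.jB) :=
  inferInstanceAs (IsOpenImmersion (colimit.ι (span s.W.ι s.jB) _))

theorem coveredP (z : s.P) : z ∈ Set.range (pushout.inl s.W.ι s.jB) ∨ z ∈ Set.range (pushout.inr s.W.ι s.jB) := by
  obtain ⟨k, w, rfl⟩ := Scheme.IsLocallyDirected.ι_jointly_surjective (span s.W.ι s.jB) z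
  rcases k with _ | ⟨_ | _⟩
  · exact Or.inl ⟨s.W.ι w, by
      rw [← colimit.w (span s.W.ι s.jB) WalkingSpan.Hom.fst]; rfl⟩
  · exact Or.inl ⟨w, rfl⟩
  · exact Or.inr ⟨w, rfl⟩

theorem interP {x : cV.pt} {y : s.B} (h : pushout.inl s.W.ι s.jB x = pushout.inr s.W.ι s.jB y) :
    ∃ o, s.W.ι o = x ∧ s.jB o = y := by
  obtain ⟨k, fi, fj, w, h₁, h₂⟩ := (Scheme.IsLocallyDirected.ι_eq_ι_iff (span s.W.ι s.jB)
    (i := WalkingSpan.left) (j := WalkingSpan.right) (xi := x) (xj := y)).mp h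
  change WidePushoutShape.Hom k (some WalkingPair.left) at fi
  change WidePushoutShape.Hom k (some WalkingPair.right) at fj
  rcases k with _ | k
  · cases fi
    cases fj
    exact ⟨w, h₁, h₂⟩
  · cases fi
    cases fj

/-- The projections. -/
noncomputable def proj (m : s.Mdl) : s.P ⟶ s.stage m :=
  pushout.desc (cV.π.app (op m.idx.1) ≫ pushout.inl _ _) (toModelLeft m.R ≫ pushout.inr _ _) (by
    rw [← Category.assoc, ← Category.assoc, comp_toModel m.good.le, Category.assoc (s.ψ m.idx), ← pushout.condition,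
      ← Category.assoc]
    congr 1
    exact (Scheme.Hom.resLE_comp_ι _ _).symm)

theorem inl_proj (m : s.Mdl) :
    pushout.inl _ _ ≫ s.proj m = cV.π.app (op m.idx.1) ≫ pushout.inl _ _ :=
  pushout.inl_desc _ _ _

theorem inr_proj (m : s.Mdl) : pushout.inr _ _ ≫ s.proj m = toModelLeft m.R ≫ pushout.inr _ _ :=
  pushout.inr_desc _ _ _

theorem toModelLeft_mapM {a b : s.Mdl} (h : a ≤ b) : toModelLeft b.R ≫ s.mapM h = toModelLeft a.R := by
  refine ext_of_isAffine ?_
  ext v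
  obtain ⟨r, rfl⟩ := (ConcreteCategory.bijective_of_isIso (Scheme.ΓSpecIso (CommRingCat.of a.R)).inv).2 v
  rw [Scheme.Hom.comp_appTop, CommRingCat.comp_apply, toModelLeft_appTop, mapM]
  rw [show (Spec.map (CommRingCat.ofHom (s.mapR h))).appTop ((Scheme.ΓSpecIso (CommRingCat.of a.R)).inv r) =
    (Scheme.ΓSpecIso (CommRingCat.of b.R)).inv (s.mapR h r) from
      (ConcreteCategory.congr_hom (Scheme.ΓSpecIso_inv_naturality (CommRingCat.ofHom (s.mapR h))) r).symm,
    toModelLeft_appTop]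
  rfl

theorem proj_stageMap {a b : s.Mdl} (h : a ≤ b) : s.proj b ≫ s.stageMap h = s.proj a := by
  apply pushout.hom_ext
  · rw [reassoc_of% s.inl_proj b, inl_stageMap, ← Category.assoc, cV.w, inl_proj]
  · rw [reassoc_of% s.inr_proj b, inr_stageMap, ← Category.assoc, toModelLeft_mapM, inr_proj]

/-- The cone. -/
noncomputable def cone : Cone s.diagram where
  pt := s.P
  π :=
    { app := fun m => s.proj m.unop
      naturality := fun m n f => (Category.id_comp _).trans (s.proj_stageMap (leOfHom f.unop)).symm }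

theorem proj_inl_iff (m : s.Mdl) (z : s.P) :
    s.proj m z ∈ Set.range (pushout.inl (s.left m) (s.right m)) ↔ z ∈ Set.range (pushout.inl s.W.ι s.jB) := by
  haveI := s.compactSpace_Wi m.idx
  haveI := s.quasiSeparatedSpace_Wi m.idx
  constructor
  · rintro ⟨x, hx⟩
    rcases s.coveredP z with h' | ⟨y, rfl⟩
    · exact h'
    rw [← Scheme.Hom.comp_apply, s.inr_proj m, Scheme.Hom.comp_apply] at hx
    obtain ⟨o, -, ho⟩ := s.inter m hx
    obtain ⟨o', rfl⟩ := m.good.mem_range s.hgO (s.hσcov' m.idx) y ⟨o, ho⟩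
    exact ⟨s.W.ι o', by rw [← Scheme.Hom.comp_apply, pushout.condition, Scheme.Hom.comp_apply]⟩
  · rintro ⟨x, rfl⟩
    exact ⟨cV.π.app (op m.idx.1) x, by rw [← Scheme.Hom.comp_apply, ← Scheme.Hom.comp_apply, s.inl_proj m]⟩

theorem proj_inr_iff (m : s.Mdl) (z : s.P) :
    s.proj m z ∈ Set.range (pushout.inr (s.left m) (s.right m)) ↔ z ∈ Set.range (pushout.inr s.W.ι s.jB) := by
  constructor
  · rintro ⟨y, hy⟩
    rcases s.coveredP z with ⟨x, rfl⟩ | h'
    · rw [← Scheme.Hom.comp_apply, s.inl_proj m, Scheme.Hom.comp_apply] at hy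
      obtain ⟨o, ho, -⟩ := s.inter m hy.symm
      have hx : x ∈ s.W := by
        rw [← s.preimage_Wi_π m.idx]
        show cV.π.app (op m.idx.1) x ∈ s.Wi m.idx
        rw [← ho]
        exact o.2
      exact ⟨s.jB ⟨x, hx⟩, by rw [← Scheme.Hom.comp_apply, ← pushout.condition, Scheme.Hom.comp_apply]; rfl⟩
    · exact h'
  · rintro ⟨y, rfl⟩
    exact ⟨toModelLeft m.R y, by rw [← Scheme.Hom.comp_apply, ← Scheme.Hom.comp_apply, s.inr_proj m]⟩

section limit

variable (hcV : IsLimit cV) {cL : Cone s.diagram} (hL : IsLimit cL)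

/-- The projection, with the stage as its target. -/
noncomputable def pL (m : s.Mdl) : cL.pt ⟶ s.stage m := cL.π.app (op m)

/-- The comparison map. -/
noncomputable def lP : s.P ⟶ cL.pt := hL.lift s.cone

theorem lP_pL (m : s.Mdl) : s.lP hL ≫ s.pL m = s.proj m := hL.fac s.cone (op m)

theorem π_stageMap {a b : s.Mdl} (h : a ≤ b) : s.pL (cL := cL) b ≫ s.stageMap h = s.pL a :=
  cL.w (homOfLE h).op

/-- The part over the old system. -/
noncomputable def LV : cL.pt.Opens :=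
  s.pL (cL := cL) s.nonempty_mdl.some ⁻¹ᵁ (pushout.inl (s.left s.nonempty_mdl.some) (s.right s.nonempty_mdl.some)).opensRange

/-- The part over the new affine. -/
noncomputable def LU : cL.pt.Opens :=
  s.pL (cL := cL) s.nonempty_mdl.some ⁻¹ᵁ (pushout.inr (s.left s.nonempty_mdl.some) (s.right s.nonempty_mdl.some)).opensRange

theorem mem_LV_iff (m : s.Mdl) (z : cL.pt) :
    z ∈ s.LV (cL := cL) ↔ s.pL (cL := cL) m z ∈ Set.range (pushout.inl (s.left m) (s.right m)) := by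
  obtain ⟨c, h1, h2⟩ := s.directed_mdl s.nonempty_mdl.some m
  have e1 := s.stageMap_inl_iff h1 (s.pL (cL := cL) c z)
  have e2 := s.stageMap_inl_iff h2 (s.pL (cL := cL) c z)
  have f1 := congrArg (fun m => m z) (s.π_stageMap (cL := cL) h1)
  have f2 := congrArg (fun m => m z) (s.π_stageMap (cL := cL) h2)
  simp only [Scheme.Hom.comp_apply] at f1 f2
  rw [f1] at e1
  rw [f2] at e2
  exact e1.trans e2.symm

theorem mem_LU_iff (m : s.Mdl) (z : cL.pt) :
    z ∈ s.LU (cL := cL) ↔ s.pL (cL := cL) m z ∈ Set.range (pushout.inr (s.left m) (s.right m)) := by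
  obtain ⟨c, h1, h2⟩ := s.directed_mdl s.nonempty_mdl.some m
  have e1 := s.stageMap_inr_iff h1 (s.pL (cL := cL) c z)
  have e2 := s.stageMap_inr_iff h2 (s.pL (cL := cL) c z)
  have f1 := congrArg (fun m => m z) (s.π_stageMap (cL := cL) h1)
  have f2 := congrArg (fun m => m z) (s.π_stageMap (cL := cL) h2)
  simp only [Scheme.Hom.comp_apply] at f1 f2
  rw [f1] at e1
  rw [f2] at e2
  exact e1.trans e2.symm

/-- The old coordinates on the part over the old system. -/
noncomputable def liftV (m : s.Mdl) : (s.LV (cL := cL)).toScheme ⟶ DV.obj (op m.idx.1) :=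
  IsOpenImmersion.lift (pushout.inl (s.left m) (s.right m)) ((s.LV (cL := cL)).ι ≫ s.pL (cL := cL) m) (by
    rintro _ ⟨z, rfl⟩
    exact (s.mem_LV_iff m z.1).1 z.2)

theorem liftV_inl (m : s.Mdl) :
    s.liftV (cL := cL) m ≫ pushout.inl (s.left m) (s.right m) = (s.LV (cL := cL)).ι ≫ s.pL (cL := cL) m :=
  IsOpenImmersion.lift_fac _ _ _

theorem liftV_map {a b : s.Mdl} (h : a ≤ b) :
    s.liftV (cL := cL) b ≫ DV.map (homOfLE (show a.idx.1 ≤ b.idx.1 from h.1)).op = s.liftV a := by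
  rw [← cancel_mono (pushout.inl (s.left a) (s.right a)), Category.assoc, ← s.inl_stageMap h,
    reassoc_of% s.liftV_inl b, s.π_stageMap h, liftV_inl]

/-- The chart coordinates on the part over the new affine. -/
noncomputable def liftU (m : s.Mdl) : (s.LU (cL := cL)).toScheme ⟶ model m.R :=
  IsOpenImmersion.lift (pushout.inr (s.left m) (s.right m)) ((s.LU (cL := cL)).ι ≫ s.pL (cL := cL) m) (by
    rintro _ ⟨z, rfl⟩
    exact (s.mem_LU_iff m z.1).1 z.2)

theorem liftU_inr (m : s.Mdl) :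
    s.liftU (cL := cL) m ≫ pushout.inr (s.left m) (s.right m) = (s.LU (cL := cL)).ι ≫ s.pL (cL := cL) m :=
  IsOpenImmersion.lift_fac _ _ _

theorem liftU_map {a b : s.Mdl} (h : a ≤ b) : s.liftU (cL := cL) b ≫ s.mapM h = s.liftU a := by
  rw [← cancel_mono (pushout.inr (s.left a) (s.right a)), Category.assoc, ← s.inr_stageMap h,
    reassoc_of% s.liftU_inr b, s.π_stageMap h, liftU_inr]

include hcV hL in
theorem isIso_over_LV : IsIso (s.lP hL ∣_ s.LV (cL := cL)) := by
  have hl : ∀ m : s.Mdl, s.lP hL ≫ s.pL m = s.proj m := s.lP_pL hL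
  choose μ hμ using s.exists_mdl_ge
  have key : ∀ (i : I) (m : s.Mdl) (h : i ≤ m.idx.1), s.liftV (cL := cL) m ≫ DV.map (homOfLE h).op =
      s.liftV (μ i) ≫ DV.map (homOfLE (hμ i)).op := by
    intro i m h
    obtain ⟨c, h1, h2⟩ := s.directed_mdl m (μ i)
    rw [← s.liftV_map h1, ← s.liftV_map h2, Category.assoc, Category.assoc, ← Functor.map_comp, ← Functor.map_comp]
    rfl
  let c : Cone DV :=
    { pt := (s.LV (cL := cL)).toScheme
      π :=
        { app := fun i => s.liftV (μ i.unop) ≫ DV.map (homOfLE (hμ i.unop)).op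
          naturality := fun i j f => by
            refine (Category.id_comp _).trans ?_
            rw [Category.assoc, ← Functor.map_comp]
            exact (key j.unop (μ i.unop) ((leOfHom f.unop).trans (hμ i.unop))).symm } }
  let mV := hcV.lift c
  have hmV : ∀ m : s.Mdl, mV ≫ cV.π.app (op m.idx.1) = s.liftV m := fun m => by
    rw [hcV.fac]
    refine (key m.idx.1 m le_rfl).symm.trans ?_
    exact (congrArg (_ ≫ ·) (DV.map_id _)).trans (Category.comp_id _)
  have hfac : mV ≫ pushout.inl _ _ ≫ s.lP hL = (s.LV (cL := cL)).ι := hL.hom_ext fun m => by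
    show (_ ≫ _ ≫ _) ≫ s.pL m.unop = _ ≫ s.pL m.unop
    rw [Category.assoc, Category.assoc, hl,
      s.inl_proj, reassoc_of% hmV m.unop, liftV_inl]
  have hmem : ∀ z, s.lP hL z ∈ s.LV (cL := cL) ↔ z ∈ Set.range (pushout.inl s.W.ι s.jB) := fun z => by
    rw [s.mem_LV_iff s.nonempty_mdl.some, ← Scheme.Hom.comp_apply, hl, s.proj_inl_iff]
  let lv : cV.pt ⟶ (s.LV (cL := cL)).toScheme :=
    IsOpenImmersion.lift (s.LV (cL := cL)).ι (pushout.inl _ _ ≫ s.lP hL) (by
      rw [Scheme.Opens.range_ι]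
      rintro _ ⟨z, rfl⟩
      exact (hmem _).2 ⟨z, rfl⟩)
  have hlv : lv ≫ (s.LV (cL := cL)).ι = pushout.inl _ _ ≫ s.lP hL := IsOpenImmersion.lift_fac _ _ _
  have hlvm : ∀ m : s.Mdl, lv ≫ s.liftV m = cV.π.app (op m.idx.1) := fun m => by
    rw [← cancel_mono (pushout.inl (s.left m) (s.right m)), Category.assoc, liftV_inl, reassoc_of% hlv, hl, s.inl_proj]
  haveI : IsIso lv := ⟨mV, hcV.hom_ext fun i => by
      rw [Category.id_comp, Category.assoc, hcV.fac]
      show lv ≫ s.liftV (μ i.unop) ≫ DV.map (homOfLE (hμ i.unop)).op = _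
      rw [reassoc_of% hlvm (μ i.unop)]
      exact cV.w _,
    by rw [← cancel_mono (s.LV (cL := cL)).ι, Category.assoc, hlv, hfac, Category.id_comp]⟩
  exact isIso_morphismRestrict_of_chart _ _ (pushout.inl _ _) hmem lv hlv

include hcV in
theorem exists_rep (a : Γ(s.B, ⊤)) : ∃ (m : s.Mdl) (r : m.R), r.1.1 = a := by
  haveI : Nonempty I := ⟨s.i₁⟩
  let E := opensDiagram DV (op s.i₁) s.O
  let cE := opensCone DV cV (op s.i₁) s.O
  have hE : IsLimit cE := isLimitOpensCone DV cV hcV (op s.i₁) s.O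
  have : ∀ j, CompactSpace (E.obj j) := fun j ↦
    isCompact_iff_compactSpace.mp (QuasiCompact.isCompact_preimage (f := DV.map j.hom) _ s.O.2 s.isCompact_O)
  have : ∀ j, QuasiSeparatedSpace (E.obj j) := fun j ↦
    QuasiSeparatedSpace.of_isOpenEmbedding (Scheme.Opens.ι _).isOpenEmbedding
  obtain ⟨j, w, hw⟩ := exists_appTop_π_eq_of_isLimit E cE hE (s.jB.appTop a)
  let i : s.Idx := ⟨j.left.unop, leOfHom j.hom.unop⟩
  obtain ⟨m, e, hm⟩ := s.exists_mdl i {((a, w) : Γ(s.B, ⊤) × Γ((s.Wi i).toScheme, ⊤))} (by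
    simp only [Finset.coe_singleton, Set.singleton_subset_iff]
    exact hw)
  exact ⟨m, ⟨_, hm _ (Finset.mem_singleton_self _)⟩, rfl⟩

include hcV in
theorem exists_eq_later (c : s.Mdl) (r r' : c.R) (h : r.1.1 = r'.1.1) :
    ∃ (d : s.Mdl) (e : c ≤ d), s.mapR e r = s.mapR e r' := by
  haveI : Nonempty I := ⟨s.i₁⟩
  let E := opensDiagram DV (op s.i₁) s.O
  let cE := opensCone DV cV (op s.i₁) s.O
  have hE : IsLimit cE := isLimitOpensCone DV cV hcV (op s.i₁) s.O
  let j₀ : Over (op s.i₁) := Over.mk (homOfLE c.idx.2).op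
  haveI : CompactSpace (E.obj j₀) := s.compactSpace_Wi c.idx
  have h0 : (s.ψ c.idx).appTop (r.1.2 - r'.1.2) = 0 := by
    rw [map_sub, sub_eq_zero]
    refine ((mem_glueRing _).1 (c.good.le r.2)).symm.trans (Eq.trans ?_ ((mem_glueRing _).1 (c.good.le r'.2)))
    rw [h]
  obtain ⟨j, φ, hφ⟩ := exists_appTop_map_eq_zero_of_isLimit E cE hE (i := j₀) (r.1.2 - r'.1.2) h0
  let i : s.Idx := ⟨j.left.unop, leOfHom j.hom.unop⟩
  obtain ⟨m, e, -⟩ := s.exists_mdl i ∅ (by simp)
  obtain ⟨d, hcd, hmd⟩ := s.directed_mdl c m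
  have hci : c.idx ≤ i := leOfHom φ.left.unop
  have h1 : (s.tr hci).appTop r.1.2 = (s.tr hci).appTop r'.1.2 := by
    rw [← sub_eq_zero, ← map_sub]
    exact hφ
  refine ⟨d, hcd, Subtype.ext (Prod.ext h ?_)⟩
  show (s.tr hcd.1).appTop r.1.2 = (s.tr hcd.1).appTop r'.1.2
  have key : s.tr (e.trans hmd.1) ≫ s.tr hci = s.tr hcd.1 := by
    simp only [tr, Scheme.Hom.resLE_comp_resLE, ← Functor.map_comp]
    rfl
  rw [← key, Scheme.Hom.comp_appTop, CommRingCat.comp_apply, CommRingCat.comp_apply, h1]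

include hcV in
/-- The functions on the new part. -/
theorem exists_theta : ∃ θ : Γ(s.B, ⊤) →+* Γ((s.LU (cL := cL)).toScheme, ⊤), ∀ (m : s.Mdl) (r : m.R),
    θ r.1.1 = (s.liftU (cL := cL) m).appTop ((Scheme.ΓSpecIso (CommRingCat.of m.R)).inv r) := by
  let f : ∀ m : s.Mdl, m.R → Γ((s.LU (cL := cL)).toScheme, ⊤) := fun m r =>
    (s.liftU (cL := cL) m).appTop ((Scheme.ΓSpecIso (CommRingCat.of m.R)).inv r)
  have hf : ∀ {a b : s.Mdl} (h : a ≤ b) (r : a.R), f b (s.mapR h r) = f a r := fun {a b} h r => by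
    simp only [f]
    rw [← s.liftU_map h, Scheme.Hom.comp_appTop, CommRingCat.comp_apply, mapM]
    exact congrArg (fun t => (s.liftU (cL := cL) b).appTop t)
      (ConcreteCategory.congr_hom (Scheme.ΓSpecIso_inv_naturality (CommRingCat.ofHom (s.mapR h))) r)
  choose μ ρ hρ using s.exists_rep hcV
  have key : ∀ (m : s.Mdl) (r : m.R), f (μ r.1.1) (ρ r.1.1) = f m r := by
    intro m r
    obtain ⟨c, h1, h2⟩ := s.directed_mdl m (μ r.1.1)
    obtain ⟨d, e, he⟩ := s.exists_eq_later hcV c (s.mapR h1 r) (s.mapR h2 (ρ r.1.1)) (hρ r.1.1).symm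
    rw [← hf h2, ← hf e, ← he, hf e, hf h1]
  have key' : ∀ a (m : s.Mdl) (r : m.R), r.1.1 = a → f (μ a) (ρ a) = f m r := by
    rintro a m r rfl
    exact key m r
  let θ : Γ(s.B, ⊤) →+* Γ((s.LU (cL := cL)).toScheme, ⊤) :=
    { toFun := fun a => f (μ a) (ρ a)
      map_one' := (key' 1 s.nonempty_mdl.some 1 rfl).trans (by simp only [f, map_one])
      map_zero' := (key' 0 s.nonempty_mdl.some 0 rfl).trans (by simp only [f, map_zero])
      map_add' := fun a b => by
        obtain ⟨c, h1, h2⟩ := s.directed_mdl (μ a) (μ b)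
        rw [key' (a + b) c (s.mapR h1 (ρ a) + s.mapR h2 (ρ b))
          (show (ρ a).1.1 + (ρ b).1.1 = a + b by rw [hρ, hρ]), ← hf h1 (ρ a), ← hf h2 (ρ b)]
        simp only [f, map_add]
      map_mul' := fun a b => by
        obtain ⟨c, h1, h2⟩ := s.directed_mdl (μ a) (μ b)
        rw [key' (a * b) c (s.mapR h1 (ρ a) * s.mapR h2 (ρ b))
          (show (ρ a).1.1 * (ρ b).1.1 = a * b by rw [hρ, hρ]), ← hf h1 (ρ a), ← hf h2 (ρ b)]
        simp only [f, map_mul] }
  exact ⟨θ, key⟩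

include hcV hL in
theorem isIso_over_LU : IsIso (s.lP hL ∣_ s.LU (cL := cL)) := by
  have hl : ∀ m : s.Mdl, s.lP hL ≫ s.pL m = s.proj m := s.lP_pL hL
  obtain ⟨θ, key⟩ := s.exists_theta hcV (cL := cL)
  choose μ ρ hρ using s.exists_rep hcV
  let mU : (s.LU (cL := cL)).toScheme ⟶ s.B := (s.LU (cL := cL)).toScheme.toSpecΓ ≫ Spec.map (CommRingCat.ofHom θ) ≫ s.B.isoSpec.inv
  have hmU : ∀ a, mU.appTop a = θ a := fun a => by
    have : mU.appTop = CommRingCat.ofHom θ := by
      simp [mU, Scheme.isoSpec, Scheme.toSpecΓ_appTop, Scheme.ΓSpecIso_naturality]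
      exact congrArg (· ≫ _) (Scheme.toSpecΓ_appTop _).symm
    rw [this]
    rfl
  have hmUl : ∀ m : s.Mdl, mU ≫ toModelLeft m.R = s.liftU m := fun m => by
    refine ext_of_isAffine ?_
    ext v
    obtain ⟨r, rfl⟩ := (ConcreteCategory.bijective_of_isIso (Scheme.ΓSpecIso (CommRingCat.of m.R)).inv).2 v
    rw [Scheme.Hom.comp_appTop, CommRingCat.comp_apply, toModelLeft_appTop, hmU]
    exact key m r
  have hfac : mU ≫ pushout.inr _ _ ≫ s.lP hL = (s.LU (cL := cL)).ι := hL.hom_ext fun m => by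
    show (mU ≫ pushout.inr _ _ ≫ s.lP hL) ≫ s.pL m.unop = _ ≫ s.pL m.unop
    rw [show (mU ≫ pushout.inr _ _ ≫ s.lP hL) ≫ s.pL m.unop = mU ≫ pushout.inr _ _ ≫ s.lP hL ≫ s.pL m.unop by
      simp only [Category.assoc], hl, s.inr_proj, reassoc_of% hmUl m.unop, liftU_inr]
  have hmem : ∀ z, s.lP hL z ∈ s.LU (cL := cL) ↔ z ∈ Set.range (pushout.inr s.W.ι s.jB) := fun z => by
    rw [s.mem_LU_iff s.nonempty_mdl.some, ← Scheme.Hom.comp_apply, hl, s.proj_inr_iff]
  let lu : s.B ⟶ (s.LU (cL := cL)).toScheme :=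
    IsOpenImmersion.lift (s.LU (cL := cL)).ι (pushout.inr _ _ ≫ s.lP hL) (by
      rw [Scheme.Opens.range_ι]
      rintro _ ⟨z, rfl⟩
      exact (hmem _).2 ⟨z, rfl⟩)
  have hlu : lu ≫ (s.LU (cL := cL)).ι = pushout.inr _ _ ≫ s.lP hL := IsOpenImmersion.lift_fac _ _ _
  have hlum : ∀ m : s.Mdl, lu ≫ s.liftU m = toModelLeft m.R := fun m => by
    rw [← cancel_mono (pushout.inr (s.left m) (s.right m)), Category.assoc, liftU_inr, reassoc_of% hlu, hl, s.inr_proj]
  haveI : IsIso lu := ⟨mU, ext_of_isAffine (by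
      ext a
      rw [Scheme.Hom.comp_appTop, CommRingCat.comp_apply, hmU, Scheme.Hom.id_appTop]
      show lu.appTop (θ a) = a
      rw [← hρ a, key, ← CommRingCat.comp_apply, ← Scheme.Hom.comp_appTop, hlum, toModelLeft_appTop]),
    by rw [← cancel_mono (s.LU (cL := cL)).ι, Category.assoc, hlu, hfac, Category.id_comp]⟩
  exact isIso_morphismRestrict_of_chart _ _ (pushout.inr _ _) hmem lu hlu

end limit

/-- The new system has the big scheme as its limit. -/
theorem isLimit_cone (hcV : IsLimit cV) : Nonempty (IsLimit s.cone) := by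
  haveI : ∀ {a b : (s.Mdl)ᵒᵖ} (f : a ⟶ b), IsAffineHom (s.diagram.map f) := fun f =>
    s.isAffineHom_stageMap (leOfHom f.unop)
  obtain ⟨cL, hL, -⟩ := exists_limit_cone s.diagram
  haveI : IsIso (s.lP hL) := by
    refine IsZariskiLocalAtTarget.of_iSup_eq_top (P := MorphismProperty.isomorphisms Scheme)
      (fun b : Bool => bif b then s.LV (cL := cL) else s.LU (cL := cL)) ?_ ?_
    · rw [eq_top_iff]
      intro z _
      rcases s.covered s.nonempty_mdl.some (s.pL (cL := cL) s.nonempty_mdl.some z) with hz | hz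
      · exact Opens.mem_iSup.mpr ⟨true, hz⟩
      · exact Opens.mem_iSup.mpr ⟨false, hz⟩
    · intro b
      cases b
      · exact s.isIso_over_LU hcV hL
      · exact s.isIso_over_LV hcV hL
  exact ⟨IsLimit.ofIsoLimit hL (Cone.ext (asIso (s.lP hL)).symm (fun m =>
    ((IsIso.inv_comp_eq (s.lP hL)).2 (s.lP_pL hL m.unop).symm).symm))⟩

end Setup

end Groth.Agent.H8Lim.RelApprox
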