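import Groth.Agent.H8Lim.RelApproxAffine
import Groth.Agent.H8Lim.Limit
import Mathlib

/-!
# Adding one affine open to a limit of schemes of finite type over the integers
-/

set_option autoImplicit false
set_option backward.isDefEq.respectTransparency.types false
set_option linter.style.haveILetI false
set_option maxHeartbeats 1000000

universe u

open CategoryTheory Limits AlgebraicGeometry TopologicalSpace Opposite

namespace Groth.Agent.H8Lim.RelApprox

/-- An open of a limit, given at a stage with affine charts, and an affine scheme containing it. -/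
structure Setup {I : Type u} [Preorder I] (DV : Iᵒᵖ ⥤ Scheme.{u}) (cV : Cone DV) where
  i₁ : I
  O : (DV.obj (op i₁)).Opens
  isCompact_O : IsCompact (O : Set (DV.obj (op i₁)))
  B : Scheme.{u}
  isAffine_B : IsAffine B
  jB : (cV.π.app (op i₁) ⁻¹ᵁ O).toScheme ⟶ B
  isOpenImmersion_jB : IsOpenImmersion jB
  κ : Type u
  finite : Finite κ
  g : κ → Γ(B, ⊤)
  σ : κ → Γ(O.toScheme, ⊤)
  hgσ : ∀ k, ((cV.π.app (op i₁)).resLE O (cV.π.app (op i₁) ⁻¹ᵁ O) le_rfl).appTop (σ k) = jB.appTop (g k)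
  hgO : ∀ k, B.basicOpen (g k) ≤ jB.opensRange
  hσa : ∀ k, IsAffineOpen (O.toScheme.basicOpen (σ k))
  hσcov : ⨆ k, O.toScheme.basicOpen (σ k) = ⊤

attribute [instance] Setup.isAffine_B Setup.isOpenImmersion_jB Setup.finite

namespace Setup

variable {I : Type u} [Preorder I] {DV : Iᵒᵖ ⥤ Scheme.{u}} {cV : Cone DV}
  (s : Setup DV cV) [hV : ∀ {i j : Iᵒᵖ} (φ : i ⟶ j), IsAffineHom (DV.map φ)]

/-- The later indices. -/
abbrev Idx : Type u := {i : I // s.i₁ ≤ i}

/-- The open at a later index. -/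
noncomputable abbrev Wi (i : s.Idx) : (DV.obj (op i.1)).Opens := DV.map (homOfLE i.2).op ⁻¹ᵁ s.O

/-- The open of the limit. -/
noncomputable abbrev W : cV.pt.Opens := cV.π.app (op s.i₁) ⁻¹ᵁ s.O

omit hV in
theorem preimage_Wi {i i' : s.Idx} (h : i ≤ i') : DV.map (homOfLE (show i.1 ≤ i'.1 from h)).op ⁻¹ᵁ s.Wi i = s.Wi i' := by
  rw [← Scheme.Hom.comp_preimage, ← Functor.map_comp]
  rfl

omit hV in
theorem preimage_Wi_π (i : s.Idx) : cV.π.app (op i.1) ⁻¹ᵁ s.Wi i = s.W := by
  rw [← Scheme.Hom.comp_preimage, cV.w]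

/-- The transition maps of the opens. -/
noncomputable def tr {i i' : s.Idx} (h : i ≤ i') : (s.Wi i').toScheme ⟶ (s.Wi i).toScheme :=
  (DV.map (homOfLE (show i.1 ≤ i'.1 from h)).op).resLE _ _ (s.preimage_Wi h).ge

/-- The projections of the open. -/
noncomputable def ψ (i : s.Idx) : s.W.toScheme ⟶ (s.Wi i).toScheme :=
  (cV.π.app (op i.1)).resLE _ _ (s.preimage_Wi_π i).ge

omit hV in
theorem ψ_tr {i i' : s.Idx} (h : i ≤ i') : s.ψ i' ≫ s.tr h = s.ψ i := by
  simp [ψ, tr, Scheme.Hom.resLE_comp_resLE]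

/-- The projection to the given stage. -/
noncomputable def toBase (i : s.Idx) : (s.Wi i).toScheme ⟶ s.O.toScheme :=
  (DV.map (homOfLE i.2).op).resLE s.O _ le_rfl

omit hV in
theorem tr_toBase {i i' : s.Idx} (h : i ≤ i') : s.tr h ≫ s.toBase i = s.toBase i' := by
  simp only [tr, toBase, Scheme.Hom.resLE_comp_resLE, ← Functor.map_comp]
  rfl

/-- The functions cutting out the charts. -/
noncomputable def sig (i : s.Idx) (k : s.κ) : Γ((s.Wi i).toScheme, ⊤) := (s.toBase i).appTop (s.σ k)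

omit hV in
theorem tr_sig {i i' : s.Idx} (h : i ≤ i') (k : s.κ) : (s.tr h).appTop (s.sig i k) = s.sig i' k := by
  rw [sig, sig, ← CommRingCat.comp_apply, ← Scheme.Hom.comp_appTop, tr_toBase]

omit hV in
theorem hgσ' (i : s.Idx) (k : s.κ) : (s.ψ i).appTop (s.sig i k) = s.jB.appTop (s.g k) := by
  rw [sig, ← CommRingCat.comp_apply, ← Scheme.Hom.comp_appTop, ← s.hgσ k]
  congr 3
  simp [ψ, toBase, Scheme.Hom.resLE_comp_resLE]

theorem isAffineHom_toBase (i : s.Idx) : IsAffineHom (s.toBase i) :=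
  MorphismProperty.of_isPullback (P := @IsAffineHom)
    (IsOpenImmersion.isPullback (s.toBase i) (s.Wi i).ι s.O.ι (DV.map (homOfLE i.2).op)
      (by simp [toBase]) (by simp)).flip (hV _)

theorem hσa' (i : s.Idx) (k : s.κ) : IsAffineOpen ((s.Wi i).toScheme.basicOpen (s.sig i k)) := by
  haveI := s.isAffineHom_toBase i
  rw [sig, ← Scheme.preimage_basicOpen_top]
  exact (s.hσa k).preimage _

omit hV in
theorem hσcov' (i : s.Idx) : ⨆ k, (s.Wi i).toScheme.basicOpen (s.sig i k) = ⊤ := by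
  simp_rw [sig, ← Scheme.preimage_basicOpen_top, ← Scheme.Hom.preimage_iSup, s.hσcov]
  rfl

/-- The indices of the new system. -/
structure Mdl where
  idx : s.Idx
  R : Subring (Γ(s.B, ⊤) × Γ((s.Wi idx).toScheme, ⊤))
  good : IsGood s.jB (s.ψ idx) s.g (s.sig idx) R
  fg : ∃ F : Finset (Γ(s.B, ⊤) × Γ((s.Wi idx).toScheme, ⊤)), Subring.closure (F : Set _) = R

/-- Transition of pairs of functions. -/
noncomputable def trRing {i i' : s.Idx} (h : i ≤ i') :
    Γ(s.B, ⊤) × Γ((s.Wi i).toScheme, ⊤) →+* Γ(s.B, ⊤) × Γ((s.Wi i').toScheme, ⊤) :=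
  RingHom.prodMap (RingHom.id _) (s.tr h).appTop.hom

omit hV in
theorem trRing_comp {i i' i'' : s.Idx} (h : i ≤ i') (h' : i' ≤ i'') (p : Γ(s.B, ⊤) × Γ((s.Wi i).toScheme, ⊤)) :
    s.trRing h' (s.trRing h p) = s.trRing (h.trans h') p := by
  refine Prod.ext rfl ?_
  show (s.tr h').appTop ((s.tr h).appTop p.2) = (s.tr (h.trans h')).appTop p.2
  rw [← CommRingCat.comp_apply, ← Scheme.Hom.comp_appTop]
  congr 3
  simp only [tr, Scheme.Hom.resLE_comp_resLE, ← Functor.map_comp]
  rfl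

omit hV in
theorem trRing_self {i : s.Idx} (h : i ≤ i) (p : Γ(s.B, ⊤) × Γ((s.Wi i).toScheme, ⊤)) : s.trRing h p = p := by
  refine Prod.ext rfl ?_
  show (s.tr h).appTop p.2 = p.2
  have : s.tr h = 𝟙 _ := by
    rw [← cancel_mono (Scheme.Opens.ι _), tr, Scheme.Hom.resLE_comp_ι,
      show (homOfLE (show i.1 ≤ i.1 from h)).op = 𝟙 (op i.1) from rfl, DV.map_id]
    simp
  rw [this]
  simp

omit hV in
theorem trRing_mem_glueRing {i i' : s.Idx} (h : i ≤ i') {p : Γ(s.B, ⊤) × Γ((s.Wi i).toScheme, ⊤)}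
    (hp : p ∈ glueRing s.jB (s.ψ i)) : s.trRing h p ∈ glueRing s.jB (s.ψ i') := by
  refine ((mem_glueRing _).1 hp).trans ?_
  show _ = (s.ψ i').appTop ((s.tr h).appTop p.2)
  rw [← CommRingCat.comp_apply, ← Scheme.Hom.comp_appTop, ψ_tr]

instance : Preorder s.Mdl where
  le a b := ∃ h : a.idx ≤ b.idx, ∀ p ∈ a.R, s.trRing h p ∈ b.R
  le_refl a := ⟨le_rfl, fun p hp => by rwa [s.trRing_self]⟩
  le_trans a b c := fun ⟨h, hh⟩ ⟨h', hh'⟩ => ⟨h.trans h', fun p hp => by
    rw [← s.trRing_comp h h']; exact hh' _ (hh p hp)⟩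

variable [∀ i : Iᵒᵖ, CompactSpace (DV.obj i)] [∀ i : Iᵒᵖ, QuasiSeparatedSpace (DV.obj i)]
  [hft : ∀ i : Iᵒᵖ, LocallyOfFiniteType (specULiftZIsTerminal.from (DV.obj i))]

theorem compactSpace_Wi (i : s.Idx) : CompactSpace (s.Wi i).toScheme :=
  isCompact_iff_compactSpace.mp (QuasiCompact.isCompact_preimage (f := DV.map (homOfLE i.2).op) _ s.O.2 s.isCompact_O)

omit hV [∀ i : Iᵒᵖ, CompactSpace (DV.obj i)] hft in
theorem quasiSeparatedSpace_Wi (i : s.Idx) : QuasiSeparatedSpace (s.Wi i).toScheme :=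
  QuasiSeparatedSpace.of_isOpenEmbedding (Scheme.Opens.ι _).isOpenEmbedding

omit hV [∀ i : Iᵒᵖ, CompactSpace (DV.obj i)] [∀ i : Iᵒᵖ, QuasiSeparatedSpace (DV.obj i)] in
theorem locallyOfFiniteType_Wi (i : s.Idx) :
    LocallyOfFiniteType (specULiftZIsTerminal.from (s.Wi i).toScheme) := by
  rw [specULiftZIsTerminal.hom_ext (specULiftZIsTerminal.from _)
    ((s.Wi i).ι ≫ specULiftZIsTerminal.from (DV.obj (op i.1)))]
  infer_instance

variable [CompactSpace s.W.toScheme] [QuasiSeparatedSpace s.W.toScheme]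

theorem exists_mdl (i : s.Idx) (F : Finset (Γ(s.B, ⊤) × Γ((s.Wi i).toScheme, ⊤)))
    (hF : (F : Set (Γ(s.B, ⊤) × Γ((s.Wi i).toScheme, ⊤))) ⊆ (glueRing s.jB (s.ψ i) : Set _)) :
    ∃ m : s.Mdl, ∃ e : i ≤ m.idx, ∀ p ∈ F, s.trRing e p ∈ m.R := by
  haveI := s.compactSpace_Wi i
  haveI := s.quasiSeparatedSpace_Wi i
  obtain ⟨F', hFF', hgood⟩ := exists_isGood (s.hgσ' i) s.hgO (s.hσa' i) (s.locallyOfFiniteType_Wi i) F hF
  exact ⟨⟨i, _, hgood, F', rfl⟩, le_rfl, fun p hp => by
    rw [s.trRing_self]; exact Subring.subset_closure (hFF' hp)⟩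

theorem directed_mdl (a b : s.Mdl) [IsDirected I (· ≤ ·)] : ∃ c : s.Mdl, a ≤ c ∧ b ≤ c := by
  classical
  obtain ⟨i, hai, hbi⟩ := _root_.exists_ge_ge a.idx.1 b.idx.1
  let i' : s.Idx := ⟨i, a.idx.2.trans hai⟩
  obtain ⟨Fa, hFa⟩ := a.fg
  obtain ⟨Fb, hFb⟩ := b.fg
  obtain ⟨c, hc, hcF⟩ := s.exists_mdl i' (Fa.image (s.trRing (i' := i') hai) ∪ Fb.image (s.trRing (i' := i') hbi)) (by
    intro p hp
    rcases Finset.mem_union.1 (Finset.mem_coe.1 hp) with hp | hp <;> obtain ⟨q, hq, rfl⟩ := Finset.mem_image.1 hp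
    · exact s.trRing_mem_glueRing _ (a.good.le (hFa ▸ Subring.subset_closure hq))
    · exact s.trRing_mem_glueRing _ (b.good.le (hFb ▸ Subring.subset_closure hq)))
  refine ⟨c, ⟨le_trans (b := i') hai hc, ?_⟩, ⟨le_trans (b := i') hbi hc, ?_⟩⟩
  · intro p hp
    have : a.R ≤ c.R.comap (s.trRing (le_trans (b := i') hai hc)) := by
      rw [← hFa, Subring.closure_le]
      intro q hq
      show s.trRing _ q ∈ c.R
      rw [← s.trRing_comp (i' := i') hai hc]
      exact hcF _ (Finset.mem_union_left _ (Finset.mem_image_of_mem _ hq))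
    exact this hp
  · intro p hp
    have : b.R ≤ c.R.comap (s.trRing (le_trans (b := i') hbi hc)) := by
      rw [← hFb, Subring.closure_le]
      intro q hq
      show s.trRing _ q ∈ c.R
      rw [← s.trRing_comp (i' := i') hbi hc]
      exact hcF _ (Finset.mem_union_right _ (Finset.mem_image_of_mem _ hq))
    exact this hp

/-- The open of a stage. -/
noncomputable abbrev left (m : s.Mdl) : (s.Wi m.idx).toScheme ⟶ DV.obj (op m.idx.1) := (s.Wi m.idx).ι

/-- The affine chart of a stage. -/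
noncomputable abbrev right (m : s.Mdl) : (s.Wi m.idx).toScheme ⟶ model m.R := toModelRight m.R

instance (m : s.Mdl) : IsOpenImmersion (s.right m) := by
  haveI := s.compactSpace_Wi m.idx
  haveI := s.quasiSeparatedSpace_Wi m.idx
  exact m.good.isOpenImmersion (s.hgσ' m.idx) s.hgO (s.hσa' m.idx) (s.hσcov' m.idx)

/-- The map of rings. -/
noncomputable def mapR {a b : s.Mdl} (h : a ≤ b) : a.R →+* b.R :=
  ((s.trRing h.1).comp a.R.subtype).codRestrict b.R fun p => h.2 p.1 p.2

/-- The map of charts. -/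
noncomputable def mapM {a b : s.Mdl} (h : a ≤ b) : model b.R ⟶ model a.R :=
  Spec.map (CommRingCat.ofHom (s.mapR h))

theorem right_mapM {a b : s.Mdl} (h : a ≤ b) : s.right b ≫ s.mapM h = s.tr h.1 ≫ s.right a := by
  refine ext_of_isAffine ?_
  ext v
  obtain ⟨r, rfl⟩ := (ConcreteCategory.bijective_of_isIso (Scheme.ΓSpecIso (CommRingCat.of a.R)).inv).2 v
  rw [Scheme.Hom.comp_appTop, Scheme.Hom.comp_appTop, CommRingCat.comp_apply, CommRingCat.comp_apply,
    toModelRight_appTop, mapM]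
  rw [show (Spec.map (CommRingCat.ofHom (s.mapR h))).appTop ((Scheme.ΓSpecIso (CommRingCat.of a.R)).inv r) =
    (Scheme.ΓSpecIso (CommRingCat.of b.R)).inv (s.mapR h r) from
      (ConcreteCategory.congr_hom (Scheme.ΓSpecIso_inv_naturality (CommRingCat.ofHom (s.mapR h))) r).symm,
    toModelRight_appTop]
  rfl

/-- A stage. -/
noncomputable abbrev stage (m : s.Mdl) : Scheme.{u} := pushout (s.left m) (s.right m)

theorem tr_left {a b : s.Mdl} (h : a ≤ b) :
    s.tr h.1 ≫ s.left a = s.left b ≫ DV.map (homOfLE (show a.idx.1 ≤ b.idx.1 from h.1)).op :=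
  Scheme.Hom.resLE_comp_ι _ _

/-- The transition maps. -/
noncomputable def stageMap {a b : s.Mdl} (h : a ≤ b) : s.stage b ⟶ s.stage a :=
  pushout.desc (DV.map (homOfLE (show a.idx.1 ≤ b.idx.1 from h.1)).op ≫ pushout.inl _ _)
    (s.mapM h ≫ pushout.inr _ _) (by
      rw [← Category.assoc, ← Category.assoc, ← s.tr_left h, s.right_mapM h, Category.assoc, Category.assoc,
        pushout.condition])

theorem inl_stageMap {a b : s.Mdl} (h : a ≤ b) :
    pushout.inl _ _ ≫ s.stageMap h = DV.map (homOfLE (show a.idx.1 ≤ b.idx.1 from h.1)).op ≫ pushout.inl _ _ :=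
  pushout.inl_desc _ _ _

theorem inr_stageMap {a b : s.Mdl} (h : a ≤ b) : pushout.inr _ _ ≫ s.stageMap h = s.mapM h ≫ pushout.inr _ _ :=
  pushout.inr_desc _ _ _

theorem mapM_comp {a b c : s.Mdl} (h : a ≤ b) (h' : b ≤ c) : s.mapM h' ≫ s.mapM h = s.mapM (h.trans h') := by
  rw [mapM, mapM, mapM, ← Spec.map_comp]
  congr 1
  ext r
  · rfl
  · exact congrArg Prod.snd (s.trRing_comp h.1 h'.1 r.1)

theorem mapM_self {a : s.Mdl} (h : a ≤ a) : s.mapM h = 𝟙 _ := by
  rw [mapM, ← Spec.map_id]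
  congr 1
  ext r
  · rfl
  · exact congrArg Prod.snd (s.trRing_self h.1 r.1)

/-- The new system. -/
noncomputable def diagram : (s.Mdl)ᵒᵖ ⥤ Scheme.{u} where
  obj m := s.stage m.unop
  map f := s.stageMap (leOfHom f.unop)
  map_id m := by
    apply pushout.hom_ext
    · rw [inl_stageMap, Category.comp_id]
      exact (congrArg (· ≫ _) (DV.map_id _)).trans (Category.id_comp _)
    · rw [inr_stageMap, mapM_self, Category.id_comp, Category.comp_id]
  map_comp {m n p} f g := by
    apply pushout.hom_ext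
    · rw [inl_stageMap, reassoc_of% s.inl_stageMap (leOfHom f.unop), inl_stageMap, ← Functor.map_comp_assoc]
      rfl
    · rw [inr_stageMap, reassoc_of% s.inr_stageMap (leOfHom f.unop), inr_stageMap, ← Category.assoc, mapM_comp]

theorem covered (m : s.Mdl) (z : s.stage m) :
    z ∈ Set.range (pushout.inl (s.left m) (s.right m)) ∨ z ∈ Set.range (pushout.inr (s.left m) (s.right m)) := by
  obtain ⟨k, w, rfl⟩ := Scheme.IsLocallyDirected.ι_jointly_surjective (span (s.left m) (s.right m)) z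
  rcases k with _ | ⟨_ | _⟩
  · exact Or.inl ⟨s.left m w, by
      rw [← colimit.w (span (s.left m) (s.right m)) WalkingSpan.Hom.fst]; rfl⟩
  · exact Or.inl ⟨w, rfl⟩
  · exact Or.inr ⟨w, rfl⟩

instance (m : s.Mdl) : IsOpenImmersion (pushout.inl (s.left m) (s.right m)) :=
  inferInstanceAs (IsOpenImmersion (colimit.ι (span (s.left m) (s.right m)) _))

instance (m : s.Mdl) : IsOpenImmersion (pushout.inr (s.left m) (s.right m)) :=
  inferInstanceAs (IsOpenImmersion (colimit.ι (span (s.left m) (s.right m)) _))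

theorem inter (m : s.Mdl) {x : DV.obj (op m.idx.1)} {y : model m.R}
    (h : pushout.inl (s.left m) (s.right m) x = pushout.inr (s.left m) (s.right m) y) :
    ∃ o, s.left m o = x ∧ s.right m o = y := by
  obtain ⟨k, fi, fj, w, h₁, h₂⟩ := (Scheme.IsLocallyDirected.ι_eq_ι_iff (span (s.left m) (s.right m))
    (i := WalkingSpan.left) (j := WalkingSpan.right) (xi := x) (xj := y)).mp h
  change WidePushoutShape.Hom k (some WalkingPair.left) at fi
  change WidePushoutShape.Hom k (some WalkingPair.right) at fj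
  rcases k with _ | k
  · cases fi
    cases fj
    exact ⟨w, h₁, h₂⟩
  · cases fi
    cases fj

/-- The functions of the charts. -/
noncomputable def gen (m : s.Mdl) (k : s.κ) : m.R := ⟨(s.g k, s.sig m.idx k), m.good.gen_mem k⟩

theorem mem_range_right_iff (m : s.Mdl) (y : model m.R) :
    y ∈ Set.range (s.right m) ↔ ∃ k, s.gen m k ∉ (y : PrimeSpectrum m.R).asIdeal := by
  haveI := s.compactSpace_Wi m.idx
  haveI := s.quasiSeparatedSpace_Wi m.idx
  constructor
  · rintro ⟨o, rfl⟩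
    obtain ⟨k, hk⟩ := Opens.mem_iSup.1 ((s.hσcov' m.idx).ge (Opens.mem_top o))
    exact ⟨k, (preimage_toModelRight (s.gen m k)).ge hk⟩
  · rintro ⟨k, hk⟩
    exact (m.good.isOpenImmersion_aux (s.hgσ' m.idx) s.hgO (s.hσa' m.idx) k).2 hk

theorem mapR_gen {a b : s.Mdl} (h : a ≤ b) (k : s.κ) : s.mapR h (s.gen a k) = s.gen b k :=
  Subtype.ext (Prod.ext rfl (s.tr_sig h.1 k))

theorem stageMap_inl_iff {a b : s.Mdl} (h : a ≤ b) (z : s.stage b) :
    s.stageMap h z ∈ Set.range (pushout.inl (s.left a) (s.right a)) ↔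
      z ∈ Set.range (pushout.inl (s.left b) (s.right b)) := by
  constructor
  · rintro ⟨x, hx⟩
    rcases s.covered b z with h' | ⟨y, rfl⟩
    · exact h'
    rw [← Scheme.Hom.comp_apply, s.inr_stageMap h, Scheme.Hom.comp_apply] at hx
    obtain ⟨o, -, ho⟩ := s.inter a hx
    obtain ⟨k, hk⟩ := (s.mem_range_right_iff a _).1 ⟨o, ho⟩
    obtain ⟨o', rfl⟩ := (s.mem_range_right_iff b y).2 ⟨k, s.mapR_gen h k ▸ hk⟩
    exact ⟨s.left b o', by rw [← Scheme.Hom.comp_apply, pushout.condition, Scheme.Hom.comp_apply]⟩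
  · rintro ⟨x, rfl⟩
    exact ⟨DV.map (homOfLE (show a.idx.1 ≤ b.idx.1 from h.1)).op x, by
      rw [← Scheme.Hom.comp_apply, ← Scheme.Hom.comp_apply, s.inl_stageMap h]⟩

theorem stageMap_inr_iff {a b : s.Mdl} (h : a ≤ b) (z : s.stage b) :
    s.stageMap h z ∈ Set.range (pushout.inr (s.left a) (s.right a)) ↔
      z ∈ Set.range (pushout.inr (s.left b) (s.right b)) := by
  constructor
  · rintro ⟨y, hy⟩
    rcases s.covered b z with ⟨x, rfl⟩ | h'
    · rw [← Scheme.Hom.comp_apply, s.inl_stageMap h, Scheme.Hom.comp_apply] at hy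
      obtain ⟨o, ho, -⟩ := s.inter a hy.symm
      have hx : x ∈ s.Wi b.idx := by
        rw [← s.preimage_Wi h.1]
        show DV.map (homOfLE (show a.idx.1 ≤ b.idx.1 from h.1)).op x ∈ s.Wi a.idx
        rw [← ho]
        exact o.2
      exact ⟨s.right b ⟨x, hx⟩, by rw [← Scheme.Hom.comp_apply, ← pushout.condition, Scheme.Hom.comp_apply]; rfl⟩
    · exact h'
  · rintro ⟨y, rfl⟩
    exact ⟨s.mapM h y, by rw [← Scheme.Hom.comp_apply, ← Scheme.Hom.comp_apply, s.inr_stageMap h]⟩

theorem isAffineHom_stageMap {a b : s.Mdl} (h : a ≤ b) : IsAffineHom (s.stageMap h) := by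
  refine isAffineHom_of_forall_exists_isAffineOpen _ fun z => ?_
  rcases s.covered a z with ⟨x, rfl⟩ | ⟨y, rfl⟩
  · obtain ⟨A, hA, hx, -⟩ := exists_isAffineOpen_mem_and_subset (X := DV.obj (op a.idx.1)) (x := x)
      (U := ⊤) trivial
    refine ⟨pushout.inl (s.left a) (s.right a) ''ᵁ A, ⟨x, hx, rfl⟩, hA.image_of_isOpenImmersion _, ?_⟩
    have e : s.stageMap h ⁻¹ᵁ (pushout.inl (s.left a) (s.right a) ''ᵁ A) =
        pushout.inl (s.left b) (s.right b) ''ᵁ (DV.map (homOfLE (show a.idx.1 ≤ b.idx.1 from h.1)).op ⁻¹ᵁ A) := by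
      ext z
      constructor
      · rintro ⟨x', hx', hxz⟩
        obtain ⟨w, rfl⟩ := (s.stageMap_inl_iff h z).1 ⟨x', hxz⟩
        refine ⟨w, ?_, rfl⟩
        have h1 : pushout.inl (s.left a) (s.right a) x' =
            pushout.inl (s.left a) (s.right a) (DV.map (homOfLE (show a.idx.1 ≤ b.idx.1 from h.1)).op w) := by
          rw [← Scheme.Hom.comp_apply (DV.map _), ← s.inl_stageMap h]
          exact hxz
        show DV.map _ w ∈ A
        rwa [← (pushout.inl (s.left a) (s.right a)).isOpenEmbedding.injective h1]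
      · rintro ⟨w, hw, rfl⟩
        exact ⟨_, hw, (congrArg (fun m : DV.obj (op b.idx.1) ⟶ s.stage a => m w) (s.inl_stageMap h)).symm⟩
    rw [e]
    exact (hA.preimage _).image_of_isOpenImmersion _
  · refine ⟨(pushout.inr (s.left a) (s.right a)).opensRange, ⟨y, rfl⟩, isAffineOpen_opensRange _, ?_⟩
    rw [show s.stageMap h ⁻¹ᵁ (pushout.inr (s.left a) (s.right a)).opensRange =
      (pushout.inr (s.left b) (s.right b)).opensRange from Opens.ext (Set.ext (s.stageMap_inr_iff h))]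
    exact isAffineOpen_opensRange _

theorem compactSpace_stage (m : s.Mdl) : CompactSpace (s.stage m) := by
  refine ⟨?_⟩
  rw [show Set.univ = Set.range (pushout.inl (s.left m) (s.right m)) ∪ Set.range (pushout.inr (s.left m) (s.right m))
    from (Set.eq_univ_of_forall (s.covered m)).symm]
  exact (isCompact_range (pushout.inl (s.left m) (s.right m)).continuous).union
    (isCompact_range (pushout.inr (s.left m) (s.right m)).continuous)

theorem locallyOfFiniteType_stage (m : s.Mdl) :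
    LocallyOfFiniteType (specULiftZIsTerminal.from (s.stage m)) := by
  refine IsZariskiLocalAtSource.of_iSup_eq_top (P := @LocallyOfFiniteType)
    (fun b : Bool => bif b then (pushout.inl (s.left m) (s.right m)).opensRange
      else (pushout.inr (s.left m) (s.right m)).opensRange) ?_ ?_
  · rw [eq_top_iff]
    intro z _
    rcases s.covered m z with hz | hz
    · exact Opens.mem_iSup.mpr ⟨true, hz⟩
    · exact Opens.mem_iSup.mpr ⟨false, hz⟩
  · intro b
    cases b
    · obtain ⟨F, hF⟩ := m.fg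
      haveI : LocallyOfFiniteType (specULiftZIsTerminal.from (model m.R)) := hF ▸ locallyOfFiniteType_model F
      rw [← MorphismProperty.cancel_left_of_respectsIso @LocallyOfFiniteType
        (pushout.inr (s.left m) (s.right m)).isoOpensRange.hom]
      rw [specULiftZIsTerminal.hom_ext (_ ≫ _) (specULiftZIsTerminal.from (model m.R))]
      infer_instance
    · rw [← MorphismProperty.cancel_left_of_respectsIso @LocallyOfFiniteType
        (pushout.inl (s.left m) (s.right m)).isoOpensRange.hom]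
      rw [specULiftZIsTerminal.hom_ext (_ ≫ _) (specULiftZIsTerminal.from (DV.obj (op m.idx.1)))]
      infer_instance

end Setup

end Groth.Agent.H8Lim.RelApprox
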