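import Mathlib
import Groth.Prelude.Def_RelSpec
import Groth.Agent.RelSpecLib.Basic
import Groth.Agent.SymAlgLib.Build

/-!
Filtered colimits of quasi-coherent algebras are computed on affine opens, and the relative spectrum
turns them into limits of schemes.
-/

set_option autoImplicit false
set_option backward.isDefEq.respectTransparency.types false
set_option backward.isDefEq.respectTransparency false

universe u

open CategoryTheory CategoryTheory.Limits AlgebraicGeometry TopologicalSpace Opposite
open RelSpec Groth.Agent.SymAlgLib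

namespace Groth.Agent.H8Lim.RelSpecColimit

variable {S : Scheme.{u}} {J : Type u} [SmallCategory J] [IsFiltered J] (A : J ⥤ QCAlg S)

/-- The algebras, read on affine opens. -/
noncomputable abbrev secDiag : J ⥤ (S.AffineZariskiSiteᵒᵖ ⥤ CommRingCat.{u}) where
  obj j := (Scheme.AffineZariskiSite.toOpensFunctor S).op ⋙ (A.obj j).presheaf
  map φ := Functor.whiskerLeft _ (A.map φ).hom
  map_id j := (congrArg (Functor.whiskerLeft _) (congrArg QCAlg.Hom.hom (A.map_id j))).trans rfl
  map_comp φ ψ :=
    (congrArg (Functor.whiskerLeft _) (congrArg QCAlg.Hom.hom (A.map_comp φ ψ))).trans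
      (Functor.whiskerLeft_comp _ _ _)

/-- The structure maps, read on affine opens. -/
noncomputable def strAff (j : J) :
    (Scheme.AffineZariskiSite.toOpensFunctor S).op ⋙ S.presheaf ⟶ colimit (secDiag A) :=
  Functor.whiskerLeft _ (A.obj j).str ≫ colimit.ι (secDiag A) j

theorem strAff_map {i j : J} (φ : i ⟶ j) : strAff A i = strAff A j := by
  rw [strAff, strAff, ← colimit.w (secDiag A) φ, ← Category.assoc,
    ← Functor.whiskerLeft_comp, (A.map φ).comm]

theorem strAff_eq (i j : J) : strAff A i = strAff A j :=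
  (strAff_map A (IsFiltered.leftToMax i j)).trans (strAff_map A (IsFiltered.rightToMax i j)).symm

/-- Evaluation of the colimit at an affine open. -/
noncomputable def secColimit (U : S.AffineZariskiSiteᵒᵖ) :=
  isColimitOfPreserves ((evaluation _ CommRingCat.{u}).obj U) (colimit.isColimit (secDiag A))

theorem coequifibered_strAff (j₀ : J) : (strAff A j₀).Coequifibered := by
  intro U V i
  refine ⟨⟨(strAff A j₀).naturality i⟩, ⟨?_⟩⟩
  have w : ∀ (s : PushoutCocone (((Scheme.AffineZariskiSite.toOpensFunctor S).op ⋙ S.presheaf).map i)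
      ((strAff A j₀).app U)) (j : J), ((Scheme.AffineZariskiSite.toOpensFunctor S).op ⋙ S.presheaf).map i
        ≫ s.inl = (A.obj j).str.app (op U.unop.1) ≫ (colimit.ι (secDiag A) j).app U ≫ s.inr := fun s j => by
    rw [← Category.assoc ((A.obj j).str.app (op U.unop.1))]
    show _ = (strAff A j).app U ≫ s.inr
    rw [strAff_eq A j j₀]
    exact s.condition
  let hP := fun j : J => (A.obj j).coequifibered i
  let lift := fun (s : PushoutCocone (((Scheme.AffineZariskiSite.toOpensFunctor S).op ⋙ S.presheaf).map i)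
      ((strAff A j₀).app U)) (j : J) => (hP j).desc s.inl ((colimit.ι (secDiag A) j).app U ≫ s.inr) (w s j)
  have hcompat : ∀ s (j k : J) (φ : j ⟶ k), ((secDiag A).map φ).app V ≫ lift s k = lift s j := by
    intro s j k φ
    apply (hP j).hom_ext
    · rw [(hP j).inl_desc]
      refine Eq.trans ?_ ((hP k).inl_desc _ _ (w s k))
      refine (Category.assoc _ _ _).symm.trans ?_
      refine congrArg (· ≫ lift s k) ?_
      exact NatTrans.congr_app (A.map φ).comm (op V.unop.1)
    · rw [(hP j).inr_desc]
      have h1 : ((secDiag A).obj j).map i ≫ ((secDiag A).map φ).app V =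
          ((secDiag A).map φ).app U ≫ ((secDiag A).obj k).map i := ((secDiag A).map φ).naturality i
      refine (reassoc_of% h1) (lift s k) |>.trans ?_
      refine (congrArg (((secDiag A).map φ).app U ≫ ·) ((hP k).inr_desc _ _ (w s k))).trans ?_
      refine (Category.assoc _ _ _).symm.trans ?_
      refine congrArg (· ≫ s.inr) ?_
      exact NatTrans.congr_app (colimit.w (secDiag A) φ) U
  let cone : ∀ _ : PushoutCocone (((Scheme.AffineZariskiSite.toOpensFunctor S).op ⋙ S.presheaf).map i)
      ((strAff A j₀).app U), Cocone (secDiag A ⋙ (evaluation _ CommRingCat.{u}).obj V) := fun s => {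
    pt := s.pt
    ι :=
      { app := fun j => lift s j
        naturality := fun j k φ => (hcompat s j k φ).trans (Category.comp_id _).symm } }
  have hfac : ∀ s j, (colimit.ι (secDiag A) j).app V ≫ (secColimit A V).desc (cone s) = lift s j :=
    fun s j => (secColimit A V).fac (cone s) j
  refine PushoutCocone.IsColimit.mk _ (fun s => (secColimit A V).desc (cone s)) ?_ ?_ ?_
  · intro s
    refine (Category.assoc _ _ _).trans ?_
    exact (congrArg (_ ≫ ·) (hfac s j₀)).trans ((hP j₀).inl_desc _ _ (w s j₀))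
  · intro s
    apply (secColimit A U).hom_ext
    intro j
    show (colimit.ι (secDiag A) j).app U ≫ (colimit (secDiag A)).map i ≫ _ =
      (colimit.ι (secDiag A) j).app U ≫ s.inr
    rw [← Category.assoc, ← (colimit.ι (secDiag A) j).naturality i, Category.assoc, hfac]
    exact (hP j).inr_desc _ _ (w s j)
  · intro s m h1 h2
    apply (secColimit A V).hom_ext
    intro j
    refine Eq.trans ?_ (hfac s j).symm
    show (colimit.ι (secDiag A) j).app V ≫ m = lift s j
    apply (hP j).hom_ext
    · rw [(hP j).inl_desc]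
      refine Eq.trans ?_ h1
      refine (Category.assoc _ _ _).symm.trans ?_
      refine congrArg (· ≫ m) ?_
      show (strAff A j).app V = (strAff A j₀).app V
      rw [strAff_eq A j j₀]
    · rw [(hP j).inr_desc, ← Category.assoc]
      refine Eq.trans ?_ (congrArg ((colimit.ι (secDiag A) j).app U ≫ ·) h2)
      rw [← Category.assoc]
      exact congrArg (· ≫ m) ((colimit.ι (secDiag A) j).naturality i)

/-- Restriction to the affine opens, as an equivalence on morphisms into an algebra. -/
noncomputable abbrev extendHom {P : TopCat.Presheaf CommRingCat.{u} S.carrier} (B : QCAlg S) :=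
  Functor.IsCoverDense.restrictHomEquivHom (G := Scheme.AffineZariskiSite.toOpensFunctor S)
    (K := Opens.grothendieckTopology S) (ℱ := P) (ℱ' := ringSheaf B)

theorem extendHom_restrict {P : TopCat.Presheaf CommRingCat.{u} S.carrier} (B : QCAlg S)
    (a : (Scheme.AffineZariskiSite.toOpensFunctor S).op ⋙ P ⟶
      (Scheme.AffineZariskiSite.toOpensFunctor S).op ⋙ B.presheaf) :
    Functor.whiskerLeft (Scheme.AffineZariskiSite.toOpensFunctor S).op (extendHom B a) = a :=
  (extendHom B).symm_apply_apply a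

omit [IsFiltered J] in
theorem hom_ext_restrict {P : TopCat.Presheaf CommRingCat.{u} S.carrier} (B : QCAlg S)
    {a b : P ⟶ B.presheaf} (h : Functor.whiskerLeft (Scheme.AffineZariskiSite.toOpensFunctor S).op a =
      Functor.whiskerLeft (Scheme.AffineZariskiSite.toOpensFunctor S).op b) : a = b :=
  (extendHom B).symm.injective h

/-- A cocone of algebras, read on affine opens. -/
@[simps]
noncomputable def secCocone (c : Cocone A) : Cocone (secDiag A) where
  pt := (Scheme.AffineZariskiSite.toOpensFunctor S).op ⋙ c.pt.presheaf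
  ι :=
    { app := fun j => Functor.whiskerLeft _ (c.ι.app j).hom
      naturality := fun i j φ => (Functor.whiskerLeft_comp _ _ _).symm.trans
        ((congrArg (Functor.whiskerLeft _) (congrArg QCAlg.Hom.hom (c.w φ))).trans
          (Category.comp_id _).symm) }

/-- On affine opens, a colimit of quasi-coherent algebras is the colimit of the sections. -/
theorem isIso_desc (c : Cocone A) (hc : IsColimit c) :
    IsIso (colimit.desc (secDiag A) (secCocone A c)) := by
  set θ := colimit.desc (secDiag A) (secCocone A c)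
  have hθ : ∀ j, colimit.ι (secDiag A) j ≫ θ = Functor.whiskerLeft _ (c.ι.app j).hom := fun j =>
    colimit.ι_desc _ j
  obtain ⟨j₀⟩ : Nonempty J := IsFiltered.nonempty
  let H := coequifibered_strAff A j₀
  let B : QCAlg S := alg H
  have hB : Functor.whiskerLeft _ B.str ≫ (algIso H).hom = strAff A j₀ := by
    ext U : 2
    exact str_algIso H U.unop
  let cB : Cocone A :=
    { pt := B
      ι :=
        { app := fun j =>
            { hom := extendHom B (colimit.ι (secDiag A) j ≫ (algIso H).inv)
              comm := by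
                apply hom_ext_restrict
                rw [Functor.whiskerLeft_comp, extendHom_restrict, ← Category.assoc,
                  Iso.comp_inv_eq]
                exact (strAff_eq A j j₀).trans hB.symm }
          naturality := fun i j φ => by
            refine Eq.trans ?_ (Category.comp_id _).symm
            apply QCAlg.hom_ext
            apply hom_ext_restrict
            refine (Functor.whiskerLeft_comp _ _ _).trans ?_
            refine (congrArg (_ ≫ ·) (extendHom_restrict B _)).trans ?_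
            refine Eq.trans ?_ (extendHom_restrict B _).symm
            refine (Category.assoc _ _ _).symm.trans ?_
            exact congrArg (· ≫ (algIso H).inv) (colimit.w (secDiag A) φ) } }
  let e : B ⟶ c.pt :=
    { hom := extendHom c.pt ((algIso H).hom ≫ θ)
      comm := by
        apply hom_ext_restrict
        rw [Functor.whiskerLeft_comp, extendHom_restrict, ← Category.assoc, hB, strAff, Category.assoc,
          hθ, ← Functor.whiskerLeft_comp, (c.ι.app j₀).comm]
        rfl }
  have hcB : ∀ j, Functor.whiskerLeft (Scheme.AffineZariskiSite.toOpensFunctor S).op (cB.ι.app j).hom =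
      colimit.ι (secDiag A) j ≫ (algIso H).inv := fun j => extendHom_restrict B _
  have hψe : hc.desc cB ≫ e = 𝟙 _ := by
    apply hc.hom_ext
    intro j
    rw [hc.fac_assoc, Category.comp_id]
    apply QCAlg.hom_ext
    apply hom_ext_restrict
    rw [QCAlg.comp_hom, Functor.whiskerLeft_comp, hcB, extendHom_restrict, Category.assoc,
      Iso.inv_hom_id_assoc, hθ]
  refine ⟨⟨Functor.whiskerLeft _ (hc.desc cB).hom ≫ (algIso H).hom, ?_, ?_⟩⟩
  · apply colimit.hom_ext
    intro j
    rw [reassoc_of% (hθ j), ← Category.assoc, ← Functor.whiskerLeft_comp,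
      ← QCAlg.comp_hom, hc.fac, hcB, Category.assoc, Iso.inv_hom_id]
  · rw [Category.assoc, ← extendHom_restrict c.pt ((algIso H).hom ≫ θ), ← Functor.whiskerLeft_comp]
    exact congrArg (fun z => Functor.whiskerLeft (Scheme.AffineZariskiSite.toOpensFunctor S).op
      (QCAlg.Hom.hom z)) hψe

/-- The sections over an affine open of a filtered colimit of quasi-coherent algebras. -/
theorem isColimit_sections (c : Cocone A) (hc : IsColimit c) (U : S.AffineZariskiSiteᵒᵖ) :
    Nonempty (IsColimit (((evaluation _ CommRingCat.{u}).obj U).mapCocone (secCocone A c))) := by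
  have : IsIso ((colimit.isColimit (secDiag A)).desc (secCocone A c)) := isIso_desc A c hc
  exact ⟨isColimitOfPreserves _ (IsColimit.ofPointIso (colimit.isColimit (secDiag A)))⟩

/-- Two morphisms into the relative spectrum of a filtered colimit agree when they agree after
composing with all the coprojections. -/
theorem hom_ext_spec (c : Cocone A) (hc : IsColimit c) {T : Scheme.{u}} (w₁ w₂ : T ⟶ c.pt.spec)
    (h : ∀ j, w₁ ≫ QCAlg.specMap (c.ι.app j) = w₂ ≫ QCAlg.specMap (c.ι.app j)) : w₁ = w₂ := by
  obtain ⟨j₀⟩ : Nonempty J := IsFiltered.nonempty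
  have hπ : w₁ ≫ c.pt.π = w₂ ≫ c.pt.π := by
    have h1 : w₁ ≫ QCAlg.specMap (c.ι.app j₀) ≫ (A.obj j₀).π =
        w₂ ≫ QCAlg.specMap (c.ι.app j₀) ≫ (A.obj j₀).π := by
      rw [← Category.assoc, h j₀, Category.assoc]
    rwa [QCAlg.specMap_π] at h1
  refine Scheme.hom_ext_of_forall _ _ fun t => ?_
  obtain ⟨U, hU, htU, -⟩ :=
    exists_isAffineOpen_mem_and_subset (X := S) (x := c.pt.π (w₁ t)) (U := ⊤) trivial
  obtain ⟨hlim⟩ := isColimit_sections A c hc (op ⟨U, hU⟩)
  let hspec := isLimitOfPreserves Scheme.Spec hlim.op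
  refine ⟨(w₁ ≫ c.pt.π) ⁻¹ᵁ U, htU, ?_⟩
  let T' := (w₁ ≫ c.pt.π) ⁻¹ᵁ U
  have hr : ∀ w : T ⟶ c.pt.spec, w ≫ c.pt.π = w₁ ≫ c.pt.π →
      Set.range (T'.ι ≫ w) ⊆ Set.range (c.pt.ι U hU) := by
    rintro w hw _ ⟨x, rfl⟩
    refine RelSpecLib.exists_chart_eq c.pt hU _ ?_
    show (T'.ι ≫ w ≫ c.pt.π) x ∈ U
    rw [hw]
    exact x.2
  let e₁ := IsOpenImmersion.lift (c.pt.ι U hU) (T'.ι ≫ w₁) (hr w₁ rfl)
  let e₂ := IsOpenImmersion.lift (c.pt.ι U hU) (T'.ι ≫ w₂) (hr w₂ hπ.symm)
  have he₁ : e₁ ≫ c.pt.ι U hU = T'.ι ≫ w₁ := IsOpenImmersion.lift_fac _ _ _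
  have he₂ : e₂ ≫ c.pt.ι U hU = T'.ι ≫ w₂ := IsOpenImmersion.lift_fac _ _ _
  have hee : e₁ = e₂ := by
    apply hspec.hom_ext
    intro j
    show e₁ ≫ Spec.map ((c.ι.app j.unop).hom.app (op U)) = e₂ ≫ Spec.map ((c.ι.app j.unop).hom.app (op U))
    rw [← cancel_mono ((A.obj j.unop).ι U hU)]
    have key := QCAlg.ι_specMap U hU (c.ι.app j.unop)
    refine (Category.assoc _ _ _).trans (Eq.trans ?_ (Category.assoc _ _ _).symm)
    refine (congrArg (e₁ ≫ ·) key.symm).trans (Eq.trans ?_ (congrArg (e₂ ≫ ·) key))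
    rw [← Category.assoc, ← Category.assoc]
    refine (congrArg (· ≫ _) he₁).trans (Eq.trans ?_ (congrArg (· ≫ _) he₂).symm)
    rw [Category.assoc, Category.assoc, h]
  rw [← he₁, ← he₂, hee]

/-- The relative spectrum of a filtered colimit of quasi-coherent algebras is the limit of the
relative spectra in all schemes. -/
theorem existsUnique_lift (c : Cocone A) (hc : IsColimit c) (T : Scheme.{u})
    (v : ∀ j : J, T ⟶ (A.obj j).spec)
    (hv : ∀ (j j' : J) (φ : j ⟶ j'), v j' ≫ QCAlg.specMap (A.map φ) = v j) :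
    ∃! w : T ⟶ c.pt.spec, ∀ j : J, w ≫ QCAlg.specMap (c.ι.app j) = v j := by
  obtain ⟨j₀⟩ : Nonempty J := IsFiltered.nonempty
  let h := v j₀ ≫ (A.obj j₀).π
  have hh : ∀ j, v j ≫ (A.obj j).π = h := by
    intro j
    have e1 : ∀ {i k : J} (φ : i ⟶ k), v i ≫ (A.obj i).π = v k ≫ (A.obj k).π := fun {i k} φ => by
      rw [← hv i k φ, Category.assoc, QCAlg.specMap_π]
    exact (e1 (IsFiltered.leftToMax j j₀)).trans (e1 (IsFiltered.rightToMax j j₀)).symm
  let 𝒰 : T.OpenCover := T.openCoverOfIsOpenCover (fun U : S.affineOpens => h ⁻¹ᵁ U.1) (by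
    rw [IsOpenCover, eq_top_iff]
    intro t _
    obtain ⟨U, hU, htU, -⟩ :=
      exists_isAffineOpen_mem_and_subset (X := S) (x := h t) (U := ⊤) trivial
    exact Opens.mem_iSup.mpr ⟨⟨U, hU⟩, htU⟩)
  have hloc : ∀ U : S.affineOpens, ∃ g : (h ⁻¹ᵁ U.1 : T.Opens).toScheme ⟶ c.pt.spec,
      ∀ j, g ≫ QCAlg.specMap (c.ι.app j) = (h ⁻¹ᵁ U.1).ι ≫ v j := by
    intro U
    obtain ⟨hlim⟩ := isColimit_sections A c hc (op U)
    let hspec := isLimitOfPreserves Scheme.Spec hlim.op
    have hr : ∀ j, Set.range ((h ⁻¹ᵁ U.1).ι ≫ v j) ⊆ Set.range ((A.obj j).ι U.1 U.2) := by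
      rintro j _ ⟨x, rfl⟩
      refine RelSpecLib.exists_chart_eq (A.obj j) U.2 _ ?_
      show ((h ⁻¹ᵁ U.1).ι ≫ v j ≫ (A.obj j).π) x ∈ U.1
      rw [hh]
      exact x.2
    let e := fun j => IsOpenImmersion.lift ((A.obj j).ι U.1 U.2) ((h ⁻¹ᵁ U.1).ι ≫ v j) (hr j)
    have he : ∀ j, e j ≫ (A.obj j).ι U.1 U.2 = (h ⁻¹ᵁ U.1).ι ≫ v j := fun j =>
      IsOpenImmersion.lift_fac _ _ _
    have hcomp : ∀ (j k : J) (φ : j ⟶ k), e k ≫ Spec.map ((A.map φ).hom.app (op U.1)) = e j := by
      intro j k φ
      rw [← cancel_mono ((A.obj j).ι U.1 U.2), Category.assoc, ← QCAlg.ι_specMap, he,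
        ← Category.assoc, he, Category.assoc, hv]
    let cn : Cone (((secDiag A) ⋙ (evaluation _ CommRingCat.{u}).obj (op U)).op ⋙ Scheme.Spec) :=
      { pt := (h ⁻¹ᵁ U.1 : T.Opens).toScheme
        π :=
          { app := fun j => e j.unop
            naturality := fun j k φ => (Category.id_comp _).trans (hcomp _ _ φ.unop).symm } }
    refine ⟨hspec.lift cn ≫ c.pt.ι U.1 U.2, fun j => ?_⟩
    rw [Category.assoc]
    refine (congrArg (hspec.lift cn ≫ ·) (QCAlg.ι_specMap U.1 U.2 (c.ι.app j))).trans ?_
    refine (Category.assoc _ _ _).symm.trans ?_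
    exact (congrArg (· ≫ (A.obj j).ι U.1 U.2) (hspec.fac cn (op j))).trans (he j)
  choose g hg using hloc
  have hcompat : ∀ U V : 𝒰.I₀, pullback.fst (𝒰.f U) (𝒰.f V) ≫ g U =
      pullback.snd (𝒰.f U) (𝒰.f V) ≫ g V := by
    intro U V
    apply hom_ext_spec A c hc
    intro j
    rw [Category.assoc, Category.assoc, hg, hg, ← Category.assoc, ← Category.assoc]
    exact congrArg (· ≫ v j) pullback.condition
  refine ⟨𝒰.glueMorphisms g hcompat, fun j => ?_, fun w hw => ?_⟩
  · apply Scheme.Cover.hom_ext 𝒰
    intro U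
    rw [← Category.assoc, Scheme.Cover.ι_glueMorphisms]
    exact hg U j
  · apply hom_ext_spec A c hc
    intro j
    rw [hw j]
    symm
    apply Scheme.Cover.hom_ext 𝒰
    intro U
    rw [← Category.assoc, Scheme.Cover.ι_glueMorphisms]
    exact hg U j

end Groth.Agent.H8Lim.RelSpecColimit
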