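import Groth.Agent.H8Lim.Stalk
import Groth.Agent.H8Lim.ClosedIntoStage
import Groth.Agent.Rat20Lib.SchDense
import Groth.Agent.SDiv28.SchDenseAss
import Groth.Agent.NeronLib.FlatDense

/-!
# Schematic density along a limit with flat transition maps

EGA IV 11.10.5 in the Noetherian case: a regular function on the limit with non-vanishing locus in
`U` comes from a regular function at a stage.
-/

set_option autoImplicit false
set_option backward.isDefEq.respectTransparency.types false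

universe u

open CategoryTheory Limits AlgebraicGeometry

namespace Groth.Agent.H8Lim

lemma mem_nonZeroDivisors_iff_of_appLE {X Y : Scheme.{u}} (f : X ⟶ Y) (U : Y.Opens) (V : X.Opens)
    (hV : V = f ⁻¹ᵁ U) (e : V ≤ f ⁻¹ᵁ U) (x : Γ(Y, U)) :
    f.appLE U V e x ∈ nonZeroDivisors Γ(X, V) ↔ f.app U x ∈ nonZeroDivisors Γ(X, f ⁻¹ᵁ U) := by
  subst hV
  rw [Scheme.Hom.appLE_eq_app]

lemma app_eq_zero_congr_of_eq {J : Type u} [SmallCategory J] {D : J ⥤ Scheme.{u}} {a b : J}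
    {f g : a ⟶ b} (h : f = g) {U : (D.obj b).Opens} {x : Γ(D.obj b, U)} :
    ((D.map f).app U x = 0) = ((D.map g).app U x = 0) := by
  subst h; rfl

/-- Flatness spreads the annihilator. -/
lemma mem_nonZeroDivisors_of_kills_annihilator {A B : Type u} [CommRing A] [CommRing B] (f : A →+* B)
    (hf : f.Flat) (t : A) (h : ∀ a, t * a = 0 → f a = 0) : f t ∈ nonZeroDivisors B := by
  algebraize [f]
  rw [mem_nonZeroDivisors_iff_right]
  intro b hb
  obtain ⟨k, a, y, h1, h2⟩ := Module.Flat.isTrivialRelation_of_sum_smul_eq_zero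
    (f := fun _ : Unit => t) (x := fun _ : Unit => b)
    (show ∑ _i : Unit, t • b = 0 by
      rw [Fintype.sum_unique, Algebra.smul_def, mul_comm]; exact hb)
  rw [show b = _ from h1 ()]
  refine Finset.sum_eq_zero fun j _ => ?_
  have := h (a () j) (by simpa using h2 j)
  rw [Algebra.smul_def, show algebraMap A B (a () j) = 0 from this, zero_mul]

variable {I : Type u} [SmallCategory I] [IsCofiltered I] {D : I ⥤ Scheme.{u}} {c : Cone D}
  (hc : IsLimit c) [∀ {i j} (f : i ⟶ j), IsAffineHom (D.map f)]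
  [∀ {i j} (f : i ⟶ j), Flat (D.map f)] [∀ i, IsLocallyNoetherian (D.obj i)]
  [IsLocallyNoetherian c.pt]

include hc in
lemma exists_regular_stage {i : I} (U : (D.obj i).Opens)
    (hU : CInt.IsSchematicallyDense (c.π.app i ⁻¹ᵁ U)) {W : (D.obj i).Opens} (hW : IsAffineOpen W) :
    ∃ (k : I) (φ : k ⟶ i), ∀ (l : I) (ψ : l ⟶ k), ∀ x ∈ D.map (ψ ≫ φ) ⁻¹ᵁ W,
      IsAssociatedPrime (IsLocalRing.maximalIdeal ((D.obj l).presheaf.stalk x))
        ((D.obj l).presheaf.stalk x) → x ∈ D.map (ψ ≫ φ) ⁻¹ᵁ U := by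
  classical
  have : IsAffineHom (c.π.app i) := isAffineHom_π_app D c hc i
  obtain ⟨t, ht, htU⟩ := Rat20Lib.exists_regular_basicOpen_le (hW.preimage (c.π.app i)) hU
    (Or.inl (IsLocallyNoetherian.component_noetherian (X := c.pt) ⟨_, hW.preimage (c.π.app i)⟩))
  obtain ⟨j, φ, tj, rfl⟩ := exists_appLE_π_eq hc hW t
  let Wj : (D.obj j).Opens := D.map φ ⁻¹ᵁ W
  have hWj : IsAffineOpen Wj := hW.preimage _
  have hV : c.π.app i ⁻¹ᵁ W = c.π.app j ⁻¹ᵁ Wj := by
    rw [← Scheme.Hom.comp_preimage, c.w]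
  rw [mem_nonZeroDivisors_iff_of_appLE _ _ _ hV] at ht
  have hle : c.π.app j ⁻¹ᵁ (D.obj j).basicOpen tj ≤ c.π.app j ⁻¹ᵁ (D.map φ ⁻¹ᵁ U) := by
    intro p hp
    rw [← Scheme.Hom.comp_preimage, c.w]
    refine htU ?_
    show p ∈ c.pt.basicOpen (c.pt.presheaf.map (homOfLE (le_preimage_π φ W)).op
      ((c.π.app j).app Wj tj))
    rw [Scheme.basicOpen_res, ← Scheme.preimage_basicOpen]
    exact ⟨hV.ge ((D.obj j).basicOpen_le tj hp :), hp⟩
  obtain ⟨k₁, φ₁, hk₁⟩ := exists_map_preimage_le_map_preimage D c hc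
    (hWj.basicOpen tj).isCompact hle
  have : IsNoetherianRing Γ(D.obj j, Wj) := IsLocallyNoetherian.component_noetherian ⟨Wj, hWj⟩
  let A : Ideal Γ(D.obj j, Wj) := LinearMap.ker (LinearMap.mulLeft Γ(D.obj j, Wj) tj)
  obtain ⟨G, hG⟩ := (IsNoetherian.noetherian A : A.FG)
  have hG0 : ∀ a : G, (c.π.app j).app Wj a.1 = 0 := fun a => by
    have ha : a.1 ∈ A := hG ▸ Ideal.subset_span a.2
    have ha' : tj * a.1 = 0 := ha
    refine (mem_nonZeroDivisors_iff_right.mp ht) _ ?_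
    rw [← map_mul, mul_comm, ha', map_zero]
  choose kG φG hkG using fun a : G =>
    exists_app_map_eq_zero_of_isLimit D c hc (i := j) hWj.isCompact a.1 (hG0 a)
  obtain ⟨k, g, gk, hg⟩ := IsCofiltered.wideCospan (j := fun o : Option G => o.elim k₁ kG)
    (fun o => match o with | none => φ₁ | some a => φG a)
  refine ⟨k, g ≫ φ, fun l ψ x hx hass => ?_⟩
  let α : l ⟶ j := ψ ≫ g
  have hWl : D.map (ψ ≫ g ≫ φ) ⁻¹ᵁ W = D.map α ⁻¹ᵁ Wj := by
    rw [← Scheme.Hom.comp_preimage, ← D.map_comp, Category.assoc]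
  have hx' : x ∈ D.map α ⁻¹ᵁ Wj := hWl.le hx
  have hflat : ((D.map α).app Wj).hom.Flat := by
    rw [Scheme.Hom.app_eq_appLE]
    exact Flat.flat_appLE (D.map α) hWj (hWj.preimage _) le_rfl
  have hreg : (D.map α).app Wj tj ∈ nonZeroDivisors Γ(D.obj l, D.map α ⁻¹ᵁ Wj) := by
    refine mem_nonZeroDivisors_of_kills_annihilator _ hflat tj fun a ha => ?_
    have hA : A ≤ RingHom.ker ((D.map α).app Wj).hom := by
      rw [← hG, Ideal.span_le]
      intro b hb
      show (D.map α).app Wj b = 0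
      have e : α = (ψ ≫ gk (some ⟨b, hb⟩)) ≫ φG ⟨b, hb⟩ := by
        rw [Category.assoc]; exact congrArg (ψ ≫ ·) (hg (some ⟨b, hb⟩)).symm
      rw [app_eq_zero_congr_of_eq (D := D) e, Functor.map_comp, Scheme.Hom.comp_app]
      show (D.map (ψ ≫ gk (some ⟨b, hb⟩))).app _ ((D.map (φG ⟨b, hb⟩)).app Wj b) = 0
      exact (congrArg _ (hkG ⟨b, hb⟩)).trans (map_zero _)
    exact hA ha
  have hgerm := Rat20Lib.germ_regular (hWj.preimage (D.map α)) _ hreg x hx'
  have hnot : x ∈ (D.obj l).basicOpen ((D.map α).app Wj tj) := by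
    rw [Scheme.mem_basicOpen'' _ _ x]
    refine ⟨hx', by_contra fun hu => ?_⟩
    obtain ⟨hp, m, hm⟩ := hass
    have hmem : (D.obj l).presheaf.germ _ x hx' ((D.map α).app Wj tj) ∈
        IsLocalRing.maximalIdeal ((D.obj l).presheaf.stalk x) := hu
    rw [hm] at hmem
    obtain ⟨n, hn⟩ := hmem
    have hn' := Submodule.mem_colon_singleton.mp hn
    rw [Submodule.mem_bot, smul_eq_mul, mul_comm] at hn'
    have hm0 : m = 0 := mem_nonZeroDivisors_iff_right.mp (pow_mem hgerm n) _ hn'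
    subst hm0
    refine hp.ne_top ((hm.trans ?_))
    rw [Ideal.radical_eq_top, Ideal.eq_top_iff_one]
    exact Submodule.mem_colon_singleton.mpr (by simp)
  rw [← Scheme.preimage_basicOpen] at hnot
  have e1 : α = (ψ ≫ gk none) ≫ φ₁ := by
    rw [Category.assoc]; exact congrArg (ψ ≫ ·) (hg none).symm
  have h2 : x ∈ D.map α ⁻¹ᵁ (D.map φ ⁻¹ᵁ U) := by
    rw [e1, D.map_comp, Scheme.Hom.comp_preimage] at hnot ⊢
    exact Scheme.Hom.preimage_mono (D.map (ψ ≫ gk none)) hk₁ hnot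
  rw [← Category.assoc, D.map_comp]
  exact h2

include hc in
theorem exists_stage_isSchematicallyDense {i : I} [CompactSpace (D.obj i)] (U : (D.obj i).Opens)
    (hU : CInt.IsSchematicallyDense (c.π.app i ⁻¹ᵁ U)) :
    ∃ (k : I) (φ : k ⟶ i), CInt.IsSchematicallyDense (D.map φ ⁻¹ᵁ U) := by
  classical
  let 𝒰 := (D.obj i).affineCover.finiteSubcover
  let V := fun k => (𝒰.f k).opensRange
  have hVa : ∀ k, IsAffineOpen (V k) := fun k ↦
    have : IsAffine (𝒰.X k) := inferInstanceAs (IsAffine (Spec _))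
    isAffineOpen_opensRange _
  choose k φ hk using fun a => exists_regular_stage hc U hU (hVa a)
  obtain ⟨l, g, gk, hg⟩ := IsCofiltered.wideCospan φ
  refine ⟨l, g, (SDiv28.isSchematicallyDense_iff _).mpr fun x hx => ?_⟩
  obtain ⟨a, ha⟩ := TopologicalSpace.Opens.mem_iSup.mp
    (𝒰.isOpenCover_opensRange.iSup_eq_top.ge (TopologicalSpace.Opens.mem_top (D.map g x)))
  have := hk a l (gk a) x (by rw [hg]; exact ha) hx
  rwa [hg] at this

end Groth.Agent.H8Lim
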