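import Groth.Agent.H8Lim.Approximation

/-!
# A square is cartesian if it is so over an open cover
-/

set_option autoImplicit false
set_option backward.isDefEq.respectTransparency.types false

universe u v

open CategoryTheory Limits AlgebraicGeometry TopologicalSpace

namespace Groth.Agent.H8Lim

/-- A square is cartesian if it is cartesian over each member of an open cover of the upper right
corner. -/
theorem isPullback_of_cover {W Z T B : Scheme.{u}} {r : W ⟶ Z} {w : W ⟶ T} {h : Z ⟶ B} {π : T ⟶ B}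
    (hcomm : r ≫ h = w ≫ π) {κ : Type v} {Zk : κ → Scheme.{u}} (a : ∀ k, Zk k ⟶ Z)
    [∀ k, IsOpenImmersion (a k)] (hcov : ∀ z, ∃ k, z ∈ Set.range (a k))
    {Wk : κ → Scheme.{u}} {u' : ∀ k, Wk k ⟶ W} [∀ k, IsOpenImmersion (u' k)]
    {q : ∀ k, Wk k ⟶ Zk k} (h₁ : ∀ k, IsPullback (q k) (u' k) (a k) r)
    (h₂ : ∀ k, IsPullback (q k) (u' k ≫ w) (a k ≫ h) π) : IsPullback r w h π := by
  let Φ := pullback.lift r w hcomm
  let ψ := fun k ↦ (h₂ k).isoIsPullback _ _
    ((IsPullback.of_hasPullback (a k) (pullback.fst h π)).paste_vert (IsPullback.of_hasPullback h π))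
  have hψ1 : ∀ k, (ψ k).hom ≫ pullback.fst (a k) (pullback.fst h π) = q k := fun k ↦
    IsPullback.isoIsPullback_hom_fst _ _ _ _
  have hψ2 : ∀ k, (ψ k).hom ≫ pullback.snd (a k) (pullback.fst h π) ≫ pullback.snd h π =
      u' k ≫ w := fun k ↦ IsPullback.isoIsPullback_hom_snd _ _ _ _
  have hψ : ∀ k, (ψ k).hom ≫ pullback.snd (a k) (pullback.fst h π) = u' k ≫ Φ := fun k ↦ by
    apply pullback.hom_ext
    · simp only [Category.assoc, Φ, pullback.lift_fst]
      rw [← pullback.condition, ← Category.assoc, hψ1, (h₁ k).w]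
    · simp only [Category.assoc, Φ, pullback.lift_snd, hψ2]
  have hmem : ∀ (k : κ) (x : W), x ∈ Φ ⁻¹ᵁ (pullback.fst h π ⁻¹ᵁ (a k).opensRange) ↔
      x ∈ Set.range (u' k) := fun k x ↦ by
    change (Φ ≫ pullback.fst h π) x ∈ Set.range (a k) ↔ _
    rw [pullback.lift_fst]
    constructor
    · rintro ⟨z, hz⟩
      obtain ⟨y, -, hy⟩ := Scheme.Pullback.exists_preimage_pullback (f := a k) (g := r) z x hz
      refine ⟨(h₁ k).isoPullback.inv y, ?_⟩
      rw [← Scheme.Hom.comp_apply, (h₁ k).isoPullback_inv_snd, hy]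
    · rintro ⟨y, rfl⟩
      exact ⟨q k y, by rw [← Scheme.Hom.comp_apply, (h₁ k).w, Scheme.Hom.comp_apply]⟩
  have hΦ : IsOpenImmersion Φ := by
    refine isOpenImmersion_of_preimages Φ (fun k ↦ pullback.fst h π ⁻¹ᵁ (a k).opensRange) ?_
      fun k ↦ ?_
    · refine top_le_iff.mp fun x _ ↦ ?_
      obtain ⟨k, hk⟩ := hcov (r x)
      refine Opens.mem_iSup.mpr ⟨k, ?_⟩
      change (Φ ≫ pullback.fst h π) x ∈ Set.range (a k)
      rw [pullback.lift_fst]
      exact hk
    · let e := IsOpenImmersion.isoOfRangeEq (Φ ⁻¹ᵁ (pullback.fst h π ⁻¹ᵁ (a k).opensRange)).ι (u' k)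
        (by rw [Scheme.Opens.range_ι]; exact Set.ext (hmem k))
      rw [← IsOpenImmersion.isoOfRangeEq_hom_fac (Φ ⁻¹ᵁ _).ι (u' k)
        (by rw [Scheme.Opens.range_ι]; exact Set.ext (hmem k)), Category.assoc, ← hψ k]
      infer_instance
  have : Surjective Φ := ⟨fun p ↦ by
    obtain ⟨k, z, hz⟩ := hcov (pullback.fst h π p)
    obtain ⟨y, -, hy⟩ := Scheme.Pullback.exists_preimage_pullback
      (f := a k) (g := pullback.fst h π) z p hz
    obtain ⟨y, rfl⟩ := (ψ k).hom.surjective y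
    refine ⟨u' k y, ?_⟩
    rw [← Scheme.Hom.comp_apply, ← hψ k, Scheme.Hom.comp_apply, hy]⟩
  have : IsIso Φ := (isIso_iff_isOpenImmersion_and_surjective _).mpr ⟨hΦ, this⟩
  exact (IsPullback.of_hasPullback h π).of_iso (asIso Φ).symm (Iso.refl _) (Iso.refl _) (Iso.refl _)
    (by simp [IsIso.inv_comp_eq]; exact pullback.lift_fst r w hcomm)
    (by simp [IsIso.inv_comp_eq]; exact pullback.lift_snd r w hcomm) (by simp) (by simp)

end Groth.Agent.H8Lim
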