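import Groth.Agent.H8Lim.ImmersionStage
import Groth.Agent.H8Lim.RelSpecMap
import Groth.Agent.H8Lim.AffineModel

/-!
An immersion of finite type into a relative spectrum is an immersion into the relative spectrum of
a finite type subalgebra.
-/

set_option autoImplicit false
set_option backward.isDefEq.respectTransparency.types false
set_option backward.isDefEq.respectTransparency false

universe u

open CategoryTheory Limits AlgebraicGeometry TopologicalSpace Opposite

namespace Groth.Agent.H8Lim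

/-- A chart of the relative spectrum, followed by `toSpecΓ`, is `Spec` of `gammaMap`. -/
theorem lift_ι_toSpecΓ {S : Scheme.{u}} (C : RelSpec.QCAlg S) (U : S.Opens) (hU : IsAffineOpen U)
    (k : Spec (C.presheaf.obj (op U)) ⟶ (C.π ⁻¹ᵁ U).toScheme) (hk : k ≫ (C.π ⁻¹ᵁ U).ι = C.ι U hU) :
    k ≫ (C.π ⁻¹ᵁ U).toSpecΓ = Spec.map (C.gammaMap.app (op U)) := by
  rw [C.gammaMap_app U hU]
  let W := C.π ⁻¹ᵁ U
  have e₀ : W.ι.appLE W ⊤ (by simp) = W.topIso.inv := by
    simp only [Scheme.Hom.appLE, Scheme.Opens.topIso, Scheme.Opens.ι_app, Functor.mapIso_inv]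
    exact (C.spec.presheaf.map_comp _ _).symm.trans
      (congrArg C.spec.presheaf.map (Subsingleton.elim _ _))
  have e1 : (C.ι U hU).appLE W ⊤ (C.top_le_preimage U hU) = W.topIso.inv ≫ k.appTop := by
    have key : ∀ (m : Spec (C.presheaf.obj (op U)) ⟶ C.spec) (e : ⊤ ≤ m ⁻¹ᵁ W), k ≫ W.ι = m →
        m.appLE W ⊤ e = W.topIso.inv ≫ k.appTop := by
      rintro m e rfl
      rw [← Scheme.Hom.appLE_comp_appLE k W.ι W ⊤ ⊤ (by simp) (by simp), e₀]
      exact congrArg (W.topIso.inv ≫ ·) (Scheme.Hom.appLE_eq_app _)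
    exact key _ _ hk
  rw [Scheme.Opens.toSpecΓ, RelSpec.QCAlg.gammaAff, e1]
  simp only [Spec.map_comp, Category.assoc]
  rw [← Category.assoc k, Scheme.toSpecΓ_naturality, Category.assoc]
  refine congrArg (· ≫ _) ?_
  rw [← cancel_mono (Spec.map (Scheme.ΓSpecIso (C.presheaf.obj (op U))).inv),
    toSpecΓ_SpecMap_ΓSpecIso_inv, ← Spec.map_comp, Iso.inv_hom_id, Spec.map_id]

variable {Y : Scheme.{u}} [CompactSpace Y] [QuasiSeparatedSpace Y]

/-- An immersion of finite type into a relative spectrum stays an immersion into the relative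
spectrum of some finite type subalgebra. -/
theorem exists_subalgebra_isImmersion (C : RelSpec.QCAlg Y) {X : Scheme.{u}} [CompactSpace X]
    (g : X ⟶ C.spec) [IsImmersion g] [LocallyOfFiniteType (g ≫ C.π)] :
    ∃ (C' : RelSpec.QCAlg Y) (φ : C' ⟶ C),
      (∀ U : Y.Opens, Function.Injective (φ.hom.app (op U))) ∧
      (∀ U : Y.affineOpens, (C'.str.app (op (U : Y.Opens))).hom.FiniteType) ∧
      IsImmersion (g ≫ RelSpec.QCAlg.specMap φ) := by
  have : IsAffineHom C.π := C.isAffineHom_π
  obtain ⟨hc⟩ := Family.isLimit_cone C.π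
  have : ∀ {i j : (Family C.π)ᵒᵖ} (f : i ⟶ j), IsAffineHom ((Family.diagram C.π).map f) :=
    fun f => Family.isAffineHom_map f
  obtain ⟨i, hi⟩ := exists_isImmersion_comp_π hc (Family.diagramπ C.π) C.π
    (fun i => i.unop.toModel_π) g
  let F := i.unop
  let φ : F.alg ⟶ C :=
    { hom := F.incl ≫ C.gammaMap
      comm := by
        rw [← Category.assoc, show F.alg.str ≫ F.incl = C.π.c from rfl]
        exact C.π_c_gammaMap }
  have hiso : IsIso C.gammaMap := RelSpecLib.isIso_gammaMap C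
  refine ⟨F.alg, φ, fun U => ?_, fun U => ?_, ?_⟩
  · intro a b hab
    have := (ConcreteCategory.bijective_of_isIso (C.gammaMap.app (op U))).1 hab
    exact Subtype.ext this
  · have h1 : LocallyOfFiniteType (F.alg.ι U.1 U.2 ≫ F.alg.π) := inferInstance
    rw [F.alg.ι_π] at h1
    have h2 : LocallyOfFiniteType (Spec.map (F.alg.str.app (op U.1))) :=
      locallyOfFiniteType_of_comp _ U.2.fromSpec
    exact (HasRingHomProperty.Spec_iff (P := @LocallyOfFiniteType)).mp h2
  · have e : RelSpec.QCAlg.specMap φ = F.toModel := by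
      refine RelSpecLib.hom_ext_charts C (fun U : Y.affineOpens => U.1) (fun U => U.2)
        RelSpecLib.affineOpens_cover fun U => ?_
      let k : Spec (C.presheaf.obj (op U.1)) ⟶ (C.π ⁻¹ᵁ U.1).toScheme :=
        IsOpenImmersion.lift (C.π ⁻¹ᵁ U.1).ι (C.ι U.1 U.2) (by
          rw [Scheme.Opens.range_ι]
          rintro _ ⟨q, rfl⟩
          exact RelSpecLib.π_ι_mem C U.1 U.2 q)
      have hk : k ≫ (C.π ⁻¹ᵁ U.1).ι = C.ι U.1 U.2 := IsOpenImmersion.lift_fac _ _ _
      rw [RelSpec.QCAlg.ι_specMap, ← hk, Category.assoc, Family.toModel, ι_toSpec, toSpecChart,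
        ← Category.assoc k, lift_ι_toSpecΓ C U.1 U.2 k hk, ← Spec.map_comp_assoc]
      rfl
    rw [e]
    exact hi

end Groth.Agent.H8Lim
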