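import Mathlib

/-!
# Families of finitely generated subalgebras of an affine morphism

For an affine morphism `h : S ⟶ B` to a quasi-separated scheme, every finite set of sections lies in
a quasi-coherent family of subalgebras which is finitely generated on the members of a finite
affine cover (EGA I 9.4.9).
-/

set_option backward.isDefEq.respectTransparency.types false

universe u

open CategoryTheory Limits AlgebraicGeometry TopologicalSpace

namespace Groth.Agent.H8Lim

variable {S B : Scheme.{u}} (h : S ⟶ B)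

/-- Restriction along an inclusion of opens of the base. -/
noncomputable def resF {U' U : B.Opens} (e : U' ≤ U) : Γ(S, h ⁻¹ᵁ U) →+* Γ(S, h ⁻¹ᵁ U') :=
  (S.presheaf.map (homOfLE (h.preimage_mono e)).op).hom

/-- The structure map. -/
noncomputable abbrev appF (U : B.Opens) : Γ(B, U) →+* Γ(S, h ⁻¹ᵁ U) := (h.app U).hom

lemma resF_resF {U'' U' U : B.Opens} (e' : U'' ≤ U') (e : U' ≤ U) (x : Γ(S, h ⁻¹ᵁ U)) :
    resF h e' (resF h e x) = resF h (e'.trans e) x := by
  rw [resF, resF, resF, ← RingHom.comp_apply, ← CommRingCat.hom_comp, ← Functor.map_comp]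
  rfl

lemma resF_self {U : B.Opens} (e : U ≤ U) (x : Γ(S, h ⁻¹ᵁ U)) : resF h e x = x := by
  rw [resF, show (homOfLE (h.preimage_mono e)).op = 𝟙 _ from rfl, CategoryTheory.Functor.map_id]
  rfl

lemma resF_appF {U' U : B.Opens} (e : U' ≤ U) (b : Γ(B, U)) :
    resF h e (appF h U b) = appF h U' (B.presheaf.map (homOfLE e).op b) :=
  congr($((h.naturality (homOfLE e).op).symm).hom b)

lemma resF_injective {U' U : B.Opens} (e : U' ≤ U) (e' : U ≤ U') :
    Function.Injective (resF h e) :=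
  Function.LeftInverse.injective (g := resF h e') fun x ↦ by rw [resF_resF, resF_self]

lemma isUnit_appF_res {U : B.Opens} (g : Γ(B, U)) :
    IsUnit (resF h (B.basicOpen_le g) (appF h U g)) := by
  rw [resF_appF]
  exact (RingedSpace.isUnit_res_basicOpen B.toRingedSpace g).map (appF h (B.basicOpen g))

lemma isLocalization_resF [IsAffineHom h] {V : B.Opens} (hV : IsAffineOpen V) (g : Γ(B, V)) :
    @IsLocalization.Away _ _ (appF h V g) Γ(S, h ⁻¹ᵁ B.basicOpen g) _
      (resF h (B.basicOpen_le g)).toAlgebra :=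
  (hV.preimage h).isLocalization_of_eq_basicOpen _ _ (Scheme.preimage_basicOpen h g)

lemma exists_resF_eq_mul [IsAffineHom h] {V : B.Opens} (hV : IsAffineOpen V) (g : Γ(B, V))
    (x : Γ(S, h ⁻¹ᵁ B.basicOpen g)) : ∃ (n : ℕ) (a : Γ(S, h ⁻¹ᵁ V)),
      resF h (B.basicOpen_le g) a = x * resF h (B.basicOpen_le g) (appF h V g) ^ n := by
  let := (resF h (B.basicOpen_le g)).toAlgebra
  have := isLocalization_resF h hV g
  obtain ⟨n, a, ha⟩ := IsLocalization.Away.surj (appF h V g) x
  exact ⟨n, a, ha.symm⟩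

lemma exists_pow_mul_eq [IsAffineHom h] {V : B.Opens} (hV : IsAffineOpen V) (g : Γ(B, V))
    {a b : Γ(S, h ⁻¹ᵁ V)} (hab : resF h (B.basicOpen_le g) a = resF h (B.basicOpen_le g) b) :
    ∃ n : ℕ, appF h V g ^ n * a = appF h V g ^ n * b := by
  let := (resF h (B.basicOpen_le g)).toAlgebra
  have := isLocalization_resF h hV g
  exact IsLocalization.Away.exists_of_eq (appF h V g) hab

/-- If `D(g)` is covered by `D(g_l)` then `g` is in the radical of the span. -/
lemma mem_radical_span_of_basicOpen_le {V : B.Opens} (hV : IsAffineOpen V) (g : Γ(B, V))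
    {ι : Type*} (g' : ι → Γ(B, V)) (hg : B.basicOpen g ≤ ⨆ l, B.basicOpen (g' l)) :
    g ∈ (Ideal.span (Set.range g')).radical := by
  rw [Ideal.radical_eq_sInf, Ideal.mem_sInf]
  rintro P ⟨hP, hPp⟩
  by_contra hgP
  let p : PrimeSpectrum Γ(B, V) := ⟨P, hPp⟩
  have hp : hV.fromSpec p ∈ B.basicOpen g := by
    change p ∈ hV.fromSpec ⁻¹ᵁ B.basicOpen g
    rw [hV.fromSpec_preimage_basicOpen]
    exact hgP
  obtain ⟨l, hl⟩ := Opens.mem_iSup.mp (hg hp)
  change p ∈ hV.fromSpec ⁻¹ᵁ B.basicOpen (g' l) at hl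
  rw [hV.fromSpec_preimage_basicOpen] at hl
  exact hl (hP (Ideal.subset_span ⟨l, rfl⟩))

/-- Membership in the localization at `g` of a set `K` of sections over `V`. -/
def InLoc {V : B.Opens} (K : Set Γ(S, h ⁻¹ᵁ V)) (g : Γ(B, V))
    (x : Γ(S, h ⁻¹ᵁ B.basicOpen g)) : Prop :=
  ∃ (n : ℕ), ∃ a ∈ K, resF h (B.basicOpen_le g) a =
    x * resF h (B.basicOpen_le g) (appF h V g) ^ n

/-- The localization of a subring. -/
def locSubring {V : B.Opens} (K : Subring Γ(S, h ⁻¹ᵁ V)) (hK : ∀ b, appF h V b ∈ K) (g : Γ(B, V)) :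
    Subring Γ(S, h ⁻¹ᵁ B.basicOpen g) where
  carrier := {x | InLoc h (K : Set Γ(S, h ⁻¹ᵁ V)) g x}
  one_mem' := ⟨0, 1, K.one_mem, by simp⟩
  zero_mem' := ⟨0, 0, K.zero_mem, by simp⟩
  mul_mem' := by
    rintro x y ⟨n, a, ha, hxa⟩ ⟨m, b, hb, hyb⟩
    exact ⟨n + m, a * b, K.mul_mem ha hb, by rw [map_mul, hxa, hyb, pow_add]; ring⟩
  add_mem' := by
    rintro x y ⟨n, a, ha, hxa⟩ ⟨m, b, hb, hyb⟩
    refine ⟨n + m, a * appF h V g ^ m + b * appF h V g ^ n,
      K.add_mem (K.mul_mem ha (K.pow_mem (hK g) m)) (K.mul_mem hb (K.pow_mem (hK g) n)), ?_⟩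
    rw [map_add, map_mul, map_mul, map_pow, map_pow, hxa, hyb, pow_add]
    ring
  neg_mem' := by
    rintro x ⟨n, a, ha, hxa⟩
    exact ⟨n, -a, K.neg_mem ha, by rw [map_neg, hxa, neg_mul]⟩

section

variable {V : B.Opens} {K : Subring Γ(S, h ⁻¹ᵁ V)} (hK : ∀ b, appF h V b ∈ K)
include hK

lemma appF_mem_locSubring (hV : IsAffineOpen V) (g : Γ(B, V)) (b : Γ(B, B.basicOpen g)) :
    appF h (B.basicOpen g) b ∈ locSubring h K hK g := by
  have := hV.isLocalization_basicOpen g
  obtain ⟨n, c, hc⟩ := IsLocalization.Away.surj g b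
  refine ⟨n, appF h V c, hK c, ?_⟩
  rw [resF_appF, resF_appF, ← map_pow, ← map_mul]
  exact congrArg _ hc.symm

lemma resF_mem_locSubring {a : Γ(S, h ⁻¹ᵁ V)} (ha : a ∈ K) (g : Γ(B, V)) :
    resF h (B.basicOpen_le g) a ∈ locSubring h K hK g :=
  ⟨0, a, ha, by rw [pow_zero, mul_one]⟩

lemma mem_locSubring_mono (hV : IsAffineOpen V) {g g' : Γ(B, V)}
    (e : B.basicOpen g' ≤ B.basicOpen g) {x : Γ(S, h ⁻¹ᵁ B.basicOpen g)}
    (hx : x ∈ locSubring h K hK g) : resF h e x ∈ locSubring h K hK g' := by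
  obtain ⟨n, a, ha, hxa⟩ := hx
  have he : B.basicOpen g' ≤ ⨆ _ : Unit, B.basicOpen g := le_iSup_of_le () e
  have hr := mem_radical_span_of_basicOpen_le hV g' (fun _ : Unit ↦ g) he
  rw [Set.range_const] at hr
  obtain ⟨m, hm⟩ := hr
  obtain ⟨c, hc⟩ := Ideal.mem_span_singleton'.mp hm
  refine ⟨m * n, appF h V c ^ n * a, K.mul_mem (K.pow_mem (hK c) n) ha, ?_⟩
  have h1 := congr(resF h e $hxa)
  rw [map_mul, map_pow, resF_resF, resF_resF] at h1
  rw [map_mul, map_pow, h1, pow_mul, ← map_pow _ (appF h V g') m, ← map_pow (appF h V), ← hc,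
    map_mul, map_mul, mul_pow]
  ring

lemma mem_locSubring_of_cover [IsAffineHom h] (hV : IsAffineOpen V) (g : Γ(B, V)) {ι : Type*}
    (g' : ι → Γ(B, V)) (hle : ∀ l, B.basicOpen (g' l) ≤ B.basicOpen g)
    (hcov : B.basicOpen g ≤ ⨆ l, B.basicOpen (g' l)) (x : Γ(S, h ⁻¹ᵁ B.basicOpen g))
    (hx : ∀ l, resF h (hle l) x ∈ locSubring h K hK (g' l)) : x ∈ locSubring h K hK g := by
  obtain ⟨n, b, hb⟩ := exists_resF_eq_mul h hV g x
  let I : Ideal Γ(B, V) :=
    { carrier := {r | appF h V r * b ∈ K}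
      add_mem' := fun {r r'} hr hr' ↦ by
        show appF h V (r + r') * b ∈ K
        rw [map_add, add_mul]; exact K.add_mem hr hr'
      zero_mem' := by show appF h V 0 * b ∈ K; rw [map_zero, zero_mul]; exact K.zero_mem
      smul_mem' := fun s r hr ↦ by
        show appF h V (s * r) * b ∈ K
        rw [map_mul, mul_assoc]; exact K.mul_mem (hK s) hr }
  have hrad : Ideal.span (Set.range g') ≤ I.radical := by
    rw [Ideal.span_le]
    rintro _ ⟨l, rfl⟩
    obtain ⟨m, a, ha, hxa⟩ := hx l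
    have h1 := congr(resF h (hle l) $hb)
    rw [map_mul, map_pow, resF_resF, resF_resF] at h1
    have h2 : resF h (B.basicOpen_le (g' l)) (appF h V g ^ n * a) =
        resF h (B.basicOpen_le (g' l)) (appF h V (g' l) ^ m * b) := by
      rw [map_mul, map_mul, map_pow, map_pow, hxa, h1]; ring
    obtain ⟨p, hp⟩ := exists_pow_mul_eq h hV (g' l) h2
    refine ⟨p + m, ?_⟩
    show appF h V (g' l ^ (p + m)) * b ∈ K
    rw [map_pow, pow_add, mul_assoc, ← hp]
    exact K.mul_mem (K.pow_mem (hK _) _) (K.mul_mem (K.pow_mem (hK _) _) ha)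
  obtain ⟨N, hN⟩ : g ∈ I.radical :=
    (Ideal.radical_le_radical_iff.mpr hrad) (mem_radical_span_of_basicOpen_le hV g g' hcov)
  refine ⟨n + N, appF h V (g ^ N) * b, hN, ?_⟩
  rw [map_mul, hb, map_pow, map_pow, pow_add]
  ring

end

/-- A finite set of sections over an affine open. -/
structure Chart where
  /-- the open -/
  U : B.Opens
  /-- the sections -/
  F : Finset Γ(S, h ⁻¹ᵁ U)
  isAffineOpen : IsAffineOpen U

/-- The subalgebra generated by a chart. -/
def Chart.K (i : Chart h) : Subring Γ(S, h ⁻¹ᵁ i.U) :=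
  Subring.closure (Set.range (appF h i.U) ∪ (i.F : Set Γ(S, h ⁻¹ᵁ i.U)))

lemma Chart.appF_mem (i : Chart h) (b : Γ(B, i.U)) : appF h i.U b ∈ i.K :=
  Subring.subset_closure (Or.inl ⟨b, rfl⟩)

/-- The largest subalgebra on `U` compatible with the charts in `l`. -/
def partialA (l : List (Chart h)) (U : B.Opens) : Subring Γ(S, h ⁻¹ᵁ U) where
  carrier := {x | ∀ i ∈ l, ∀ (g : Γ(B, i.U)) (e : B.basicOpen g ≤ U),
    resF h e x ∈ locSubring h i.K i.appF_mem g}
  one_mem' i _ g e := by rw [map_one]; exact Subring.one_mem _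
  zero_mem' i _ g e := by rw [map_zero]; exact Subring.zero_mem _
  mul_mem' hx hy i hi g e := by rw [map_mul]; exact Subring.mul_mem _ (hx i hi g e) (hy i hi g e)
  add_mem' hx hy i hi g e := by rw [map_add]; exact Subring.add_mem _ (hx i hi g e) (hy i hi g e)
  neg_mem' hx i hi g e := by rw [map_neg]; exact Subring.neg_mem _ (hx i hi g e)

lemma appF_mem_partialA (l : List (Chart h)) (U : B.Opens) (b : Γ(B, U)) :
    appF h U b ∈ partialA h l U := fun i _ g e ↦ by
  rw [resF_appF]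
  exact appF_mem_locSubring h i.appF_mem i.isAffineOpen g _

lemma resF_mem_partialA (l : List (Chart h)) {U' U : B.Opens} (e : U' ≤ U) {x : Γ(S, h ⁻¹ᵁ U)}
    (hx : x ∈ partialA h l U) : resF h e x ∈ partialA h l U' := fun i hi g e' ↦ by
  rw [resF_resF]; exact hx i hi g _

lemma exists_basicOpen_cover {V W : B.Opens} (hV : IsAffineOpen V) (hWV : W ≤ V)
    (hW : IsCompact (W : Set B)) :
    ∃ s : Finset Γ(B, V), (∀ g ∈ s, B.basicOpen g ≤ W) ∧ W ≤ ⨆ g ∈ s, B.basicOpen g := by
  have hex : ∀ x : (W : Set B), ∃ g : Γ(B, V), B.basicOpen g ≤ W ∧ x.1 ∈ B.basicOpen g := fun x ↦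
    hV.exists_basicOpen_le ⟨x.1, x.2⟩ (hWV x.2)
  choose g hg hxg using hex
  obtain ⟨t, ht⟩ := hW.elim_finite_subcover (fun x ↦ (B.basicOpen (g x) : Set B))
    (fun x ↦ (B.basicOpen (g x)).2) fun x hx ↦ Set.mem_iUnion.mpr ⟨⟨x, hx⟩, hxg _⟩
  classical
  refine ⟨t.image g, fun g' hg' ↦ ?_, fun x hx ↦ ?_⟩
  · obtain ⟨x, -, rfl⟩ := Finset.mem_image.mp hg'
    exact hg x
  · obtain ⟨y, hy, hxy⟩ := Set.mem_iUnion₂.mp (ht hx)
    exact Opens.mem_iSup.mpr ⟨g y, Opens.mem_iSup.mpr ⟨Finset.mem_image_of_mem g hy, hxy⟩⟩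

/-- `partialA` commutes with localization. -/
lemma exists_mem_partialA [IsAffineHom h] [QuasiSeparatedSpace B] (l : List (Chart h))
    {U : B.Opens} (hU : IsAffineOpen U) (r : Γ(B, U)) {x : Γ(S, h ⁻¹ᵁ B.basicOpen r)}
    (hx : x ∈ partialA h l (B.basicOpen r)) :
    ∃ (n : ℕ), ∃ a ∈ partialA h l U,
      resF h (B.basicOpen_le r) a = x * resF h (B.basicOpen_le r) (appF h U r) ^ n := by
  classical
  obtain ⟨n, a, ha⟩ := exists_resF_eq_mul h hU r x
  have hloc : ∀ i ∈ l, ∀ g : Γ(B, i.U), ∀ e : B.basicOpen g ≤ U, ∃ N, ∀ M, N ≤ M →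
      resF h e (appF h U r ^ M * a) ∈ locSubring h i.K i.appF_mem g := by
    intro i hi g e
    have := i.isAffineOpen.isLocalization_basicOpen g
    obtain ⟨p, ρ, hρ⟩ := IsLocalization.Away.surj g (B.presheaf.map (homOfLE e).op r)
    have hρ' : B.presheaf.map (homOfLE e).op r *
        B.presheaf.map (homOfLE (B.basicOpen_le g)).op g ^ p =
          B.presheaf.map (homOfLE (B.basicOpen_le g)).op ρ := by
      rw [← map_pow] at hρ ⊢
      exact hρ
    have hD : B.basicOpen (g * ρ) = B.basicOpen g ⊓ B.basicOpen r := by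
      rw [Scheme.basicOpen_mul]
      have h1 := congr(B.basicOpen $hρ')
      rw [Scheme.basicOpen_res, Scheme.basicOpen_mul, Scheme.basicOpen_res] at h1
      rw [← h1]
      erw [Scheme.basicOpen_of_isUnit _
        ((RingedSpace.isUnit_res_basicOpen B.toRingedSpace g).pow p)]
      exact inf_eq_left.mpr inf_le_left
    have eg : B.basicOpen (g * ρ) ≤ B.basicOpen g := hD.le.trans inf_le_left
    have er : B.basicOpen (g * ρ) ≤ B.basicOpen r := hD.le.trans inf_le_right
    have hx' := hx i hi (g * ρ) er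
    obtain ⟨m, b, hb⟩ := exists_resF_eq_mul h i.isAffineOpen g (resF h e a)
    -- `b` is in `K` up to a power of `g * ρ`
    have h1 : resF h (B.basicOpen_le (g * ρ)) b ∈ locSubring h i.K i.appF_mem (g * ρ) := by
      have e1 := congr(resF h eg $hb)
      rw [map_mul, map_pow, resF_resF, resF_resF, resF_resF] at e1
      have e2 := congr(resF h er $ha)
      rw [map_mul, map_pow, resF_resF, resF_resF] at e2
      rw [e1, e2]
      exact Subring.mul_mem _
        (Subring.mul_mem _ hx' (Subring.pow_mem _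
          (by rw [resF_appF]; exact appF_mem_locSubring h i.appF_mem i.isAffineOpen _ _) _))
        (Subring.pow_mem _ (resF_mem_locSubring h i.appF_mem (Chart.appF_mem h i g) _) _)
    obtain ⟨q, c, hc, hbc⟩ := h1
    rw [← map_pow, ← map_mul] at hbc
    obtain ⟨s, hs⟩ := exists_pow_mul_eq h i.isAffineOpen (g * ρ) hbc
    refine ⟨s + q, fun M hM ↦ ?_⟩
    obtain ⟨d, rfl⟩ := Nat.exists_eq_add_of_le hM
    -- clear denominators
    have hunit := isUnit_appF_res h g
    have hu : resF h e (appF h U r) * resF h (B.basicOpen_le g) (appF h i.U g) ^ p =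
        resF h (B.basicOpen_le g) (appF h i.U ρ) := by
      rw [resF_appF, resF_appF, resF_appF, ← map_pow, ← map_mul, hρ']
    have hmem : resF h e (appF h U r ^ (s + q) * a) *
        resF h (B.basicOpen_le g) (appF h i.U g) ^ (p * (s + q) + m + (s + q)) ∈
          locSubring h i.K i.appF_mem g := by
      have key : resF h e (appF h U r ^ (s + q) * a) *
          resF h (B.basicOpen_le g) (appF h i.U g) ^ (p * (s + q) + m + (s + q)) =
          resF h (B.basicOpen_le g) (appF h i.U (g * ρ) ^ s * (b * appF h i.U (g * ρ) ^ q)) := by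
        simp only [map_mul, map_pow, hb, ← hu]
        ring
      rw [key, ← hs]
      exact resF_mem_locSubring h i.appF_mem
        (i.K.mul_mem (i.K.pow_mem (Chart.appF_mem h i _) _) hc) g
    obtain ⟨k, c', hc', hk⟩ := hmem
    have hbase : resF h e (appF h U r ^ (s + q) * a) ∈ locSubring h i.K i.appF_mem g :=
      ⟨p * (s + q) + m + (s + q) + k, c', hc', by rw [hk]; ring⟩
    rw [show appF h U r ^ (s + q + d) * a = appF h U r ^ d * (appF h U r ^ (s + q) * a) by ring,
      map_mul, map_pow, resF_appF]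
    exact Subring.mul_mem _
      (Subring.pow_mem _ (appF_mem_locSubring h i.appF_mem i.isAffineOpen g _) _) hbase
  have hcov : ∀ i : Chart h, ∃ s : Finset Γ(B, i.U),
      (∀ g ∈ s, B.basicOpen g ≤ i.U ⊓ U) ∧ i.U ⊓ U ≤ ⨆ g ∈ s, B.basicOpen g := fun i ↦
    exists_basicOpen_cover i.isAffineOpen inf_le_left
      (i.isAffineOpen.isCompact.inter_of_isOpen hU.isCompact i.U.2 U.2)
  choose cov hcov₁ hcov₂ using hcov
  choose N hN using hloc
  obtain ⟨M, hM⟩ : ∃ M, ∀ i (hi : i ∈ l), ∀ g (hg : g ∈ cov i),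
      N i hi g ((hcov₁ i g hg).trans inf_le_right) ≤ M := by
    refine ⟨(l.toFinset.attach).sup fun i ↦ (cov i.1).attach.sup fun g ↦
      N i.1 (List.mem_toFinset.mp i.2) g.1 ((hcov₁ i.1 g.1 g.2).trans inf_le_right), fun i hi g hg ↦ ?_⟩
    refine le_trans ?_ (Finset.le_sup (f := fun i : {x // x ∈ l.toFinset} ↦ (cov i.1).attach.sup
      fun g ↦ N i.1 (List.mem_toFinset.mp i.2) g.1 ((hcov₁ i.1 g.1 g.2).trans inf_le_right))
      (Finset.mem_attach _ ⟨i, List.mem_toFinset.mpr hi⟩))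
    exact Finset.le_sup (f := fun g : {x // x ∈ cov i} ↦
      N i hi g.1 ((hcov₁ i g.1 g.2).trans inf_le_right)) (Finset.mem_attach _ ⟨g, hg⟩)
  refine ⟨M + n, appF h U r ^ M * a, fun i hi g e ↦ ?_, ?_⟩
  · refine mem_locSubring_of_cover h i.appF_mem i.isAffineOpen g
      (fun l : cov i ↦ g * l.1) (fun l ↦ (B.basicOpen_mul _ _).le.trans inf_le_left) (fun x hx' ↦ ?_)
      _ fun l' ↦ ?_
    · obtain ⟨g', hg'⟩ := Opens.mem_iSup.mp (hcov₂ i ⟨B.basicOpen_le g hx', e hx'⟩)
      obtain ⟨hg's, hxg'⟩ := Opens.mem_iSup.mp hg'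
      exact Opens.mem_iSup.mpr ⟨⟨g', hg's⟩, (B.basicOpen_mul _ _).ge ⟨hx', hxg'⟩⟩
    · have := mem_locSubring_mono h i.appF_mem i.isAffineOpen
        ((B.basicOpen_mul g l'.1).le.trans inf_le_right)
        (hN i hi l'.1 ((hcov₁ i l'.1 l'.2).trans inf_le_right) M (hM i hi l'.1 l'.2))
      rw [resF_resF] at this ⊢
      exact this
  · rw [map_mul, map_pow, ha, pow_add]
    ring

/-- Compatibility of a list of charts. -/
def Good (l : List (Chart h)) : Prop := ∀ i ∈ l, i.K ≤ partialA h l i.U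

lemma good_singleton (i : Chart h) : Good h [i] := by
  intro j hj x hx k hk g e
  obtain rfl := List.mem_singleton.mp hj
  obtain rfl := List.mem_singleton.mp hk
  exact resF_mem_locSubring h (Chart.appF_mem h _) hx g

/-- Extension of compatible charts to one more affine open. -/
theorem exists_good_cons [IsAffineHom h] [QuasiSeparatedSpace B] {l : List (Chart h)}
    (hl : Good h l) {V : B.Opens} (hV : IsAffineOpen V) :
    ∃ i : Chart h, i.U = V ∧ Good h (i :: l) := by
  classical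
  have hcov : ∀ i : Chart h, ∃ s : Finset Γ(B, V),
      (∀ g ∈ s, B.basicOpen g ≤ V ⊓ i.U) ∧ V ⊓ i.U ≤ ⨆ g ∈ s, B.basicOpen g := fun i ↦
    exists_basicOpen_cover hV inf_le_left
      (hV.isCompact.inter_of_isOpen i.isAffineOpen.isCompact V.2 i.U.2)
  choose cov hcov₁ hcov₂ using hcov
  have hlift : ∀ i ∈ l, ∀ x ∈ i.F, ∀ g, ∀ hg : g ∈ cov i, ∃ (n : ℕ), ∃ a ∈ partialA h l V,
      resF h (B.basicOpen_le g) a = resF h ((hcov₁ i g hg).trans inf_le_right) x *
        resF h (B.basicOpen_le g) (appF h V g) ^ n := fun i hi x hx g hg ↦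
    exists_mem_partialA h l hV g
      (resF_mem_partialA h l _ (hl i hi (Subring.subset_closure (Or.inr hx))))
  choose n a ha hax using hlift
  let F : Finset Γ(S, h ⁻¹ᵁ V) := l.toFinset.attach.biUnion fun i ↦ i.1.F.attach.biUnion fun x ↦
    (cov i.1).attach.image fun g ↦ a i.1 (List.mem_toFinset.mp i.2) x.1 x.2 g.1 g.2
  have hF : ∀ i (hi : i ∈ l) x (hx : x ∈ i.F) g (hg : g ∈ cov i), a i hi x hx g hg ∈ F :=
    fun i hi x hx g hg ↦ Finset.mem_biUnion.mpr ⟨⟨i, List.mem_toFinset.mpr hi⟩,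
      Finset.mem_attach _ _, Finset.mem_biUnion.mpr ⟨⟨x, hx⟩, Finset.mem_attach _ _,
        Finset.mem_image.mpr ⟨⟨g, hg⟩, Finset.mem_attach _ _, rfl⟩⟩⟩
  let c : Chart h := ⟨V, F, hV⟩
  have hcA : c.K ≤ partialA h l V := by
    refine Subring.closure_le.mpr (Set.union_subset ?_ ?_)
    · rintro _ ⟨b, rfl⟩
      exact appF_mem_partialA h l V b
    · intro y hy
      obtain ⟨i, -, hy⟩ := Finset.mem_biUnion.mp hy
      obtain ⟨x, -, hy⟩ := Finset.mem_biUnion.mp hy
      obtain ⟨g, -, rfl⟩ := Finset.mem_image.mp hy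
      exact ha _ _ _ _ _ _
  refine ⟨c, rfl, fun i hi x hx k hk g e ↦ ?_⟩
  rcases List.mem_cons.mp hk with rfl | hk'
  · rcases List.mem_cons.mp hi with rfl | hi'
    · exact resF_mem_locSubring h c.appF_mem hx g
    · -- old generators restrict into the new chart
      induction hx using Subring.closure_induction with
      | mem y hy =>
        rcases hy with ⟨b, rfl⟩ | hy
        · rw [resF_appF]
          exact appF_mem_locSubring h c.appF_mem hV g _
        · refine mem_locSubring_of_cover h c.appF_mem hV g (fun l' : cov i ↦ g * l'.1)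
            (fun l' ↦ (B.basicOpen_mul _ _).le.trans inf_le_left) (fun z hz ↦ ?_) _ fun l' ↦ ?_
          · obtain ⟨g', hg'⟩ := Opens.mem_iSup.mp (hcov₂ i ⟨B.basicOpen_le g hz, e hz⟩)
            obtain ⟨hg's, hzg'⟩ := Opens.mem_iSup.mp hg'
            exact Opens.mem_iSup.mpr ⟨⟨g', hg's⟩, (B.basicOpen_mul _ _).ge ⟨hz, hzg'⟩⟩
          · have h0 : resF h ((hcov₁ i l'.1 l'.2).trans inf_le_right) y ∈
                locSubring h c.K c.appF_mem l'.1 :=
              ⟨n i hi' y hy l'.1 l'.2, a i hi' y hy l'.1 l'.2,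
                Subring.subset_closure (Or.inr (hF _ _ _ _ _ _)), hax i hi' y hy l'.1 l'.2⟩
            have := mem_locSubring_mono h c.appF_mem hV
              ((B.basicOpen_mul g l'.1).le.trans inf_le_right) h0
            rw [resF_resF] at this ⊢
            exact this
      | zero => rw [map_zero]; exact Subring.zero_mem _
      | one => rw [map_one]; exact Subring.one_mem _
      | add y z _ _ hy hz => rw [map_add]; exact Subring.add_mem _ hy hz
      | neg y _ hy => rw [map_neg]; exact Subring.neg_mem _ hy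
      | mul y z _ _ hy hz => rw [map_mul]; exact Subring.mul_mem _ hy hz
  · rcases List.mem_cons.mp hi with rfl | hi'
    · exact hcA hx k hk' g e
    · exact hl i hi' hx k hk' g e

lemma partialA_eq_K {l : List (Chart h)} (hl : Good h l) {i : Chart h} (hi : i ∈ l) :
    partialA h l i.U = i.K := by
  refine le_antisymm (fun x hx ↦ ?_) (hl i hi)
  obtain ⟨n, a, ha, hxa⟩ := hx i hi 1 (B.basicOpen_le _)
  rw [map_one, map_one, one_pow, mul_one] at hxa
  have := resF_injective h (B.basicOpen_le (1 : Γ(B, i.U)))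
    (Scheme.basicOpen_of_isUnit _ isUnit_one).ge hxa
  exact this ▸ ha

end Groth.Agent.H8Lim
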