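import Mathlib.AlgebraicGeometry.QuasiAffine
import Mathlib.AlgebraicGeometry.Morphisms.ClosedImmersion
import Groth.Agent.S0440

/-!
# Quasi-affineness along a homeomorphic closed immersion

Stacks 0B7L, without any finiteness hypothesis: a power of a section with affine non-vanishing
locus on the closed subscheme lifts up to changing the section.
-/

set_option autoImplicit false
set_option backward.isDefEq.respectTransparency.types false
set_option backward.isDefEq.respectTransparency false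

universe u

open CategoryTheory AlgebraicGeometry TopologicalSpace Opposite

namespace Groth.Agent.H8Lim

lemma exists_extend_pow {A B : Type u} [CommRing A] [CommRing B] [Algebra A B] (r : A)
    [IsLocalization.Away r B] (y : B) (hy : IsNilpotent (y - algebraMap A B r)) :
    ∃ M₀ : ℕ, ∀ M, M₀ ≤ M → ∃ Q : A, algebraMap A B Q = y ^ M ∧ IsNilpotent (Q - r ^ M) := by
  set η := y - algebraMap A B r with hη
  obtain ⟨m, hm⟩ := hy
  obtain ⟨n, x, hx⟩ := IsLocalization.Away.surj r η
  have h0 : algebraMap A B (x ^ (m + 1)) = 0 := by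
    rw [map_pow, ← hx, mul_pow, pow_succ η, hm, zero_mul, zero_mul]
  obtain ⟨⟨_, c, rfl⟩, hc⟩ := (IsLocalization.map_eq_zero_iff (.powers r) B _).mp h0
  let f := r ^ c * x
  let k := n + c
  have hf : f ^ (m + 1) = 0 := by
    show (r ^ c * x) ^ (m + 1) = 0
    have : (r ^ c) ^ (m + 1) = (r ^ c) ^ m * r ^ c := pow_succ _ _
    rw [mul_pow, this, mul_assoc, show r ^ c * x ^ (m + 1) = 0 from hc, mul_zero]
  have hfη : algebraMap A B f = η * algebraMap A B r ^ k := by
    simp only [f, k, map_mul, map_pow, ← hx]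
    ring
  have hη0 : ∀ j, m + 1 ≤ j → η ^ j = 0 := fun j hj => pow_eq_zero_of_le (by omega) hm
  refine ⟨(m + 1) * (k + 1), fun M hM => ?_⟩
  have hMm : m + 1 ≤ M + 1 := by
    have : m + 1 ≤ (m + 1) * (k + 1) := Nat.le_mul_of_pos_right _ (by omega)
    omega
  let term : ℕ → A := fun j => (M.choose j : A) * r ^ (M - j * (k + 1)) * f ^ j
  refine ⟨∑ j ∈ Finset.range (m + 1), term j, ?_, ?_⟩
  · have hy' : y = η + algebraMap A B r := by rw [hη]; ring
    rw [hy', add_pow, map_sum]
    rw [← Finset.sum_subset (Finset.range_subset_range.mpr hMm) fun j _ hj => by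
      rw [hη0 j (by simpa using hj), zero_mul, zero_mul]]
    refine Finset.sum_congr rfl fun j hj => ?_
    have hjm : j < m + 1 := Finset.mem_range.mp hj
    have hjk : j * (k + 1) ≤ M := (Nat.mul_le_mul_right _ hjm.le).trans hM
    have hexp : M - j = M - j * (k + 1) + k * j := by
      have : j * (k + 1) = k * j + j := by ring
      omega
    simp only [term, map_mul, map_pow, map_natCast, hfη, mul_pow, hexp, pow_add, pow_mul]
    ring
  · have hsum : (∑ j ∈ Finset.range (m + 1), term j) - r ^ M =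
        ∑ j ∈ Finset.range m, term (j + 1) := by
      rw [Finset.sum_range_succ']
      simp [term]
    rw [hsum]
    exact isNilpotent_sum fun j _ => (Commute.all _ _).isNilpotent_mul_left
      (IsNilpotent.pow_of_pos ⟨m + 1, hf⟩ (by omega))

variable {Z X : Scheme.{u}} (i : Z ⟶ X) [IsClosedImmersion i]

lemma isNilpotent_of_app_eq_zero (hi : IsHomeomorph i.base) {U : X.Opens}
    (hU : IsCompact (U : Set X)) (x : Γ(X, U)) (hx : i.app U x = 0) : IsNilpotent x := by
  have hb : X.basicOpen x = ⊥ := by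
    refine bot_unique fun p hp => ?_
    obtain ⟨z, rfl⟩ := hi.surjective p
    have : z ∈ i ⁻¹ᵁ X.basicOpen x := hp
    rw [Scheme.preimage_basicOpen, hx, Scheme.basicOpen_zero] at this
    exact this.elim
  obtain ⟨n, hn⟩ := exists_pow_mul_eq_zero_of_res_basicOpen_eq_zero_of_isCompact X hU 1 x (by
    have : Subsingleton Γ(X, X.basicOpen x) := by
      rw [hb]
      exact CommRingCat.subsingleton_of_isTerminal (Scheme.sheaf X).isTerminalOfEmpty
    exact Subsingleton.elim _ _)
  exact ⟨n, by simpa using hn⟩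

/-- A section of `Z` with affine non-vanishing locus gives one of `X` with the same locus. -/
lemma exists_section_basicOpen (hi : IsHomeomorph i.base) [CompactSpace X] [QuasiSeparatedSpace X]
    (s : Γ(Z, ⊤)) (hs : IsAffineOpen (Z.basicOpen s)) :
    ∃ T : Γ(X, ⊤), IsAffineOpen (X.basicOpen T) ∧ i ⁻¹ᵁ X.basicOpen T = Z.basicOpen s := by
  classical
  let D : X.Opens := ⟨i '' (Z.basicOpen s : Set Z), hi.isOpenMap _ (Z.basicOpen s).2⟩
  have hD : i ⁻¹ᵁ D = Z.basicOpen s :=
    SetLike.coe_injective (Set.preimage_image_eq _ hi.injective)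
  have hDa : IsAffineOpen D := by
    have : IsAffine (i ⁻¹ᵁ D).toScheme := hD.symm ▸ hs
    refine Groth.Agent.S0440.result (i ∣_ D) fun p => ?_
    obtain ⟨z, hz⟩ := hi.surjective p.1
    exact ⟨⟨z, show i z ∈ D from hz ▸ p.2⟩, Subtype.ext
      ((congrArg (fun m => m ⟨z, show i z ∈ D from hz ▸ p.2⟩) (morphismRestrict_ι i D)).trans hz)⟩
  have hc : ∀ z : X, ∃ U : X.Opens, IsAffineOpen U ∧ z ∈ U := fun z => by
    obtain ⟨U, hU, hz, -⟩ := Opens.isBasis_iff_nbhd.mp X.isBasis_affineOpens (Opens.mem_top z)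
    exact ⟨U, hU, hz⟩
  choose U₀ hU₀ hzU₀ using hc
  obtain ⟨S, hS⟩ := CompactSpace.isCompact_univ.elim_finite_subcover (fun z => (U₀ z : Set X))
    (fun z => (U₀ z).2) fun z _ => Set.mem_iUnion.2 ⟨z, hzU₀ z⟩
  let U : S → X.Opens := fun a => U₀ a.1
  have hU : ∀ a, IsAffineOpen (U a) := fun a => hU₀ a.1
  have hUtop : ⨆ a, U a = ⊤ := top_unique fun z _ => by
    obtain ⟨w, hw, hz⟩ := Set.mem_iUnion₂.1 (hS (Set.mem_univ z))
    exact Opens.mem_iSup.mpr ⟨⟨w, hw⟩, hz⟩
  choose r hr using fun a => i.app_surjective _ (hU a)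
    (Z.presheaf.map (homOfLE (le_top : i ⁻¹ᵁ U a ≤ ⊤)).op s)
  have hrD : ∀ a, X.basicOpen (r a) = U a ⊓ D := fun a => by
    have e : i ⁻¹ᵁ X.basicOpen (r a) = i ⁻¹ᵁ (U a ⊓ D) := by
      rw [Scheme.preimage_basicOpen, hr, Scheme.basicOpen_res]
      show _ = i ⁻¹ᵁ U a ⊓ i ⁻¹ᵁ D
      rw [hD]
    exact SetLike.coe_injective (hi.surjective.preimage_injective (congrArg SetLike.coe e))
  have hle : ∀ a, X.basicOpen (r a) ≤ D := fun a => (hrD a).trans_le inf_le_right
  obtain ⟨y, hy⟩ := i.app_surjective D hDa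
    (Z.presheaf.map (homOfLE (le_top : i ⁻¹ᵁ D ≤ ⊤)).op s)
  have key : ∀ a, ∃ M₀ : ℕ, ∀ M, M₀ ≤ M → ∃ Q : Γ(X, U a),
      X.presheaf.map (homOfLE (X.basicOpen_le (r a))).op Q =
        X.presheaf.map (homOfLE (hle a)).op y ^ M ∧ IsNilpotent (Q - r a ^ M) := fun a => by
    have := (hU a).isLocalization_basicOpen (r a)
    refine exists_extend_pow (r a) (X.presheaf.map (homOfLE (hle a)).op y)
      (isNilpotent_of_app_eq_zero i hi ((hU a).basicOpen (r a)).isCompact _ ?_)
    rw [map_sub, sub_eq_zero]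
    show (X.presheaf.map (homOfLE (hle a)).op ≫ i.app _) y =
      (X.presheaf.map (homOfLE (X.basicOpen_le (r a))).op ≫ i.app _) (r a)
    rw [i.naturality, i.naturality, CommRingCat.comp_apply, CommRingCat.comp_apply, hy, hr,
      ← CommRingCat.comp_apply, ← CommRingCat.comp_apply, ← Functor.map_comp, ← Functor.map_comp]
    rfl
  choose M₀ hM₀ using key
  choose Q hQ hQn using fun a => hM₀ a (Finset.univ.sup M₀ + 1)
    ((Finset.le_sup (f := M₀) (Finset.mem_univ a)).trans (Nat.le_succ _))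
  have hQD : ∀ a, X.basicOpen (Q a) = U a ⊓ D := fun a => by
    have h1 : ∀ (p : X) (hp : p ∈ U a), p ∈ X.basicOpen (Q a) ↔ p ∈ X.basicOpen (r a) := fun p hp => by
      rw [Scheme.mem_basicOpen'' X (Q a) p, Scheme.mem_basicOpen'' X (r a) p, exists_prop_of_true hp,
        exists_prop_of_true hp]
      obtain ⟨n, hn⟩ := hQn a
      have hN : IsNilpotent (X.presheaf.germ (U a) p hp (Q a) -
          X.presheaf.germ (U a) p hp (r a) ^ (Finset.univ.sup M₀ + 1)) := by
        rw [← map_pow, ← map_sub]; exact IsNilpotent.map ⟨n, hn⟩ _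
      rw [← isUnit_pow_iff (n := Finset.univ.sup M₀ + 1) (by omega)
        (a := X.presheaf.germ (U a) p hp (r a))]
      refine ⟨fun h => ?_, fun h => ?_⟩
      · have := hN.neg.isUnit_add_left_of_commute h (Commute.all _ _)
        simpa using this
      · have := hN.isUnit_add_left_of_commute h (Commute.all _ _)
        simpa using this
    rw [← hrD a]
    ext p
    exact ⟨fun h => (h1 p (X.basicOpen_le _ h)).mp h, fun h => (h1 p (X.basicOpen_le _ h)).mpr h⟩
  let res := fun {V W : X.Opens} (h : V ≤ W) => (X.presheaf.map (homOfLE h).op).hom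
  have res_res : ∀ {U V W : X.Opens} (h : U ≤ V) (h' : V ≤ W) (x : Γ(X, W)),
      res h (res h' x) = res (h.trans h') x := fun h h' x => by
    show (X.presheaf.map (homOfLE h').op ≫ X.presheaf.map (homOfLE h).op).hom x = _
    rw [← Functor.map_comp]
    rfl
  have key2 : ∀ p : S × S, ∃ K, ∀ L, K ≤ L →
      res (inf_le_left : U p.1 ⊓ U p.2 ≤ U p.1) (Q p.1 ^ L) =
        res (inf_le_right : U p.1 ⊓ U p.2 ≤ U p.2) (Q p.2 ^ L) := fun ⟨a, b⟩ => by
    set W := U a ⊓ U b
    have hWc : IsCompact (W : Set X) := QuasiSeparatedSpace.inter_isCompact _ _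
      (U a).2 (hU a).isCompact (U b).2 (hU b).isCompact
    set qa := res (inf_le_left : W ≤ U a) (Q a)
    set qb := res (inf_le_right : W ≤ U b) (Q b)
    have ha : X.basicOpen qa = W ⊓ D := by
      rw [show X.basicOpen qa = W ⊓ X.basicOpen (Q a) from X.basicOpen_res _ _, hQD, ← inf_assoc,
        inf_eq_left.mpr (inf_le_left : W ≤ U a)]
    have hb : X.basicOpen qb = W ⊓ D := by
      rw [show X.basicOpen qb = W ⊓ X.basicOpen (Q b) from X.basicOpen_res _ _, hQD, ← inf_assoc,
        inf_eq_left.mpr (inf_le_right : W ≤ U b)]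
    have hδ : res (inf_le_left : W ⊓ D ≤ W) qa = res (inf_le_left : W ⊓ D ≤ W) qb := by
      have e1 := congrArg (res (show W ⊓ D ≤ X.basicOpen (r a) by
        rw [hrD]; exact inf_le_inf_right _ inf_le_left)) (hQ a)
      have e2 := congrArg (res (show W ⊓ D ≤ X.basicOpen (r b) by
        rw [hrD]; exact inf_le_inf_right _ inf_le_right)) (hQ b)
      simp only [res, map_pow, ← CommRingCat.comp_apply, ← Functor.map_comp, ← op_comp,
        homOfLE_comp] at e1 e2
      simp only [qa, qb]
      rw [res_res, res_res]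
      exact e1.trans e2.symm
    have hkill : ∀ q : Γ(X, W), X.basicOpen q = W ⊓ D → ∃ n, q ^ n * (qa - qb) = 0 := fun q hq => by
      refine exists_pow_mul_eq_zero_of_res_basicOpen_eq_zero_of_isCompact X hWc (qa - qb) q ?_
      have e : res (hq.le.trans inf_le_left) qa = res (hq.le.trans inf_le_left) qb := by
        have := congrArg (res hq.le) hδ
        simpa only [res, ← CommRingCat.comp_apply, ← Functor.map_comp, ← op_comp, homOfLE_comp]
          using this
      show res (X.basicOpen_le q) (qa - qb) = 0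
      rw [map_sub, sub_eq_zero]
      exact e
    obtain ⟨n₁, h₁⟩ := hkill qa ha
    obtain ⟨n₂, h₂⟩ := hkill qb hb
    refine ⟨n₁ + n₂ + 1, fun L hL => ?_⟩
    show res _ (Q a ^ L) = res _ (Q b ^ L)
    rw [map_pow, map_pow]
    refine sub_eq_zero.mp ?_
    rw [← geom_sum₂_mul, Finset.sum_mul]
    refine Finset.sum_eq_zero fun j hj => ?_
    rcases le_or_gt n₁ j with h | h
    · have : qa ^ j * (qa - qb) = 0 := by
        rw [← Nat.sub_add_cancel h, pow_add, mul_assoc, h₁, mul_zero]
      calc qa ^ j * qb ^ (L - 1 - j) * (qa - qb) = qb ^ (L - 1 - j) * (qa ^ j * (qa - qb)) := by ring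
        _ = 0 := by rw [this, mul_zero]
    · have hn : n₂ ≤ L - 1 - j := by omega
      have : qb ^ (L - 1 - j) * (qa - qb) = 0 := by
        rw [← Nat.sub_add_cancel hn, pow_add, mul_assoc, h₂, mul_zero]
      rw [mul_assoc, this, mul_zero]
  choose K hK using key2
  let L := Finset.univ.sup K + 1
  obtain ⟨T, hT, -⟩ := X.sheaf.existsUnique_gluing' (fun a => U a) ⊤ (fun a => homOfLE le_top)
    hUtop.ge (fun a => Q a ^ L) fun a b => hK (a, b) L
      ((Finset.le_sup (f := K) (Finset.mem_univ (a, b))).trans (Nat.le_succ _))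
  have hTD : X.basicOpen T = D := by
    have h : ∀ a, U a ⊓ X.basicOpen T = U a ⊓ D := fun a => by
      rw [← X.basicOpen_res T (homOfLE (le_top : U a ≤ ⊤)).op, ← hQD a,
        ← X.basicOpen_pow (Q a) (Nat.succ_pos (Finset.univ.sup K))]
      exact congrArg X.basicOpen (hT a)
    ext p
    obtain ⟨a, ha⟩ := Opens.mem_iSup.mp (hUtop.ge (Opens.mem_top p))
    have := SetLike.ext_iff.mp (h a) p
    exact ⟨fun hp => (this.mp ⟨ha, hp⟩).2, fun hp => (this.mpr ⟨ha, hp⟩).2⟩
  exact ⟨T, hTD ▸ hDa, hTD ▸ hD⟩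

/-- Stacks 0B7L: quasi-affineness is insensitive to a homeomorphic closed immersion. -/
theorem isQuasiAffine_iff_of_isHomeomorph (hi : IsHomeomorph i.base) :
    X.IsQuasiAffine ↔ Z.IsQuasiAffine := by
  constructor
  · intro _
    have : CompactSpace Z := QuasiCompact.compactSpace_of_compactSpace i
    exact Scheme.IsQuasiAffine.of_isImmersion i
  · intro _
    have : CompactSpace X := hi.homeomorph.compactSpace
    have : QuasiSeparatedSpace Z := inferInstance
    have : QuasiSeparatedSpace X :=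
      QuasiSeparatedSpace.of_isOpenEmbedding hi.homeomorph.symm.isOpenEmbedding
    refine Scheme.IsQuasiAffine.of_forall_exists_mem_basicOpen X fun x => ?_
    obtain ⟨z, rfl⟩ := hi.surjective x
    obtain ⟨_, ⟨_, ⟨s, hs, rfl⟩, rfl⟩, hzs, -⟩ := (Scheme.IsQuasiAffine.isBasis_basicOpen
      Z).exists_subset_of_mem_open (Set.mem_univ z) isOpen_univ
    obtain ⟨T, hTa, hT⟩ := exists_section_basicOpen i hi s hs
    exact ⟨T, hTa, (hT.ge hzs :)⟩

end Groth.Agent.H8Lim
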