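import Groth.Agent.H8Lim.FibreDimVanish
import Groth.Agent.Coherent.ProperFinite
import Groth.Agent.Coherent.Existence.TwoStep
import Mathlib

/-!
# Top degree cohomology along an affine morphism to a proper scheme over a Noetherian ring
-/

set_option autoImplicit false
set_option backward.isDefEq.respectTransparency.types false
set_option linter.style.haveILetI false
set_option maxHeartbeats 1000000

universe u

open CategoryTheory CategoryTheory.Abelian CategoryTheory.Limits AlgebraicGeometry Opposite TopologicalSpace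
open Groth.Agent.Coherent Groth.Agent.AssSch12

namespace Groth.Agent.H8Lim.TopDegree

attribute [local instance] Groth.Agent.Coherent.hasFiniteBiproducts

variable {X' X₀ : Scheme.{u}} (h : X' ⟶ X₀) [IsAffineHom h]

/-- Naturality of the comparison along an affine morphism. -/
theorem affinePush_postHM {M M₁ : X'.Modules} [Coh.IsQCoh M] [Coh.IsQCoh M₁] (φ : M ⟶ M₁) (n : ℕ)
    (x : Sheaf.H' (Coh.toAb M) n (h ⁻¹ᵁ (⊤ : X₀.Opens))) :
    H'AffinePushEquiv h M₁ ⊤ n (postHM φ n (h ⁻¹ᵁ ⊤) x) =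
      postHM ((Coh.push h).map φ) n ⊤ (H'AffinePushEquiv h M ⊤ n x) :=
  H'PushEquiv_naturality (X := X'.toTopCat) (Y := X₀.toTopCat) (f := h.base) X₀.isBasis_affineOpens
    (acyclicOverBasis_affine h M) (acyclicOverBasis_affine h M₁) ((toAbFunctor X').map φ) ⊤ n x

include h in
/-- Vanishing passes to an affine morphism. -/
theorem subsingleton_HH {A₀ : Type u} [CommRing A₀] [IsNoetherianRing A₀] (g₀ : X₀ ⟶ Spec (CommRingCat.of A₀))
    [IsProper g₀] (d : ℕ) (hd : ∀ y, topologicalKrullDim ↥(g₀.fiber y) ≤ d) (M : X'.Modules) [Coh.IsQCoh M]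
    (p : ℕ) (hp : d < p) : Subsingleton (Coh.HH X' M p) := by
  haveI := isQCoh_push h M
  exact (HHAffinePushEquiv h M p).toEquiv.subsingleton_congr.2
    (subsingleton_HH_of_fibre_dim g₀ d hd _ p hp)

variable (M : X'.Modules) {A' : Type u} [CommRing A'] (φ : A' →+* Γ(X', ⊤))

/-- The action on the direct image. -/
noncomputable def act (a : A') : (Coh.push h).obj M ⟶ (Coh.push h).obj M :=
  (Coh.push h).map (Formal.smulModΓ M (φ a))

omit [IsAffineHom h] in
theorem act_app (a : A') (W : X₀.Opens) (n : Γ(M, h ⁻¹ᵁ W)) :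
    (act h M φ a).app W n =
      (X'.presheaf.map (homOfLE (le_top (a := h ⁻¹ᵁ W))).op (φ a) : Γ(X', h ⁻¹ᵁ W)) • n := rfl

omit [IsAffineHom h] in
theorem act_comp (a b : A') : act h M φ a ≫ act h M φ b = act h M φ (b * a) := by
  refine Scheme.Modules.hom_ext _ _ fun W => ?_
  ext (n : Γ(M, h ⁻¹ᵁ W))
  show (act h M φ b).app W ((act h M φ a).app W n) = _
  rw [act_app, act_app, act_app, smul_smul, map_mul, map_mul]

omit [IsAffineHom h] in
theorem act_one : act h M φ 1 = 𝟙 _ := by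
  refine Scheme.Modules.hom_ext _ _ fun W => ?_
  ext (n : Γ(M, h ⁻¹ᵁ W))
  rw [act_app, map_one, map_one, one_smul]
  rfl

variable {G : X₀.Modules} (η : G ⟶ (Coh.push h).obj M)

/-- The sum of finitely many translates of `η`. -/
noncomputable def psi (S : Finset A') : (⨁ fun _ : Fin S.card => G) ⟶ (Coh.push h).obj M :=
  biproduct.desc fun i : Fin S.card => η ≫ act h M φ (S.equivFin.symm i).1

omit [IsAffineHom h] in
theorem comp_act_psi {S : Finset A'} {a : A'} (ha : a ∈ S) :
    η ≫ act h M φ a = biproduct.ι (fun _ : Fin S.card => G) (S.equivFin ⟨a, ha⟩) ≫ psi h M φ η S := by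
  rw [psi, biproduct.ι_desc, Equiv.symm_apply_apply]

/-- The sections eventually in the image. -/
def Killed (W : X₀.Opens) (n : Γ((Coh.push h).obj M, W)) : Prop :=
  ∃ S : Finset A', ∀ S' : Finset A', S ⊆ S' → (cokernel.π (psi h M φ η S')).app W n = 0

variable {h M φ η}

omit [IsAffineHom h] in
theorem Killed.add {W : X₀.Opens} {m n : Γ((Coh.push h).obj M, W)} (hm : Killed h M φ η W m)
    (hn : Killed h M φ η W n) : Killed h M φ η W (m + n) := by
  classical
  obtain ⟨S, hS⟩ := hm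
  obtain ⟨T, hT⟩ := hn
  exact ⟨S ∪ T, fun S' h' => by
    rw [map_add, hS _ (Finset.union_subset_left h'), hT _ (Finset.union_subset_right h'), add_zero]⟩

omit [IsAffineHom h] in
theorem Killed.zero {W : X₀.Opens} : Killed h M φ η W 0 := ⟨∅, fun _ _ => map_zero _⟩

omit [IsAffineHom h] in
theorem Killed.smul {W : X₀.Opens} {n : Γ((Coh.push h).obj M, W)} (hn : Killed h M φ η W n) (v : Γ(X₀, W)) :
    Killed h M φ η W (v • n) := by
  obtain ⟨S, hS⟩ := hn
  exact ⟨S, fun S' h' => by rw [Scheme.Modules.Hom.app_smul, hS _ h', smul_zero]⟩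

omit [IsAffineHom h] in
theorem Killed.act {W : X₀.Opens} {n : Γ((Coh.push h).obj M, W)} (hn : Killed h M φ η W n) (a : A') :
    Killed h M φ η W ((TopDegree.act h M φ a).app W n) := by
  classical
  obtain ⟨S, hS⟩ := hn
  refine ⟨S.image (a * ·), fun S' h' => ?_⟩
  have h0 : psi h M φ η S ≫ TopDegree.act h M φ a ≫ cokernel.π (psi h M φ η S') = 0 := by
    refine biproduct.hom_ext' _ _ fun b => ?_
    rw [comp_zero, ← Category.assoc]
    show (biproduct.ι _ b ≫ biproduct.desc _) ≫ _ = 0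
    rw [biproduct.ι_desc, Category.assoc, ← Category.assoc (TopDegree.act h M φ (S.equivFin.symm b).1), act_comp,
      ← Category.assoc, comp_act_psi h M φ η (h' (Finset.mem_image_of_mem _ (S.equivFin.symm b).2)), Category.assoc,
      cokernel.condition, comp_zero]
  have key := congr($(cokernel.π_desc (psi h M φ η S) _ h0).app W n)
  refine key.symm.trans ?_
  show (cokernel.desc _ _ h0).app W ((cokernel.π (psi h M φ η S)).app W n) = 0
  rw [hS S subset_rfl, map_zero]

omit [IsAffineHom h] in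
theorem Killed.of_mem_range {W : X₀.Opens} (g : Γ(G, W)) : Killed h M φ η W (η.app W g) := by
  classical
  refine ⟨{1}, fun S' h' => ?_⟩
  have e : η ≫ cokernel.π (psi h M φ η S') = 0 := by
    have := comp_act_psi h M φ η (a := 1) (h' (Finset.mem_singleton_self 1))
    rw [act_one, Category.comp_id] at this
    refine (congrArg (· ≫ cokernel.π (psi h M φ η S')) this).trans ?_
    show (_ ≫ _) ≫ _ = 0
    rw [Category.assoc, cokernel.condition, comp_zero]
  exact congr($e |>.app W g)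

omit [IsAffineHom h] in
theorem killed_of_span {W : X₀.Opens} {I : Type*} (m : I → Γ(M, h ⁻¹ᵁ W))
    (hm : ∀ i, Killed h M φ η W (m i))
    (hgen : Subring.closure (Set.range (h.app W) ∪
      Set.range fun a : A' => (X'.presheaf.map (homOfLE (le_top (a := h ⁻¹ᵁ W))).op (φ a) : Γ(X', h ⁻¹ᵁ W))) = ⊤)
    (n : Γ(M, h ⁻¹ᵁ W)) (hn : n ∈ Submodule.span Γ(X', h ⁻¹ᵁ W) (Set.range m)) : Killed h M φ η W n := by
  have hstep : ∀ (r : Γ(X', h ⁻¹ᵁ W)) (n : Γ(M, h ⁻¹ᵁ W)), Killed h M φ η W n →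
      Killed h M φ η W (r • n : Γ(M, h ⁻¹ᵁ W)) := by
    intro r
    have hr : r ∈ (⊤ : Subring Γ(X', h ⁻¹ᵁ W)) := trivial
    rw [← hgen] at hr
    induction hr using Subring.closure_induction with
    | mem r hr =>
      rcases hr with ⟨v, rfl⟩ | ⟨a, rfl⟩
      · exact fun n hn => hn.smul v
      · exact fun n hn => hn.act a
    | zero => intro n _; rw [zero_smul]; exact .zero
    | one => intro n hn; rwa [one_smul]
    | add r s _ _ ihr ihs => intro n hn; rw [add_smul]; exact (ihr n hn).add (ihs n hn)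
    | neg r _ ihr =>
      intro n hn
      obtain ⟨S, hS⟩ := ihr n hn
      rw [neg_smul]
      exact ⟨S, fun S' h' => (map_neg (ConcreteCategory.hom ((cokernel.π (psi h M φ η S')).app W)) _).trans
        (neg_eq_zero.2 (hS S' h'))⟩
    | mul r s _ _ ihr ihs => intro n hn; rw [mul_smul]; exact ihr _ (ihs n hn)
  induction hn using Submodule.span_induction with
  | mem x hx => obtain ⟨i, rfl⟩ := hx; exact hm i
  | zero => exact .zero
  | add x y _ _ hx hy => exact hx.add hy
  | smul r x _ hx => exact hstep r x hx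

variable (h M φ)

/-- Top degree cohomology of a module of finite type is finite. -/
theorem finite_HA {A₀ : Type u} [CommRing A₀] [IsNoetherianRing A₀] (g₀ : X₀ ⟶ Spec (CommRingCat.of A₀))
    [IsProper g₀] (d : ℕ) (hd : ∀ y, topologicalKrullDim ↥(g₀.fiber y) ≤ d) (hM : Coh.IsCoh M)
    (ρ : A₀ →+* A') (hρ : ∀ c, φ (ρ c) = h.appTop (Coh.toGlobal g₀ c))
    (hgen : ∀ W : X₀.Opens, IsAffineOpen W → Subring.closure (Set.range (h.app W) ∪
      Set.range fun a : A' => (X'.presheaf.map (homOfLE (le_top (a := h ⁻¹ᵁ W))).op (φ a) : Γ(X', h ⁻¹ᵁ W))) = ⊤) :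
    Module.Finite A' (HA φ M (⊤ : X'.Opens) d) := by
  classical
  haveI := hM.1
  haveI : IsLocallyNoetherian X₀ := LocallyOfFiniteType.isLocallyNoetherian g₀
  haveI : CompactSpace X₀ := QuasiCompact.compactSpace_of_compactSpace g₀
  haveI : QuasiSeparatedSpace X₀ := quasiSeparatedSpace_of_quasiSeparated g₀
  let N := (Coh.push h).obj M
  haveI hN : Coh.IsQCoh N := isQCoh_push h M
  -- a cover and the generating submodule
  obtain ⟨k, W, hW, hcov⟩ : ∃ (k : ℕ) (W : Fin k → X₀.Opens), (∀ i, IsAffineOpen (W i)) ∧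
      ∀ x : X₀, ∃ i, x ∈ W i := by
    obtain ⟨s, hs⟩ := CompactSpace.isCompact_univ.elim_finite_subcover (fun U : X₀.affineOpens => (U.1 : Set X₀))
      (fun U => U.1.2) fun x _ => by
        obtain ⟨V, hV, hxV, -⟩ := exists_isAffineOpen_mem_and_subset (x := x) (U := (⊤ : X₀.Opens)) trivial
        exact Set.mem_iUnion.2 ⟨⟨V, hV⟩, hxV⟩
    refine ⟨s.card, fun i => (s.equivFin.symm i).1.1, fun i => (s.equivFin.symm i).1.2, fun x => ?_⟩
    obtain ⟨U, hU, hx⟩ := Set.mem_iUnion₂.1 (hs (Set.mem_univ x))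
    exact ⟨s.equivFin ⟨U, hU⟩, by simpa using hx⟩
  have hgensec : ∀ i, ∃ (m : ℕ) (s : Fin m → Γ(M, h ⁻¹ᵁ W i)),
      Submodule.span Γ(X', h ⁻¹ᵁ W i) (Set.range s) = ⊤ := fun i => by
    haveI := Groth.Agent.Coherent.finite_sections M (locallyFinGen_of_isFT M hM.2) ((hW i).preimage h)
    exact Module.Finite.exists_fin
  choose mm sec hsec using hgensec
  have hQ : ∀ i, ∃ Q : SubM N, Q.Good ⊤ ∧ ∀ l : ULift.{u} (Fin (mm i)), sec i l.down ∈ Q.carrier (W i) := fun i =>
    exists_good_containing_qcqs (F := N) (hW i).isCompact fun l : ULift.{u} (Fin (mm i)) => sec i l.down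
  choose Q hQg hQm using hQ
  let G₀ : SubM N := SubM.sum fun i : ULift.{u} (Fin k) => Q i.down
  have hG₀ : G₀.Good ⊤ := SubM.good_sum _ fun i => hQg i.down
  have hG : Coh.IsCoh G₀.toMod := ⟨SubM.isQCoh hG₀, SubM.isFT hG₀⟩
  haveI := hG.1
  let η : G₀.toMod ⟶ N := G₀.toι
  have hkilled : ∀ i (n : Γ(M, h ⁻¹ᵁ W i)), Killed h M φ η (W i) n := fun i n => by
    refine killed_of_span (sec i) (fun l => ?_) (hgen _ (hW i)) n (by rw [hsec]; trivial)
    obtain ⟨g, hg⟩ := G₀.mem_range_toι.2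
      (SubM.le_sum (fun i : ULift.{u} (Fin k) => Q i.down) ⟨i⟩ (W i) (hQm i ⟨l⟩))
    rw [← hg]
    exact .of_mem_range g
  -- the generators
  let φ₀ := Coh.toGlobal g₀
  haveI := finCoh_of_isProper g₀ G₀.toMod hG d
  obtain ⟨r, ξ, hξ⟩ := Module.Finite.exists_fin (R := A₀) (M := HA φ₀ G₀.toMod (⊤ : X₀.Opens) d)
  let E : Sheaf.H' (Coh.toAb M) d (⊤ : X'.Opens) ≃+ Sheaf.H' (Coh.toAb N) d (⊤ : X₀.Opens) :=
    H'AffinePushEquiv h M ⊤ d
  have hE : ∀ (a : A') (x : HA φ M (⊤ : X'.Opens) d),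
      E (a • x : HA φ M (⊤ : X'.Opens) d) = postHM (act h M φ a) d ⊤ (E x) := fun a x =>
    affinePush_postHM h (Formal.smulModΓ M (φ a)) d x
  let z : Fin r → HA φ M (⊤ : X'.Opens) d := fun j => E.symm (postHM η d ⊤ (ξ j))
  refine ⟨⟨Finset.univ.image z, eq_top_iff.2 fun x _ => ?_⟩⟩
  rw [Finset.coe_image, Finset.coe_univ, Set.image_univ]
  -- translates of the generators span
  have hbase : ∀ (a : A') (y : HA φ₀ G₀.toMod (⊤ : X₀.Opens) d),
      (E.symm (postHM (η ≫ act h M φ a) d ⊤ y) : HA φ M (⊤ : X'.Opens) d) ∈ Submodule.span A' (Set.range z) := by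
    intro a y
    have hy : y ∈ Submodule.span A₀ (Set.range ξ) := hξ.ge trivial
    induction hy using Submodule.span_induction generalizing a with
    | mem y hy =>
      obtain ⟨j, rfl⟩ := hy
      have e : (E.symm (postHM (η ≫ act h M φ a) d ⊤ (ξ j)) : HA φ M (⊤ : X'.Opens) d) = a • z j := by
        refine E.injective ?_
        rw [E.apply_symm_apply, hE, postHM_comp]
        show _ = postHM (act h M φ a) d ⊤ (E (E.symm _))
        rw [E.apply_symm_apply]
      rw [e]
      exact Submodule.smul_mem (Submodule.span A' (Set.range z)) a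
        (Submodule.subset_span (R := A') (M := HA φ M (⊤ : X'.Opens) d) ⟨j, rfl⟩)
    | zero =>
      have e : (E.symm (postHM (η ≫ act h M φ a) d ⊤ (0 : HA φ₀ G₀.toMod (⊤ : X₀.Opens) d)) :
          HA φ M (⊤ : X'.Opens) d) = 0 := by erw [map_zero, map_zero]
      rw [e]; exact Submodule.zero_mem _
    | add y y' _ _ hy hy' =>
      have e : (E.symm (postHM (η ≫ act h M φ a) d ⊤ (y + y' : HA φ₀ G₀.toMod (⊤ : X₀.Opens) d)) :
          HA φ M (⊤ : X'.Opens) d) = (E.symm (postHM (η ≫ act h M φ a) d ⊤ y) : HA φ M (⊤ : X'.Opens) d) +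
            (E.symm (postHM (η ≫ act h M φ a) d ⊤ y') : HA φ M (⊤ : X'.Opens) d) := by
        erw [map_add, map_add]
      rw [e]; exact Submodule.add_mem _ (hy a) (hy' a)
    | smul c y _ hy =>
      have e : postHM (η ≫ act h M φ a) d ⊤ (c • y : HA φ₀ G₀.toMod (⊤ : X₀.Opens) d) =
          postHM (η ≫ act h M φ (a * ρ c)) d ⊤ y := by
        have e1 : (c • y : HA φ₀ G₀.toMod (⊤ : X₀.Opens) d) = postHM (Formal.smulModΓ G₀.toMod (φ₀ c)) d ⊤ y := rfl
        have e2 : Formal.smulModΓ G₀.toMod (φ₀ c) ≫ η ≫ act h M φ a = η ≫ act h M φ (a * ρ c) := by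
          rw [← Category.assoc, ← smulModΓ_comm, Category.assoc, ← act_comp h M φ]
          congr 2
          rw [act, hρ, push_map_smulModΓ]
        rw [e1, ← postHM_comp, e2]
      rw [e]
      exact hy _
  obtain ⟨y, hy⟩ : ∃ y, E x = y := ⟨_, rfl⟩
  -- the class comes from a submodule of finite type
  obtain ⟨P, w, hw⟩ := FlatMorStrat.exists_goodSub_preimage d ((HHTopEquiv N d).symm y)
  have hw' : postHM P.1.toι d ⊤ (HHTopEquiv _ d w) = y := by
    have h1 := congrArg (HHTopEquiv N d) hw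
    rw [AddEquiv.apply_symm_apply] at h1
    rw [← h1]
    refine (H'TopEquiv (X := X₀.toTopCat) (Coh.toAb N) d).injective ?_
    refine (H'TopEquiv_naturality (X := X₀.toTopCat) ((toAbFunctor X₀).map P.1.toι) d _).trans ?_
    show _ = H'TopEquiv (X := X₀.toTopCat) (Coh.toAb N) d ((H'TopEquiv (X := X₀.toTopCat) (Coh.toAb N) d).symm _)
    rw [AddEquiv.apply_symm_apply]
    show Sheaf.H.map _ d (H'TopEquiv (X := X₀.toTopCat) (Coh.toAb P.1.toMod) d
      ((H'TopEquiv (X := X₀.toTopCat) (Coh.toAb P.1.toMod) d).symm w)) = _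
    rw [AddEquiv.apply_symm_apply]
    rfl
  have hP : Coh.IsCoh P.1.toMod := ⟨SubM.isQCoh P.2, SubM.isFT P.2⟩
  haveI := hP.1
  have hPsec : ∀ i, ∃ (m : ℕ) (s : Fin m → Γ(P.1.toMod, W i)), Submodule.span Γ(X₀, W i) (Set.range s) = ⊤ :=
    fun i => by
      haveI := ((isCoh_iff_finite_sections _).1 hP).2 (W i) (hW i)
      exact Module.Finite.exists_fin
  choose pm ps hps using hPsec
  choose T hT using fun (i : Fin k) (l : Fin (pm i)) => hkilled i (P.1.toι.app (W i) (ps i l))
  let S : Finset A' := Finset.univ.biUnion fun i => Finset.univ.biUnion fun l => T i l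
  let ψ := psi h M φ η S
  haveI : Coh.IsQCoh (⨁ fun _ : Fin S.card => G₀.toMod) := isQCoh_biproduct _ fun _ => inferInstance
  haveI : Coh.IsQCoh (cokernel ψ) := isQCoh_cokernel ψ
  have hPzero : P.1.toι ≫ cokernel.π ψ = 0 := by
    refine Existence.hom_eq_zero_of_cover W hW hcov _ fun i a => ?_
    have ha : a ∈ Submodule.span Γ(X₀, W i) (Set.range (ps i)) := (hps i).ge trivial
    induction ha using Submodule.span_induction with
    | mem a ha =>
      obtain ⟨l, rfl⟩ := ha
      exact hT i l S fun b hb =>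
        Finset.mem_biUnion.2 ⟨i, Finset.mem_univ _, Finset.mem_biUnion.2 ⟨l, Finset.mem_univ _, hb⟩⟩
    | zero => exact map_zero _
    | add a b _ _ ha hb => rw [map_add, ha, hb, add_zero]
    | smul v a _ ha => rw [Scheme.Modules.Hom.app_smul, ha, smul_zero]
  -- right exactness in the top degree
  let t := Abelian.factorThruImage ψ
  haveI : Coh.IsQCoh (Abelian.image ψ) := isQCoh_kernel (cokernel.π ψ)
  haveI : Coh.IsQCoh (kernel t) := isQCoh_kernel t
  let SC := ShortComplex.mk (kernel.ι t) t (kernel.condition t)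
  have hSC : SC.ShortExact :=
    { exact := ShortComplex.exact_of_f_is_kernel _ (kernelIsKernel t)
      mono_f := inferInstanceAs (Mono (kernel.ι t))
      epi_g := inferInstanceAs (Epi t) }
  haveI : Subsingleton (HA φ₀ SC.X₁ (⊤ : X₀.Opens) (d + 1)) :=
    (HHTopEquiv (kernel t) (d + 1)).toEquiv.subsingleton_congr.1
      (subsingleton_HH_of_fibre_dim g₀ d hd _ (d + 1) d.lt_succ_self)
  let lP : P.1.toMod ⟶ Abelian.image ψ := kernel.lift _ P.1.toι hPzero
  obtain ⟨v, hv⟩ := ((exact_postA_deltaA φ₀ hSC ⊤ d) (postHM lP d ⊤ (HHTopEquiv _ d w))).1 (Subsingleton.elim _ _)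
  have hyv : y = postHM ψ d ⊤ v := by
    rw [← hw', show P.1.toι = lP ≫ Abelian.image.ι ψ from (kernel.lift_ι _ _ _).symm, postHM_comp]
    refine (congrArg (postHM (Abelian.image.ι ψ) d ⊤) hv.symm).trans ?_
    show postHM _ d ⊤ (postHM t d ⊤ v) = _
    rw [← postHM_comp, Abelian.image.fac]
  let av : Fin S.card → A' := fun i => (S.equivFin.symm i).1
  have hsplit : postHM ψ d ⊤ v =
      ∑ a : Fin S.card, postHM (η ≫ act h M φ (av a)) d ⊤ (postHM (biproduct.π _ a) d ⊤ v) := by
    have hsum : ∀ T : Finset (Fin S.card),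
        postHM (∑ a ∈ T, biproduct.π (fun _ : Fin S.card => G₀.toMod) a ≫ (η ≫ act h M φ (av a))) d ⊤ v =
        ∑ a ∈ T, postHM (η ≫ act h M φ (av a)) d ⊤ (postHM (biproduct.π _ a) d ⊤ v) := fun T => by
      induction T using Finset.induction with
      | empty => rw [Finset.sum_empty, Finset.sum_empty]; exact postHM_zero d ⊤ v
      | insert a T ha ih => rw [Finset.sum_insert ha, Finset.sum_insert ha, postHM_add, ih, postHM_comp]
    rw [← hsum]
    exact congrArg (fun m : (⨁ fun _ : Fin S.card => G₀.toMod) ⟶ N => postHM m d ⊤ v) biproduct.desc_eq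
  have hx : x = (E.symm y : HA φ M (⊤ : X'.Opens) d) := by rw [← hy]; exact (E.symm_apply_apply x).symm
  rw [hx, hyv, hsplit]
  erw [map_sum]
  exact Submodule.sum_mem _ fun a _ => hbase (av a) _

end Groth.Agent.H8Lim.TopDegree
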